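import Groth.Agent.Lib.Helper6.DeformWrap
import Mathlib

set_option autoImplicit false
universe u

namespace Groth.Agent.Lib.Helper6.Deform

open TensorProduct

section Main

variable {B B₀ C C₀ : Type u} [CommRing B] [CommRing B₀] [CommRing C] [CommRing C₀]
  [Algebra B B₀] [Algebra B C] [Algebra B₀ C₀] [Algebra C C₀] [Algebra B C₀]
  [IsScalarTower B B₀ C₀] [IsScalarTower B C C₀]

variable (hB : Function.Surjective (algebraMap B B₀))
  (hC : Function.Surjective (algebraMap C C₀))
  (hker : RingHom.ker (algebraMap C C₀) = (RingHom.ker (algebraMap B B₀)).map (algebraMap B C))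

include hB hC hker in
/-- quasi-finiteness lifts along a nil-thickening of the base. -/
theorem quasiFinite (hnil : RingHom.ker (algebraMap B B₀) ≤ nilradical B)
    [Algebra.QuasiFinite B₀ C₀] : Algebra.QuasiFinite B C := by
  have hP := isPushout_of_ker hB hC hker
  refine ⟨fun q _ => ?_⟩
  have hJq : RingHom.ker (algebraMap B B₀) ≤ RingHom.ker (algebraMap B q.ResidueField) := by
    intro x hx
    rw [RingHom.mem_ker, Ideal.algebraMap_residueField_eq_zero]
    exact nilradical_le_prime q (hnil hx)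
  let ψ₀ : B₀ →+* q.ResidueField :=
    RingHom.liftOfSurjective (algebraMap B B₀) hB ⟨algebraMap B q.ResidueField, hJq⟩
  let _ : Algebra B₀ q.ResidueField := ψ₀.toAlgebra
  have : IsScalarTower B B₀ q.ResidueField := IsScalarTower.of_algebraMap_eq (fun b => by
    change _ = ψ₀ (algebraMap B B₀ b)
    rw [RingHom.liftOfSurjective_comp_apply])
  have h1 : Algebra.QuasiFinite q.ResidueField (q.ResidueField ⊗[B₀] C₀) := inferInstance
  have h2 : Module.Finite q.ResidueField (q.ResidueField ⊗[B₀] C₀) :=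
    Algebra.QuasiFinite.iff_of_isArtinianRing.mp h1
  let e1 : q.ResidueField ⊗[B₀] (B₀ ⊗[B] C) ≃ₐ[q.ResidueField] q.ResidueField ⊗[B₀] C₀ :=
    Algebra.TensorProduct.congr AlgEquiv.refl (Algebra.IsPushout.equiv B B₀ C C₀)
  let e2 : q.ResidueField ⊗[B₀] (B₀ ⊗[B] C) ≃ₐ[q.ResidueField] q.ResidueField ⊗[B] C :=
    Algebra.TensorProduct.cancelBaseChange B B₀ q.ResidueField q.ResidueField C
  exact Module.Finite.equiv (e1.symm.trans e2).toLinearEquiv

include hB hC hker in
/-- formal unramifiedness lifts along a nil-thickening of the base for finite type algebras. -/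
theorem formallyUnramified_of_nil (hnil : RingHom.ker (algebraMap B B₀) ≤ nilradical B)
    [Algebra.FiniteType B C] [Algebra.FormallyUnramified B₀ C₀] :
    Algebra.FormallyUnramified B C := by
  have := isPushout_of_ker hB hC hker
  rw [Algebra.formallyUnramified_iff]
  have hsub : Subsingleton (B₀ ⊗[B] Ω[C⁄B]) :=
    (KaehlerDifferential.tensorKaehlerEquivBase B B₀ C C₀).toEquiv.subsingleton
  have h1 := ker_eq_of_isBaseChange hB (TensorProduct.isBaseChange B Ω[C⁄B] B₀)
  have h2 : LinearMap.ker (TensorProduct.mk B B₀ Ω[C⁄B] 1) = ⊤ := by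
    rw [eq_top_iff]
    intro m _
    exact Subsingleton.elim _ _
  rw [h2] at h1
  -- now `⊤ = J • ⊤` as `B`-submodules; pass to `C`
  have h3 : (⊤ : Submodule C Ω[C⁄B]) ≤
      ((RingHom.ker (algebraMap B B₀)).map (algebraMap B C)) • (⊤ : Submodule C Ω[C⁄B]) := by
    intro ω _
    have hω : ω ∈ RingHom.ker (algebraMap B B₀) • (⊤ : Submodule B Ω[C⁄B]) := h1 ▸ trivial
    refine Submodule.smul_induction_on hω ?_ ?_
    · intro j hj m _
      rw [← algebraMap_smul C j m]
      exact Submodule.smul_mem_smul (Ideal.mem_map_of_mem _ hj) trivial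
    · intro x y hx hy
      exact add_mem hx hy
  have hjac : (RingHom.ker (algebraMap B B₀)).map (algebraMap B C) ≤ Ideal.jacobson ⊥ := by
    rw [Ideal.map_le_iff_le_comap]
    intro j hj
    rw [Ideal.mem_comap]
    have : IsNilpotent (algebraMap B C j) := (mem_nilradical.mp (hnil hj)).map _
    have h5 := Ideal.radical_le_jacobson (mem_nilradical.mpr this : algebraMap B C j ∈ nilradical C)
    exact h5
  have h4 := Submodule.eq_bot_of_le_smul_of_le_jacobson_bot _ (⊤ : Submodule C Ω[C⁄B])
    (Module.Finite.fg_top) h3 hjac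
  rw [← Submodule.subsingleton_iff C]
  exact subsingleton_of_bot_eq_top h4.symm

end Main

section Wrapper₁

variable {B B₀ C C₀ : Type u} [CommRing B] [CommRing B₀] [CommRing C] [CommRing C₀]
  (ψ : B →+* C) (πB : B →+* B₀) (πC : C →+* C₀) (ψ₀ : B₀ →+* C₀)

/-- generic single-level wrapper. -/
theorem wrapper₁ (Q Q₂ : ∀ {A A' : Type u} [CommRing A] [CommRing A'], (A →+* A') → Prop)
    (N : ∀ {A : Type u} [CommRing A], Ideal A → Prop)
    (hQ : ∀ {B B₀ C C₀ : Type u} [CommRing B] [CommRing B₀] [CommRing C] [CommRing C₀]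
      [Algebra B B₀] [Algebra B C] [Algebra B₀ C₀] [Algebra C C₀] [Algebra B C₀]
      [IsScalarTower B B₀ C₀] [IsScalarTower B C C₀],
      Function.Surjective (algebraMap B B₀) → Function.Surjective (algebraMap C C₀) →
      RingHom.ker (algebraMap C C₀) = (RingHom.ker (algebraMap B B₀)).map (algebraMap B C) →
      N (RingHom.ker (algebraMap B B₀)) → Q₂ (algebraMap B C) →
      Q (algebraMap B₀ C₀) → Q (algebraMap B C))
    (hπB : Function.Surjective πB) (hπC : Function.Surjective πC)
    (hk : RingHom.ker πC = (RingHom.ker πB).map ψ)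
    (hcomm : ψ₀.comp πB = πC.comp ψ) (hN : N (RingHom.ker πB)) (h₂ : Q₂ ψ) (h : Q ψ₀) : Q ψ := by
  algebraize [ψ, πB, πC, ψ₀, πC.comp ψ]
  have t1 : IsScalarTower B C C₀ := IsScalarTower.of_algebraMap_eq' rfl
  have t2 : IsScalarTower B B₀ C₀ := IsScalarTower.of_algebraMap_eq' hcomm.symm
  exact hQ (B := B) (B₀ := B₀) (C := C) (C₀ := C₀) hπB hπC hk hN h₂ h

theorem wrapper₁_finiteType (hπB : Function.Surjective πB) (hπC : Function.Surjective πC)
    (hk : RingHom.ker πC = (RingHom.ker πB).map ψ)
    (hcomm : ψ₀.comp πB = πC.comp ψ) (hN : IsNilpotent (RingHom.ker πB))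
    (h : ψ₀.FiniteType) : ψ.FiniteType :=
  wrapper₁ ψ πB πC ψ₀ (fun f => f.FiniteType) (fun _ => True) (fun J => IsNilpotent J)
    (fun hB hC hker hnil _ h => by
      rw [RingHom.finiteType_algebraMap] at h ⊢
      exact finiteType hB hC hker hnil) hπB hπC hk hcomm hN trivial h

theorem wrapper₁_formallyUnramified (hπB : Function.Surjective πB)
    (hπC : Function.Surjective πC) (hk : RingHom.ker πC = (RingHom.ker πB).map ψ)
    (hcomm : ψ₀.comp πB = πC.comp ψ) (hN : IsNilpotent (RingHom.ker πB))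
    (h : ψ₀.FormallyUnramified) : ψ.FormallyUnramified :=
  wrapper₁ ψ πB πC ψ₀ (fun f => f.FormallyUnramified) (fun _ => True) (fun J => IsNilpotent J)
    (fun hB hC hker hnil _ h => by
      rw [RingHom.formallyUnramified_algebraMap] at h ⊢
      exact formallyUnramified hB hC hker hnil) hπB hπC hk hcomm hN trivial h

theorem wrapper₁_quasiFinite (hπB : Function.Surjective πB)
    (hπC : Function.Surjective πC) (hk : RingHom.ker πC = (RingHom.ker πB).map ψ)
    (hcomm : ψ₀.comp πB = πC.comp ψ) (hN : RingHom.ker πB ≤ nilradical B)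
    (h : ψ₀.QuasiFinite) : ψ.QuasiFinite :=
  wrapper₁ ψ πB πC ψ₀ (fun f => f.QuasiFinite) (fun _ => True) (fun J => J ≤ nilradical _)
    (fun hB hC hker hnil _ h => by
      rw [RingHom.quasiFinite_algebraMap] at h ⊢
      exact quasiFinite hB hC hker hnil) hπB hπC hk hcomm hN trivial h

theorem wrapper₁_formallyUnramified_of_nil (hπB : Function.Surjective πB)
    (hπC : Function.Surjective πC) (hk : RingHom.ker πC = (RingHom.ker πB).map ψ)
    (hcomm : ψ₀.comp πB = πC.comp ψ) (hN : RingHom.ker πB ≤ nilradical B)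
    (h₂ : ψ.FiniteType) (h : ψ₀.FormallyUnramified) : ψ.FormallyUnramified :=
  wrapper₁ ψ πB πC ψ₀ (fun f => f.FormallyUnramified) (fun f => f.FiniteType)
    (fun J => J ≤ nilradical _)
    (fun hB hC hker hnil h₂ h => by
      rw [RingHom.formallyUnramified_algebraMap] at h ⊢
      rw [RingHom.finiteType_algebraMap] at h₂
      exact formallyUnramified_of_nil hB hC hker hnil) hπB hπC hk hcomm hN h₂ h

end Wrapper₁

end Groth.Agent.Lib.Helper6.Deform
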