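import Groth.Agent.Lib.Helper6.ThickAffine
import Groth.Agent.Lib.Helper6.DeformWrap2
import Mathlib

set_option autoImplicit false
universe u

namespace Groth.Agent.Lib.Helper6.ThickAffine

open AlgebraicGeometry CategoryTheory Limits TensorProduct

/-- single-level transfer of an affine-local property along the base change of a closed
immersion `iS`; the ring-level input may use any property `N` of the kernel ideals that is
provided by `hN`. -/
theorem transfer₁ {P : MorphismProperty Scheme.{u}}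
    {Q : ∀ {A A' : Type u} [CommRing A] [CommRing A'], (A →+* A') → Prop}
    [HasRingHomProperty P Q] (hQs : RingHom.StableUnderCompositionWithLocalizationAwaySource Q)
    (N : ∀ {A : Type u} [CommRing A], Ideal A → Prop)
    (hw : ∀ {B B₀ C C₀ : Type u} [CommRing B] [CommRing B₀] [CommRing C] [CommRing C₀]
      (ψ : B →+* C) (πB : B →+* B₀) (πC : C →+* C₀) (ψ₀ : B₀ →+* C₀),
      Function.Surjective πB → Function.Surjective πC →
      RingHom.ker πC = (RingHom.ker πB).map ψ →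
      ψ₀.comp πB = πC.comp ψ → N (RingHom.ker πB) → Q ψ₀ → Q ψ)
    {X X' S S' : Scheme.{u}} (iX : X ⟶ X') (iS : S ⟶ S') (f : X ⟶ S) (f' : X' ⟶ S')
    [IsClosedImmersion iS]
    (hN : ∀ {W' : S'.Opens}, IsAffineOpen W' → N (RingHom.ker (iS.app W').hom))
    (hc : IsPullback iX f f' iS) (hf : P f) : P f' := by
  have hiX : IsClosedImmersion iX := MorphismProperty.of_isPullback hc.flip ‹_›
  rw [HasRingHomProperty.iff_exists_appLE (P := P) hQs]
  intro x'
  obtain ⟨W', hW', hxW', -⟩ := TopologicalSpace.Opens.isBasis_iff_nbhd.mp S'.isBasis_affineOpens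
    (TopologicalSpace.Opens.mem_top (f' x'))
  obtain ⟨U', hU', hxU', eU⟩ := TopologicalSpace.Opens.isBasis_iff_nbhd.mp
    X'.isBasis_affineOpens (show x' ∈ f' ⁻¹ᵁ W' from hxW')
  refine ⟨⟨W', hW'⟩, ⟨U', hU'⟩, hxU', eU, ?_⟩
  obtain ⟨hsX, hkX⟩ := ring_data hc hW' hU' eU
  have e₀ : iX ⁻¹ᵁ U' ≤ f ⁻¹ᵁ (iS ⁻¹ᵁ W') := preimage_le hc.w eU
  have hcomm : (f.appLE (iS ⁻¹ᵁ W') (iX ⁻¹ᵁ U') e₀).hom.comp (iS.app W').hom =
      (iX.app U').hom.comp (f'.appLE W' U' eU).hom := by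
    rw [← CommRingCat.hom_comp, ← CommRingCat.hom_comp]
    congr 1
    rw [Scheme.Hom.app_eq_appLE, Scheme.Hom.app_eq_appLE, Scheme.Hom.appLE_comp_appLE,
      Scheme.Hom.appLE_comp_appLE]
    simp only [hc.w]
  have hQ₀ : Q (f.appLE (iS ⁻¹ᵁ W') (iX ⁻¹ᵁ U') e₀).hom :=
    HasRingHomProperty.appLE (P := P) _ hf ⟨_, hW'.preimage iS⟩ ⟨_, hU'.preimage iX⟩ e₀
  exact hw (f'.appLE W' U' eU).hom (iS.app W').hom (iX.app U').hom _
    (iS.app_surjective W' hW') hsX hkX hcomm (hN hW') hQ₀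

/-- variant with a side condition on `f'`: single-level transfer of an affine-local property along the base change of a closed
immersion `iS`; the ring-level input may use any property `N` of the kernel ideals that is
provided by `hN`. -/
theorem transfer₁' {P : MorphismProperty Scheme.{u}}
    {Q : ∀ {A A' : Type u} [CommRing A] [CommRing A'], (A →+* A') → Prop}
    [HasRingHomProperty P Q] (hQs : RingHom.StableUnderCompositionWithLocalizationAwaySource Q)
    {P₂ : MorphismProperty Scheme.{u}}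
    {Q₂ : ∀ {A A' : Type u} [CommRing A] [CommRing A'], (A →+* A') → Prop}
    [HasRingHomProperty P₂ Q₂]
    (N : ∀ {A : Type u} [CommRing A], Ideal A → Prop)
    (hw : ∀ {B B₀ C C₀ : Type u} [CommRing B] [CommRing B₀] [CommRing C] [CommRing C₀]
      (ψ : B →+* C) (πB : B →+* B₀) (πC : C →+* C₀) (ψ₀ : B₀ →+* C₀),
      Function.Surjective πB → Function.Surjective πC →
      RingHom.ker πC = (RingHom.ker πB).map ψ →
      ψ₀.comp πB = πC.comp ψ → N (RingHom.ker πB) → Q₂ ψ → Q ψ₀ → Q ψ)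
    {X X' S S' : Scheme.{u}} (iX : X ⟶ X') (iS : S ⟶ S') (f : X ⟶ S) (f' : X' ⟶ S')
    [IsClosedImmersion iS]
    (hN : ∀ {W' : S'.Opens}, IsAffineOpen W' → N (RingHom.ker (iS.app W').hom))
    (hc : IsPullback iX f f' iS) (hf₂ : P₂ f') (hf : P f) : P f' := by
  have hiX : IsClosedImmersion iX := MorphismProperty.of_isPullback hc.flip ‹_›
  rw [HasRingHomProperty.iff_exists_appLE (P := P) hQs]
  intro x'
  obtain ⟨W', hW', hxW', -⟩ := TopologicalSpace.Opens.isBasis_iff_nbhd.mp S'.isBasis_affineOpens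
    (TopologicalSpace.Opens.mem_top (f' x'))
  obtain ⟨U', hU', hxU', eU⟩ := TopologicalSpace.Opens.isBasis_iff_nbhd.mp
    X'.isBasis_affineOpens (show x' ∈ f' ⁻¹ᵁ W' from hxW')
  refine ⟨⟨W', hW'⟩, ⟨U', hU'⟩, hxU', eU, ?_⟩
  obtain ⟨hsX, hkX⟩ := ring_data hc hW' hU' eU
  have e₀ : iX ⁻¹ᵁ U' ≤ f ⁻¹ᵁ (iS ⁻¹ᵁ W') := preimage_le hc.w eU
  have hcomm : (f.appLE (iS ⁻¹ᵁ W') (iX ⁻¹ᵁ U') e₀).hom.comp (iS.app W').hom =
      (iX.app U').hom.comp (f'.appLE W' U' eU).hom := by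
    rw [← CommRingCat.hom_comp, ← CommRingCat.hom_comp]
    congr 1
    rw [Scheme.Hom.app_eq_appLE, Scheme.Hom.app_eq_appLE, Scheme.Hom.appLE_comp_appLE,
      Scheme.Hom.appLE_comp_appLE]
    simp only [hc.w]
  have hQ₀ : Q (f.appLE (iS ⁻¹ᵁ W') (iX ⁻¹ᵁ U') e₀).hom :=
    HasRingHomProperty.appLE (P := P) _ hf ⟨_, hW'.preimage iS⟩ ⟨_, hU'.preimage iX⟩ e₀
  exact hw (f'.appLE W' U' eU).hom (iS.app W').hom (iX.app U').hom _
    (iS.app_surjective W' hW') hsX hkX hcomm (hN hW')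
    (HasRingHomProperty.appLE (P := P₂) _ hf₂ ⟨W', hW'⟩ ⟨U', hU'⟩ eU) hQ₀

theorem ker_app_le_nilradical {S S' : Scheme.{u}} (iS : S ⟶ S') [Surjective iS]
    {W' : S'.Opens} (hW' : IsAffineOpen W') :
    RingHom.ker (iS.app W').hom ≤ nilradical Γ(S', W') := by
  intro b hb
  rw [mem_nilradical, Scheme.isNilpotent_iff_basicOpen_eq_bot_of_isCompact hW'.isCompact]
  rw [eq_bot_iff]
  intro y' hy'
  obtain ⟨y, rfl⟩ := iS.surjective y'
  have h1 : y ∈ iS ⁻¹ᵁ (S'.basicOpen b) := hy'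
  rw [Scheme.preimage_basicOpen] at h1
  have h2 : (iS.app W').hom b = 0 := hb
  have h3 : (iS.app W') b = 0 := h2
  rw [h3, Scheme.basicOpen_zero] at h1
  exact h1

/-- descent direction for a single square. -/
theorem descend₁ {P : MorphismProperty Scheme.{u}} [P.IsStableUnderBaseChange]
    {X X' S S' : Scheme.{u}} {iX : X ⟶ X'} {iS : S ⟶ S'} {f : X ⟶ S} {f' : X' ⟶ S'}
    (hc : IsPullback iX f f' iS) (hf' : P f') : P f :=
  MorphismProperty.of_isPullback hc hf'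

end Groth.Agent.Lib.Helper6.ThickAffine
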