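import Mathlib
import Groth.Agent.Lib.Helper6.ThickAffine2

set_option autoImplicit false
universe u
open AlgebraicGeometry CategoryTheory Limits Opposite TopologicalSpace

namespace Groth.Agent.Lib.Helper6.ThickIsAffine

section RingPart
open Polynomial


theorem exists_poly (M : ℕ) : ∃ p q : Polynomial ℤ, p * X ^ M + q * (1 - X) ^ M = 1 := by
  have h : IsCoprime (X : Polynomial ℤ) (1 - X) := ⟨1, 1, by ring⟩
  exact h.pow

theorem aeval_sub_dvd {B : Type*} [CommRing B] (a b : B) (p : Polynomial ℤ) :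
    a - b ∣ aeval a p - aeval b p := by
  rw [aeval_def, aeval_def, ← Polynomial.eval_map, ← Polynomial.eval_map]
  exact sub_dvd_eval_sub a b _

theorem map_aeval {B C : Type*} [CommRing B] [CommRing C] (ρ : B →+* C) (b : B) (p : Polynomial ℤ) :
    ρ (aeval b p) = aeval (ρ b) p :=
  (aeval_algHom_apply ρ.toIntAlgHom b p).symm

variable {B₁ B₂ B₁₂ : Type*} [CommRing B₁] [CommRing B₂] [CommRing B₁₂]
  (ρ₁ : B₁ →+* B₁₂) (ρ₂ : B₂ →+* B₁₂) (K₁ : Ideal B₁) (K₂ : Ideal B₂) (K₁₂ : Ideal B₁₂)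
  (β₁ : B₁) (β₂ : B₂)

include K₁ K₂ K₁₂ in
theorem decompose_step
    (L₁ : ∀ z ∈ K₁₂, ∃ M : ℕ, ∃ x ∈ K₁, ρ₁ x = (1 - ρ₁ β₁) ^ M * z)
    (L₂ : ∀ z ∈ K₁₂, ∃ M : ℕ, ∃ y ∈ K₂, ρ₂ y = (ρ₂ β₂) ^ M * z)
    (z : B₁₂) (hz : z ∈ K₁₂) :
    ∃ x ∈ K₁, ∃ y ∈ K₂, ∃ c : B₁₂, z - ρ₁ x - ρ₂ y = (ρ₁ β₁ - ρ₂ β₂) * c * z := by
  obtain ⟨M₁, x₁, hx₁, e₁⟩ := L₁ z hz
  obtain ⟨M₂, y₂, hy₂, e₂⟩ := L₂ z hz
  obtain ⟨p, q, hpq⟩ := exists_poly (max M₁ M₂)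
  set M := max M₁ M₂ with hM
  have hM₁ : M₁ ≤ M := le_max_left _ _
  have hM₂ : M₂ ≤ M := le_max_right _ _
  have E₁ : ρ₁ ((1 - β₁) ^ (M - M₁) * x₁) = (1 - ρ₁ β₁) ^ M * z := by
    rw [map_mul, e₁, map_pow, map_sub, map_one, ← mul_assoc, ← pow_add, Nat.sub_add_cancel hM₁]
  have E₂ : ρ₂ (β₂ ^ (M - M₂) * y₂) = (ρ₂ β₂) ^ M * z := by
    rw [map_mul, e₂, map_pow, ← mul_assoc, ← pow_add, Nat.sub_add_cancel hM₂]
  obtain ⟨c, hc⟩ := aeval_sub_dvd (ρ₂ β₂) (ρ₁ β₁) (q * (1 - X) ^ M)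
  refine ⟨aeval β₁ q * ((1 - β₁) ^ (M - M₁) * x₁), K₁.mul_mem_left _ (K₁.mul_mem_left _ hx₁),
    aeval β₂ p * (β₂ ^ (M - M₂) * y₂), K₂.mul_mem_left _ (K₂.mul_mem_left _ hy₂), -c, ?_⟩
  rw [map_mul ρ₁ (aeval β₁ q), map_mul ρ₂ (aeval β₂ p), E₁, E₂, map_aeval, map_aeval]
  have h1 : aeval (ρ₂ β₂) (p * X ^ M + q * (1 - X) ^ M) = 1 := by rw [hpq, map_one]
  simp only [map_add, map_mul, map_pow, aeval_X, map_sub, map_one] at h1 hc
  linear_combination (-z) * h1 + z * hc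

include K₁ K₂ K₁₂ in
theorem decompose
    (L₁ : ∀ z ∈ K₁₂, ∃ M : ℕ, ∃ x ∈ K₁, ρ₁ x = (1 - ρ₁ β₁) ^ M * z)
    (L₂ : ∀ z ∈ K₁₂, ∃ M : ℕ, ∃ y ∈ K₂, ρ₂ y = (ρ₂ β₂) ^ M * z)
    (hε : ρ₁ β₁ - ρ₂ β₂ ∈ K₁₂) (hnil : IsNilpotent (ρ₁ β₁ - ρ₂ β₂)) :
    ∃ x ∈ K₁, ∃ y ∈ K₂, ρ₁ β₁ - ρ₂ β₂ = ρ₁ x + ρ₂ y := by
  obtain ⟨N, hN⟩ := hnil
  set ε := ρ₁ β₁ - ρ₂ β₂ with hεdef
  have key : ∀ k n : ℕ, N ≤ n + k → ∀ z ∈ K₁₂, (∃ w, z = ε ^ n * w) →
      ∃ x ∈ K₁, ∃ y ∈ K₂, z = ρ₁ x + ρ₂ y := by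
    intro k
    induction k with
    | zero =>
      intro n hn z _ ⟨w, hw⟩
      refine ⟨0, K₁.zero_mem, 0, K₂.zero_mem, ?_⟩
      rw [hw, map_zero, map_zero, add_zero, ← Nat.sub_add_cancel (show N ≤ n by simpa using hn),
        pow_add, hN, mul_zero, zero_mul]
    | succ k ih =>
      intro n hn z hz ⟨w, hw⟩
      obtain ⟨x, hx, y, hy, c, hc⟩ := decompose_step ρ₁ ρ₂ K₁ K₂ K₁₂ β₁ β₂ L₁ L₂ z hz
      have hz' : z - ρ₁ x - ρ₂ y ∈ K₁₂ := by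
        rw [hc]; exact K₁₂.mul_mem_left _ hz
      obtain ⟨x', hx', y', hy', e'⟩ := ih (n + 1) (by omega) _ hz'
        ⟨c * w, by rw [hc, hw, pow_succ]; ring⟩
      refine ⟨x + x', K₁.add_mem hx hx', y + y', K₂.add_mem hy hy', ?_⟩
      rw [map_add, map_add]
      linear_combination e'
  exact key N 0 (by omega) ε hε ⟨ε, by rw [pow_zero, one_mul]⟩



end RingPart

variable {X X' : Scheme.{u}} (t : X ⟶ X')

theorem le_of_preimage_le (ht : Function.Surjective t) {U V : X'.Opens}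
    (h : t ⁻¹ᵁ U ≤ t ⁻¹ᵁ V) : U ≤ V := by
  intro x' hx'
  obtain ⟨x, rfl⟩ := ht x'
  exact h hx'

theorem eq_of_preimage_eq (ht : Function.Surjective t) {U V : X'.Opens}
    (h : t ⁻¹ᵁ U = t ⁻¹ᵁ V) : U = V :=
  le_antisymm (le_of_preimage_le t ht h.le) (le_of_preimage_le t ht h.ge)

/-- sections over a basic open of an affine open that die on the thin scheme extend, after
multiplication by a power, to sections over the affine open that die on the thin scheme. -/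
theorem ext_ker [IsClosedImmersion t] {U' : X'.Opens} (hU' : IsAffineOpen U') (g : Γ(X', U'))
    (V' : X'.Opens) (hV : V' = X'.basicOpen g) (z : Γ(X', V')) (hz : t.app V' z = 0) :
    ∃ (M : ℕ) (y : Γ(X', U')), t.app U' y = 0 ∧
      X'.presheaf.map (homOfLE (hV ▸ X'.basicOpen_le g)).op y =
        (X'.presheaf.map (homOfLE (hV ▸ X'.basicOpen_le g)).op g) ^ M * z := by
  subst hV
  obtain ⟨n, y₀, e⟩ := exists_eq_pow_mul_of_isAffineOpen X' U' hU' g z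
  have e' : X'.presheaf.map (homOfLE (X'.basicOpen_le g)).op y₀ =
      (X'.presheaf.map (homOfLE (X'.basicOpen_le g)).op g) ^ n * z := e
  -- the image of `y₀` on the thin scheme dies on the basic open
  have h0 : t.app (X'.basicOpen g) (X'.presheaf.map (homOfLE (X'.basicOpen_le g)).op y₀) = 0 := by
    rw [e', map_mul, hz, mul_zero]
  have hnat := t.naturality (homOfLE (X'.basicOpen_le g)).op
  have h1 : X.presheaf.map ((Opens.map t.base).map (homOfLE (X'.basicOpen_le g))).op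
      (t.app U' y₀) = 0 := by
    rw [← h0]
    exact (ConcreteCategory.congr_hom hnat y₀).symm
  have hle : X.basicOpen (t.app U' g) ≤ t ⁻¹ᵁ (X'.basicOpen g) := by
    rw [Scheme.preimage_basicOpen]
  have h2 : X.presheaf.map (homOfLE (X.basicOpen_le (t.app U' g))).op (t.app U' y₀) = 0 := by
    have : (homOfLE (X.basicOpen_le (t.app U' g))).op =
        ((Opens.map t.base).map (homOfLE (X'.basicOpen_le g))).op ≫ (homOfLE hle).op := rfl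
    rw [this, Functor.map_comp, CommRingCat.comp_apply, h1, map_zero]
  obtain ⟨k, hk⟩ := exists_pow_mul_eq_zero_of_res_basicOpen_eq_zero_of_isAffineOpen X
    (hU'.preimage t) (t.app U' y₀) (t.app U' g) h2
  refine ⟨k + n, g ^ k * y₀, ?_, ?_⟩
  · rw [map_mul, map_pow, hk]
  · rw [map_mul, map_pow, e', pow_add, mul_assoc]


end Groth.Agent.Lib.Helper6.ThickIsAffine
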