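import Mathlib
import Groth.Agent.Lib.Helper6.ThickAffine2
import Groth.Agent.Lib.Helper6.ThickIsAffine0

set_option autoImplicit false
universe u
open AlgebraicGeometry CategoryTheory Limits Opposite TopologicalSpace

namespace Groth.Agent.Lib.Helper6.ThickIsAffine

variable {X X' : Scheme.{u}} (t : X ⟶ X')

theorem isAffineOpen_sup [IsClosedImmersion t] (ht : Function.Surjective t)
    (U₁ U₂ : X'.Opens) (h₁ : IsAffineOpen U₁) (h₂ : IsAffineOpen U₂)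
    (D : X.Opens) (hD : t ⁻¹ᵁ (U₁ ⊔ U₂) = D) (α : Γ(X, D))
    (e₁ : t ⁻¹ᵁ U₁ = X.basicOpen α) (e₂ : t ⁻¹ᵁ U₂ = X.basicOpen (1 - α)) :
    IsAffineOpen (U₁ ⊔ U₂) := by
  subst hD
  have : Surjective t := ⟨ht⟩
  have le₁ : t ⁻¹ᵁ U₁ ≤ t ⁻¹ᵁ (U₁ ⊔ U₂) := t.preimage_mono le_sup_left
  have le₂ : t ⁻¹ᵁ U₂ ≤ t ⁻¹ᵁ (U₁ ⊔ U₂) := t.preimage_mono le_sup_right
  -- lifts of `α` on the two affine opens
  obtain ⟨β₁, hβ₁⟩ := t.app_surjective U₁ h₁ (X.presheaf.map (homOfLE le₁).op α)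
  obtain ⟨β₂, hβ₂⟩ := t.app_surjective U₂ h₂ (X.presheaf.map (homOfLE le₂).op α)
  -- the intersection as basic open
  have hV2 : U₁ ⊓ U₂ = X'.basicOpen β₂ := by
    apply eq_of_preimage_eq t ht
    rw [Scheme.preimage_basicOpen, Scheme.Hom.preimage_inf]
    erw [hβ₂]
    rw [Scheme.basicOpen_res, e₁, inf_comm]
  have hV1 : U₁ ⊓ U₂ = X'.basicOpen (1 - β₁) := by
    apply eq_of_preimage_eq t ht
    rw [Scheme.preimage_basicOpen, Scheme.Hom.preimage_inf, map_sub, map_one]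
    erw [hβ₁]
    rw [← map_one (X.presheaf.map (homOfLE le₁).op).hom, ← map_sub]
    erw [Scheme.basicOpen_res]
    rw [e₂]
  have hVaff : IsAffineOpen (U₁ ⊓ U₂) := hV2 ▸ h₂.basicOpen β₂
  -- restriction maps
  let ρ₁ := (X'.presheaf.map (homOfLE (inf_le_left : U₁ ⊓ U₂ ≤ U₁)).op).hom
  let ρ₂ := (X'.presheaf.map (homOfLE (inf_le_right : U₁ ⊓ U₂ ≤ U₂)).op).hom
  let K₁ := RingHom.ker (t.app U₁).hom
  let K₂ := RingHom.ker (t.app U₂).hom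
  let K₁₂ := RingHom.ker (t.app (U₁ ⊓ U₂)).hom
  have L₁ : ∀ z ∈ K₁₂, ∃ M : ℕ, ∃ x ∈ K₁, ρ₁ x = (1 - ρ₁ β₁) ^ M * z := by
    intro z hz
    obtain ⟨M, y, hy, e⟩ := ext_ker t h₁ (1 - β₁) (U₁ ⊓ U₂) hV1 z hz
    refine ⟨M, y, hy, ?_⟩
    rw [← map_one ρ₁, ← map_sub]
    exact e
  have L₂ : ∀ z ∈ K₁₂, ∃ M : ℕ, ∃ y ∈ K₂, ρ₂ y = (ρ₂ β₂) ^ M * z := by
    intro z hz
    obtain ⟨M, y, hy, e⟩ := ext_ker t h₂ β₂ (U₁ ⊓ U₂) hV2 z hz
    exact ⟨M, y, hy, e⟩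
  have hle₁₂ : t ⁻¹ᵁ (U₁ ⊓ U₂) ≤ t ⁻¹ᵁ (U₁ ⊔ U₂) := t.preimage_mono (inf_le_left.trans le_sup_left)
  have hn₁ : t.app (U₁ ⊓ U₂) (ρ₁ β₁) = X.presheaf.map (homOfLE hle₁₂).op α := by
    have hnat := t.naturality (homOfLE (inf_le_left : U₁ ⊓ U₂ ≤ U₁)).op
    have := ConcreteCategory.congr_hom hnat β₁
    simp only [CommRingCat.comp_apply] at this
    erw [this, hβ₁]
    rw [← CommRingCat.comp_apply, ← Functor.map_comp]
    rfl
  have hn₂ : t.app (U₁ ⊓ U₂) (ρ₂ β₂) = X.presheaf.map (homOfLE hle₁₂).op α := by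
    have hnat := t.naturality (homOfLE (inf_le_right : U₁ ⊓ U₂ ≤ U₂)).op
    have := ConcreteCategory.congr_hom hnat β₂
    simp only [CommRingCat.comp_apply] at this
    erw [this, hβ₂]
    rw [← CommRingCat.comp_apply, ← Functor.map_comp]
    rfl
  have hε : ρ₁ β₁ - ρ₂ β₂ ∈ K₁₂ := by
    change (t.app (U₁ ⊓ U₂)).hom (ρ₁ β₁ - ρ₂ β₂) = 0
    rw [map_sub]
    erw [hn₁, hn₂]
    rw [sub_self]
  have hnil : IsNilpotent (ρ₁ β₁ - ρ₂ β₂) :=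
    mem_nilradical.mp (ThickAffine.ker_app_le_nilradical t hVaff hε)
  obtain ⟨x, hx, y, hy, hxy⟩ := decompose ρ₁ ρ₂ K₁ K₂ K₁₂ β₁ β₂ L₁ L₂ hε hnil
  -- corrected lifts agree on the intersection
  have hagree : ρ₁ (β₁ - x) = ρ₂ (β₂ + y) := by
    rw [map_sub, map_add]
    linear_combination hxy
  -- glue
  let f : Γ(X', U₁ ⊔ U₂) := (X'.sheaf.objSupIsoProdEqLocus U₁ U₂).inv ⟨(β₁ - x, β₂ + y), hagree⟩
  have hf₁ : X'.presheaf.map (homOfLE (le_sup_left : U₁ ≤ U₁ ⊔ U₂)).op f = β₁ - x :=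
    X'.sheaf.objSupIsoProdEqLocus_inv_fst U₁ U₂ _
  have hf₂ : X'.presheaf.map (homOfLE (le_sup_right : U₂ ≤ U₁ ⊔ U₂)).op f = β₂ + y :=
    X'.sheaf.objSupIsoProdEqLocus_inv_snd U₁ U₂ _
  -- its image on the thin scheme is `α`
  have hfα : t.app (U₁ ⊔ U₂) f = α := by
    refine X.sheaf.eq_of_locally_eq₂ (homOfLE le₁) (homOfLE le₂) (le_of_eq rfl) _ _ ?_ ?_
    · have hnat := t.naturality (homOfLE (le_sup_left : U₁ ≤ U₁ ⊔ U₂)).op
      have := ConcreteCategory.congr_hom hnat f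
      simp only [CommRingCat.comp_apply] at this
      erw [← this, hf₁, map_sub, hβ₁]
      have hx0 : t.app U₁ x = 0 := hx
      erw [hx0, sub_zero]
      rfl
    · have hnat := t.naturality (homOfLE (le_sup_right : U₂ ≤ U₁ ⊔ U₂)).op
      have := ConcreteCategory.congr_hom hnat f
      simp only [CommRingCat.comp_apply] at this
      erw [← this, hf₂, map_add, hβ₂]
      have hy0 : t.app U₂ y = 0 := hy
      erw [hy0, add_zero]
      rfl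
  have hb₁ : X'.basicOpen f = U₁ := by
    apply eq_of_preimage_eq t ht
    rw [Scheme.preimage_basicOpen, hfα, e₁]
  have hb₂ : X'.basicOpen (1 - f) = U₂ := by
    apply eq_of_preimage_eq t ht
    rw [Scheme.preimage_basicOpen, map_sub, map_one, hfα, e₂]
  refine isAffineOpen_of_isAffineOpen_basicOpen (U₁ ⊔ U₂) {f, 1 - f} ?_ ?_
  · rw [Ideal.eq_top_iff_one]
    have : (1 : Γ(X', U₁ ⊔ U₂)) = f + (1 - f) := by ring
    rw [this]
    exact add_mem (Ideal.subset_span (by simp)) (Ideal.subset_span (by simp))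
  · intro i hi
    rcases hi with rfl | rfl
    · rw [hb₁]; exact h₁
    · rw [hb₂]; exact h₂

end Groth.Agent.Lib.Helper6.ThickIsAffine
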