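import Mathlib
import Groth.Agent.Lib.Helper6.ThickAffine2
import Groth.Agent.Lib.Helper6.ThickIsAffine1

set_option autoImplicit false
universe u
open AlgebraicGeometry CategoryTheory Limits Opposite TopologicalSpace

namespace Groth.Agent.Lib.Helper6.ThickIsAffine

variable {X X' : Scheme.{u}} (t : X ⟶ X')

/-- global functions on the thin scheme whose nonvanishing locus is the trace of an affine open
of the thick scheme. -/
def good : Set Γ(X, ⊤) := {a | ∃ W' : X'.Opens, IsAffineOpen W' ∧ t ⁻¹ᵁ W' = X.basicOpen a}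

theorem good_of_le [IsClosedImmersion t] {U' : X'.Opens} (hU' : IsAffineOpen U')
    (a : Γ(X, ⊤)) (h : X.basicOpen a ≤ t ⁻¹ᵁ U') : a ∈ good t := by
  obtain ⟨g, hg⟩ := t.app_surjective U' hU' (X.presheaf.map (homOfLE le_top).op a)
  refine ⟨X'.basicOpen g, hU'.basicOpen g, ?_⟩
  rw [Scheme.preimage_basicOpen]
  erw [hg]
  rw [Scheme.basicOpen_res]
  exact inf_eq_right.mpr h

theorem good_mul [IsClosedImmersion t] (c a : Γ(X, ⊤)) (ha : a ∈ good t) : c * a ∈ good t := by
  obtain ⟨W', hW', e⟩ := ha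
  refine good_of_le t hW' (c * a) ?_
  rw [e, Scheme.basicOpen_mul]
  exact inf_le_right

theorem good_zero : (0 : Γ(X, ⊤)) ∈ good t :=
  ⟨⊥, isAffineOpen_bot X', by rw [Scheme.basicOpen_zero]; rfl⟩

theorem good_add [IsClosedImmersion t] (ht : Function.Surjective t) (a b : Γ(X, ⊤))
    (ha : a ∈ good t) (hb : b ∈ good t) : a + b ∈ good t := by
  obtain ⟨U₁, h₁, e₁⟩ := good_mul t (a + b) a ha
  obtain ⟨U₂, h₂, e₂⟩ := good_mul t (a + b) b hb
  set D := X.basicOpen (a + b) with hDdef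
  have hD : t ⁻¹ᵁ (U₁ ⊔ U₂) = D := by
    rw [Scheme.Hom.preimage_sup, e₁, e₂, Scheme.basicOpen_mul, Scheme.basicOpen_mul,
      ← inf_sup_left]
    exact inf_eq_left.mpr (X.basicOpen_add_le a b)
  -- the unit `a + b` on `D`
  have hu : IsUnit (X.presheaf.map (homOfLE (X.basicOpen_le (a + b))).op (a + b)) :=
    X.toRingedSpace.isUnit_res_basicOpen (a + b)
  obtain ⟨u, hu⟩ := hu
  let r : Γ(X, ⊤) →+* Γ(X, D) := (X.presheaf.map (homOfLE (X.basicOpen_le (a + b))).op).hom
  have hu' : (u : Γ(X, D)) = r a + r b := by rw [hu]; exact map_add r a b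
  let α : Γ(X, D) := r a * ↑u⁻¹
  have hα : 1 - α = r b * ↑u⁻¹ := by
    have : (1 : Γ(X, D)) = ↑u * ↑u⁻¹ := by rw [Units.mul_inv]
    rw [this, hu']
    ring
  have hbu : X.basicOpen (↑u⁻¹ : Γ(X, D)) = D := X.basicOpen_of_isUnit (Units.isUnit _)
  have hra : X.basicOpen (r a) = D ⊓ X.basicOpen a := Scheme.basicOpen_res _ _ _
  have hrb : X.basicOpen (r b) = D ⊓ X.basicOpen b := Scheme.basicOpen_res _ _ _
  refine ⟨U₁ ⊔ U₂, ?_, hD⟩
  refine isAffineOpen_sup t ht U₁ U₂ h₁ h₂ D hD α ?_ ?_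
  · rw [e₁, Scheme.basicOpen_mul, Scheme.basicOpen_mul, hbu, hra, inf_assoc, inf_comm _ D,
      ← inf_assoc, inf_idem]
  · rw [e₂, hα, Scheme.basicOpen_mul, Scheme.basicOpen_mul, hbu, hrb, inf_assoc, inf_comm _ D,
      ← inf_assoc, inf_idem]

/-- the functions `good t` form an ideal. -/
def goodIdeal [IsClosedImmersion t] (ht : Function.Surjective t) : Ideal Γ(X, ⊤) where
  carrier := good t
  add_mem' := fun {a b} ha hb => good_add t ht a b ha hb
  zero_mem' := good_zero t
  smul_mem' := fun c a ha => good_mul t c a ha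

/-- **A thickening of an affine scheme is affine.** -/
theorem isAffine_of_thickening [IsClosedImmersion t] (ht : Function.Surjective t) [IsAffine X] :
    IsAffine X' := by
  have hspan : Ideal.span (good t) = ⊤ := by
    rw [← (isAffineOpen_top X).self_le_iSup_basicOpen_iff]
    intro x _
    obtain ⟨U', hU', hxU', -⟩ := Opens.isBasis_iff_nbhd.mp X'.isBasis_affineOpens
      (Opens.mem_top (t x))
    obtain ⟨a, ha₁, ha₂⟩ := (isAffineOpen_top X).exists_basicOpen_le
      (V := t ⁻¹ᵁ U') ⟨x, hxU'⟩ (Opens.mem_top x)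
    have hag : a ∈ good t := good_of_le t hU' a ha₁
    exact Opens.mem_iSup.mpr ⟨⟨a, hag⟩, ha₂⟩
  have h1 : (1 : Γ(X, ⊤)) ∈ goodIdeal t ht := by
    have : Ideal.span (good t) ≤ goodIdeal t ht := Ideal.span_le.mpr (fun a ha => ha)
    exact this (by rw [hspan]; trivial)
  obtain ⟨W', hW', e⟩ := h1
  have hW'top : W' = ⊤ := by
    apply eq_of_preimage_eq t ht
    rw [e, Scheme.basicOpen_one]
    rfl
  subst hW'top
  have : IsAffine (⊤ : X'.Opens).toScheme := hW'
  exact .of_isIso (X'.topIso.inv)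

/-- open version: an open of the thick scheme whose trace on the thin scheme is affine is
affine. -/
theorem isAffineOpen_of_thickening [IsClosedImmersion t] (ht : Function.Surjective t)
    (U' : X'.Opens) (h : IsAffineOpen (t ⁻¹ᵁ U')) : IsAffineOpen U' := by
  have : IsAffine (t ⁻¹ᵁ U').toScheme := h
  have : Surjective t := ⟨ht⟩
  have h1 : IsClosedImmersion (t ∣_ U') := inferInstance
  have h2 : Surjective (t ∣_ U') :=
    MorphismProperty.of_isPullback (P := @Surjective) (isPullback_morphismRestrict t U').flip ‹_›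
  exact isAffine_of_thickening (t ∣_ U') h2.surj

end Groth.Agent.Lib.Helper6.ThickIsAffine
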