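import Groth.Agent.Lib.Helper6.LocalFlat
import Mathlib

set_option autoImplicit false
universe u

namespace Groth.Agent.Lib.Helper6.LocalFlat

open TensorProduct

section stepA

variable {R : Type u} [CommRing R] {M : Type u} [AddCommGroup M] [Module R M]

/-- naturality of `cancelBaseChange` in the first variable. -/
theorem cancel_natural_left (J : Ideal R) {P Q : Type*} [AddCommGroup P] [Module R P]
    [AddCommGroup Q] [Module R Q] [Module (R ⧸ J) P] [Module (R ⧸ J) Q]
    [IsScalarTower R (R ⧸ J) P] [IsScalarTower R (R ⧸ J) Q]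
    (g : P →ₗ[R ⧸ J] Q) (z : P ⊗[R ⧸ J] ((R ⧸ J) ⊗[R] M)) :
    (g.restrictScalars R).rTensor M (AlgebraTensorModule.cancelBaseChange R (R ⧸ J) (R ⧸ J) P M z) =
      AlgebraTensorModule.cancelBaseChange R (R ⧸ J) (R ⧸ J) Q M
        (g.rTensor ((R ⧸ J) ⊗[R] M) z) := by
  induction z using TensorProduct.induction_on with
  | zero => simp
  | add x y hx hy => simp only [map_add, hx, hy]
  | tmul n w =>
    induction w using TensorProduct.induction_on with
    | zero => simp
    | add x y hx hy => simp only [tmul_add, map_add, hx, hy]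
    | tmul r k => simp

/-- flatness of `(R/J) ⊗ M` over `R/J` in terms of `R`-modules killed by `J`. -/
theorem lTensor_injective_of_flat_baseChange (J : Ideal R)
    [Module.Flat (R ⧸ J) ((R ⧸ J) ⊗[R] M)]
    {P Q : Type*} [AddCommGroup P] [Module R P] [AddCommGroup Q] [Module R Q]
    (hP : Module.IsTorsionBySet R P J) (hQ : Module.IsTorsionBySet R Q J)
    (g : P →ₗ[R] Q) (hg : Function.Injective g) : Function.Injective (g.lTensor M) := by
  letI := hP.module
  letI := hQ.module
  let g' : P →ₗ[R ⧸ J] Q :=
    { toFun := g
      map_add' := g.map_add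
      map_smul' := by
        intro a x
        obtain ⟨r, rfl⟩ := Ideal.Quotient.mk_surjective a
        change g ((Ideal.Quotient.mk J r) • x) = (Ideal.Quotient.mk J r) • g x
        rw [← Ideal.Quotient.algebraMap_eq, algebraMap_smul, algebraMap_smul, map_smul] }
  have hg' : Function.Injective g' := hg
  have key : Function.Injective (g'.rTensor ((R ⧸ J) ⊗[R] M)) :=
    Module.Flat.rTensor_preserves_injective_linearMap _ hg'
  rw [LinearMap.lTensor_inj_iff_rTensor_inj]
  have hres : g'.restrictScalars R = g := rfl
  intro x y hxy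
  have hx := cancel_natural_left (M := M) J g'
    ((AlgebraTensorModule.cancelBaseChange R (R ⧸ J) (R ⧸ J) P M).symm x)
  have hy := cancel_natural_left (M := M) J g'
    ((AlgebraTensorModule.cancelBaseChange R (R ⧸ J) (R ⧸ J) P M).symm y)
  rw [LinearEquiv.apply_symm_apply, hres] at hx hy
  rw [hx, hy] at hxy
  have := key ((AlgebraTensorModule.cancelBaseChange R (R ⧸ J) (R ⧸ J) Q M).injective hxy)
  exact (AlgebraTensorModule.cancelBaseChange R (R ⧸ J) (R ⧸ J) P M).symm.injective this

end stepA

section stepB

variable {R S M : Type u} [CommRing R] [CommRing S] [Algebra R S]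
    [AddCommGroup M] [Module R M] [Module S M] [IsScalarTower R S M]

/-- localisation at a submonoid of `S` preserves injectivity of `M ⊗[R] g`. -/
theorem lTensor_localizedModule_injective (T : Submonoid S)
    {P Q : Type*} [AddCommGroup P] [Module R P] [AddCommGroup Q] [Module R Q]
    (g : P →ₗ[R] Q) (hg : Function.Injective (g.lTensor M)) :
    Function.Injective (g.lTensor (LocalizedModule T M)) := by
  have h1 : Function.Injective (AlgebraTensorModule.lTensor S M g) := hg
  have h2 := IsLocalizedModule.map_injective T
    (AlgebraTensorModule.rTensor R P (LocalizedModule.mkLinearMap T M))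
    (AlgebraTensorModule.rTensor R Q (LocalizedModule.mkLinearMap T M))
    (AlgebraTensorModule.lTensor S M g) h1
  rw [IsLocalizedModule.map_lTensor] at h2
  exact h2

end stepB

section main

variable {R S M : Type u} [CommRing R] [CommRing S] [IsNoetherianRing R] [IsNoetherianRing S]
    [Algebra R S]
    [AddCommGroup M] [Module R M] [Module S M] [IsScalarTower R S M] [Module.Finite S M]

theorem flat_localizedModule_of_flat_quotients (I : Ideal R)
    (h : ∀ n : ℕ, 0 < n → Module.Flat (R ⧸ I ^ n) ((R ⧸ I ^ n) ⊗[R] M))
    (q : Ideal S) [q.IsPrime] (hq : I.map (algebraMap R S) ≤ q) :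
    Module.Flat R (LocalizedModule q.primeCompl M) := by
  apply flat_of_g1_lTensor_injective (S := Localization.AtPrime q) I
  · rw [IsLocalRing.jacobson_eq_maximalIdeal ⊥ bot_ne_top,
      IsScalarTower.algebraMap_eq R S (Localization.AtPrime q), ← Ideal.map_map,
      ← Localization.AtPrime.map_eq_maximalIdeal]
    exact Ideal.map_mono hq
  · intro n 𝔞
    rcases Nat.eq_zero_or_pos n with hn | hn
    · subst hn
      have : Subsingleton (𝔞 ⧸ bq I 𝔞 0) := by
        apply Submodule.Quotient.subsingleton_iff.mpr
        rw [eq_top_iff]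
        intro x _
        change (x : R) ∈ I ^ 0
        simp
      have : Subsingleton (LocalizedModule q.primeCompl M ⊗[R] (𝔞 ⧸ bq I 𝔞 0)) :=
        inferInstance
      exact Function.injective_of_subsingleton _
    · haveI := h n hn
      apply lTensor_localizedModule_injective
      apply lTensor_injective_of_flat_baseChange (I ^ n) _ _ (g1 I 𝔞 n) (g1_injective I 𝔞 n)
      · intro x a
        obtain ⟨y, rfl⟩ := Submodule.Quotient.mk_surjective _ x
        rw [← Submodule.Quotient.mk_smul]
        refine (Submodule.Quotient.mk_eq_zero _).mpr ?_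
        change ((a : R) • y : 𝔞).1 ∈ I ^ n
        exact Ideal.mul_mem_right _ _ a.2
      · intro x a
        obtain ⟨y, rfl⟩ := Submodule.Quotient.mk_surjective _ x
        rw [← Submodule.Quotient.mk_smul]
        refine (Submodule.Quotient.mk_eq_zero _).mpr ?_
        exact Ideal.mul_mem_right _ _ a.2

end main

end Groth.Agent.Lib.Helper6.LocalFlat
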