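import Groth.Agent.Lib.Helper6.LocalFlat
import Groth.Agent.S0400
import Mathlib

set_option autoImplicit false
universe u

namespace Groth.Agent.Lib.Helper6.LocalFlat

open TensorProduct

section

variable {R S M : Type u} [CommRing R] [CommRing S] [Algebra R S]
  [AddCommGroup M] [Module S M] [Module R M] [IsScalarTower R S M]

/-- If `M` is an `S`-module flat over `R`, then `IS ⊗_S M → M` is injective. -/
theorem rTensor_map_subtype_injective (I : Ideal R) [Module.Flat R M] :
    Function.Injective (LinearMap.rTensor M (Submodule.subtype (I.map (algebraMap R S)))) := by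
  have hR : Function.Injective (LinearMap.rTensor M (Submodule.subtype I)) :=
    Module.Flat.rTensor_preserves_injective_linearMap _ (Submodule.injective_subtype I)
  have hcomp : ∀ y : I ⊗[R] M,
      TensorProduct.lid S M (LinearMap.rTensor M (Submodule.subtype (I.map (algebraMap R S)))
        (Groth.Agent.S0400.phi (S := S) I y)) =
      TensorProduct.lid R M (LinearMap.rTensor M (Submodule.subtype I) y) := by
    intro y
    induction y using TensorProduct.induction_on with
    | zero => simp
    | add x y hx hy => simp only [map_add, hx, hy]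
    | tmul i m =>
      rw [Groth.Agent.S0400.phi_tmul]
      simp
  rw [injective_iff_map_eq_zero]
  intro z hz
  obtain ⟨y, rfl⟩ := Groth.Agent.S0400.phi_surjective (S := S) (M := M) I z
  have h1 := hcomp y
  rw [hz, map_zero] at h1
  have h2 : LinearMap.rTensor M (Submodule.subtype I) y = 0 :=
    (TensorProduct.lid R M).injective (by rw [← h1, map_zero])
  have h3 : y = 0 := hR (by rw [h2, map_zero])
  rw [h3, map_zero]

/-- `M` flat over `S`, faithfully flat over `S`, and flat over `R` ⇒ `S` flat over `R`. -/
theorem flat_of_faithfullyFlat_of_flat [Module.FaithfullyFlat S M] [Module.Flat R M] :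
    Module.Flat R S := by
  rw [Module.Flat.iff_lTensor_injective']
  intro 𝔞
  have hM : Function.Injective (LinearMap.lTensor M 𝔞.subtype) :=
    Module.Flat.lTensor_preserves_injective_linearMap _ (Submodule.injective_subtype 𝔞)
  have hnat : ∀ z : M ⊗[S] (S ⊗[R] 𝔞),
      AlgebraTensorModule.cancelBaseChange R S S M R
        (LinearMap.lTensor M (AlgebraTensorModule.lTensor S S 𝔞.subtype) z) =
      LinearMap.lTensor M 𝔞.subtype (AlgebraTensorModule.cancelBaseChange R S S M 𝔞 z) := by
    intro z
    induction z using TensorProduct.induction_on with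
    | zero => simp
    | add x y hx hy => simp only [map_add, hx, hy]
    | tmul m w =>
      induction w using TensorProduct.induction_on with
      | zero => simp
      | add x y hx hy => simp only [tmul_add, map_add, hx, hy]
      | tmul s a => simp
  have hinj : Function.Injective
      (LinearMap.lTensor M (AlgebraTensorModule.lTensor S S 𝔞.subtype)) := by
    intro z z' h
    have := congrArg (AlgebraTensorModule.cancelBaseChange R S S M R) h
    rw [hnat, hnat] at this
    exact (AlgebraTensorModule.cancelBaseChange R S S M 𝔞).injective (hM this)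
  have := (Module.FaithfullyFlat.lTensor_injective_iff_injective S M
    (AlgebraTensorModule.lTensor S S 𝔞.subtype)).mp hinj
  rwa [AlgebraTensorModule.coe_lTensor] at this

end

section fibre

theorem map_maximalIdeal_le {R S : Type u} [CommRing R] [CommRing S] [IsLocalRing R]
    [IsLocalRing S] [Algebra R S] [IsLocalHom (algebraMap R S)] :
    (IsLocalRing.maximalIdeal R).map (algebraMap R S) ≤ IsLocalRing.maximalIdeal S := by
  rw [Ideal.map_le_iff_le_comap]
  intro x hx
  rw [Ideal.mem_comap, IsLocalRing.mem_maximalIdeal, mem_nonunits_iff] at *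
  exact fun h => hx (isUnit_of_map_unit (algebraMap R S) x h)

/-- Fibre criterion, first half: `M` flat over `S`. -/
theorem flat_of_fibre {R S : Type u} (S' : Type u) {M : Type u} [CommRing R] [CommRing S]
    [CommRing S'] [IsLocalRing R]
    [IsLocalRing S] [IsLocalRing S'] [IsNoetherianRing S] [IsNoetherianRing S']
    [Algebra R S] [Algebra S S'] [IsLocalHom (algebraMap R S)] [IsLocalHom (algebraMap S S')]
    [AddCommGroup M] [Module S' M] [Module S M] [Module R M] [IsScalarTower S S' M]
    [IsScalarTower R S M] [Module.Finite S' M] [Module.Flat R M]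
    (h : Module.Flat (S ⧸ ((IsLocalRing.maximalIdeal R).map (algebraMap R S)))
      ((S ⧸ ((IsLocalRing.maximalIdeal R).map (algebraMap R S))) ⊗[S] M)) :
    Module.Flat S M := by
  refine flat_of_isLocalHom (R := S) (S := S') (M := M)
    ((IsLocalRing.maximalIdeal R).map (algebraMap R S)) ?_
    (rTensor_map_subtype_injective (IsLocalRing.maximalIdeal R)) h
  intro htop
  have := map_maximalIdeal_le (R := R) (S := S)
  rw [htop] at this
  exact (Ideal.IsPrime.ne_top inferInstance) (top_le_iff.mp this)

/-- a nonzero finite `S'`-module is faithfully flat over `S` once flat. -/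
theorem faithfullyFlat_of_flat_of_finite {S : Type u} (S' : Type u) {M : Type u} [CommRing S]
    [CommRing S'] [IsLocalRing S] [IsLocalRing S'] [IsNoetherianRing S']
    [Algebra S S'] [IsLocalHom (algebraMap S S')]
    [AddCommGroup M] [Module S' M] [Module S M] [IsScalarTower S S' M]
    [Module.Finite S' M] [Nontrivial M] [Module.Flat S M] :
    Module.FaithfullyFlat S M := by
  refine ⟨fun m hm => ?_⟩
  rw [IsLocalRing.eq_maximalIdeal hm]
  intro htop
  have h1 : (⊤ : Submodule S' M) ≤ IsLocalRing.maximalIdeal S' • (⊤ : Submodule S' M) := by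
    intro x _
    have hx : x ∈ ((IsLocalRing.maximalIdeal S) ^ 1 • ⊤ : Submodule S M) := by
      rw [pow_one, htop]; trivial
    have h2 := smul_top_le_map_smul_top (S := S') (IsLocalRing.maximalIdeal S) 1 x hx
    rw [pow_one] at h2
    exact Submodule.smul_mono_left (map_maximalIdeal_le (R := S) (S := S')) h2
  have h3 := Submodule.eq_bot_of_le_smul_of_le_jacobson_bot (IsLocalRing.maximalIdeal S')
    (⊤ : Submodule S' M) Module.Finite.fg_top h1 (IsLocalRing.maximalIdeal_le_jacobson ⊥)
  exact top_ne_bot h3

end fibre

end Groth.Agent.Lib.Helper6.LocalFlat
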