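import Groth.Agent.S6000
import Mathlib

set_option autoImplicit false
universe u

namespace Groth.Agent.Lib.Helper6.FlatRegular

open TensorProduct

section general

variable {A : Type u} [CommRing A]

/-- exact `0 → X₁ → X₂ → X₃ → 0` with `X₃` flat stays left exact after `N ⊗ -`. -/
theorem lTensor_injective_of_exact_of_flat {X₁ X₂ X₃ : Type*} [AddCommGroup X₁] [Module A X₁]
    [AddCommGroup X₂] [Module A X₂] [AddCommGroup X₃] [Module A X₃] [Module.Flat A X₃]
    (ι : X₁ →ₗ[A] X₂) (π : X₂ →ₗ[A] X₃) (hι : Function.Injective ι)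
    (hex : Function.Exact ι π) (hπ : Function.Surjective π)
    (N : Type*) [AddCommGroup N] [Module A N] : Function.Injective (ι.lTensor N) := by
  let p : (N →₀ A) →ₗ[A] N := Finsupp.linearCombination A id
  have hp : Function.Surjective p := Finsupp.linearCombination_id_surjective A N
  exact lTensor_injective_of_exact_of_exact_of_rTensor_injective (R := A)
      (M₁ := LinearMap.ker p) (M₂ := N →₀ A) (M₃ := N)
      (N₁ := X₁) (N₂ := X₂) (N₃ := X₃)
      (f₁ := (LinearMap.ker p).subtype) (f₂ := p) (g₁ := ι) (g₂ := π)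
      (LinearMap.exact_subtype_ker_map p) hp hex hπ
      (Module.Flat.rTensor_preserves_injective_linearMap _ (Submodule.injective_subtype _))
      (Module.Flat.lTensor_preserves_injective_linearMap _ hι)

theorem rTensor_injective_of_exact_of_flat {X₁ X₂ X₃ : Type*} [AddCommGroup X₁] [Module A X₁]
    [AddCommGroup X₂] [Module A X₂] [AddCommGroup X₃] [Module A X₃] [Module.Flat A X₃]
    (ι : X₁ →ₗ[A] X₂) (π : X₂ →ₗ[A] X₃) (hι : Function.Injective ι)
    (hex : Function.Exact ι π) (hπ : Function.Surjective π)
    (N : Type*) [AddCommGroup N] [Module A N] : Function.Injective (ι.rTensor N) := by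
  rw [← LinearMap.lTensor_inj_iff_rTensor_inj]
  exact lTensor_injective_of_exact_of_flat ι π hι hex hπ N

/-- the kernel of a surjection of flat modules is flat. -/
theorem flat_of_exact_of_flat {X₁ X₂ X₃ : Type u} [AddCommGroup X₁] [Module A X₁]
    [AddCommGroup X₂] [Module A X₂] [AddCommGroup X₃] [Module A X₃] [Module.Flat A X₂]
    [Module.Flat A X₃]
    (ι : X₁ →ₗ[A] X₂) (π : X₂ →ₗ[A] X₃) (hι : Function.Injective ι)
    (hex : Function.Exact ι π) (hπ : Function.Surjective π) : Module.Flat A X₁ := by
  rw [Module.Flat.iff_lTensor_injective']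
  intro J
  have h1 : Function.Injective (ι.rTensor J) :=
    rTensor_injective_of_exact_of_flat ι π hι hex hπ J
  have h2 : Function.Injective (J.subtype.lTensor X₂) :=
    Module.Flat.lTensor_preserves_injective_linearMap _ (Submodule.injective_subtype J)
  have h3 : Function.Injective ((ι.rTensor A) ∘ₗ (J.subtype.lTensor X₁)) := by
    rw [LinearMap.rTensor_comp_lTensor, ← LinearMap.lTensor_comp_rTensor]
    exact h2.comp h1
  exact Function.Injective.of_comp h3

/-- `(f) ⊗ X → X` is injective when `f` is regular on `X`. -/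
theorem rTensor_span_singleton_injective (f : A) {X : Type*} [AddCommGroup X] [Module A X]
    (hX : IsSMulRegular X f) :
    Function.Injective (LinearMap.rTensor X (Submodule.subtype (Ideal.span {f}))) := by
  have hform : ∀ z : (Ideal.span {f} : Ideal A) ⊗[A] X,
      ∃ m : X, z = (⟨f, Ideal.subset_span rfl⟩ : (Ideal.span {f} : Ideal A)) ⊗ₜ[A] m := by
    intro z
    induction z using TensorProduct.induction_on with
    | zero => exact ⟨0, by rw [TensorProduct.tmul_zero]⟩
    | add x y hx hy =>
      obtain ⟨m, rfl⟩ := hx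
      obtain ⟨m', rfl⟩ := hy
      exact ⟨m + m', by rw [TensorProduct.tmul_add]⟩
    | tmul a m =>
      obtain ⟨a, ha⟩ := a
      obtain ⟨b, rfl⟩ := Ideal.mem_span_singleton'.mp ha
      refine ⟨b • m, ?_⟩
      rw [TensorProduct.tmul_smul, TensorProduct.smul_tmul']
      rfl
  rw [injective_iff_map_eq_zero]
  intro z hz
  obtain ⟨m, rfl⟩ := hform z
  rw [LinearMap.rTensor_tmul] at hz
  have h1 := congrArg (TensorProduct.lid A X) hz
  rw [map_zero, TensorProduct.lid_tmul] at h1
  have h2 : f • m = 0 := h1
  have h3 : m = 0 := hX (by change f • m = f • 0; rw [h2, smul_zero])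
  rw [h3, TensorProduct.tmul_zero]

end general

section main

variable {A : Type u} [CommRing A] (f : A)

/-- elements of `ker (K ⊗ N → F ⊗ N)` are `f`-power torsion when `M_f` is flat. -/
theorem exists_pow_smul_eq_zero {M F : Type u} [AddCommGroup M] [Module A M] [AddCommGroup F]
    [Module A F] [Module.Flat A F]
    (K : Submodule A F) (π : F →ₗ[A] M) (hπ : Function.Surjective π)
    (hex : Function.Exact K.subtype π)
    [Module.Flat (Localization.Away f) (LocalizedModule (Submonoid.powers f) M)]
    (N : Type*) [AddCommGroup N] [Module A N] (x : K ⊗[A] N)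
    (hx : K.subtype.rTensor N x = 0) : ∃ n : ℕ, f ^ n • x = 0 := by
  let gK := LocalizedModule.mkLinearMap (Submonoid.powers f) K
  let gF := LocalizedModule.mkLinearMap (Submonoid.powers f) F
  let gM := LocalizedModule.mkLinearMap (Submonoid.powers f) M
  let ιf := IsLocalizedModule.map (Submonoid.powers f) gK gF K.subtype
  let πf := IsLocalizedModule.map (Submonoid.powers f) gF gM π
  have hιf : Function.Injective ιf :=
    IsLocalizedModule.map_injective (Submonoid.powers f) gK gF _ K.injective_subtype
  have hπf : Function.Surjective πf :=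
    IsLocalizedModule.map_surjective (Submonoid.powers f) gF gM _ hπ
  have hexf : Function.Exact ιf πf :=
    IsLocalizedModule.map_exact (Submonoid.powers f) gK gF gM _ _ hex
  have : Module.Flat A (LocalizedModule (Submonoid.powers f) M) :=
    (Module.flat_iff_of_isLocalization (Localization (Submonoid.powers f))
      (Submonoid.powers f) _).mp inferInstance
  have hinj := rTensor_injective_of_exact_of_flat ιf πf hιf hexf hπf N
  have hcomm : ιf.rTensor N (gK.rTensor N x) = gF.rTensor N (K.subtype.rTensor N x) := by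
    rw [← LinearMap.comp_apply, ← LinearMap.comp_apply, ← LinearMap.rTensor_comp,
      ← LinearMap.rTensor_comp, IsLocalizedModule.map_comp]
  have h0 : gK.rTensor N x = 0 := hinj (by rw [hcomm, hx, map_zero, map_zero])
  have hloc : IsLocalizedModule (Submonoid.powers f) (AlgebraTensorModule.rTensor A N gK) :=
    inferInstance
  obtain ⟨⟨c, n, rfl⟩, hc⟩ := (IsLocalizedModule.eq_zero_iff (Submonoid.powers f)
    (AlgebraTensorModule.rTensor A N gK)).mp h0
  exact ⟨n, hc⟩

/-- `Tor₁(M, T) = 0` for `f`-power torsion `T`. -/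
theorem lTensor_injective_of_torsion {M F : Type u} [AddCommGroup M] [Module A M]
    [AddCommGroup F] [Module A F] [Module.Free A F]
    (K : Submodule A F) (π : F →ₗ[A] M) (hπ : Function.Surjective π)
    (hex : Function.Exact K.subtype π)
    (hflat : Module.Flat (A ⧸ Ideal.span {f}) ((A ⧸ Ideal.span {f}) ⊗[A] M))
    (h0 : Function.Injective (K.subtype.lTensor (A ⧸ Ideal.span {f})))
    (T : Type u) [AddCommGroup T] [Module A T] (hT : ∀ t : T, ∃ n : ℕ, f ^ n • t = 0) :
    Function.Injective (K.subtype.lTensor T) := by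
  have hmono : ∀ n m : ℕ, n ≤ m → Submodule.torsionBy A T (f ^ n) ≤
      Submodule.torsionBy A T (f ^ m) := by
    intro n m hnm t ht
    rw [Submodule.mem_torsionBy_iff] at ht ⊢
    obtain ⟨k, rfl⟩ := Nat.exists_eq_add_of_le hnm
    rw [pow_add, mul_comm, mul_smul, ht, smul_zero]
  have hrmono : ∀ n m : ℕ, n ≤ m →
      LinearMap.range ((Submodule.torsionBy A T (f ^ n)).subtype.rTensor K) ≤
      LinearMap.range ((Submodule.torsionBy A T (f ^ m)).subtype.rTensor K) := by
    intro n m hnm
    have : (Submodule.torsionBy A T (f ^ n)).subtype =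
        (Submodule.torsionBy A T (f ^ m)).subtype ∘ₗ
          Submodule.inclusion (hmono n m hnm) := by
      ext x
      rfl
    rw [this, LinearMap.rTensor_comp]
    exact LinearMap.range_comp_le_range _ _
  have hrange : ∀ x : T ⊗[A] K, ∃ n : ℕ,
      x ∈ LinearMap.range ((Submodule.torsionBy A T (f ^ n)).subtype.rTensor K) := by
    intro x
    induction x using TensorProduct.induction_on with
    | zero => exact ⟨0, zero_mem _⟩
    | add x y hx hy =>
      obtain ⟨n, hn⟩ := hx
      obtain ⟨m, hm⟩ := hy
      exact ⟨max n m, add_mem (hrmono n _ (le_max_left n m) hn)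
        (hrmono m _ (le_max_right n m) hm)⟩
    | tmul t k =>
      obtain ⟨n, hn⟩ := hT t
      refine ⟨n, ⟨(⟨t, (Submodule.mem_torsionBy_iff _ _).mpr hn⟩ :
        Submodule.torsionBy A T (f ^ n)) ⊗ₜ[A] k, ?_⟩⟩
      rw [LinearMap.rTensor_tmul]
      rfl
  rw [injective_iff_map_eq_zero]
  intro x hx
  obtain ⟨n, y, rfl⟩ := hrange x
  have h1 : (Submodule.torsionBy A T (f ^ n)).subtype.rTensor F
      (K.subtype.lTensor (Submodule.torsionBy A T (f ^ n)) y) = 0 := by
    rw [← LinearMap.comp_apply, LinearMap.rTensor_comp_lTensor, ← LinearMap.lTensor_comp_rTensor,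
      LinearMap.comp_apply, hx]
  have h2 : K.subtype.lTensor (Submodule.torsionBy A T (f ^ n)) y = 0 := by
    apply Module.Flat.rTensor_preserves_injective_linearMap (M := F) _
      (Submodule.injective_subtype _)
    rw [h1, map_zero]
  have h3 : Function.Injective (K.subtype.lTensor (Submodule.torsionBy A T (f ^ n))) := by
    apply Groth.Agent.S6000.devissage (Ideal.span {f}) K π hπ hex hflat h0 n
    rintro a ha ⟨t, ht⟩
    rw [Ideal.span_singleton_pow, Ideal.mem_span_singleton'] at ha
    obtain ⟨b, rfl⟩ := ha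
    ext
    rw [Submodule.mem_torsionBy_iff] at ht
    simp only [Submodule.coe_smul, Submodule.coe_zero]
    rw [mul_smul, ht, smul_zero]
  rw [h3 (h2.trans (map_zero _).symm), map_zero]

theorem lTensor_injective_of_presentation {K F₂ : Type*} [AddCommGroup K] [Module A K]
    [AddCommGroup F₂] [Module A F₂] [Module.Flat A F₂]
    (K₂ : Submodule A F₂) (π₂ : F₂ →ₗ[A] K) (hπ₂ : Function.Surjective π₂)
    (hex₂ : Function.Exact K₂.subtype π₂)
    {N' : Type*} [AddCommGroup N'] [Module A N'] (g₁ : N' →ₗ[A] N')
    (hg₁ : Function.Injective g₁)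
    (h1 : Function.Injective (K₂.subtype.rTensor (N' ⧸ LinearMap.range g₁))) :
    Function.Injective (g₁.lTensor K) :=
  lTensor_injective_of_exact_of_exact_of_rTensor_injective (R := A)
    (M₁ := K₂) (M₂ := F₂) (M₃ := K)
    (N₁ := N') (N₂ := N') (N₃ := N' ⧸ LinearMap.range g₁)
    (f₁ := K₂.subtype) (f₂ := π₂) (g₁ := g₁) (g₂ := (LinearMap.range g₁).mkQ)
    hex₂ hπ₂ (LinearMap.exact_map_mkQ_range g₁) (Submodule.mkQ_surjective _) h1
    (Module.Flat.lTensor_preserves_injective_linearMap _ hg₁)

theorem torsionBySet_quot_range_lsmul (N' : Type*) [AddCommGroup N'] [Module A N'] :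
    Module.IsTorsionBySet A (N' ⧸ LinearMap.range (LinearMap.lsmul A N' f))
      (Ideal.span {f} : Ideal A) := by
  intro x a
  obtain ⟨y, rfl⟩ := Submodule.Quotient.mk_surjective _ x
  obtain ⟨b, hb⟩ := Ideal.mem_span_singleton'.mp a.2
  rw [← Submodule.Quotient.mk_smul]
  refine (Submodule.Quotient.mk_eq_zero _).mpr ⟨b • y, ?_⟩
  change f • (b • y) = (a : A) • y
  rw [← hb, mul_comm, mul_smul]

theorem lsmul_lTensor_apply {K N' : Type*} [AddCommGroup K] [Module A K] [AddCommGroup N']
    [Module A N'] (z : K ⊗[A] N') : (LinearMap.lsmul A N' f).lTensor K z = f • z := by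
  induction z using TensorProduct.induction_on with
  | zero => simp
  | add a b ha hb => rw [map_add, ha, hb, smul_add]
  | tmul k n =>
    rw [LinearMap.lTensor_tmul, TensorProduct.smul_tmul', TensorProduct.smul_tmul]
    rfl

/-- `f` is regular on `K ⊗ N'` when `f` is regular on `K` and `N'` and `K/fK` is flat. -/
theorem isSMulRegular_tensor {K : Type u} [AddCommGroup K] [Module A K]
    (hK : IsSMulRegular K f)
    (hflatK : Module.Flat (A ⧸ Ideal.span {f}) ((A ⧸ Ideal.span {f}) ⊗[A] K))
    (N' : Type u) [AddCommGroup N'] [Module A N'] (hN' : IsSMulRegular N' f) :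
    IsSMulRegular (K ⊗[A] N') f := by
  have hπ₂ : Function.Surjective (Finsupp.linearCombination A (id : K → K)) :=
    Finsupp.linearCombination_id_surjective A K
  have hex₂ := LinearMap.exact_subtype_ker_map (Finsupp.linearCombination A (id : K → K))
  have hinjK := rTensor_span_singleton_injective f hK
  have h0' := Groth.Agent.S6000.torFree_quot (Ideal.span {f}) _ _ hπ₂ hex₂ hinjK
  have hg₁ : Function.Injective (LinearMap.lsmul A N' f) := hN'
  have h1 : Function.Injective ((LinearMap.ker (Finsupp.linearCombination A (id : K → K))).subtype.lTensor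
      (N' ⧸ LinearMap.range (LinearMap.lsmul A N' f))) := by
    letI := (torsionBySet_quot_range_lsmul f N').module
    exact Groth.Agent.S6000.torFree_of_quotient_module (Ideal.span {f}) _ _ hπ₂ hex₂
      hflatK h0' (N' ⧸ LinearMap.range (LinearMap.lsmul A N' f))
  rw [LinearMap.lTensor_inj_iff_rTensor_inj] at h1
  have h2 := lTensor_injective_of_presentation _ _ hπ₂ hex₂ _ hg₁ h1
  intro x y hxy
  apply h2
  rw [lsmul_lTensor_apply, lsmul_lTensor_apply]
  exact hxy

/-- the `f`-power torsion submodule. -/
def powTorsion (N : Type*) [AddCommGroup N] [Module A N] : Submodule A N where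
  carrier := {t | ∃ n : ℕ, f ^ n • t = 0}
  zero_mem' := ⟨0, smul_zero _⟩
  add_mem' := by
    rintro x y ⟨n, hn⟩ ⟨m, hm⟩
    refine ⟨n + m, ?_⟩
    have h1 : f ^ (n + m) • x = 0 := by rw [pow_add, mul_comm, mul_smul, hn, smul_zero]
    have h2 : f ^ (n + m) • y = 0 := by rw [pow_add, mul_smul, hm, smul_zero]
    rw [smul_add, h1, h2, add_zero]
  smul_mem' := by
    rintro a x ⟨n, hn⟩
    exact ⟨n, by rw [smul_comm, hn, smul_zero]⟩

theorem isSMulRegular_quot_powTorsion (N : Type*) [AddCommGroup N] [Module A N] :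
    IsSMulRegular (N ⧸ powTorsion f N) f := by
  intro x y hxy
  obtain ⟨x, rfl⟩ := Submodule.Quotient.mk_surjective _ x
  obtain ⟨y, rfl⟩ := Submodule.Quotient.mk_surjective _ y
  have h : Submodule.Quotient.mk (p := powTorsion f N) (f • x) =
      Submodule.Quotient.mk (p := powTorsion f N) (f • y) := hxy
  rw [Submodule.Quotient.eq] at h ⊢
  obtain ⟨n, hn⟩ := h
  refine ⟨n + 1, ?_⟩
  rw [pow_succ, mul_smul, smul_sub]
  exact hn

theorem isSMulRegular_ker_linearCombination (hA : f ∈ nonZeroDivisors A) (M : Type*)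
    [AddCommGroup M] [Module A M] :
    IsSMulRegular (LinearMap.ker (Finsupp.linearCombination A (id : M → M))) f := by
  intro x y hxy
  apply Subtype.ext
  have h : f • (x : M →₀ A) = f • (y : M →₀ A) := congrArg Subtype.val hxy
  ext m
  have h2 := DFunLike.congr_fun h m
  simp only [Finsupp.smul_apply, smul_eq_mul] at h2
  exact (mul_cancel_left_mem_nonZeroDivisors hA).mp h2

/-- `K/fK` is flat over `A/f` for the kernel of a free presentation of `M`. -/
theorem flat_ker_baseChange {M F : Type u} [AddCommGroup M] [Module A M]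
    [AddCommGroup F] [Module A F] [Module.Free A F]
    (K : Submodule A F) (π : F →ₗ[A] M) (hπ : Function.Surjective π)
    (hex : Function.Exact K.subtype π)
    [Module.Flat (A ⧸ Ideal.span {f}) ((A ⧸ Ideal.span {f}) ⊗[A] M)]
    (h0 : Function.Injective (K.subtype.lTensor (A ⧸ Ideal.span {f}))) :
    Module.Flat (A ⧸ Ideal.span {f}) ((A ⧸ Ideal.span {f}) ⊗[A] K) :=
  flat_of_exact_of_flat (A := A ⧸ Ideal.span {f})
    (K.subtype.baseChange (A ⧸ Ideal.span {f})) (π.baseChange (A ⧸ Ideal.span {f})) h0
    (lTensor_exact (A ⧸ Ideal.span {f}) hex hπ)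
    (LinearMap.lTensor_surjective (A ⧸ Ideal.span {f}) hπ)

theorem tor_vanish {M F : Type u} [AddCommGroup M] [Module A M]
    [AddCommGroup F] [Module A F] [Module.Free A F]
    (K : Submodule A F) (π : F →ₗ[A] M) (hπ : Function.Surjective π)
    (hex : Function.Exact K.subtype π) (hKreg : IsSMulRegular K f)
    (hM : IsSMulRegular M f)
    [Module.Flat (Localization.Away f) (LocalizedModule (Submonoid.powers f) M)]
    [hflat : Module.Flat (A ⧸ Ideal.span {f}) ((A ⧸ Ideal.span {f}) ⊗[A] M)]
    (N : Type u) [AddCommGroup N] [Module A N] :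
    Function.Injective (K.subtype.lTensor N) := by
  have hinjM := rTensor_span_singleton_injective f hM
  have h0 := Groth.Agent.S6000.torFree_quot (Ideal.span {f}) K π hπ hex hinjM
  have hflatK := flat_ker_baseChange f K π hπ hex h0
  refine Groth.Agent.S6000.ext_closed K N (powTorsion f N) ?_ ?_
  · apply lTensor_injective_of_torsion f K π hπ hex hflat h0 (powTorsion f N)
    rintro ⟨t, n, hn⟩
    exact ⟨n, Subtype.ext hn⟩
  · have hreg := isSMulRegular_quot_powTorsion f N
    rw [LinearMap.lTensor_inj_iff_rTensor_inj, injective_iff_map_eq_zero]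
    intro x hx
    obtain ⟨n, hn⟩ := exists_pow_smul_eq_zero f K π hπ hex (N ⧸ powTorsion f N) x hx
    have hregT := isSMulRegular_tensor f hKreg hflatK (N ⧸ powTorsion f N) hreg
    exact (hregT.pow n) (by change f ^ n • x = f ^ n • 0; rw [hn, smul_zero])

/-- `f` regular on `A` and `M`, `M_f` flat over `A_f`, `M/fM` flat over `A/f`: `M` is flat. -/
theorem flat_of_regular {M : Type u} [AddCommGroup M] [Module A M]
    (hA : f ∈ nonZeroDivisors A) (hM : IsSMulRegular M f)
    [Module.Flat (Localization.Away f) (LocalizedModule (Submonoid.powers f) M)]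
    [Module.Flat (A ⧸ Ideal.span {f}) ((A ⧸ Ideal.span {f}) ⊗[A] M)] : Module.Flat A M := by
  rw [Module.Flat.iff_lTensor_injective']
  intro J
  refine Groth.Agent.S6000.inj_of_torFree J
    (LinearMap.ker (Finsupp.linearCombination A (id : M → M)))
    (Finsupp.linearCombination A (id : M → M))
    (Finsupp.linearCombination_id_surjective A M)
    (LinearMap.exact_subtype_ker_map (Finsupp.linearCombination A (id : M → M))) ?_
  rw [← LinearMap.lTensor_inj_iff_rTensor_inj]
  exact tor_vanish f (LinearMap.ker (Finsupp.linearCombination A (id : M → M)))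
    (Finsupp.linearCombination A (id : M → M))
    (Finsupp.linearCombination_id_surjective A M)
    (LinearMap.exact_subtype_ker_map (Finsupp.linearCombination A (id : M → M)))
    (isSMulRegular_ker_linearCombination f hA M) hM (A ⧸ J)

end main

end Groth.Agent.Lib.Helper6.FlatRegular
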