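import Groth.Agent.Lib.Helper6.LocalFlat2
import Mathlib

set_option autoImplicit false
universe u

namespace Groth.Agent.Lib.Helper6.LocalFlat

open TensorProduct

section ext

variable {R : Type u} [CommRing R] {M N : Type u} [AddCommGroup M] [Module R M]
  [AddCommGroup N] [Module R N] (u : N →ₗ[R] M)

/-- the class of `V` with `V ⊗ u` injective is closed under extensions, `M` flat. -/
theorem lTensor_injective_of_ext [Module.Flat R M] {V : Type*} [AddCommGroup V] [Module R V]
    (V₁ : Submodule R V)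
    (h₁ : Function.Injective (u.lTensor V₁))
    (h₂ : Function.Injective (u.lTensor (V ⧸ V₁))) :
    Function.Injective (u.lTensor V) := by
  rw [injective_iff_map_eq_zero]
  intro x hx
  have h3 : V₁.mkQ.rTensor N x = 0 := by
    apply h₂
    rw [map_zero, ← LinearMap.comp_apply, LinearMap.lTensor_comp_rTensor,
      ← LinearMap.rTensor_comp_lTensor, LinearMap.comp_apply, hx, map_zero]
  obtain ⟨y, rfl⟩ := (rTensor_exact N (LinearMap.exact_subtype_mkQ V₁)
    (Submodule.mkQ_surjective V₁) x).mp h3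
  have h4 : u.lTensor V₁ y = 0 := by
    apply Module.Flat.rTensor_preserves_injective_linearMap (M := M) V₁.subtype
      V₁.injective_subtype
    rw [map_zero, ← LinearMap.comp_apply, LinearMap.rTensor_comp_lTensor,
      ← LinearMap.lTensor_comp_rTensor, LinearMap.comp_apply, hx]
  rw [h₁ (h4.trans (map_zero _).symm), map_zero]

/-- `V` a module over the field `R ⧸ 𝔪`: `V ⊗ u` is injective when `(R ⧸ 𝔪) ⊗ u` is. -/
theorem lTensor_injective_of_field (𝔪 : Ideal R) [𝔪.IsMaximal]
    (h : Function.Injective (LinearMap.lTensor (R ⧸ 𝔪) u))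
    (V : Type*) [AddCommGroup V] [Module R V] [Module (R ⧸ 𝔪) V] [IsScalarTower R (R ⧸ 𝔪) V] :
    Function.Injective (u.lTensor V) := by
  letI : Field (R ⧸ 𝔪) := Ideal.Quotient.field 𝔪
  have hb : Function.Injective (u.baseChange (R ⧸ 𝔪)) := h
  have key : Function.Injective ((u.baseChange (R ⧸ 𝔪)).lTensor V) :=
    Module.Flat.lTensor_preserves_injective_linearMap _ hb
  intro x y hxy
  have hx := Groth.Agent.S6000.cancel_natural 𝔪 u V
    ((AlgebraTensorModule.cancelBaseChange R (R ⧸ 𝔪) (R ⧸ 𝔪) V N).symm x)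
  have hy := Groth.Agent.S6000.cancel_natural 𝔪 u V
    ((AlgebraTensorModule.cancelBaseChange R (R ⧸ 𝔪) (R ⧸ 𝔪) V N).symm y)
  rw [LinearEquiv.apply_symm_apply] at hx hy
  rw [hx, hy] at hxy
  have := key ((AlgebraTensorModule.cancelBaseChange R (R ⧸ 𝔪) (R ⧸ 𝔪) V M).injective hxy)
  exact (AlgebraTensorModule.cancelBaseChange R (R ⧸ 𝔪) (R ⧸ 𝔪) V N).symm.injective this

/-- devissage: `V ⊗ u` injective for every `V` killed by a power of `𝔪`. -/
theorem lTensor_injective_of_pow_torsion [Module.Flat R M] (𝔪 : Ideal R) [𝔪.IsMaximal]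
    (h : Function.Injective (LinearMap.lTensor (R ⧸ 𝔪) u)) :
    ∀ k : ℕ, ∀ (V : Type u) [AddCommGroup V] [Module R V],
      (∀ a ∈ 𝔪 ^ k, ∀ x : V, a • x = 0) → Function.Injective (u.lTensor V) := by
  intro k
  induction k with
  | zero =>
    intro V _ _ hV
    have : Subsingleton V := ⟨fun x y => by
      rw [← one_smul R x, ← one_smul R y, hV 1 (by simp), hV 1 (by simp)]⟩
    exact Function.injective_of_subsingleton _
  | succ k ih =>
    intro V _ _ hV
    refine lTensor_injective_of_ext u (𝔪 • ⊤ : Submodule R V) ?_ ?_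
    · apply ih
      rintro a ha ⟨x, hx⟩
      ext
      simp only [Submodule.coe_smul, Submodule.coe_zero]
      refine Submodule.smul_induction_on hx ?_ ?_
      · intro r hr n _
        rw [← mul_smul]
        exact hV _ (by rw [pow_succ]; exact Ideal.mul_mem_mul ha hr) _
      · intro x y hx hy
        rw [smul_add, hx, hy, add_zero]
    · have htors : Module.IsTorsionBySet R (V ⧸ (𝔪 • ⊤ : Submodule R V)) 𝔪 := by
        intro x a
        obtain ⟨v, rfl⟩ := Submodule.Quotient.mk_surjective _ x
        rw [← Submodule.Quotient.mk_smul]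
        exact (Submodule.Quotient.mk_eq_zero _).mpr (Submodule.smul_mem_smul a.2 trivial)
      letI := htors.module
      exact lTensor_injective_of_field u 𝔪 h (V ⧸ (𝔪 • ⊤ : Submodule R V))

end ext

section main

variable {R : Type u} (S : Type u) {M N : Type u} [CommRing R] [CommRing S] [IsLocalRing R]
  [IsLocalRing S]
  [IsNoetherianRing S] [Algebra R S] [IsLocalHom (algebraMap R S)]
  [AddCommGroup M] [Module R M]
  [AddCommGroup N] [Module R N] [Module S N] [IsScalarTower R S N] [Module.Finite S N]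

include S

/-- Krull intersection on `N / 𝔞 N`: `⋂ (𝔞 N + 𝔪^n N) = 𝔞 N`. -/
theorem mem_smul_top_of_forall_mem_sup (𝔞 : Ideal R) (x : N)
    (hx : ∀ n : ℕ, x ∈ (𝔞 • ⊤ ⊔ (IsLocalRing.maximalIdeal R) ^ n • ⊤ : Submodule R N)) :
    x ∈ (𝔞 • ⊤ : Submodule R N) := by
  have hP : ∀ y ∈ ((𝔞.map (algebraMap R S)) • ⊤ : Submodule S N),
      y ∈ (𝔞 • ⊤ : Submodule R N) := by
    intro y hy
    refine Submodule.smul_induction_on hy ?_ ?_
    · intro s hs y _
      have key : ∀ (s : S), s ∈ 𝔞.map (algebraMap R S) →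
          ∀ y : N, s • y ∈ (𝔞 • ⊤ : Submodule R N) := by
        intro s hs
        induction hs using Submodule.span_induction with
        | mem s hs =>
          obtain ⟨a, ha, rfl⟩ := hs
          intro y
          rw [algebraMap_smul]
          exact Submodule.smul_mem_smul ha trivial
        | zero => intro y; rw [zero_smul]; exact zero_mem _
        | add s t _ _ hs ht => intro y; rw [add_smul]; exact add_mem (hs y) (ht y)
        | smul t s _ hs =>
          intro y
          rw [smul_eq_mul, mul_comm, mul_smul]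
          exact hs (t • y)
      exact key s hs y
    · intro y z hy hz
      exact add_mem hy hz
  set P : Submodule S N := (𝔞.map (algebraMap R S)) • ⊤ with hPdef
  have hmem : P.mkQ x ∈ (⨅ n : ℕ,
      ((IsLocalRing.maximalIdeal R).map (algebraMap R S)) ^ n • ⊤ : Submodule S (N ⧸ P)) := by
    rw [Submodule.mem_iInf]
    intro n
    obtain ⟨a, ha, b, hb, rfl⟩ := Submodule.mem_sup.mp (hx n)
    have ha' : a ∈ P := by
      have := smul_top_le_map_smul_top (S := S) 𝔞 1 a (by rwa [pow_one])
      rwa [pow_one] at this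
    have hb' := smul_top_le_map_smul_top (S := S) (IsLocalRing.maximalIdeal R) n b hb
    have hza : P.mkQ a = 0 := (Submodule.Quotient.mk_eq_zero P).mpr ha'
    rw [map_add, hza, zero_add]
    have hle : (((IsLocalRing.maximalIdeal R).map (algebraMap R S)) ^ n •
        (⊤ : Submodule S N)).map P.mkQ ≤
        (((IsLocalRing.maximalIdeal R).map (algebraMap R S)) ^ n • ⊤ : Submodule S (N ⧸ P)) := by
      rw [Submodule.map_smul'']
      exact Submodule.smul_mono le_rfl le_top
    exact hle ⟨b, hb', rfl⟩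
  rw [Ideal.iInf_pow_smul_eq_bot_of_le_jacobson _
    ((map_maximalIdeal_le (R := R) (S := S)).trans (IsLocalRing.maximalIdeal_le_jacobson ⊥))] at hmem
  have hxP : x ∈ P := (Submodule.Quotient.mk_eq_zero P).mp ((Submodule.mem_bot S).mp hmem)
  exact hP x hxP

variable [Module.Flat R M] (u : N →ₗ[R] M)

theorem mem_smul_top_of_map_mem
    (h : Function.Injective (LinearMap.lTensor (R ⧸ IsLocalRing.maximalIdeal R) u))
    (𝔞 : Ideal R) (x : N) (hx : u x ∈ (𝔞 • ⊤ : Submodule R M)) :
    x ∈ (𝔞 • ⊤ : Submodule R N) := by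
  apply mem_smul_top_of_forall_mem_sup S
  intro n
  have hP := lTensor_injective_of_pow_torsion u (IsLocalRing.maximalIdeal R) h n
    (R ⧸ (𝔞 ⊔ IsLocalRing.maximalIdeal R ^ n)) (by
      intro a ha x
      obtain ⟨r, rfl⟩ := Submodule.Quotient.mk_surjective _ x
      rw [← Submodule.Quotient.mk_smul]
      refine (Submodule.Quotient.mk_eq_zero _).mpr (Submodule.mem_sup_right ?_)
      rw [smul_eq_mul]
      exact Ideal.mul_mem_right _ _ ha)
  have h1 : TensorProduct.mk R (R ⧸ (𝔞 ⊔ IsLocalRing.maximalIdeal R ^ n)) M 1 (u x) = 0 := by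
    rw [← LinearMap.mem_ker, LinearMap.ker_tensorProductMk]
    exact Submodule.smul_mono_left le_sup_left hx
  have h3 : TensorProduct.mk R (R ⧸ (𝔞 ⊔ IsLocalRing.maximalIdeal R ^ n)) N 1 x = 0 := by
    apply hP
    rw [map_zero]
    exact h1
  rw [← LinearMap.mem_ker, LinearMap.ker_tensorProductMk, Submodule.sup_smul] at h3
  exact h3

theorem injective_of_residue
    (h : Function.Injective (LinearMap.lTensor (R ⧸ IsLocalRing.maximalIdeal R) u)) :
    Function.Injective u := by
  rw [injective_iff_map_eq_zero]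
  intro x hx
  have := mem_smul_top_of_map_mem S u h ⊥ x (by rw [hx]; exact zero_mem _)
  rw [Submodule.bot_smul] at this
  exact (Submodule.mem_bot R).mp this

theorem rTensor_quotient_injective
    (h : Function.Injective (LinearMap.lTensor (R ⧸ IsLocalRing.maximalIdeal R) u))
    (𝔞 : Ideal R) : Function.Injective (u.rTensor (R ⧸ 𝔞)) := by
  rw [← LinearMap.lTensor_inj_iff_rTensor_inj, injective_iff_map_eq_zero]
  intro z hz
  obtain ⟨x, rfl⟩ := TensorProduct.mk_surjective R N (R ⧸ 𝔞) Ideal.Quotient.mk_surjective z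
  have h1 : TensorProduct.mk R (R ⧸ 𝔞) M 1 (u x) = 0 := hz
  rw [← LinearMap.mem_ker, LinearMap.ker_tensorProductMk] at h1
  have h2 := mem_smul_top_of_map_mem S u h 𝔞 x h1
  rw [← LinearMap.ker_tensorProductMk, LinearMap.mem_ker] at h2
  exact h2

theorem flat_coker_of_residue
    (h : Function.Injective (LinearMap.lTensor (R ⧸ IsLocalRing.maximalIdeal R) u)) :
    Module.Flat R (M ⧸ LinearMap.range u) := by
  rw [Module.Flat.iff_lTensor_injective']
  intro 𝔞
  exact lTensor_injective_of_exact_of_exact_of_rTensor_injective (R := R)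
    (M₁ := N) (M₂ := M) (M₃ := M ⧸ LinearMap.range u)
    (N₁ := 𝔞) (N₂ := R) (N₃ := R ⧸ 𝔞)
    (f₁ := u) (f₂ := (LinearMap.range u).mkQ) (g₁ := 𝔞.subtype) (g₂ := 𝔞.mkQ)
    (LinearMap.exact_map_mkQ_range u) (Submodule.mkQ_surjective _)
    (LinearMap.exact_subtype_mkQ 𝔞) (Submodule.mkQ_surjective 𝔞)
    (rTensor_quotient_injective S u h 𝔞)
    (Module.Flat.lTensor_preserves_injective_linearMap _ (Submodule.injective_subtype 𝔞))

end main

end Groth.Agent.Lib.Helper6.LocalFlat
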