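import Groth.Agent.S6000
import Mathlib

set_option autoImplicit false
universe u

namespace Groth.Agent.Lib.Helper6.LocalFlat

open TensorProduct

section finite

variable (R S M N : Type*) [CommRing R] [CommRing S] [Algebra R S] [AddCommGroup M] [Module R M]
  [Module S M] [IsScalarTower R S M] [AddCommGroup N] [Module R N]

theorem finite_tensor_of_finite [Module.Finite S M] [Module.Finite R N] :
    Module.Finite S (M ⊗[R] N) := by
  classical
  obtain ⟨n, f, hf⟩ := Module.Finite.exists_fin' R N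
  have h1 : Module.Finite S (M ⊗[R] (Fin n → R)) :=
    Module.Finite.equiv (TensorProduct.piScalarRight R S M (Fin n)).symm
  have hsurj : Function.Surjective (TensorProduct.AlgebraTensorModule.lTensor S M f) := by
    rw [TensorProduct.AlgebraTensorModule.coe_lTensor]
    exact LinearMap.lTensor_surjective M hf
  exact Module.Finite.of_surjective _ hsurj

end finite

section core

variable {R : Type u} [CommRing R]

/-- elements of `𝔞` lying in `I ^ n`, as a submodule of `𝔞`. -/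
def bq (I 𝔞 : Ideal R) (n : ℕ) : Submodule R 𝔞 := Submodule.comap 𝔞.subtype (I ^ n)

/-- the map `𝔞 / (𝔞 ∩ I^n) → R / I^n`. -/
def g1 (I 𝔞 : Ideal R) (n : ℕ) : (𝔞 ⧸ bq I 𝔞 n) →ₗ[R] (R ⧸ I ^ n) :=
  (bq I 𝔞 n).mapQ (I ^ n) 𝔞.subtype le_rfl

theorem g1_injective (I 𝔞 : Ideal R) (n : ℕ) : Function.Injective (g1 I 𝔞 n) := by
  rw [← LinearMap.ker_eq_bot, g1, Submodule.ker_mapQ]
  change Submodule.map (bq I 𝔞 n).mkQ (bq I 𝔞 n) = ⊥
  exact Submodule.mkQ_map_self _

theorem bq_le_smul [IsNoetherianRing R] (I 𝔞 : Ideal R) :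
    ∃ k : ℕ, ∀ n : ℕ, bq I 𝔞 (n + k) ≤ (I ^ n • ⊤ : Submodule R 𝔞) := by
  obtain ⟨k, hk⟩ := Ideal.exists_pow_inf_eq_pow_smul I (𝔞 : Submodule R R)
  refine ⟨k, fun n b hb => ?_⟩
  have hb' : (b : R) ∈ I ^ (n + k) := hb
  have h1 : (b : R) ∈ (I ^ (n + k) • ⊤ ⊓ 𝔞 : Submodule R R) := by
    refine ⟨?_, b.2⟩
    rw [smul_eq_mul, Ideal.mul_top]
    exact hb'
  rw [hk (n + k) (Nat.le_add_left k n), Nat.add_sub_cancel] at h1
  have h2 : (b : R) ∈ (I ^ n • (𝔞 : Submodule R R) : Submodule R R) :=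
    Submodule.smul_mono le_rfl inf_le_right h1
  have h3 : (I ^ n • (⊤ : Submodule R 𝔞)).map 𝔞.subtype = I ^ n • (𝔞 : Submodule R R) := by
    rw [Submodule.map_smul'', Submodule.map_subtype_top]
  rw [← h3] at h2
  obtain ⟨b', hb'1, hb'2⟩ := h2
  have : b' = b := Subtype.ext hb'2
  rw [← this]
  exact hb'1

variable {S M : Type u} [CommRing S] [Algebra R S] [AddCommGroup M] [Module R M] [Module S M]
  [IsScalarTower R S M]

theorem range_lTensor_le_smul (I : Ideal R) {P : Type*} [AddCommGroup P] [Module R P]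
    (B : Submodule R P) (n : ℕ) (hB : B ≤ (I ^ n • ⊤ : Submodule R P)) (y : M ⊗[R] B) :
    LinearMap.lTensor M B.subtype y ∈ (I ^ n • ⊤ : Submodule R (M ⊗[R] P)) := by
  induction y using TensorProduct.induction_on with
  | zero => simp
  | add x y hx hy => rw [map_add]; exact add_mem hx hy
  | tmul m b =>
    rw [LinearMap.lTensor_tmul]
    have h1 : (b : P) ∈ (I ^ n • ⊤ : Submodule R P) := hB b.2
    have h2 : (I ^ n • (⊤ : Submodule R P)).map (TensorProduct.mk R M P m) ≤
        (I ^ n • ⊤ : Submodule R (M ⊗[R] P)) := by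
      rw [Submodule.map_smul'']
      exact Submodule.smul_mono le_rfl le_top
    exact h2 ⟨b, h1, rfl⟩

theorem smul_top_le_map_smul_top (I : Ideal R) (n : ℕ) {P : Type*} [AddCommGroup P] [Module R P]
    [Module S P] [IsScalarTower R S P] (x : P) (hx : x ∈ (I ^ n • ⊤ : Submodule R P)) :
    x ∈ ((I.map (algebraMap R S)) ^ n • ⊤ : Submodule S P) := by
  refine Submodule.smul_induction_on hx ?_ ?_
  · intro r hr z _
    rw [← algebraMap_smul S r z]
    refine Submodule.smul_mem_smul ?_ trivial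
    rw [← Ideal.map_pow]
    exact Ideal.mem_map_of_mem _ hr
  · intro x y hx hy
    exact add_mem hx hy

/-- Core of the local criterion: Artin-Rees plus Krull intersection. -/
theorem flat_of_g1_lTensor_injective [IsNoetherianRing R] [IsNoetherianRing S]
    [Module.Finite S M] (I : Ideal R)
    (hIS : I.map (algebraMap R S) ≤ Ideal.jacobson ⊥)
    (H : ∀ (n : ℕ) (𝔞 : Ideal R), Function.Injective (LinearMap.lTensor M (g1 I 𝔞 n))) :
    Module.Flat R M := by
  rw [Module.Flat.iff_lTensor_injective']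
  intro 𝔞
  rw [injective_iff_map_eq_zero]
  intro x hx
  obtain ⟨k, hk⟩ := bq_le_smul I 𝔞
  have key : ∀ n : ℕ, x ∈ (I ^ n • ⊤ : Submodule R (M ⊗[R] 𝔞)) := by
    intro n
    have h1 : LinearMap.lTensor M (bq I 𝔞 (n + k)).mkQ x = 0 := by
      apply H (n + k) 𝔞
      rw [map_zero, ← LinearMap.comp_apply, ← LinearMap.lTensor_comp, g1, Submodule.mapQ_mkQ,
        LinearMap.lTensor_comp, LinearMap.comp_apply, hx, map_zero]
    obtain ⟨y, rfl⟩ := (lTensor_exact M (LinearMap.exact_subtype_mkQ (bq I 𝔞 (n + k)))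
      (Submodule.mkQ_surjective _) x).mp h1
    exact range_lTensor_le_smul I (bq I 𝔞 (n + k)) n (hk n) y
  have : Module.Finite S (M ⊗[R] 𝔞) := finite_tensor_of_finite R S M 𝔞
  have hmem : x ∈ (⨅ n : ℕ, (I.map (algebraMap R S)) ^ n • ⊤ : Submodule S (M ⊗[R] 𝔞)) := by
    rw [Submodule.mem_iInf]
    intro n
    exact smul_top_le_map_smul_top (S := S) I n x (key n)
  rw [Ideal.iInf_pow_smul_eq_bot_of_le_jacobson _ hIS] at hmem
  exact (Submodule.mem_bot S).mp hmem

end core

section lc3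

variable {R : Type u} [CommRing R]

/-- the map `R / I^n → R / (𝔞 ⊔ I^n)`. -/
def g2 (I 𝔞 : Ideal R) (n : ℕ) : (R ⧸ I ^ n) →ₗ[R] (R ⧸ (𝔞 ⊔ I ^ n)) :=
  (I ^ n).mapQ (𝔞 ⊔ I ^ n) LinearMap.id (fun _ hx => Submodule.mem_sup_right hx)

theorem g2_surjective (I 𝔞 : Ideal R) (n : ℕ) : Function.Surjective (g2 I 𝔞 n) := by
  intro y
  obtain ⟨r, rfl⟩ := Submodule.Quotient.mk_surjective _ y
  exact ⟨Submodule.Quotient.mk r, rfl⟩

theorem g1_g2_exact (I 𝔞 : Ideal R) (n : ℕ) : Function.Exact (g1 I 𝔞 n) (g2 I 𝔞 n) := by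
  intro y
  obtain ⟨r, rfl⟩ := Submodule.Quotient.mk_surjective _ y
  constructor
  · intro h
    have h' : (Submodule.Quotient.mk r : R ⧸ (𝔞 ⊔ I ^ n)) = 0 := h
    have hr : r ∈ 𝔞 ⊔ I ^ n := (Submodule.Quotient.mk_eq_zero _).mp h'
    obtain ⟨a, ha, i, hi, rfl⟩ := Submodule.mem_sup.mp hr
    refine ⟨Submodule.Quotient.mk ⟨a, ha⟩, ?_⟩
    change (Submodule.Quotient.mk a : R ⧸ I ^ n) = Submodule.Quotient.mk (a + i)
    rw [Submodule.Quotient.eq]
    simpa using neg_mem hi
  · rintro ⟨x, hx⟩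
    rw [← hx]
    obtain ⟨a, rfl⟩ := Submodule.Quotient.mk_surjective _ x
    change (Submodule.Quotient.mk (a : R) : R ⧸ (𝔞 ⊔ I ^ n)) = 0
    exact (Submodule.Quotient.mk_eq_zero _).mpr (Submodule.mem_sup_left a.2)

variable {S M : Type u} [CommRing S] [Algebra R S] [AddCommGroup M] [Module R M] [Module S M]
  [IsScalarTower R S M]

theorem g1_lTensor_injective_of_tor (I : Ideal R)
    (hflat : Module.Flat (R ⧸ I) ((R ⧸ I) ⊗[R] M))
    (hinj : Function.Injective (LinearMap.rTensor M (Submodule.subtype I)))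
    (n : ℕ) (𝔞 : Ideal R) : Function.Injective (LinearMap.lTensor M (g1 I 𝔞 n)) := by
  have hπ := Finsupp.linearCombination_id_surjective R M
  have hex : Function.Exact (LinearMap.ker (Finsupp.linearCombination R (id : M → M))).subtype
      (Finsupp.linearCombination R (id : M → M)) := LinearMap.exact_subtype_ker_map _
  have h0 := Groth.Agent.S6000.torFree_quot I _ _ hπ hex hinj
  have hdev := Groth.Agent.S6000.devissage I _ _ hπ hex hflat h0 n (R ⧸ (𝔞 ⊔ I ^ n)) (by
    intro a ha x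
    obtain ⟨r, rfl⟩ := Submodule.Quotient.mk_surjective _ x
    rw [← Submodule.Quotient.mk_smul]
    refine (Submodule.Quotient.mk_eq_zero _).mpr (Submodule.mem_sup_right ?_)
    rw [smul_eq_mul]
    exact Ideal.mul_mem_right _ _ ha)
  refine lTensor_injective_of_exact_of_exact_of_rTensor_injective (R := R)
    (M₁ := LinearMap.ker (Finsupp.linearCombination R (id : M → M))) (M₂ := M →₀ R) (M₃ := M)
    (N₁ := 𝔞 ⧸ bq I 𝔞 n) (N₂ := R ⧸ I ^ n) (N₃ := R ⧸ (𝔞 ⊔ I ^ n))
    (f₁ := (LinearMap.ker (Finsupp.linearCombination R (id : M → M))).subtype)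
    (f₂ := Finsupp.linearCombination R (id : M → M))
    (g₁ := g1 I 𝔞 n) (g₂ := g2 I 𝔞 n) hex hπ (g1_g2_exact I 𝔞 n) (g2_surjective I 𝔞 n) ?_ ?_
  · rw [← LinearMap.lTensor_inj_iff_rTensor_inj]
    exact hdev
  · exact Module.Flat.lTensor_preserves_injective_linearMap _ (g1_injective I 𝔞 n)

/-- **Local criterion of flatness** (ideally separated form): `R`, `S` Noetherian, `M` a finite
`S`-module, `I S` inside the Jacobson radical of `S`. If `M / I M` is flat over `R / I` and
`I ⊗ M → M` is injective then `M` is flat over `R`. -/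
theorem flat_of_flat_quotient_of_rTensor_injective [IsNoetherianRing R] [IsNoetherianRing S]
    [Module.Finite S M] (I : Ideal R)
    (hIS : I.map (algebraMap R S) ≤ Ideal.jacobson ⊥)
    (hinj : Function.Injective (LinearMap.rTensor M (Submodule.subtype I)))
    (hflat : Module.Flat (R ⧸ I) ((R ⧸ I) ⊗[R] M)) : Module.Flat R M :=
  flat_of_g1_lTensor_injective I hIS (g1_lTensor_injective_of_tor I hflat hinj)

/-- local version: `R → S` local homomorphism of Noetherian local rings, `I` a proper ideal. -/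
theorem flat_of_isLocalHom [IsNoetherianRing R] [IsNoetherianRing S] [IsLocalRing R]
    [IsLocalRing S] [IsLocalHom (algebraMap R S)]
    [Module.Finite S M] (I : Ideal R) (hI : I ≠ ⊤)
    (hinj : Function.Injective (LinearMap.rTensor M (Submodule.subtype I)))
    (hflat : Module.Flat (R ⧸ I) ((R ⧸ I) ⊗[R] M)) : Module.Flat R M := by
  refine flat_of_flat_quotient_of_rTensor_injective (S := S) I ?_ hinj hflat
  refine le_trans ?_ (IsLocalRing.maximalIdeal_le_jacobson ⊥)
  have h1 : I ≤ IsLocalRing.maximalIdeal R := IsLocalRing.le_maximalIdeal hI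
  refine (Ideal.map_mono h1).trans ?_
  rw [Ideal.map_le_iff_le_comap]
  intro x hx
  rw [Ideal.mem_comap, IsLocalRing.mem_maximalIdeal, mem_nonunits_iff] at *
  exact fun h => hx (isUnit_of_map_unit (algebraMap R S) x h)

end lc3

end Groth.Agent.Lib.Helper6.LocalFlat
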