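import Mathlib

set_option autoImplicit false
universe u v
open TensorProduct Module

namespace Groth.Agent.Lib.Helper6.WeilAlg

variable {R : Type u} [CommRing R] {C : Type u} [CommRing C] [Algebra R C]
variable {ι : Type v} [Fintype ι] (b : Basis ι R C)

omit [Fintype ι] in
/-- coordinates commute with base change of the scalars. -/
theorem repr_map {P A : Type*} [CommRing P] [Algebra R P] [CommRing A] [Algebra R A]
    (φ : P →ₐ[R] A) (z : P ⊗[R] C) (i : ι) :
    (Algebra.TensorProduct.basis A b).repr (Algebra.TensorProduct.map φ (AlgHom.id R C) z) i =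
      φ ((Algebra.TensorProduct.basis P b).repr z i) := by
  induction z using TensorProduct.induction_on with
  | zero => simp
  | tmul p c => simp [Algebra.TensorProduct.basis_repr_tmul]
  | add x y hx hy => simp [hx, hy]

theorem sum_repr_tmul {A : Type*} [CommRing A] [Algebra R A] (z : A ⊗[R] C) :
    ∑ i, (Algebra.TensorProduct.basis A b).repr z i ⊗ₜ[R] b i = z := by
  conv_rhs => rw [← (Algebra.TensorProduct.basis A b).sum_repr z]
  refine Finset.sum_congr rfl fun i _ => ?_
  rw [Algebra.TensorProduct.basis_repr_symm_apply']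

theorem repr_sum_tmul {A : Type*} [CommRing A] [Algebra R A] (a : ι → A) (i : ι) :
    (Algebra.TensorProduct.basis A b).repr (∑ k, a k ⊗ₜ[R] b k) i = a i := by
  classical
  have : ∑ k, a k ⊗ₜ[R] b k = ∑ k, a k • (Algebra.TensorProduct.basis A b) k := by
    refine Finset.sum_congr rfl fun k _ => ?_
    rw [Algebra.TensorProduct.basis_repr_symm_apply']
  rw [this, Basis.repr_sum_self]

variable (B : Type u) [CommRing B] [Algebra R B]

/-- The polynomial ring on the coordinates of the images of the elements of `B`. -/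
abbrev Poly (R : Type u) [CommRing R] (B : Type u) (ι : Type v) : Type (max u v) :=
  MvPolynomial (B × ι) R

/-- the generic map `R[B] → Poly ⊗ C`, `x_j ↦ Σ_i x_{j,i} ⊗ e_i`. -/
noncomputable def gen : MvPolynomial B R →ₐ[R] (Poly R B ι) ⊗[R] C :=
  MvPolynomial.aeval fun j => ∑ i, (MvPolynomial.X (j, i) : Poly R B ι) ⊗ₜ[R] b i

/-- the canonical presentation `R[B] → B`. -/
noncomputable def pres : MvPolynomial B R →ₐ[R] B := MvPolynomial.aeval id

theorem pres_surjective : Function.Surjective (pres (R := R) B) := fun x =>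
  ⟨MvPolynomial.X x, by simp [pres]⟩

/-- the ideal of relations. -/
noncomputable def relIdeal : Ideal (Poly R B ι) :=
  Ideal.span {p | ∃ f ∈ RingHom.ker (pres (R := R) B), ∃ i,
    p = (Algebra.TensorProduct.basis (Poly R B ι) b).repr (gen b B f) i}

/-- The Weil restriction algebra: represents `A ↦ Hom_R(B, A ⊗_R C)`. -/
abbrev WAlg : Type (max u v) := Poly R B ι ⧸ relIdeal b B

noncomputable def q : Poly R B ι →ₐ[R] WAlg b B := Ideal.Quotient.mkₐ R (relIdeal b B)

theorem q_surjective : Function.Surjective (q b B) := Ideal.Quotient.mkₐ_surjective R _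

theorem map_q_gen_eq_zero (f : MvPolynomial B R) (hf : f ∈ RingHom.ker (pres (R := R) B)) :
    Algebra.TensorProduct.map (q b B) (AlgHom.id R C) (gen b B f) = 0 := by
  apply (Algebra.TensorProduct.basis (WAlg b B) b).repr.injective
  ext i
  rw [repr_map, map_zero, Finsupp.zero_apply]
  exact (Ideal.Quotient.eq_zero_iff_mem).mpr (Ideal.subset_span ⟨f, hf, i, rfl⟩)

/-- the co-evaluation `B → WAlg ⊗ C`. -/
noncomputable def coev : B →ₐ[R] (WAlg b B) ⊗[R] C :=
  (Ideal.Quotient.liftₐ (RingHom.ker (pres (R := R) B))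
    ((Algebra.TensorProduct.map (q b B) (AlgHom.id R C)).comp (gen b B))
    (fun f hf => map_q_gen_eq_zero b B f hf)).comp
    (Ideal.quotientKerAlgEquivOfSurjective (pres_surjective (R := R) B)).symm.toAlgHom

theorem coev_pres (f : MvPolynomial B R) :
    coev b B (pres B f) = Algebra.TensorProduct.map (q b B) (AlgHom.id R C) (gen b B f) := by
  unfold coev
  have : (Ideal.quotientKerAlgEquivOfSurjective (pres_surjective (R := R) B)).symm (pres B f) =
      Ideal.Quotient.mk _ f := by
    rw [AlgEquiv.symm_apply_eq]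
    rfl
  rw [AlgHom.comp_apply]
  erw [this]
  rfl

theorem coev_apply (x : B) :
    coev b B x = ∑ i, q b B (MvPolynomial.X (x, i)) ⊗ₜ[R] b i := by
  have := coev_pres b B (MvPolynomial.X x)
  simp only [pres, MvPolynomial.aeval_X, id] at this
  rw [this, gen, MvPolynomial.aeval_X, map_sum]
  simp

section UP

variable {A : Type*} [CommRing A] [Algebra R A]

/-- the map on polynomial rings attached to `ψ`. -/
noncomputable def lift₀ (ψ : B →ₐ[R] A ⊗[R] C) : Poly R B ι →ₐ[R] A :=
  MvPolynomial.aeval fun ji => (Algebra.TensorProduct.basis A b).repr (ψ ji.1) ji.2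

theorem map_lift₀_gen (ψ : B →ₐ[R] A ⊗[R] C) :
    (Algebra.TensorProduct.map (lift₀ b B ψ) (AlgHom.id R C)).comp (gen b B) = ψ.comp (pres B) := by
  apply MvPolynomial.algHom_ext
  intro j
  simp only [AlgHom.comp_apply, gen, pres, MvPolynomial.aeval_X, id, map_sum,
    Algebra.TensorProduct.map_tmul, AlgHom.id_apply, lift₀]
  exact sum_repr_tmul b (ψ j)

theorem relIdeal_le_ker (ψ : B →ₐ[R] A ⊗[R] C) :
    ∀ p ∈ relIdeal b B, lift₀ b B ψ p = 0 := by
  intro p hp
  have : relIdeal b B ≤ RingHom.ker (lift₀ b B ψ) := by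
    refine Ideal.span_le.mpr ?_
    rintro _ ⟨f, hf, i, rfl⟩
    rw [SetLike.mem_coe, RingHom.mem_ker, ← repr_map]
    have h := congrArg (fun F => F f) (map_lift₀_gen b B ψ)
    simp only [AlgHom.comp_apply] at h
    rw [h, (RingHom.mem_ker).mp hf, map_zero, map_zero, Finsupp.zero_apply]
  exact this hp

/-- the lift of `ψ : B → A ⊗ C` to `WAlg → A`. -/
noncomputable def lift (ψ : B →ₐ[R] A ⊗[R] C) : WAlg b B →ₐ[R] A :=
  Ideal.Quotient.liftₐ (relIdeal b B) (lift₀ b B ψ) (relIdeal_le_ker b B ψ)

theorem lift_q (ψ : B →ₐ[R] A ⊗[R] C) (p : Poly R B ι) :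
    lift b B ψ (q b B p) = lift₀ b B ψ p := rfl

theorem map_lift_coev (ψ : B →ₐ[R] A ⊗[R] C) :
    (Algebra.TensorProduct.map (lift b B ψ) (AlgHom.id R C)).comp (coev b B) = ψ := by
  apply AlgHom.ext
  intro x
  obtain ⟨f, rfl⟩ := pres_surjective (R := R) B x
  rw [AlgHom.comp_apply, coev_pres]
  have h := congrArg (fun F => F f) (map_lift₀_gen b B ψ)
  simp only [AlgHom.comp_apply] at h
  rw [← h]
  have e : (Algebra.TensorProduct.map (lift b B ψ) (AlgHom.id R C)).comp
      (Algebra.TensorProduct.map (q b B) (AlgHom.id R C)) =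
      Algebra.TensorProduct.map (lift₀ b B ψ) (AlgHom.id R C) := by
    apply Algebra.TensorProduct.ext'
    intro a c
    simp [lift_q]
  exact congrArg (fun F => F (gen b B f)) e

theorem lift_unique (φ φ' : WAlg b B →ₐ[R] A)
    (h : (Algebra.TensorProduct.map φ (AlgHom.id R C)).comp (coev b B) =
      (Algebra.TensorProduct.map φ' (AlgHom.id R C)).comp (coev b B)) : φ = φ' := by
  have key : ∀ (χ : WAlg b B →ₐ[R] A) (x : B) (i : ι),
      χ (q b B (MvPolynomial.X (x, i))) =
        (Algebra.TensorProduct.basis A b).repr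
          ((Algebra.TensorProduct.map χ (AlgHom.id R C)) (coev b B x)) i := by
    intro χ x i
    rw [coev_apply, map_sum]
    simp only [Algebra.TensorProduct.map_tmul, AlgHom.id_apply]
    rw [repr_sum_tmul]
  have hq : φ.comp (q b B) = φ'.comp (q b B) := by
    apply MvPolynomial.algHom_ext
    rintro ⟨x, i⟩
    simp only [AlgHom.comp_apply]
    rw [key φ x i, key φ' x i]
    have := congrArg (fun F => F x) h
    simp only [AlgHom.comp_apply] at this
    rw [this]
  apply AlgHom.ext
  intro y
  obtain ⟨p, rfl⟩ := q_surjective b B y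
  exact congrArg (fun F => F p) hq

/-- The universal property of the Weil restriction algebra. -/
theorem bijective_map_coev :
    Function.Bijective (fun φ : WAlg b B →ₐ[R] A =>
      (Algebra.TensorProduct.map φ (AlgHom.id R C)).comp (coev b B)) :=
  ⟨fun φ φ' h => lift_unique b B φ φ' h, fun ψ => ⟨lift b B ψ, map_lift_coev b B ψ⟩⟩

end UP

end Groth.Agent.Lib.Helper6.WeilAlg

namespace Groth.Agent.Lib.Helper6.WeilAlg

variable {R : Type u} [CommRing R] {C : Type u} [CommRing C] [Algebra R C]
variable {ι : Type v} [Fintype ι] (b : Basis ι R C)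
variable (B : Type u) [CommRing B] [Algebra R B]
variable {A G : Type*} [CommRing A] [Algebra R A] [CommRing G] [Algebra R G]

/-- the map `Θ(φ) = (fst ⊗ snd) ∘ (φ ⊗ id) ∘ coev`. -/
noncomputable def Theta (fstA : A →ₐ[R] G) (sndA : C →ₐ[R] G) (φ : WAlg b B →ₐ[R] A) :
    B →ₐ[R] G :=
  ((Algebra.TensorProduct.productMap fstA sndA).comp
    (Algebra.TensorProduct.map φ (AlgHom.id R C))).comp (coev b B)

theorem Theta_apply (fstA : A →ₐ[R] G) (sndA : C →ₐ[R] G) (φ : WAlg b B →ₐ[R] A) (x : B) :
    Theta b B fstA sndA φ x = ∑ i, fstA (φ (q b B (MvPolynomial.X (x, i)))) * sndA (b i) := by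
  unfold Theta
  simp only [AlgHom.comp_apply, coev_apply, map_sum, Algebra.TensorProduct.map_tmul,
    AlgHom.id_apply, Algebra.TensorProduct.productMap_apply_tmul]

theorem productMap_bijective (fstA : A →ₐ[R] G) (sndA : C →ₐ[R] G)
    (hbij : Function.Bijective (fun a : ι → A => ∑ i, fstA (a i) * sndA (b i))) :
    Function.Bijective (Algebra.TensorProduct.productMap fstA sndA) := by
  classical
  have h1 : Function.Bijective (fun a : ι → A => ∑ i, a i ⊗ₜ[R] b i) := by
    have h : (fun a : ι → A => ∑ i, a i ⊗ₜ[R] b i) =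
        (Algebra.TensorProduct.basis A b).equivFun.symm := by
      funext a
      rw [Basis.equivFun_symm_apply]
      refine Finset.sum_congr rfl fun i _ => ?_
      rw [Algebra.TensorProduct.basis_repr_symm_apply']
    rw [h]
    exact (Algebra.TensorProduct.basis A b).equivFun.symm.bijective
  have h2 : (fun a : ι → A => ∑ i, fstA (a i) * sndA (b i)) =
      (Algebra.TensorProduct.productMap fstA sndA) ∘ (fun a : ι → A => ∑ i, a i ⊗ₜ[R] b i) := by
    funext a
    simp only [Function.comp_apply, map_sum, Algebra.TensorProduct.productMap_apply_tmul]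
  rw [h2] at hbij
  exact (Function.Bijective.of_comp_iff _ h1).mp hbij

theorem Theta_bijective (fstA : A →ₐ[R] G) (sndA : C →ₐ[R] G)
    (hbij : Function.Bijective (fun a : ι → A => ∑ i, fstA (a i) * sndA (b i))) :
    Function.Bijective (Theta b B fstA sndA) := by
  have hp := productMap_bijective b fstA sndA hbij
  have hc := bijective_map_coev b B (A := A)
  constructor
  · intro φ φ' h
    apply hc.1
    apply AlgHom.ext
    intro x
    apply hp.1
    exact congrArg (fun F => F x) h
  · intro ψ
    let e := AlgEquiv.ofBijective _ hp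
    obtain ⟨φ, hφ⟩ := hc.2 (e.symm.toAlgHom.comp ψ)
    refine ⟨φ, ?_⟩
    apply AlgHom.ext
    intro x
    have := congrArg (fun F => F x) hφ
    simp only [AlgHom.comp_apply] at this
    unfold Theta
    simp only [AlgHom.comp_apply]
    rw [this]
    exact e.apply_symm_apply (ψ x)

end Groth.Agent.Lib.Helper6.WeilAlg
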