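import Groth.Agent.Lib.Helper6.DeformWrap
import Groth.Prelude.Def_MoreMor
import Mathlib

set_option autoImplicit false
universe u

namespace Groth.Agent.Lib.Helper6.ThickAffine

open AlgebraicGeometry CategoryTheory Limits TensorProduct

/-- ring-level: a pushout square in `CommRingCat` along a surjection gives kernel data. -/
theorem ker_data_of_isPushout {R R₀ C C₀ : CommRingCat.{u}} {a : R ⟶ C} {p : R ⟶ R₀}
    {q : C ⟶ C₀} {a₀ : R₀ ⟶ C₀} (h : IsPushout a p q a₀) (hp : Function.Surjective p.hom) :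
    Function.Surjective q.hom ∧ RingHom.ker q.hom = (RingHom.ker p.hom).map a.hom := by
  algebraize [a.hom, p.hom, q.hom, a₀.hom, (a ≫ q).hom]
  have t1 : IsScalarTower R C C₀ := IsScalarTower.of_algebraMap_eq' rfl
  have t2 : IsScalarTower R R₀ C₀ := IsScalarTower.of_algebraMap_eq' (by
    change (a ≫ q).hom = (p ≫ a₀).hom
    rw [h.w])
  have hP : Algebra.IsPushout R R₀ C C₀ := by
    rw [← CommRingCat.isPushout_iff_isPushout]
    exact h.flip
  exact ⟨Deform.surjective_of_isPushout hp, Deform.ker_eq_of_isPushout hp⟩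

/-- the affine-local pushout square attached to the base change of an affine morphism. -/
theorem isPushout_appLE {X X' S S' : Scheme.{u}} {iX : X ⟶ X'} {iS : S ⟶ S'} {f : X ⟶ S}
    {f' : X' ⟶ S'} (hc : IsPullback iX f f' iS) {W' : S'.Opens} (hW' : IsAffineOpen W')
    [IsAffineHom iS]
    {U' : X'.Opens} (hU' : IsAffineOpen U') (e : U' ≤ f' ⁻¹ᵁ W')
    (e₀ : iX ⁻¹ᵁ U' ≤ f ⁻¹ᵁ (iS ⁻¹ᵁ W')) :
    IsPushout (f'.appLE W' U' e) (iS.app W') (iX.app U')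
      (f.appLE (iS ⁻¹ᵁ W') (iX ⁻¹ᵁ U') e₀) := by
  have hUY : iX ⁻¹ᵁ U' = iX ⁻¹ᵁ U' ⊓ f ⁻¹ᵁ (iS ⁻¹ᵁ W') := (inf_eq_left.mpr e₀).symm
  have := isIso_pushoutSection_of_isAffineOpen hc (le_refl (iS ⁻¹ᵁ W')) e hUY hW'
    (hW'.preimage iS) hU'
  have h2 := (isIso_pushoutSection_iff hc (le_refl (iS ⁻¹ᵁ W')) e hUY).mp this
  simpa [Scheme.Hom.appLE_eq_app] using h2

theorem preimage_le {X X' S S' : Scheme.{u}} {iX : X ⟶ X'} {iS : S ⟶ S'} {f : X ⟶ S}
    {f' : X' ⟶ S'} (w : iX ≫ f' = f ≫ iS) {W' : S'.Opens} {U' : X'.Opens}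
    (e : U' ≤ f' ⁻¹ᵁ W') : iX ⁻¹ᵁ U' ≤ f ⁻¹ᵁ (iS ⁻¹ᵁ W') := by
  intro x hx
  have h1 : f' (iX x) ∈ W' := e hx
  have h2 : iS (f x) = f' (iX x) := by
    rw [← Scheme.Hom.comp_apply, ← Scheme.Hom.comp_apply, w]
  change iS (f x) ∈ W'
  rw [h2]
  exact h1

/-- affine-local kernel data for the base change of a closed immersion. -/
theorem ring_data {X X' S S' : Scheme.{u}} {iX : X ⟶ X'} {iS : S ⟶ S'} {f : X ⟶ S}
    {f' : X' ⟶ S'} (hc : IsPullback iX f f' iS) [IsClosedImmersion iS]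
    {W' : S'.Opens} (hW' : IsAffineOpen W') {U' : X'.Opens} (hU' : IsAffineOpen U')
    (e : U' ≤ f' ⁻¹ᵁ W') :
    Function.Surjective (iX.app U').hom ∧
      RingHom.ker (iX.app U').hom =
        (RingHom.ker (iS.app W').hom).map (f'.appLE W' U' e).hom :=
  ker_data_of_isPushout (isPushout_appLE hc hW' hU' e (preimage_le hc.w e))
    (iS.app_surjective W' hW')

theorem isNilpotent_ker_app {S S' : Scheme.{u}} (iS : S ⟶ S') [QuasiCompact iS]
    (h : IsNilpotent iS.ker) {W' : S'.Opens} (hW' : IsAffineOpen W') :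
    IsNilpotent (RingHom.ker (iS.app W').hom) := by
  obtain ⟨n, hn⟩ := h
  refine ⟨n, ?_⟩
  rw [← Scheme.Hom.ker_apply iS ⟨W', hW'⟩]
  have := congrArg (fun I : S'.IdealSheafData => I.ideal ⟨W', hW'⟩) hn
  simpa using this

/-- transfer of an affine-local property along a finite order thickening of the base. -/
theorem transfer {P : MorphismProperty Scheme.{u}}
    {Q : ∀ {A A' : Type u} [CommRing A] [CommRing A'], (A →+* A') → Prop}
    [HasRingHomProperty P Q] (hQs : RingHom.StableUnderCompositionWithLocalizationAwaySource Q)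
    (hw : ∀ {R R₀ B B₀ C C₀ : Type u} [CommRing R] [CommRing R₀] [CommRing B] [CommRing B₀]
      [CommRing C] [CommRing C₀] (φ : R →+* B) (ψ : B →+* C) (πR : R →+* R₀) (πB : B →+* B₀)
      (πC : C →+* C₀) (ψ₀ : B₀ →+* C₀), Function.Surjective πB → Function.Surjective πC →
      RingHom.ker πB = (RingHom.ker πR).map φ →
      RingHom.ker πC = (RingHom.ker πR).map (ψ.comp φ) →
      ψ₀.comp πB = πC.comp ψ → IsNilpotent (RingHom.ker πR) → (ψ.comp φ).Flat → Q ψ₀ → Q ψ)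
    {X X' Y Y' S S' : Scheme.{u}} (iX : X ⟶ X') (iY : Y ⟶ Y') (iS : S ⟶ S')
    (f : X ⟶ Y) (f' : X' ⟶ Y') (g : Y ⟶ S) (g' : Y' ⟶ S')
    (hS : MoreMor.IsFiniteOrderThickening iS) (hcX : IsPullback iX (f ≫ g) (f' ≫ g') iS)
    (hcY : IsPullback iY g g' iS) (w : iX ≫ f' = f ≫ iY) [Flat (f' ≫ g')] (hf : P f) : P f' := by
  have : IsClosedImmersion iS := hS.1.1
  have hiY : IsClosedImmersion iY := MorphismProperty.of_isPullback hcY.flip ‹_›
  have hiX : IsClosedImmersion iX := MorphismProperty.of_isPullback hcX.flip ‹_›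
  rw [HasRingHomProperty.iff_exists_appLE (P := P) hQs]
  intro x'
  obtain ⟨W', hW', hxW', -⟩ := TopologicalSpace.Opens.isBasis_iff_nbhd.mp S'.isBasis_affineOpens
    (TopologicalSpace.Opens.mem_top (g' (f' x')))
  obtain ⟨V', hV', hxV', eV⟩ := TopologicalSpace.Opens.isBasis_iff_nbhd.mp Y'.isBasis_affineOpens
    (show f' x' ∈ g' ⁻¹ᵁ W' from hxW')
  obtain ⟨U', hU', hxU', eU⟩ := TopologicalSpace.Opens.isBasis_iff_nbhd.mp X'.isBasis_affineOpens
    (show x' ∈ f' ⁻¹ᵁ V' from hxV')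
  refine ⟨⟨V', hV'⟩, ⟨U', hU'⟩, hxU', eU, ?_⟩
  have eUW : U' ≤ (f' ≫ g') ⁻¹ᵁ W' := fun x hx => eV (eU hx)
  obtain ⟨hsY, hkY⟩ := ring_data hcY hW' hV' eV
  obtain ⟨hsX, hkX⟩ := ring_data hcX hW' hU' eUW
  have e₀ : iX ⁻¹ᵁ U' ≤ f ⁻¹ᵁ (iY ⁻¹ᵁ V') := preimage_le w eU
  have hcomp : ((f' ≫ g').appLE W' U' eUW).hom =
      (f'.appLE V' U' eU).hom.comp (g'.appLE W' V' eV).hom := by
    rw [← CommRingCat.hom_comp, Scheme.Hom.appLE_comp_appLE]
  have hcomm : (f.appLE (iY ⁻¹ᵁ V') (iX ⁻¹ᵁ U') e₀).hom.comp (iY.app V').hom =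
      (iX.app U').hom.comp (f'.appLE V' U' eU).hom := by
    rw [← CommRingCat.hom_comp, ← CommRingCat.hom_comp]
    congr 1
    rw [Scheme.Hom.app_eq_appLE, Scheme.Hom.app_eq_appLE, Scheme.Hom.appLE_comp_appLE,
      Scheme.Hom.appLE_comp_appLE]
    simp only [w]
  have hflat : ((f'.appLE V' U' eU).hom.comp (g'.appLE W' V' eV).hom).Flat := by
    rw [← hcomp]
    exact HasRingHomProperty.appLE (P := @Flat) _ inferInstance ⟨W', hW'⟩ ⟨U', hU'⟩ eUW
  have hQ₀ : Q (f.appLE (iY ⁻¹ᵁ V') (iX ⁻¹ᵁ U') e₀).hom :=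
    HasRingHomProperty.appLE (P := P) _ hf ⟨_, hV'.preimage iY⟩ ⟨_, hU'.preimage iX⟩ e₀
  exact hw (g'.appLE W' V' eV).hom (f'.appLE V' U' eU).hom (iS.app W').hom (iY.app V').hom
    (iX.app U').hom _ hsY hsX hkY (by rw [hkX, hcomp]) hcomm
    (isNilpotent_ker_app iS hS.2 hW') hflat hQ₀

/-- in the two-level deformation situation, `f` is the base change of `f'` along `iY`. -/
theorem isPullback_left {X X' Y Y' S S' : Scheme.{u}} {iX : X ⟶ X'} {iY : Y ⟶ Y'} {iS : S ⟶ S'}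
    {f : X ⟶ Y} {f' : X' ⟶ Y'} {g : Y ⟶ S} {g' : Y' ⟶ S'}
    (hcX : IsPullback iX (f ≫ g) (f' ≫ g') iS) (hcY : IsPullback iY g g' iS)
    (w : iX ≫ f' = f ≫ iY) : IsPullback iX f f' iY :=
  (IsPullback.of_right hcX.flip w.symm hcY.flip).flip

/-- descent direction: base change. -/
theorem descend {P : MorphismProperty Scheme.{u}} [P.IsStableUnderBaseChange]
    {X X' Y Y' S S' : Scheme.{u}} {iX : X ⟶ X'} {iY : Y ⟶ Y'} {iS : S ⟶ S'}
    {f : X ⟶ Y} {f' : X' ⟶ Y'} {g : Y ⟶ S} {g' : Y' ⟶ S'}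
    (hcX : IsPullback iX (f ≫ g) (f' ≫ g') iS) (hcY : IsPullback iY g g' iS)
    (w : iX ≫ f' = f ≫ iY) (hf' : P f') : P f :=
  MorphismProperty.of_isPullback (isPullback_left hcX hcY w) hf'

end Groth.Agent.Lib.Helper6.ThickAffine
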