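import Groth.Prelude.Def_MoreMor
import Mathlib

set_option autoImplicit false
universe u

namespace Groth.Agent.Lib.Helper6.Thick

open AlgebraicGeometry CategoryTheory Limits MorphismProperty

variable {X X' S S' Y Z : Scheme.{u}}

theorem isHomeomorph {i : X ⟶ X'} (h : MoreMor.IsThickening i) : IsHomeomorph i.base := by
  obtain ⟨h1, h2⟩ := h
  rw [isHomeomorph_iff_isEmbedding_surjective]
  exact ⟨i.isClosedEmbedding.isEmbedding, h2.surj⟩

/-- base change along a monomorphism: `f` is a base change of `f ≫ g`. -/
theorem isPullback_of_mono (f : X ⟶ Y) (g : Y ⟶ Z) [Mono g] :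
    IsPullback (𝟙 X) f (f ≫ g) g := by
  have h1 : IsPullback (𝟙 X) f f (𝟙 Y) := IsPullback.of_horiz_isIso ⟨by simp⟩
  have h2 : IsPullback (𝟙 Y) (𝟙 Y) g g := IsKernelPair.id_of_mono g
  have := h1.paste_vert h2
  simpa using this

theorem of_comp_mono (P : MorphismProperty Scheme.{u}) [P.IsStableUnderBaseChange]
    (f : X ⟶ Y) (g : Y ⟶ Z) [Mono g] (h : P (f ≫ g)) : P f :=
  P.of_isPullback (isPullback_of_mono f g) h

/-- the base change of a thickening is a thickening. -/
theorem baseChange {i : X ⟶ X'} (h : MoreMor.IsThickening i) {T P : Scheme.{u}} {g : T ⟶ X'}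
    {fst : P ⟶ X} {snd : P ⟶ T} (sq : IsPullback fst snd i g) : MoreMor.IsThickening snd := by
  obtain ⟨h1, h2⟩ := h
  exact ⟨MorphismProperty.of_isPullback (P := @IsClosedImmersion) sq h1,
    MorphismProperty.of_isPullback (P := @Surjective) sq h2⟩

theorem universallyOpen {i : X ⟶ X'} (h : MoreMor.IsThickening i) : UniversallyOpen i := by
  rw [UniversallyOpen.eq]
  intro T P g fst snd sq
  have := baseChange h sq.flip
  exact (isHomeomorph this).isOpenMap

section comp_surjective

theorem quasiCompact_of_comp_surjective (f : X ⟶ Y) (g : Y ⟶ Z) [QuasiCompact (f ≫ g)]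
    [Surjective f] : QuasiCompact g := by
  constructor
  intro U hU hUc
  have h1 : IsCompact ((f ≫ g) ⁻¹' U) := QuasiCompact.isCompact_preimage U hU hUc
  have h2 : g ⁻¹' U = f '' ((f ≫ g) ⁻¹' U) := by
    ext y
    constructor
    · intro hy
      obtain ⟨x, rfl⟩ := f.surjective y
      exact ⟨x, by simpa using hy, rfl⟩
    · rintro ⟨x, hx, rfl⟩
      simpa using hx
  rw [h2]
  exact h1.image f.continuous

theorem universallyOpen_of_comp_surjective (f : X ⟶ Y) (g : Y ⟶ Z) [UniversallyOpen (f ≫ g)]
    [Surjective f] : UniversallyOpen g := by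
  constructor
  intro X' Y' i₁ i₂ f' H
  have h1 : IsOpenMap (pullback.fst i₁ f ≫ f') :=
    UniversallyOpen.universally_isOpenMap _ _ _
      ((IsPullback.of_hasPullback i₁ f).paste_horiz H)
  have h2 : Function.Surjective (pullback.fst i₁ f) :=
    (MorphismProperty.pullback_fst (P := @Surjective) _ _ ‹_›).1
  intro U hU
  have : f' '' U = (pullback.fst i₁ f ≫ f') '' ((pullback.fst i₁ f) ⁻¹' U) := by
    rw [Scheme.Hom.comp_base, TopCat.coe_comp, Set.image_comp, Set.image_preimage_eq _ h2]
  rw [this]
  exact h1 _ (hU.preimage (pullback.fst i₁ f).continuous)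

theorem universallyInjective_of_comp_surjective (f : X ⟶ Y) (g : Y ⟶ Z)
    [UniversallyInjective (f ≫ g)] [Surjective f] : UniversallyInjective g := by
  constructor
  intro X' Y' i₁ i₂ f' H
  have h1 : Function.Injective (pullback.fst i₁ f ≫ f') :=
    UniversallyInjective.universally_injective _ _ _
      ((IsPullback.of_hasPullback i₁ f).paste_horiz H)
  have h2 : Function.Surjective (pullback.fst i₁ f) :=
    (MorphismProperty.pullback_fst (P := @Surjective) _ _ ‹_›).1
  intro a b hab
  obtain ⟨a, rfl⟩ := h2 a
  obtain ⟨b, rfl⟩ := h2 b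
  have : (pullback.fst i₁ f ≫ f') a = (pullback.fst i₁ f ≫ f') b := by
    simpa using hab
  rw [h1 this]

end comp_surjective

section morphism_of_thickenings

variable (iX : X ⟶ X') (iS : S ⟶ S') (f : X ⟶ S) (f' : X' ⟶ S')

theorem quasiCompact_iff (hX : MoreMor.IsThickening iX) (hS : MoreMor.IsThickening iS)
    (w : iX ≫ f' = f ≫ iS) : QuasiCompact f ↔ QuasiCompact f' := by
  have := hX.1
  have := hX.2
  have := hS.1
  constructor
  · intro hf
    have : QuasiCompact (iX ≫ f') := by rw [w]; infer_instance
    exact quasiCompact_of_comp_surjective iX f'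
  · intro hf
    have : QuasiCompact (f ≫ iS) := by rw [← w]; infer_instance
    exact of_comp_mono @QuasiCompact f iS this

theorem universallyClosed_iff (hX : MoreMor.IsThickening iX) (hS : MoreMor.IsThickening iS)
    (w : iX ≫ f' = f ≫ iS) : UniversallyClosed f ↔ UniversallyClosed f' := by
  have := hX.1
  have := hX.2
  have := hS.1
  constructor
  · intro hf
    have : UniversallyClosed (iX ≫ f') := by rw [w]; infer_instance
    exact UniversallyClosed.of_comp_surjective iX f'
  · intro hf
    have : UniversallyClosed (f ≫ iS) := by rw [← w]; infer_instance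
    exact of_comp_mono @UniversallyClosed f iS this

theorem universallyInjective_iff (hX : MoreMor.IsThickening iX) (hS : MoreMor.IsThickening iS)
    (w : iX ≫ f' = f ≫ iS) : UniversallyInjective f ↔ UniversallyInjective f' := by
  have := hX.1
  have := hX.2
  have := hS.1
  constructor
  · intro hf
    have : UniversallyInjective (iX ≫ f') := by
      rw [w]; exact MorphismProperty.comp_mem _ f iS hf inferInstance
    exact universallyInjective_of_comp_surjective iX f'
  · intro hf
    have : UniversallyInjective (f ≫ iS) := by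
      rw [← w]; exact MorphismProperty.comp_mem _ iX f' inferInstance hf
    exact of_comp_mono @UniversallyInjective f iS this

theorem universallyOpen_iff (hX : MoreMor.IsThickening iX) (hS : MoreMor.IsThickening iS)
    (w : iX ≫ f' = f ≫ iS) : UniversallyOpen f ↔ UniversallyOpen f' := by
  have := hX.1
  have := hX.2
  have := hS.1
  have := universallyOpen hX
  have := universallyOpen hS
  constructor
  · intro hf
    have : UniversallyOpen (iX ≫ f') := by rw [w]; infer_instance
    exact universallyOpen_of_comp_surjective iX f'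
  · intro hf
    have : UniversallyOpen (f ≫ iS) := by rw [← w]; infer_instance
    exact of_comp_mono @UniversallyOpen f iS this

theorem quasiSeparated_iff (hX : MoreMor.IsThickening iX) (hS : MoreMor.IsThickening iS)
    (w : iX ≫ f' = f ≫ iS) : QuasiSeparated f ↔ QuasiSeparated f' := by
  have := hX.1
  have := hX.2
  have := hS.1
  constructor
  · intro hf
    rw [HasAffineProperty.iff_of_iSup_eq_top (P := @QuasiSeparated) (fun V : S'.affineOpens => V)
      (iSup_affineOpens_eq_top S')]
    intro V
    change QuasiSeparatedSpace ↥(f' ⁻¹ᵁ (V : S'.Opens))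
    refine (isQuasiSeparated_iff_quasiSeparatedSpace _ (f' ⁻¹ᵁ (V : S'.Opens)).2).mp ?_
    have hV : IsAffineOpen (iS ⁻¹ᵁ (V : S'.Opens)) := V.2.preimage iS
    have h1 : IsQuasiSeparated ((f ⁻¹ᵁ (iS ⁻¹ᵁ (V : S'.Opens)) : X.Opens) : Set X) :=
      f.isQuasiSeparated_preimage hV.isQuasiSeparated
    have h2 := h1.image_of_isEmbedding (isHomeomorph hX).isEmbedding
    have h3 : iX.base '' ((f ⁻¹ᵁ (iS ⁻¹ᵁ (V : S'.Opens)) : X.Opens) : Set X) =
        ((f' ⁻¹ᵁ (V : S'.Opens) : X'.Opens) : Set X') := by
      ext x'
      constructor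
      · rintro ⟨x, hx, rfl⟩
        have : f' (iX x) = iS (f x) := by
          rw [← Scheme.Hom.comp_apply, w, Scheme.Hom.comp_apply]
        change f' (iX x) ∈ (V : S'.Opens)
        rw [this]
        exact hx
      · intro hx'
        obtain ⟨x, rfl⟩ := iX.surjective x'
        refine ⟨x, ?_, rfl⟩
        have : f' (iX x) = iS (f x) := by
          rw [← Scheme.Hom.comp_apply, w, Scheme.Hom.comp_apply]
        change iS (f x) ∈ (V : S'.Opens)
        rw [← this]
        exact hx'
    rw [h3] at h2
    exact h2
  · intro hf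
    have : QuasiSeparated (f ≫ iS) := by rw [← w]; infer_instance
    exact QuasiSeparated.of_comp f iS

end morphism_of_thickenings

end Groth.Agent.Lib.Helper6.Thick
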