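import Mathlib.CategoryTheory.Limits.Shapes.Pullback.Equifibered
import Mathlib.CategoryTheory.Limits.FunctorCategory.Basic

set_option autoImplicit false
universe v₁ v₂ v₃ u₁ u₂ u₃
open CategoryTheory Limits

namespace Groth.Agent.Lib.Helper6.CoequifColim

variable {K : Type u₁} [Category.{v₁} K] {A : Type u₂} [Category.{v₂} A] {C : Type u₃}
  [Category.{v₃} C]

/-- a colimit (computed pointwise) of coequifibered natural transformations out of a fixed functor
is coequifibered. -/
theorem coequifibered_of_isColimit {P : A ⥤ C} (G : K ⥤ (A ⥤ C)) (c : Cocone G)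
    (hc : ∀ a : A, IsColimit (((evaluation A C).obj a).mapCocone c))
    (αk : ∀ k, P ⟶ G.obj k) (hαk : ∀ k, (αk k).Coequifibered)
    (hcompat : ∀ {k k' : K} (m : k ⟶ k'), αk k ≫ G.map m = αk k')
    (α : P ⟶ c.pt) (hα : ∀ k, αk k ≫ c.ι.app k = α) [Nonempty K] : α.Coequifibered := by
  intro i j u
  have hαi : ∀ k (a : A), (αk k).app a ≫ (c.ι.app k).app a = α.app a := fun k a => by
    rw [← NatTrans.comp_app, hα]
  have hcw : ∀ {k k' : K} (m : k ⟶ k') (a : A),
      (G.map m).app a ≫ (c.ι.app k').app a = (c.ι.app k).app a := fun m a => by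
    rw [← NatTrans.comp_app, c.w]
  have hnat : ∀ k, (G.obj k).map u ≫ (c.ι.app k).app j = (c.ι.app k).app i ≫ c.pt.map u :=
    fun k => (c.ι.app k).naturality u
  have key : ∀ (T : C) (a : P.obj j ⟶ T) (b : c.pt.obj i ⟶ T), P.map u ≫ a = α.app i ≫ b →
      ∃ t : c.pt.obj j ⟶ T, α.app j ≫ t = a ∧ c.pt.map u ≫ t = b ∧
        ∀ t' : c.pt.obj j ⟶ T, α.app j ≫ t' = a → c.pt.map u ≫ t' = b → t' = t := by
    intro T a b hab
    have hk : ∀ k, P.map u ≫ a = (αk k).app i ≫ (c.ι.app k).app i ≫ b := fun k => by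
      rw [hab, ← Category.assoc, hαi]
    -- the components
    let tk : ∀ k, (G.obj k).obj j ⟶ T := fun k => (hαk k u).desc a ((c.ι.app k).app i ≫ b) (hk k)
    have tk₁ : ∀ k, (αk k).app j ≫ tk k = a := fun k => (hαk k u).inl_desc _ _ _
    have tk₂ : ∀ k, (G.obj k).map u ≫ tk k = (c.ι.app k).app i ≫ b :=
      fun k => (hαk k u).inr_desc _ _ _
    have tkw : ∀ {k k' : K} (m : k ⟶ k'), (G.map m).app j ≫ tk k' = tk k := by
      intro k k' m
      apply (hαk k u).hom_ext
      · rw [tk₁, ← Category.assoc, ← NatTrans.comp_app, hcompat, tk₁]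
      · rw [tk₂, ← Category.assoc, (G.map m).naturality, Category.assoc, tk₂,
          ← Category.assoc, hcw]
    let s : Cocone (G ⋙ (evaluation A C).obj j) :=
      { pt := T
        ι := { app := fun k => tk k
               naturality := fun k k' m => by
                 dsimp
                 rw [Category.comp_id]
                 exact tkw m } }
    have hdesc : ∀ k, (c.ι.app k).app j ≫ (hc j).desc s = tk k := fun k => (hc j).fac s k
    refine ⟨(hc j).desc s, ?_, ?_, ?_⟩
    · obtain ⟨k⟩ := ‹Nonempty K›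
      rw [← hαi k j, Category.assoc, hdesc, tk₁]
    · apply (hc i).hom_ext
      intro k
      change (c.ι.app k).app i ≫ c.pt.map u ≫ (hc j).desc s = (c.ι.app k).app i ≫ b
      rw [← Category.assoc, ← hnat, Category.assoc, hdesc, tk₂]
    · intro t' h₁ h₂
      apply (hc j).hom_ext
      intro k
      change (c.ι.app k).app j ≫ t' = (c.ι.app k).app j ≫ (hc j).desc s
      rw [hdesc]
      apply (hαk k u).hom_ext
      · rw [tk₁, ← Category.assoc, hαi, h₁]
      · rw [tk₂, ← Category.assoc, hnat, Category.assoc, h₂]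
  choose t ht₁ ht₂ ht₃ using key
  exact ⟨⟨(α.naturality u)⟩, ⟨PushoutCocone.IsColimit.mk _
    (fun s => t s.pt s.inl s.inr s.condition)
    (fun s => ht₁ s.pt s.inl s.inr s.condition) (fun s => ht₂ s.pt s.inl s.inr s.condition)
    (fun s m h₁ h₂ => ht₃ s.pt s.inl s.inr s.condition m h₁ h₂)⟩⟩

end Groth.Agent.Lib.Helper6.CoequifColim
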