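import Groth.Agent.Lib.Helper6.AffUniv


set_option autoImplicit false
universe u
open AlgebraicGeometry CategoryTheory Limits TopologicalSpace Opposite

namespace Groth.Agent.Lib.Helper6.AffExt

open Scheme AffineZariskiSite

variable {X Y S : Scheme.{u}} (f : X ⟶ S) (g : Y ⟶ S)

/-- the restriction of the direct image algebra to the affine opens. -/
noncomputable abbrev res : S.AffineZariskiSiteᵒᵖ ⥤ CommRingCat.{u} :=
  (toOpensFunctor S).op ⋙ AffAlg.alg f

variable {f g} (ω₀ : res f ⟶ res g)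

/-- extend a natural transformation from the affine opens to all opens. -/
noncomputable def ext : AffAlg.alg f ⟶ AffAlg.alg g :=
  Functor.IsCoverDense.restrictHomEquivHom (G := toOpensFunctor S)
    (K := Opens.grothendieckTopology S) (ℱ := AffAlg.alg f) (ℱ' := AffUniv.pushSheaf g) ω₀

theorem whisker_ext : Functor.whiskerLeft (toOpensFunctor S).op (ext ω₀) = ω₀ :=
  (Functor.IsCoverDense.restrictHomEquivHom (G := toOpensFunctor S)
    (K := Opens.grothendieckTopology S) (ℱ := AffAlg.alg f)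
    (ℱ' := AffUniv.pushSheaf g)).symm_apply_apply ω₀

theorem ext_app (U : S.AffineZariskiSite) : (ext ω₀).app (op U.toOpens) = ω₀.app (op U) :=
  NatTrans.congr_app (whisker_ext ω₀) (op U)

theorem ext_comm (h : ∀ U : S.AffineZariskiSite, f.app U.toOpens ≫ ω₀.app (op U) = g.app U.toOpens) :
    f.c ≫ ext ω₀ = g.c := by
  apply (Functor.IsCoverDense.restrictHomEquivHom (G := toOpensFunctor S)
    (K := Opens.grothendieckTopology S) (ℱ := S.presheaf)
    (ℱ' := AffUniv.pushSheaf g)).symm.injective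
  ext U : 2
  change f.app U.unop.toOpens ≫ (ext ω₀).app (op U.unop.toOpens) = g.app U.unop.toOpens
  rw [ext_app]
  exact h U.unop

variable (f g) in
theorem exists_lift [IsAffineHom f]
    (h : ∀ U : S.AffineZariskiSite, f.app U.toOpens ≫ ω₀.app (op U) = g.app U.toOpens) :
    ∃ (l : Y ⟶ X) (w : l ≫ f = g), ∀ U : S.AffineZariskiSite,
      l.appLE (f ⁻¹ᵁ U.toOpens) (g ⁻¹ᵁ U.toOpens) (AffUniv.preimage_le f g l w U.toOpens) =
        ω₀.app (op U) := by
  have w := AffUniv.lift_comp f g (ext ω₀) (ext_comm ω₀ h)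
  refine ⟨AffUniv.lift f g (ext ω₀), w, fun U => ?_⟩
  rw [AffUniv.lift_appLE f g (ext ω₀) w U, ext_app]

end Groth.Agent.Lib.Helper6.AffExt
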