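import Groth.Agent.Lib.Helper6.RelSpecF
import Groth.Agent.Lib.Helper6.AffExt
import Groth.Agent.Lib.Helper6.CoequifColim
import Groth.Prelude.Def_RelSpec


set_option autoImplicit false
set_option linter.unusedSectionVars false
universe u
open AlgebraicGeometry CategoryTheory Limits TopologicalSpace Opposite

namespace Groth.Agent.Lib.Helper6.AffLimit

open Scheme AffineZariskiSite

section alg

variable {S X Y Z : Scheme.{u}}

theorem algHom_congr (f : X ⟶ S) (g : Y ⟶ S) {h h' : Y ⟶ X} (e : h = h') (w : h ≫ f = g)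
    (w' : h' ≫ f = g) : AffAlg.algHom f g h w = AffAlg.algHom f g h' w' := by
  subst e
  rfl

theorem algHom_id (f : X ⟶ S) : AffAlg.algHom f f (𝟙 X) (Category.id_comp f) = 𝟙 _ := by
  ext U
  simp only [AffAlg.algHom]
  rfl

theorem algHom_comp (f : X ⟶ S) (g : Y ⟶ S) (e : Z ⟶ S) (h : Y ⟶ X)
    (w : h ≫ f = g) (k : Z ⟶ Y) (w' : k ≫ g = e) (w'' : (k ≫ h) ≫ f = e) :
    AffAlg.algHom f e (k ≫ h) w'' = AffAlg.algHom f g h w ≫ AffAlg.algHom g e k w' := by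
  subst w
  subst w'
  ext U
  simp only [AffAlg.algHom]
  rfl

end alg

variable {J : Type u} [SmallCategory J] (E : J ⥤ Scheme.{u}) {j₀ : J} (hj₀ : IsTerminal j₀)

/-- the structure morphisms to the terminal stage. -/
noncomputable def f (j : J) : E.obj j ⟶ E.obj j₀ := E.map (hj₀.from j)

theorem map_f {j k : J} (φ : j ⟶ k) : E.map φ ≫ f E hj₀ k = f E hj₀ j := by
  rw [f, f, ← E.map_comp]
  congr 1
  exact hj₀.hom_ext _ _

/-- the diagram of direct image algebras restricted to the affine opens. -/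
noncomputable def G : Jᵒᵖ ⥤ ((E.obj j₀).AffineZariskiSiteᵒᵖ ⥤ CommRingCat.{u}) where
  obj j := AffExt.res (f E hj₀ j.unop)
  map {j k} φ := Functor.whiskerLeft (toOpensFunctor (E.obj j₀)).op
    (AffAlg.algHom (f E hj₀ j.unop) (f E hj₀ k.unop) (E.map φ.unop) (map_f E hj₀ φ.unop))
  map_id j := by
    have h1 : AffAlg.algHom (f E hj₀ j.unop) (f E hj₀ j.unop) (E.map (𝟙 j).unop)
        (map_f E hj₀ (𝟙 j).unop) = 𝟙 _ := by
      have e : E.map (𝟙 j).unop = 𝟙 _ := E.map_id j.unop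
      rw [algHom_congr (f E hj₀ j.unop) (f E hj₀ j.unop) e _ (Category.id_comp _), algHom_id]
    rw [h1]
    rfl
  map_comp {j k l} φ ψ := by
    have h1 : AffAlg.algHom (f E hj₀ j.unop) (f E hj₀ l.unop) (E.map (φ ≫ ψ).unop)
        (map_f E hj₀ (φ ≫ ψ).unop) =
        AffAlg.algHom (f E hj₀ j.unop) (f E hj₀ k.unop) (E.map φ.unop) (map_f E hj₀ φ.unop) ≫
          AffAlg.algHom (f E hj₀ k.unop) (f E hj₀ l.unop) (E.map ψ.unop) (map_f E hj₀ ψ.unop) := by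
      have e : E.map (φ ≫ ψ).unop = E.map ψ.unop ≫ E.map φ.unop := by
        rw [← E.map_comp]
        rfl
      have w'' : (E.map ψ.unop ≫ E.map φ.unop) ≫ f E hj₀ j.unop = f E hj₀ l.unop := by
        rw [Category.assoc, map_f, map_f]
      rw [algHom_congr _ _ e _ w'']
      exact algHom_comp _ _ _ _ _ _ _ _
    rw [h1]
    rfl

theorem G_map_app {j k : Jᵒᵖ} (φ : j ⟶ k) (U : (E.obj j₀).AffineZariskiSite) :
    ((G E hj₀).map φ).app (op U) =
      (E.map φ.unop).appLE (f E hj₀ j.unop ⁻¹ᵁ U.toOpens) (f E hj₀ k.unop ⁻¹ᵁ U.toOpens)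
        (AffUniv.preimage_le _ _ _ (map_f E hj₀ φ.unop) U.toOpens) :=
  AffUniv.algHom_app _ _ _ (map_f E hj₀ φ.unop) U.toOpens

/-- the colimit algebra on affine opens. -/
noncomputable def F : (E.obj j₀).AffineZariskiSiteᵒᵖ ⥤ CommRingCat.{u} := colimit (G E hj₀)

/-- the colimit cocone. -/
noncomputable def c : Cocone (G E hj₀) := colimit.cocone (G E hj₀)

/-- the colimit cocone is a colimit. -/
noncomputable def hc : IsColimit (c E hj₀) := colimit.isColimit (G E hj₀)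

/-- the colimit cocone is a colimit pointwise. -/
noncomputable def hcU (U : (E.obj j₀).AffineZariskiSiteᵒᵖ) :
    IsColimit (((CategoryTheory.evaluation _ _).obj U).mapCocone (c E hj₀)) :=
  isColimitOfPreserves ((CategoryTheory.evaluation _ _).obj U) (hc E hj₀)

/-- the structure maps of the stages. -/
noncomputable def αk (j : Jᵒᵖ) :
    (toOpensFunctor (E.obj j₀)).op ⋙ (E.obj j₀).presheaf ⟶ (G E hj₀).obj j :=
  Functor.whiskerLeft (toOpensFunctor (E.obj j₀)).op (f E hj₀ j.unop).c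

theorem αk_comp {j k : Jᵒᵖ} (φ : j ⟶ k) : αk E hj₀ j ≫ (G E hj₀).map φ = αk E hj₀ k := by
  unfold αk G
  dsimp only
  rw [← Functor.whiskerLeft_comp, AffAlg.algHom_comm]

/-- the structure map of the colimit. -/
noncomputable def α : (toOpensFunctor (E.obj j₀)).op ⋙ (E.obj j₀).presheaf ⟶ (c E hj₀).pt :=
  αk E hj₀ (op j₀) ≫ (c E hj₀).ι.app (op j₀)

theorem αk_ι (j : Jᵒᵖ) : αk E hj₀ j ≫ (c E hj₀).ι.app j = α E hj₀ := by
  unfold α
  rw [← αk_comp E hj₀ (hj₀.from j.unop).op, Category.assoc, (c E hj₀).w]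

variable [∀ j, IsAffineHom (f E hj₀ j)]

theorem coequifibered_αk (j : Jᵒᵖ) : (αk E hj₀ j).Coequifibered :=
  (RelSpec.QCAlg.directImage (f E hj₀ j.unop)).coequifibered

theorem coequifibered_α : (α E hj₀).Coequifibered := by
  have : Nonempty Jᵒᵖ := ⟨op j₀⟩
  exact CoequifColim.coequifibered_of_isColimit (G E hj₀) (c E hj₀) (hcU E hj₀) (αk E hj₀)
    (coequifibered_αk E hj₀) (fun m => αk_comp E hj₀ m) (α E hj₀) (αk_ι E hj₀)

/-- the limit scheme. -/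
noncomputable def X : Scheme.{u} := RelSpecF.X (c E hj₀).pt (α E hj₀) (coequifibered_α E hj₀)

/-- the projection to the terminal stage. -/
noncomputable def p : X E hj₀ ⟶ E.obj j₀ :=
  RelSpecF.p (c E hj₀).pt (α E hj₀) (coequifibered_α E hj₀)

instance : IsAffineHom (p E hj₀) := RelSpecF.instIsAffineHomP _ _ _

/-- the identification of sections over preimages of affine opens. -/
noncomputable def β (U : (E.obj j₀).AffineZariskiSite) :
    Γ(X E hj₀, p E hj₀ ⁻¹ᵁ U.toOpens) ⟶ (c E hj₀).pt.obj (op U) :=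
  RelSpecF.β₀app (c E hj₀).pt (α E hj₀) (coequifibered_α E hj₀) U

instance (U : (E.obj j₀).AffineZariskiSite) : IsIso (β E hj₀ U) :=
  RelSpecF.instIsIsoCommRingCatβ₀app _ _ _ U

theorem β_naturality {U V : (E.obj j₀).AffineZariskiSite} (h : V ≤ U) :
    (X E hj₀).presheaf.map (homOfLE ((p E hj₀).preimage_mono (toOpens_mono h))).op ≫
      β E hj₀ V = β E hj₀ U ≫ (c E hj₀).pt.map (homOfLE h).op :=
  RelSpecF.β₀_naturality _ _ _ h

theorem p_app_β (U : (E.obj j₀).AffineZariskiSite) :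
    (p E hj₀).app U.toOpens ≫ β E hj₀ U = (α E hj₀).app (op U) :=
  RelSpecF.α_app _ _ _ U

/-- the inverse identification. -/
noncomputable def βi (U : (E.obj j₀).AffineZariskiSite) :
    (c E hj₀).pt.obj (op U) ⟶ Γ(X E hj₀, p E hj₀ ⁻¹ᵁ U.toOpens) := inv (β E hj₀ U)

@[reassoc (attr := simp)]
theorem β_βi (U : (E.obj j₀).AffineZariskiSite) : β E hj₀ U ≫ βi E hj₀ U = 𝟙 _ :=
  IsIso.hom_inv_id _

@[reassoc (attr := simp)]
theorem βi_β (U : (E.obj j₀).AffineZariskiSite) : βi E hj₀ U ≫ β E hj₀ U = 𝟙 _ :=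
  IsIso.inv_hom_id _

theorem βi_naturality {U V : (E.obj j₀).AffineZariskiSite} (h : V ≤ U) :
    (c E hj₀).pt.map (homOfLE h).op ≫ βi E hj₀ V = βi E hj₀ U ≫
      (X E hj₀).presheaf.map (homOfLE ((p E hj₀).preimage_mono (toOpens_mono h))).op := by
  have h2 := β_naturality E hj₀ h
  calc (c E hj₀).pt.map (homOfLE h).op ≫ βi E hj₀ V
      = βi E hj₀ U ≫ (β E hj₀ U ≫ (c E hj₀).pt.map (homOfLE h).op) ≫ βi E hj₀ V := by
        rw [Category.assoc, βi_β_assoc]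
    _ = _ := by rw [← h2, Category.assoc, β_βi, Category.comp_id]

/-- the component maps from the stages to the colimit. -/
noncomputable def γ (j : J) (U : (E.obj j₀).AffineZariskiSite) :
    Γ(E.obj j, f E hj₀ j ⁻¹ᵁ U.toOpens) ⟶ (c E hj₀).pt.obj (op U) :=
  ((c E hj₀).ι.app (op j)).app (op U)

theorem γ_naturality (j : J) {U V : (E.obj j₀).AffineZariskiSite} (h : V ≤ U) :
    (E.obj j).presheaf.map (homOfLE ((f E hj₀ j).preimage_mono (toOpens_mono h))).op ≫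
      γ E hj₀ j V = γ E hj₀ j U ≫ (c E hj₀).pt.map (homOfLE h).op :=
  ((c E hj₀).ι.app (op j)).naturality (homOfLE h).op

theorem γ_w {j k : J} (φ : j ⟶ k) (U : (E.obj j₀).AffineZariskiSite) :
    (E.map φ).appLE (f E hj₀ k ⁻¹ᵁ U.toOpens) (f E hj₀ j ⁻¹ᵁ U.toOpens)
      (AffUniv.preimage_le _ _ _ (map_f E hj₀ φ) U.toOpens) ≫ γ E hj₀ j U = γ E hj₀ k U := by
  have h1 := congrArg (fun t => t.app (op U)) ((c E hj₀).w φ.op)
  have h2 := G_map_app E hj₀ φ.op U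
  change ((G E hj₀).map φ.op).app (op U) ≫ ((c E hj₀).ι.app (op j)).app (op U) = _ at h1
  rw [h2] at h1
  exact h1

theorem app_γ (j : J) (U : (E.obj j₀).AffineZariskiSite) :
    (f E hj₀ j).app U.toOpens ≫ γ E hj₀ j U = (α E hj₀).app (op U) := by
  have h1 := congrArg (fun t => t.app (op U)) (αk_ι E hj₀ (op j))
  exact h1

/-- the natural transformation inducing the legs. -/
noncomputable def legNat (j : J) : AffExt.res (f E hj₀ j) ⟶ AffExt.res (p E hj₀) where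
  app U := γ E hj₀ j U.unop ≫ βi E hj₀ U.unop
  naturality U V i := by
    have h1 := γ_naturality E hj₀ j (leOfHom i.unop)
    have h2 := βi_naturality E hj₀ (leOfHom i.unop)
    change (E.obj j).presheaf.map
        (homOfLE ((f E hj₀ j).preimage_mono (toOpens_mono (leOfHom i.unop)))).op ≫
        γ E hj₀ j V.unop ≫ βi E hj₀ V.unop =
      (γ E hj₀ j U.unop ≫ βi E hj₀ U.unop) ≫
        (X E hj₀).presheaf.map (homOfLE ((p E hj₀).preimage_mono (toOpens_mono (leOfHom i.unop)))).op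
    rw [← Category.assoc, h1, Category.assoc, h2, Category.assoc]

theorem legNat_comm (j : J) (U : (E.obj j₀).AffineZariskiSite) :
    (f E hj₀ j).app U.toOpens ≫ (legNat E hj₀ j).app (op U) = (p E hj₀).app U.toOpens := by
  change (f E hj₀ j).app U.toOpens ≫ γ E hj₀ j U ≫ βi E hj₀ U = _
  rw [← Category.assoc, app_γ, ← p_app_β, Category.assoc, β_βi, Category.comp_id]

/-- the legs of the limit cone. -/
noncomputable def π (j : J) : X E hj₀ ⟶ E.obj j :=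
  (AffExt.exists_lift (f E hj₀ j) (p E hj₀) (legNat E hj₀ j) (legNat_comm E hj₀ j)).choose

theorem π_f (j : J) : π E hj₀ j ≫ f E hj₀ j = p E hj₀ :=
  (AffExt.exists_lift (f E hj₀ j) (p E hj₀) (legNat E hj₀ j) (legNat_comm E hj₀ j)).choose_spec.choose

theorem π_appLE (j : J) (U : (E.obj j₀).AffineZariskiSite) :
    (π E hj₀ j).appLE (f E hj₀ j ⁻¹ᵁ U.toOpens) (p E hj₀ ⁻¹ᵁ U.toOpens)
      (AffUniv.preimage_le _ _ _ (π_f E hj₀ j) U.toOpens) = γ E hj₀ j U ≫ βi E hj₀ U :=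
  (AffExt.exists_lift (f E hj₀ j) (p E hj₀) (legNat E hj₀ j)
    (legNat_comm E hj₀ j)).choose_spec.choose_spec U

theorem π_map {j k : J} (φ : j ⟶ k) : π E hj₀ j ≫ E.map φ = π E hj₀ k := by
  have w₁ : (π E hj₀ j ≫ E.map φ) ≫ f E hj₀ k = p E hj₀ := by
    rw [Category.assoc, map_f, π_f]
  apply AffUniv.hom_ext_of_appLE (f E hj₀ k) (p E hj₀) _ _ w₁ (π_f E hj₀ k)
  intro U
  rw [π_appLE, ← γ_w E hj₀ φ U, Category.assoc, ← π_appLE E hj₀ j U, Scheme.Hom.appLE_comp_appLE]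

/-- the limit cone. -/
noncomputable def cone : Cone E where
  pt := X E hj₀
  π := { app := fun j => π E hj₀ j
         naturality := fun j k φ => by
           dsimp
           rw [Category.id_comp, π_map] }

section lift

variable {T : Scheme.{u}} (t : ∀ j, T ⟶ E.obj j) (ht : ∀ {j k : J} (φ : j ⟶ k), t j ≫ E.map φ = t k)

include ht in
theorem cone_w (j : J) : t j ≫ f E hj₀ j = t j₀ := ht (hj₀.from j)

/-- the cocone of algebras attached to a cone of schemes. -/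
noncomputable def cocone : Cocone (G E hj₀) where
  pt := AffExt.res (t j₀)
  ι := { app := fun j => Functor.whiskerLeft (toOpensFunctor (E.obj j₀)).op
            (AffAlg.algHom (f E hj₀ j.unop) (t j₀) (t j.unop) (cone_w E hj₀ t ht j.unop))
         naturality := fun j k m => by
           have e : t k.unop ≫ E.map m.unop = t j.unop := ht m.unop
           have w'' : (t k.unop ≫ E.map m.unop) ≫ f E hj₀ j.unop = t j₀ := by
             rw [e, cone_w E hj₀ t ht]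
           have h1 : AffAlg.algHom (f E hj₀ j.unop) (t j₀) (t j.unop)
               (cone_w E hj₀ t ht j.unop) =
               AffAlg.algHom (f E hj₀ j.unop) (f E hj₀ k.unop) (E.map m.unop) (map_f E hj₀ m.unop) ≫
               AffAlg.algHom (f E hj₀ k.unop) (t j₀) (t k.unop)
                 (cone_w E hj₀ t ht k.unop) := by
             rw [algHom_congr _ _ e.symm _ w'']
             exact algHom_comp _ _ _ _ _ _ _ _
           dsimp only [Functor.const_obj_obj, Functor.const_obj_map]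
           rw [Category.comp_id, h1]
           rfl }

/-- the induced map out of the colimit algebra. -/
noncomputable def ωT : (c E hj₀).pt ⟶ AffExt.res (t j₀) := (hc E hj₀).desc (cocone E hj₀ t ht)

theorem γ_ωT (j : J) (U : (E.obj j₀).AffineZariskiSite) :
    γ E hj₀ j U ≫ (ωT E hj₀ t ht).app (op U) =
      (t j).appLE (f E hj₀ j ⁻¹ᵁ U.toOpens) (t j₀ ⁻¹ᵁ U.toOpens)
        (AffUniv.preimage_le _ _ _ (cone_w E hj₀ t ht j) U.toOpens) := by
  have h1 := congrArg (fun t => t.app (op U)) ((hc E hj₀).fac (cocone E hj₀ t ht) (op j))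
  rw [← AffUniv.algHom_app _ _ _ (cone_w E hj₀ t ht j) U.toOpens]
  exact h1

/-- the natural transformation inducing the lift. -/
noncomputable def liftNat : AffExt.res (p E hj₀) ⟶ AffExt.res (t j₀) where
  app U := β E hj₀ U.unop ≫ (ωT E hj₀ t ht).app U
  naturality U V i := by
    have h1 := β_naturality E hj₀ (leOfHom i.unop)
    have h2 := (ωT E hj₀ t ht).naturality i
    change (X E hj₀).presheaf.map
        (homOfLE ((p E hj₀).preimage_mono (toOpens_mono (leOfHom i.unop)))).op ≫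
        β E hj₀ V.unop ≫ (ωT E hj₀ t ht).app V = (β E hj₀ U.unop ≫ (ωT E hj₀ t ht).app U) ≫ _
    rw [← Category.assoc, h1, Category.assoc, Category.assoc]
    congr 1

theorem liftNat_comm (U : (E.obj j₀).AffineZariskiSite) :
    (p E hj₀).app U.toOpens ≫ (liftNat E hj₀ t ht).app (op U) = (t j₀).app U.toOpens := by
  have key : (f E hj₀ j₀).app U.toOpens ≫
      (t j₀).appLE (f E hj₀ j₀ ⁻¹ᵁ U.toOpens) (t j₀ ⁻¹ᵁ U.toOpens)
        (AffUniv.preimage_le _ _ _ (cone_w E hj₀ t ht j₀) U.toOpens) = (t j₀).app U.toOpens := by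
    rw [Scheme.Hom.app_eq_appLE, Scheme.Hom.appLE_comp_appLE, Scheme.Hom.app_eq_appLE]
    simp only [cone_w E hj₀ t ht]
  have h1 : (p E hj₀).app U.toOpens ≫ β E hj₀ U =
      (f E hj₀ j₀).app U.toOpens ≫ γ E hj₀ j₀ U := by rw [p_app_β, app_γ]
  calc (p E hj₀).app U.toOpens ≫ (liftNat E hj₀ t ht).app (op U)
      = ((p E hj₀).app U.toOpens ≫ β E hj₀ U) ≫ (ωT E hj₀ t ht).app (op U) :=
        (Category.assoc _ _ _).symm
    _ = ((f E hj₀ j₀).app U.toOpens ≫ γ E hj₀ j₀ U) ≫ (ωT E hj₀ t ht).app (op U) := by rw [h1]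
    _ = (f E hj₀ j₀).app U.toOpens ≫ (γ E hj₀ j₀ U ≫ (ωT E hj₀ t ht).app (op U)) :=
        Category.assoc _ _ _
    _ = (t j₀).app U.toOpens := by
        rw [γ_ωT]
        exact key

/-- the lift of a cone. -/
noncomputable def lift : T ⟶ X E hj₀ :=
  (AffExt.exists_lift (p E hj₀) (t j₀) (liftNat E hj₀ t ht) (liftNat_comm E hj₀ t ht)).choose

theorem lift_p : lift E hj₀ t ht ≫ p E hj₀ = t j₀ :=
  (AffExt.exists_lift (p E hj₀) (t j₀) (liftNat E hj₀ t ht)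
    (liftNat_comm E hj₀ t ht)).choose_spec.choose

theorem lift_appLE (U : (E.obj j₀).AffineZariskiSite) :
    (lift E hj₀ t ht).appLE (p E hj₀ ⁻¹ᵁ U.toOpens) (t j₀ ⁻¹ᵁ U.toOpens)
      (AffUniv.preimage_le _ _ _ (lift_p E hj₀ t ht) U.toOpens) =
      β E hj₀ U ≫ (ωT E hj₀ t ht).app (op U) :=
  (AffExt.exists_lift (p E hj₀) (t j₀) (liftNat E hj₀ t ht)
    (liftNat_comm E hj₀ t ht)).choose_spec.choose_spec U

theorem lift_π (j : J) : lift E hj₀ t ht ≫ π E hj₀ j = t j := by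
  have w₁ : (lift E hj₀ t ht ≫ π E hj₀ j) ≫ f E hj₀ j = t j₀ := by
    rw [Category.assoc, π_f, lift_p]
  apply AffUniv.hom_ext_of_appLE (f E hj₀ j) (t j₀) _ _ w₁ (cone_w E hj₀ t ht j)
  intro U
  have key : (π E hj₀ j).appLE (f E hj₀ j ⁻¹ᵁ U.toOpens) (p E hj₀ ⁻¹ᵁ U.toOpens)
      (AffUniv.preimage_le _ _ _ (π_f E hj₀ j) U.toOpens) ≫
      (lift E hj₀ t ht).appLE (p E hj₀ ⁻¹ᵁ U.toOpens) (t j₀ ⁻¹ᵁ U.toOpens)
      (AffUniv.preimage_le _ _ _ (lift_p E hj₀ t ht) U.toOpens) =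
      (lift E hj₀ t ht ≫ π E hj₀ j).appLE (f E hj₀ j ⁻¹ᵁ U.toOpens) (t j₀ ⁻¹ᵁ U.toOpens)
      (AffUniv.preimage_le _ _ _ w₁ U.toOpens) :=
    Scheme.Hom.appLE_comp_appLE _ _ _ _ _ _ _
  have h3 : (lift E hj₀ t ht).appLE (p E hj₀ ⁻¹ᵁ U.toOpens) (t j₀ ⁻¹ᵁ U.toOpens)
      (AffUniv.preimage_le _ _ _ (lift_p E hj₀ t ht) U.toOpens) =
      β E hj₀ U ≫ (ωT E hj₀ t ht).app (op U) := lift_appLE E hj₀ t ht U
  have h4 := γ_ωT E hj₀ t ht j U
  have s1 : (lift E hj₀ t ht ≫ π E hj₀ j).appLE (f E hj₀ j ⁻¹ᵁ U.toOpens) (t j₀ ⁻¹ᵁ U.toOpens)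
      (AffUniv.preimage_le _ _ _ w₁ U.toOpens)
      = (γ E hj₀ j U ≫ βi E hj₀ U) ≫ (β E hj₀ U ≫ (ωT E hj₀ t ht).app (op U)) := by
    rw [← key, π_appLE E hj₀ j U]
    exact congrArg (fun z => (γ E hj₀ j U ≫ βi E hj₀ U) ≫ z) h3
  have s2 : (γ E hj₀ j U ≫ βi E hj₀ U) ≫ (β E hj₀ U ≫ (ωT E hj₀ t ht).app (op U)) =
      γ E hj₀ j U ≫ (ωT E hj₀ t ht).app (op U) := by
    rw [Category.assoc, βi_β_assoc]
  exact s1.trans (s2.trans h4)

theorem lift_uniq (m : T ⟶ X E hj₀) (hm : ∀ j, m ≫ π E hj₀ j = t j) : m = lift E hj₀ t ht := by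
  have w₁ : m ≫ p E hj₀ = t j₀ := by
    rw [← π_f E hj₀ j₀, ← Category.assoc, hm, cone_w E hj₀ t ht]
  apply AffUniv.hom_ext_of_appLE (p E hj₀) (t j₀) _ _ w₁ (lift_p E hj₀ t ht)
  intro U
  have h3 : (lift E hj₀ t ht).appLE (p E hj₀ ⁻¹ᵁ U.toOpens) (t j₀ ⁻¹ᵁ U.toOpens)
      (AffUniv.preimage_le _ _ _ (lift_p E hj₀ t ht) U.toOpens) =
      β E hj₀ U ≫ (ωT E hj₀ t ht).app (op U) := lift_appLE E hj₀ t ht U
  -- compare after the identification with the colimit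
  have h2 : βi E hj₀ U ≫ m.appLE (p E hj₀ ⁻¹ᵁ U.toOpens) (t j₀ ⁻¹ᵁ U.toOpens)
      (AffUniv.preimage_le _ _ _ w₁ U.toOpens) = (ωT E hj₀ t ht).app (op U) := by
    apply (hcU E hj₀ (op U)).hom_ext
    intro j
    have w₂ : (m ≫ π E hj₀ j.unop) ≫ f E hj₀ j.unop = t j₀ := by
      rw [Category.assoc, π_f, w₁]
    have key : (π E hj₀ j.unop).appLE (f E hj₀ j.unop ⁻¹ᵁ U.toOpens) (p E hj₀ ⁻¹ᵁ U.toOpens)
        (AffUniv.preimage_le _ _ _ (π_f E hj₀ j.unop) U.toOpens) ≫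
        m.appLE (p E hj₀ ⁻¹ᵁ U.toOpens) (t j₀ ⁻¹ᵁ U.toOpens)
        (AffUniv.preimage_le _ _ _ w₁ U.toOpens) =
        (m ≫ π E hj₀ j.unop).appLE (f E hj₀ j.unop ⁻¹ᵁ U.toOpens) (t j₀ ⁻¹ᵁ U.toOpens)
        (AffUniv.preimage_le _ _ _ w₂ U.toOpens) :=
      Scheme.Hom.appLE_comp_appLE _ _ _ _ _ _ _
    have h5 : (m ≫ π E hj₀ j.unop).appLE (f E hj₀ j.unop ⁻¹ᵁ U.toOpens) (t j₀ ⁻¹ᵁ U.toOpens)
        (AffUniv.preimage_le _ _ _ w₂ U.toOpens) =
        (t j.unop).appLE (f E hj₀ j.unop ⁻¹ᵁ U.toOpens) (t j₀ ⁻¹ᵁ U.toOpens)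
        (AffUniv.preimage_le _ _ _ (cone_w E hj₀ t ht j.unop) U.toOpens) := by
      simp only [hm]
    change γ E hj₀ j.unop U ≫ βi E hj₀ U ≫ m.appLE (p E hj₀ ⁻¹ᵁ U.toOpens) (t j₀ ⁻¹ᵁ U.toOpens)
      (AffUniv.preimage_le _ _ _ w₁ U.toOpens) =
      γ E hj₀ j.unop U ≫ (ωT E hj₀ t ht).app (op U)
    have h6 := γ_ωT E hj₀ t ht j.unop U
    have s1 : γ E hj₀ j.unop U ≫ βi E hj₀ U ≫ m.appLE (p E hj₀ ⁻¹ᵁ U.toOpens)
        (t j₀ ⁻¹ᵁ U.toOpens) (AffUniv.preimage_le _ _ _ w₁ U.toOpens)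
        = (γ E hj₀ j.unop U ≫ βi E hj₀ U) ≫ m.appLE (p E hj₀ ⁻¹ᵁ U.toOpens) (t j₀ ⁻¹ᵁ U.toOpens)
            (AffUniv.preimage_le _ _ _ w₁ U.toOpens) := (Category.assoc _ _ _).symm
    have s2 : (γ E hj₀ j.unop U ≫ βi E hj₀ U) ≫ m.appLE (p E hj₀ ⁻¹ᵁ U.toOpens)
        (t j₀ ⁻¹ᵁ U.toOpens) (AffUniv.preimage_le _ _ _ w₁ U.toOpens) =
        (t j.unop).appLE (f E hj₀ j.unop ⁻¹ᵁ U.toOpens) (t j₀ ⁻¹ᵁ U.toOpens)
        (AffUniv.preimage_le _ _ _ (cone_w E hj₀ t ht j.unop) U.toOpens) := by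
      rw [← π_appLE E hj₀ j.unop U, key, h5]
    exact s1.trans (s2.trans h6.symm)
  have s1 : m.appLE (p E hj₀ ⁻¹ᵁ U.toOpens) (t j₀ ⁻¹ᵁ U.toOpens)
      (AffUniv.preimage_le _ _ _ w₁ U.toOpens)
      = β E hj₀ U ≫ (βi E hj₀ U ≫ m.appLE (p E hj₀ ⁻¹ᵁ U.toOpens) (t j₀ ⁻¹ᵁ U.toOpens)
          (AffUniv.preimage_le _ _ _ w₁ U.toOpens)) := (β_βi_assoc E hj₀ U _).symm
  have s2 : β E hj₀ U ≫ (βi E hj₀ U ≫ m.appLE (p E hj₀ ⁻¹ᵁ U.toOpens) (t j₀ ⁻¹ᵁ U.toOpens)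
          (AffUniv.preimage_le _ _ _ w₁ U.toOpens)) = β E hj₀ U ≫ (ωT E hj₀ t ht).app (op U) :=
    congrArg (fun z => β E hj₀ U ≫ z) h2
  exact s1.trans (s2.trans h3.symm)

end lift

/-- the cone is a limit cone. -/
noncomputable def isLimit : IsLimit (cone E hj₀) where
  lift s := lift E hj₀ (fun j => s.π.app j) (fun φ => s.w φ)
  fac s j := lift_π E hj₀ (fun j => s.π.app j) (fun φ => s.w φ) j
  uniq s m hm := lift_uniq E hj₀ (fun j => s.π.app j) (fun φ => s.w φ) m hm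

end Groth.Agent.Lib.Helper6.AffLimit
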