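import Groth.Prelude.Def_AffAlg
import Mathlib

set_option autoImplicit false
universe u
open AlgebraicGeometry CategoryTheory Limits TopologicalSpace Opposite

namespace Groth.Agent.Lib.Helper6.AffUniv

open Scheme AffineZariskiSite

variable {X Y S : Scheme.{u}} (f : X ⟶ S) [IsAffineHom f] (g : Y ⟶ S)

theorem toOpens_le {U V : S.AffineZariskiSite} (h : V ≤ U) : V.toOpens ≤ U.toOpens :=
  toOpens_mono h

omit [IsAffineHom f] in
theorem preimage_le (h : Y ⟶ X) (w : h ≫ f = g) (U : S.Opens) :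
    g ⁻¹ᵁ U ≤ h ⁻¹ᵁ f ⁻¹ᵁ U := by
  subst w; exact le_rfl

omit [IsAffineHom f] in
theorem algHom_app (h : Y ⟶ X) (w : h ≫ f = g) (U : S.Opens) :
    (AffAlg.algHom f g h w).app (op U) =
      h.appLE (f ⁻¹ᵁ U) (g ⁻¹ᵁ U) (preimage_le f g h w U) := by
  subst w
  have e : (AffAlg.algHom f (h ≫ f) h rfl).app (op U) = h.app (f ⁻¹ᵁ U) := by
    simp only [AffAlg.algHom]; rfl
  rw [e]
  exact Scheme.Hom.app_eq_appLE h

theorem ι_comp_eq {Z T : Scheme.{u}} (h : Z ⟶ T) {W : T.Opens} (hW : IsAffineOpen W) (V : Z.Opens)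
    (e : V ≤ h ⁻¹ᵁ W) :
    V.ι ≫ h = V.toSpecΓ ≫ Spec.map (h.appLE W V e) ≫ hW.fromSpec := by
  rw [Scheme.Opens.toSpecΓ_SpecMap_appLE_assoc, IsAffineOpen.toSpecΓ_fromSpec,
    Scheme.Hom.resLE_comp_ι]

theorem specMap_injective_of_toSpecΓ {Z : Scheme.{u}} (V : Z.Opens) {R : CommRingCat.{u}}
    (ψ₁ ψ₂ : R ⟶ Γ(Z, V)) (h : V.toSpecΓ ≫ Spec.map ψ₁ = V.toSpecΓ ≫ Spec.map ψ₂) : ψ₁ = ψ₂ := by
  have h1 := congrArg Scheme.Hom.appTop h
  rw [Scheme.Hom.comp_appTop, Scheme.Hom.comp_appTop, Scheme.Opens.toSpecΓ_appTop,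
    ← Category.assoc, ← Category.assoc, Scheme.ΓSpecIso_naturality, Scheme.ΓSpecIso_naturality,
    Category.assoc, Category.assoc, Iso.cancel_iso_hom_left] at h1
  exact (cancel_mono _).mp h1



variable (ω : AffAlg.alg f ⟶ AffAlg.alg g)

/-- the local pieces of the morphism attached to an algebra homomorphism. -/
noncomputable def piece (U : S.AffineZariskiSite) : (g ⁻¹ᵁ U.toOpens).toScheme ⟶ X :=
  (g ⁻¹ᵁ U.toOpens).toSpecΓ ≫ Spec.map (ω.app (op U.toOpens)) ≫ (U.2.preimage f).fromSpec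

theorem piece_compat {U V : S.AffineZariskiSite} (h : U ≤ V) :
    Y.homOfLE (g.preimage_mono (toOpens_le h)) ≫ piece f g ω V = piece f g ω U := by
  unfold piece
  rw [← Scheme.Opens.toSpecΓ_SpecMap_presheaf_map_assoc, ← Spec.map_comp_assoc]
  have h1 : ω.app (op V.toOpens) ≫ Y.presheaf.map (homOfLE (g.preimage_mono (toOpens_le h))).op =
      X.presheaf.map (homOfLE (f.preimage_mono (toOpens_le h))).op ≫ ω.app (op U.toOpens) :=
    (ω.naturality (homOfLE (toOpens_le h)).op).symm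
  rw [h1, Spec.map_comp_assoc]
  congr 2
  exact IsAffineOpen.map_fromSpec _ (U.2.preimage f) (homOfLE (f.preimage_mono (toOpens_le h))).op

set_option backward.defeqAttrib.useBackward true in
set_option backward.isDefEq.respectTransparency false in
theorem lift_compat {U V : S.AffineZariskiSite} (i : U ⟶ V) :
    Cover.trans ((directedCover S).pullback₁ g) i ≫
      ((pullbackRestrictIsoRestrict g V.toOpens).hom ≫ piece f g ω V) =
      (pullbackRestrictIsoRestrict g U.toOpens).hom ≫ piece f g ω U := by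
  have : (pullbackRestrictIsoRestrict g U.toOpens).inv ≫
      Cover.trans ((directedCover S).pullback₁ g) i ≫
      (pullbackRestrictIsoRestrict g V.toOpens).hom = Y.homOfLE
        (g.preimage_mono (toOpens_mono i.1.1)) := by
    rw [← cancel_mono (Scheme.Opens.ι _)]
    simp +instances [Cover.trans, Cover.locallyDirectedPullbackCover]
  rw [← Iso.inv_comp_eq, reassoc_of% this]
  exact piece_compat f g ω i.1.1

/-- the morphism attached to an algebra homomorphism. -/
noncomputable def lift : Y ⟶ X :=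
  Scheme.OpenCover.glueMorphismsOfLocallyDirected
    ((directedCover S).pullback₁ g)
    (fun U ↦ (pullbackRestrictIsoRestrict g U.toOpens).hom ≫ piece f g ω U)
    (fun i ↦ lift_compat f g ω i)

set_option backward.isDefEq.respectTransparency.types false in
set_option backward.defeqAttrib.useBackward true in
theorem ι_lift (U : S.AffineZariskiSite) :
    (g ⁻¹ᵁ U.toOpens).ι ≫ lift f g ω = piece f g ω U := by
  rw [← cancel_epi (pullbackRestrictIsoRestrict g U.toOpens).hom, ← Category.assoc]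
  trans ((directedCover S).pullback₁ g).f U ≫ lift f g ω
  · congr 1; simp
  exact Scheme.OpenCover.map_glueMorphismsOfLocallyDirected _ _ (fun i ↦ lift_compat f g ω i) U

omit [IsAffineHom f] in
theorem cover_hom_ext {T : Scheme.{u}} (h₁ h₂ : Y ⟶ T)
    (H : ∀ U : S.AffineZariskiSite, (g ⁻¹ᵁ U.toOpens).ι ≫ h₁ = (g ⁻¹ᵁ U.toOpens).ι ≫ h₂) :
    h₁ = h₂ := by
  refine Scheme.Cover.hom_ext (Y.openCoverOfIsOpenCover _
    (.comap (iSup_affineOpens_eq_top S) g.base.1)) _ _ fun U ↦ ?_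
  exact H U

theorem hom_ext_of_appLE (h₁ h₂ : Y ⟶ X) (w₁ : h₁ ≫ f = g) (w₂ : h₂ ≫ f = g)
    (H : ∀ U : S.AffineZariskiSite,
      h₁.appLE (f ⁻¹ᵁ U.toOpens) (g ⁻¹ᵁ U.toOpens) (preimage_le f g h₁ w₁ U.toOpens) =
      h₂.appLE (f ⁻¹ᵁ U.toOpens) (g ⁻¹ᵁ U.toOpens) (preimage_le f g h₂ w₂ U.toOpens)) :
    h₁ = h₂ := by
  apply cover_hom_ext g
  intro U
  rw [ι_comp_eq h₁ (U.2.preimage f) _ (preimage_le f g h₁ w₁ U.toOpens),
    ι_comp_eq h₂ (U.2.preimage f) _ (preimage_le f g h₂ w₂ U.toOpens), H U]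

theorem lift_comp (hω : f.c ≫ ω = g.c) : lift f g ω ≫ f = g := by
  apply cover_hom_ext g
  intro U
  rw [← Category.assoc, ι_lift]
  unfold piece
  have h1 : f.app U.toOpens ≫ ω.app (op U.toOpens) = g.app U.toOpens :=
    congrArg (fun t => t.app (op U.toOpens)) hω
  have h2 : (U.2.preimage f).fromSpec ≫ f = Spec.map (f.app U.toOpens) ≫ U.2.fromSpec := by
    rw [Scheme.Hom.app_eq_appLE]
    exact (IsAffineOpen.SpecMap_appLE_fromSpec f U.2 (U.2.preimage f) le_rfl).symm
  rw [Category.assoc, Category.assoc, h2, ← Spec.map_comp_assoc, h1]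
  rw [Scheme.Opens.toSpecΓ_naturality_assoc, IsAffineOpen.toSpecΓ_fromSpec]
  simp

theorem lift_appLE (w : lift f g ω ≫ f = g) (U : S.AffineZariskiSite) :
    (lift f g ω).appLE (f ⁻¹ᵁ U.toOpens) (g ⁻¹ᵁ U.toOpens)
      (preimage_le f g (lift f g ω) w U.toOpens) = ω.app (op U.toOpens) := by
  apply specMap_injective_of_toSpecΓ (g ⁻¹ᵁ U.toOpens)
  have h1 := ι_comp_eq (lift f g ω) (U.2.preimage f) _ (preimage_le f g (lift f g ω) w U.toOpens)
  rw [ι_lift] at h1
  unfold piece at h1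
  have : Mono (U.2.preimage f).fromSpec := inferInstance
  rw [← cancel_mono (U.2.preimage f).fromSpec, Category.assoc, Category.assoc]
  exact h1.symm

/-- the direct image of the structure sheaf as a sheaf. -/
noncomputable abbrev pushSheaf : Sheaf (Opens.grothendieckTopology S) CommRingCat.{u} :=
  (TopCat.Sheaf.pushforward CommRingCat.{u} g.base).obj Y.sheaf

omit [IsAffineHom f] in
theorem alg_hom_ext (ω₁ ω₂ : AffAlg.alg f ⟶ AffAlg.alg g)
    (H : ∀ U : S.AffineZariskiSite, ω₁.app (op U.toOpens) = ω₂.app (op U.toOpens)) : ω₁ = ω₂ := by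
  apply (Functor.IsCoverDense.restrictHomEquivHom (G := toOpensFunctor S)
    (ℱ' := pushSheaf g)).symm.injective
  apply NatTrans.ext
  funext U
  exact H U.unop

theorem algHom_lift (w : lift f g ω ≫ f = g) : AffAlg.algHom f g (lift f g ω) w = ω := by
  apply alg_hom_ext
  intro U
  rw [algHom_app f g _ w, lift_appLE f g ω w]

theorem bijective : Function.Bijective (AffAlg.algOf f g) := by
  constructor
  · rintro ⟨h₁, w₁⟩ ⟨h₂, w₂⟩ H
    have H' : AffAlg.algHom f g h₁ w₁ = AffAlg.algHom f g h₂ w₂ := congrArg Subtype.val H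
    apply Subtype.ext
    apply hom_ext_of_appLE f g h₁ h₂ w₁ w₂
    intro U
    rw [← algHom_app f g h₁ w₁, ← algHom_app f g h₂ w₂, H']
  · rintro ⟨ω, hω⟩
    refine ⟨⟨lift f g ω, lift_comp f g ω hω⟩, ?_⟩
    apply Subtype.ext
    exact algHom_lift f g ω (lift_comp f g ω hω)

end Groth.Agent.Lib.Helper6.AffUniv
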