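import Mathlib

set_option autoImplicit false

namespace Groth.Agent.Lib.Helper6.FibreAvoid

open scoped Classical in
/-- Let `B → C` be integral, `𝔭` a prime of `B`, `ρ : D → C` a ring map and `K` an ideal of `D`
generating the unit ideal of `C`. Then some `f ∈ K` is nonzero at all primes of `C` over `𝔭`. -/
theorem exists_mem_forall_notMem {B C D : Type*} [CommRing B] [CommRing C] [CommRing D]
    (φ : B →+* C) (hφ : φ.IsIntegral) (𝔭 : Ideal B) [h𝔭 : 𝔭.IsPrime] (ρ : D →+* C) (K : Ideal D)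
    (hK : K.map ρ = ⊤) :
    ∃ f ∈ K, ∀ 𝔮 : Ideal C, 𝔮.IsPrime → 𝔮.comap φ = 𝔭 → ρ f ∉ 𝔮 := by
  let _ := φ.toAlgebra
  have h1 : (1 : C) ∈ Submodule.span C (ρ '' (K : Set D)) := by
    change (1 : C) ∈ Ideal.map ρ K
    rw [hK]
    trivial
  obtain ⟨t, htK, c, hc⟩ := (Submodule.mem_span_image_iff_exists_fun C).mp h1
  -- the finite subalgebra
  let S : Set C := (Set.range fun i : t => ρ i) ∪ Set.range c
  have hSfin : S.Finite := (Set.finite_range _).union (Set.finite_range _)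
  let C' : Subalgebra B C := Algebra.adjoin B S
  have hfin : Module.Finite B C' :=
    Algebra.finite_adjoin_of_finite_of_isIntegral hSfin (fun x _ => hφ x)
  have hρmem : ∀ i : t, ρ i ∈ C' := fun i => Algebra.subset_adjoin (Or.inl ⟨i, rfl⟩)
  have hcmem : ∀ i : t, c i ∈ C' := fun i => Algebra.subset_adjoin (Or.inr ⟨i, rfl⟩)
  -- the polynomial ring
  let P := MvPolynomial t ℤ
  let evalD : P →+* D := MvPolynomial.eval₂Hom (Int.castRingHom D) (fun i : t => (i : D))
  let evalC' : P →+* C' :=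
    MvPolynomial.eval₂Hom (Int.castRingHom C') (fun i : t => ⟨ρ i, hρmem i⟩)
  have hcompat : ∀ F : P, ((evalC' F : C') : C) = ρ (evalD F) := by
    intro F
    have : (C'.val.toRingHom.comp evalC') = ρ.comp evalD := by
      apply MvPolynomial.ringHom_ext
      · intro n
        simp [evalC', evalD]
      · intro i
        simp [evalC', evalD]
    exact congrArg (fun g : P →+* C => g F) this
  let K'' : Ideal P := Ideal.span (Set.range (MvPolynomial.X : t → P))
  -- the finite set of primes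
  have hQfin : (PrimeSpectrum.comap (algebraMap B C') ⁻¹' {⟨𝔭, h𝔭⟩}).Finite :=
    Algebra.QuasiFinite.finite_comap_preimage_singleton _
  let s : Finset (Ideal P) := hQfin.toFinset.image (fun 𝔮' => 𝔮'.asIdeal.comap evalC')
  have hsprime : ∀ I ∈ s, I ≠ ⊤ → I ≠ ⊤ → I.IsPrime := by
    intro I hI _ _
    obtain ⟨𝔮', -, rfl⟩ := Finset.mem_image.mp hI
    exact Ideal.comap_isPrime _ _
  have hnot : ¬ ((K'' : Set P) ⊆ ⋃ I ∈ (↑s : Set (Ideal P)), (id I : Ideal P)) := by
    rw [Ideal.subset_union_prime (f := id) ⊤ ⊤ hsprime]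
    rintro ⟨I, hI, hle⟩
    obtain ⟨𝔮', -, rfl⟩ := Finset.mem_image.mp hI
    have hX : ∀ i : t, (⟨ρ i, hρmem i⟩ : C') ∈ 𝔮'.asIdeal := by
      intro i
      have : (MvPolynomial.X i : P) ∈ K'' := Ideal.subset_span ⟨i, rfl⟩
      have h3 : evalC' (MvPolynomial.X i) ∈ 𝔮'.asIdeal := hle this
      have e : evalC' (MvPolynomial.X i) = ⟨ρ i, hρmem i⟩ := MvPolynomial.eval₂Hom_X' _ _ _
      rwa [e] at h3
    have hone : (1 : C') = ∑ i : t, (⟨c i, hcmem i⟩ : C') * ⟨ρ i, hρmem i⟩ := by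
      apply Subtype.ext
      rw [OneMemClass.coe_one, AddSubmonoidClass.coe_finsetSum, ← hc]
      exact Finset.sum_congr rfl (fun i _ => rfl)
    have : (1 : C') ∈ 𝔮'.asIdeal := by
      rw [hone]
      exact Ideal.sum_mem _ (fun i _ => Ideal.mul_mem_left _ _ (hX i))
    exact 𝔮'.isPrime.ne_top ((Ideal.eq_top_iff_one _).mpr this)
  obtain ⟨F, hFK, hFs⟩ := Set.not_subset.mp hnot
  refine ⟨evalD F, ?_, ?_⟩
  · have h2 : evalD F ∈ Ideal.map evalD K'' := Ideal.mem_map_of_mem _ hFK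
    rw [Ideal.map_span] at h2
    refine (Ideal.span_le.mpr ?_) h2
    rintro _ ⟨_, ⟨i, rfl⟩, rfl⟩
    have : evalD (MvPolynomial.X i) = (i : D) := MvPolynomial.eval₂Hom_X' _ _ _
    rw [this]
    exact htK i.2
  · intro 𝔮 h𝔮 h𝔮𝔭 hmem
    apply hFs
    let 𝔮' : PrimeSpectrum C' := ⟨𝔮.comap C'.val.toRingHom, Ideal.comap_isPrime _ _⟩
    have h𝔮' : 𝔮' ∈ hQfin.toFinset := by
      rw [Set.Finite.mem_toFinset]
      change PrimeSpectrum.comap (algebraMap B C') 𝔮' = ⟨𝔭, h𝔭⟩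
      apply PrimeSpectrum.ext
      change (𝔮.comap C'.val.toRingHom).comap (algebraMap B C') = 𝔭
      rw [Ideal.comap_comap, ← h𝔮𝔭]
      rfl
    have hmem' : F ∈ 𝔮'.asIdeal.comap evalC' := by
      change ((evalC' F : C') : C) ∈ 𝔮
      rw [hcompat]
      exact hmem
    exact Set.mem_biUnion (Finset.mem_coe.mpr (Finset.mem_image_of_mem _ h𝔮')) hmem'

end Groth.Agent.Lib.Helper6.FibreAvoid
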