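import Groth.Agent.Lib.Helper6.PinchPts
import Groth.Agent.Lib.Helper6.FibreAvoid

set_option autoImplicit false
universe u
open AlgebraicGeometry CategoryTheory Limits TopologicalSpace Opposite

namespace Groth.Agent.Lib.Helper6.AdaptedPair

open Scheme PinchAff

variable {X Y Z : Scheme.{u}} (i : Z ⟶ X) [IsClosedImmersion i] (j : Z ⟶ Y)

/-- the largest open of `Y` whose preimage lies in a given open of `Z`, for a closed map. -/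
def pushOpen (hj : IsClosedMap j) (O : Z.Opens) : Y.Opens :=
  ⟨(j '' (O : Set Z)ᶜ)ᶜ, (hj _ O.isOpen.isClosed_compl).isOpen_compl⟩

omit [IsClosedImmersion i] in
theorem mem_pushOpen (hj : IsClosedMap j) (O : Z.Opens) (y : Y) (hy : j ⁻¹' {y} ⊆ (O : Set Z)) :
    y ∈ pushOpen j hj O := by
  rintro ⟨z, hz, rfl⟩
  exact hz (hy rfl)

omit [IsClosedImmersion i] in
theorem preimage_pushOpen_le (hj : IsClosedMap j) (O : Z.Opens) : j ⁻¹ᵁ pushOpen j hj O ≤ O := by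
  intro z hz
  by_contra hzO
  exact hz ⟨z, hzO, rfl⟩

/-- Step B: shrink to an adapted pair. -/
theorem stepB (hj : IsClosedMap j) (U₁ : X.Opens) (hU₁ : IsAffineOpen U₁) (V₂ : Y.Opens)
    (hV₂ : IsAffineOpen V₂) (h12 : i ⁻¹ᵁ U₁ ≤ j ⁻¹ᵁ V₂) (y : Y) (hy : y ∈ V₂)
    (hfib : j ⁻¹' {y} ⊆ (i ⁻¹ᵁ U₁ : Set Z)) :
    ∃ (U : X.Opens) (V : Y.Opens), IsAffineOpen U ∧ IsAffineOpen V ∧ y ∈ V ∧
      i ⁻¹ᵁ U = j ⁻¹ᵁ V := by
  have hy3 : y ∈ pushOpen j hj (i ⁻¹ᵁ U₁) := mem_pushOpen j hj _ y hfib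
  obtain ⟨g, hg1, hg2⟩ := hV₂.exists_basicOpen_le
    (V := V₂ ⊓ pushOpen j hj (i ⁻¹ᵁ U₁)) ⟨y, hy, hy3⟩ hy
  obtain ⟨a', ha'⟩ := i.app_surjective U₁ hU₁ (j.appLE V₂ (i ⁻¹ᵁ U₁) h12 g)
  refine ⟨X.basicOpen a', Y.basicOpen g, hU₁.basicOpen a', hV₂.basicOpen g, hg2, ?_⟩
  rw [Scheme.preimage_basicOpen, ha', Scheme.basicOpen_appLE, inf_eq_right]
  exact (j.preimage_mono (hg1.trans inf_le_right)).trans (preimage_pushOpen_le j hj _)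


omit [IsClosedImmersion i] in
/-- the vanishing ideal of the complement of an open piece generates the unit ideal there. -/
theorem map_vanishing_eq_top {A₀ Z₀ Z₂ : Scheme.{u}} [IsAffine A₀] [IsAffine Z₀] [IsAffine Z₂]
    (i₀ : Z₀ ⟶ A₀) (hi₀ : Function.Surjective i₀.appTop) (ι₂ : Z₂ ⟶ Z₀) [IsOpenImmersion ι₂]
    (K : Ideal Γ(A₀, ⊤))
    (hKdef : ∀ f : Γ(A₀, ⊤), (∀ z : Z₀, z ∉ Set.range ι₂ → f ∈ (pr (i₀ z)).asIdeal) → f ∈ K) :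
    K.map (ι₂ ≫ i₀).appTop.hom = ⊤ := by
  by_contra hne
  obtain ⟨𝔪, h𝔪, hle⟩ := Ideal.exists_le_maximal _ hne
  obtain ⟨z₂, hz₂⟩ := pr_surjective (P := Z₂) ⟨𝔪, h𝔪.isPrime⟩
  have hz₀ : ι₂ z₂ ∈ ι₂.opensRange := ⟨z₂, rfl⟩
  obtain ⟨c, hc1, hc2⟩ := exists_basicOpen_le ι₂.opensRange (ι₂ z₂) hz₀
  obtain ⟨f, hf⟩ := hi₀ c
  have hfK : f ∈ K := by
    apply hKdef
    intro z hz
    rw [mem_pr_map, hf]
    by_contra hcz
    exact hz (hc2 ((mem_basicOpen_iff z c).mpr hcz))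
  have h1 : (ι₂ ≫ i₀).appTop f ∈ 𝔪 := hle (Ideal.mem_map_of_mem _ hfK)
  have h2 : (ι₂ ≫ i₀).appTop f ∉ (pr z₂).asIdeal := by
    rw [Scheme.Hom.comp_appTop, CommRingCat.comp_apply, hf, ← mem_pr_map]
    exact (mem_basicOpen_iff _ c).mp hc1
  rw [hz₂] at h2
  exact h2 h1

/-- Stacks 0E25: adapted affine pairs exist around every point of `Y`. -/
theorem exists_pair [IsIntegralHom j]
    (h : ∀ y : Y, ∃ U : X.Opens, IsAffineOpen U ∧ j ⁻¹' {y} ⊆ (i ⁻¹ᵁ U : Set ↑Z)) (y : Y) :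
    ∃ (U : X.Opens) (V : Y.Opens), IsAffineOpen U ∧ IsAffineOpen V ∧ y ∈ V ∧
      i ⁻¹ᵁ U = j ⁻¹ᵁ V := by
  have hj : IsClosedMap j := j.isClosedMap
  obtain ⟨U₀, hU₀, hfib0⟩ := h y
  -- an affine neighbourhood `V₂` of `y` with `j⁻¹ V₂ ⊆ i⁻¹ U₀`
  have hy1 : y ∈ pushOpen j hj (i ⁻¹ᵁ U₀) := mem_pushOpen j hj _ y hfib0
  obtain ⟨_, ⟨V₂, hV₂, rfl⟩, hyV₂, hV₂sub⟩ :=
    Y.isBasis_affineOpens.exists_subset_of_mem_open hy1 (pushOpen j hj (i ⁻¹ᵁ U₀)).isOpen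
  have hy : y ∈ V₂ := hyV₂
  have hV₂le : V₂ ≤ pushOpen j hj (i ⁻¹ᵁ U₀) := hV₂sub
  let O₀ : Z.Opens := i ⁻¹ᵁ U₀
  let O₂ : Z.Opens := j ⁻¹ᵁ V₂
  have hO20 : O₂ ≤ O₀ := (j.preimage_mono hV₂le).trans (preimage_pushOpen_le j hj _)
  have _ : IsAffine (U₀ : Scheme.{u}) := hU₀
  have _ : IsAffine (V₂ : Scheme.{u}) := hV₂
  have _ : IsAffine (O₀ : Scheme.{u}) := hU₀.preimage i
  have _ : IsAffine (O₂ : Scheme.{u}) := hV₂.preimage j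
  let jR : (O₂ : Scheme.{u}) ⟶ V₂ := j.resLE V₂ O₂ le_rfl
  let i₀ : (O₀ : Scheme.{u}) ⟶ U₀ := i.resLE U₀ O₀ le_rfl
  let iR' : (O₂ : Scheme.{u}) ⟶ U₀ := i.resLE U₀ O₂ hO20
  have hiR' : Z.homOfLE hO20 ≫ i₀ = iR' := Scheme.Hom.map_resLE _ _ _
  have hjR_int : IsIntegralHom jR := by
    have : jR = j ∣_ V₂ := Scheme.Hom.resLE_eq_morphismRestrict j
    rw [this]
    infer_instance
  have hi₀_cl : IsClosedImmersion i₀ := by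
    have : i₀ = i ∣_ U₀ := Scheme.Hom.resLE_eq_morphismRestrict i
    rw [this]
    exact IsZariskiLocalAtTarget.restrict (P := @IsClosedImmersion) inferInstance U₀
  have hi₀_surj : Function.Surjective i₀.appTop :=
    (IsClosedImmersion.isAffine_surjective_of_isAffine i₀).2
  have hjR_apply : ∀ z : O₂, (jR z).1 = j z.1 := fun z =>
    congrArg (fun f : (O₂ : Scheme.{u}) ⟶ Y => f z) (Scheme.Hom.resLE_comp_ι j (le_refl O₂))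
  have hi₀_apply : ∀ z : O₀, (i₀ z).1 = i z.1 := fun z =>
    congrArg (fun f : (O₀ : Scheme.{u}) ⟶ X => f z) (Scheme.Hom.resLE_comp_ι i (le_refl O₀))
  have hiR'_apply : ∀ z : O₂, (iR' z).1 = i z.1 := fun z =>
    congrArg (fun f : (O₂ : Scheme.{u}) ⟶ X => f z) (Scheme.Hom.resLE_comp_ι i hO20)
  -- the ideal of functions vanishing on `O₀ \ O₂`
  have hrange : ∀ z : O₀, z ∈ Set.range (Z.homOfLE hO20) ↔ z.1 ∈ O₂ := by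
    intro z
    constructor
    · rintro ⟨z₂, rfl⟩
      rw [Scheme.homOfLE_apply]
      exact z₂.2
    · intro hz
      exact ⟨⟨z.1, hz⟩, Subtype.ext (Scheme.homOfLE_apply _ _)⟩
  clear_value jR i₀ iR'
  let K : Ideal Γ(U₀, ⊤) := ⨅ z : {z : O₀ // z.1 ∉ O₂}, (pr (i₀ z.1)).asIdeal
  have hK : K.map iR'.appTop.hom = ⊤ := by
    rw [← hiR']
    apply map_vanishing_eq_top i₀ hi₀_surj (Z.homOfLE hO20) K
    intro f hf
    rw [Ideal.mem_iInf]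
    rintro ⟨z, hz⟩
    exact hf z (fun hz' => hz ((hrange z).mp hz'))
  have hprime := (pr (P := (V₂ : Scheme.{u})) ⟨y, hy⟩).isPrime
  obtain ⟨f, hfK, hf⟩ := FibreAvoid.exists_mem_forall_notMem jR.appTop.hom
    (IsIntegralHom.isIntegral_app jR ⊤ (isAffineOpen_top _)) (pr (P := (V₂ : Scheme.{u})) ⟨y, hy⟩).asIdeal
    iR'.appTop.hom K hK
  -- the principal open
  let U₁ : X.Opens := U₀.ι ''ᵁ (U₀ : Scheme.{u}).basicOpen f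
  have hU₁ : IsAffineOpen U₁ :=
    ((isAffineOpen_top (U₀ : Scheme.{u})).basicOpen f).image_of_isOpenImmersion U₀.ι
  have hmemU₁ : ∀ x : X, x ∈ U₁ ↔ ∃ hx : x ∈ U₀, (⟨x, hx⟩ : U₀) ∈ (U₀ : Scheme.{u}).basicOpen f := by
    intro x
    constructor
    · rintro ⟨x', hx', rfl⟩
      exact ⟨x'.2, hx'⟩
    · rintro ⟨hx, h⟩
      exact ⟨⟨x, hx⟩, h, rfl⟩
  have h12 : i ⁻¹ᵁ U₁ ≤ j ⁻¹ᵁ V₂ := by
    intro z hz
    obtain ⟨hx, hxf⟩ := (hmemU₁ (i z)).mp hz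
    by_contra hzO
    have hzO₀ : z ∈ O₀ := hx
    have h1 : f ∈ (pr (i₀ ⟨z, hzO₀⟩)).asIdeal := (Ideal.mem_iInf.mp hfK) ⟨⟨z, hzO₀⟩, hzO⟩
    have h2 : i₀ ⟨z, hzO₀⟩ = (⟨i z, hx⟩ : (U₀ : Scheme.{u})) :=
      Subtype.ext (hi₀_apply ⟨z, hzO₀⟩)
    have hxf' : i₀ ⟨z, hzO₀⟩ ∈ (U₀ : Scheme.{u}).basicOpen f := by
      rw [h2]; exact hxf
    exact (mem_basicOpen_iff (P := (U₀ : Scheme.{u})) _ f).mp hxf' h1
  have hfib : j ⁻¹' {y} ⊆ (i ⁻¹ᵁ U₁ : Set Z) := by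
    intro z hz
    have hzy : j z = y := hz
    have hzO₂ : z ∈ O₂ := by
      change j z ∈ V₂
      rw [hzy]; exact hy
    have h1 : jR ⟨z, hzO₂⟩ = ⟨y, hy⟩ := Subtype.ext ((hjR_apply ⟨z, hzO₂⟩).trans hzy)
    have h2 : (pr (P := (O₂ : Scheme.{u})) ⟨z, hzO₂⟩).asIdeal.comap jR.appTop.hom = (pr (P := (V₂ : Scheme.{u})) ⟨y, hy⟩).asIdeal := by
      rw [← h1, pr_map]
      rfl
    have h3 := hf _ (pr (P := (O₂ : Scheme.{u})) ⟨z, hzO₂⟩).isPrime h2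
    have h4 : iR' ⟨z, hzO₂⟩ ∈ (U₀ : Scheme.{u}).basicOpen f := by
      rw [mem_basicOpen_iff (P := (U₀ : Scheme.{u})), mem_pr_map]
      exact h3
    change i z ∈ U₁
    rw [hmemU₁]
    have hx : i z ∈ U₀ := hO20 hzO₂
    refine ⟨hx, ?_⟩
    have h5 : iR' ⟨z, hzO₂⟩ = (⟨i z, hx⟩ : (U₀ : Scheme.{u})) :=
      Subtype.ext (hiR'_apply ⟨z, hzO₂⟩)
    rw [← h5]
    exact h4
  exact stepB i j hj U₁ hU₁ V₂ hV₂ h12 y hy hfib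

end Groth.Agent.Lib.Helper6.AdaptedPair
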