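import Groth.Agent.Lib.Helper6.PinchPts

set_option autoImplicit false
universe u
open AlgebraicGeometry CategoryTheory Limits TopologicalSpace Opposite

namespace Groth.Agent.Lib.Helper6.PinchAlg

theorem IsAwayHom.congr {R R' R'' : Type*} [CommRing R] [CommRing R'] [CommRing R'']
    {l : R →+* R'} {f : R} (h : IsAwayHom l f) (E : R' →+* R'') (hE : Function.Bijective E)
    (l' : R →+* R'') (hl : ∀ x, l' x = E (l x)) : IsAwayHom l' f where
  unit := by rw [hl]; exact h.unit.map E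
  surj x'' := by
    obtain ⟨x', rfl⟩ := hE.2 x''
    obtain ⟨x, n, hx⟩ := h.surj x'
    exact ⟨x, n, by rw [hl, hl, ← map_pow, ← map_mul, hx]⟩
  ker x hx := by
    apply h.ker
    apply hE.1
    rw [← hl, hx, map_zero]

theorem IsAwayHom.isLocalization {R R' : Type*} [CommRing R] [CommRing R'] {l : R →+* R'} {f : R}
    (h : IsAwayHom l f) : @IsLocalization.Away R _ f R' _ l.toAlgebra := by
  letI := l.toAlgebra
  refine ⟨?_, ?_, ?_⟩
  · rintro ⟨_, n, rfl⟩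
    change IsUnit (l (f ^ n))
    rw [map_pow]
    exact h.unit.pow n
  · intro z
    obtain ⟨x, n, hx⟩ := h.surj z
    refine ⟨⟨x, ⟨f ^ n, n, rfl⟩⟩, ?_⟩
    change z * l (f ^ n) = l x
    rw [map_pow]
    exact hx
  · intro x y hxy
    have hxy' : l x = l y := hxy
    obtain ⟨n, hn⟩ := h.ker (x - y) (by rw [map_sub, hxy', sub_self])
    refine ⟨⟨f ^ n, n, rfl⟩, ?_⟩
    change f ^ n * x = f ^ n * y
    rw [← sub_eq_zero, ← mul_sub]
    exact hn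

section eqLocus

variable {A B C A' B' C' : Type*} [CommRing A] [CommRing B] [CommRing C]
  [CommRing A'] [CommRing B'] [CommRing C']
  (φ : A →+* C) (ψ : B →+* C) (φ' : A' →+* C') (ψ' : B' →+* C')
  (lA : A →+* A') (lB : B →+* B') (lC : C →+* C')
  (hφ : ∀ a, φ' (lA a) = lC (φ a)) (hψ : ∀ b, ψ' (lB b) = lC (ψ b))

/-- the fibre product ring. -/
def fib : Subring (A × B) :=
  (φ.comp (RingHom.fst A B)).eqLocus (ψ.comp (RingHom.snd A B))

theorem mem_fib (p : A × B) : p ∈ fib φ ψ ↔ φ p.1 = ψ p.2 := Iff.rfl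

/-- the induced map of fibre product rings. -/
def fibMap : fib φ ψ →+* fib φ' ψ' :=
  ((RingHom.prodMap lA lB).comp (fib φ ψ).subtype).codRestrict (fib φ' ψ') (by
    rintro ⟨⟨a, b⟩, hab⟩
    change φ' (lA a) = ψ' (lB b)
    rw [hφ, hψ]
    exact congrArg lC hab)

theorem fibMap_coe (p : fib φ ψ) :
    (fibMap φ ψ φ' ψ' lA lB lC hφ hψ p : A' × B') = (lA p.1.1, lB p.1.2) := rfl

include hφ hψ in
theorem isAwayHom_fibMap (r : fib φ ψ) (hA : IsAwayHom lA r.1.1) (hB : IsAwayHom lB r.1.2)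
    (hC : IsAwayHom lC (φ r.1.1)) : IsAwayHom (fibMap φ ψ φ' ψ' lA lB lC hφ hψ) r := by
  obtain ⟨⟨rA, rB⟩, hr⟩ := r
  have hr' : φ rA = ψ rB := hr
  dsimp only at hA hB hC
  refine ⟨?_, ?_, ?_⟩
  · -- unit
    obtain ⟨uA, huA⟩ := hA.unit
    obtain ⟨uB, huB⟩ := hB.unit
    have e1 : φ' (↑uA⁻¹) * lC (φ rA) = 1 := by
      rw [← hφ, ← huA, ← map_mul, Units.inv_mul, map_one]
    have e2 : ψ' (↑uB⁻¹) * lC (φ rA) = 1 := by
      rw [hr', ← hψ, ← huB, ← map_mul, Units.inv_mul, map_one]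
    have hmem : ((↑uA⁻¹ : A'), (↑uB⁻¹ : B')) ∈ fib φ' ψ' := by
      change φ' ↑uA⁻¹ = ψ' ↑uB⁻¹
      calc φ' ↑uA⁻¹ = φ' ↑uA⁻¹ * (ψ' ↑uB⁻¹ * lC (φ rA)) := by rw [e2, mul_one]
        _ = (φ' ↑uA⁻¹ * lC (φ rA)) * ψ' ↑uB⁻¹ := by ring
        _ = ψ' ↑uB⁻¹ := by rw [e1, one_mul]
    refine IsUnit.of_mul_eq_one (⟨(↑uA⁻¹, ↑uB⁻¹), hmem⟩ : fib φ' ψ') ?_
    apply Subtype.ext
    apply Prod.ext
    · change lA rA * ↑uA⁻¹ = 1
      rw [← huA, Units.mul_inv]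
    · change lB rB * ↑uB⁻¹ = 1
      rw [← huB, Units.mul_inv]
  · -- surj
    rintro ⟨⟨s, t⟩, hst⟩
    have hst' : φ' s = ψ' t := hst
    obtain ⟨a, n, ha⟩ := hA.surj s
    obtain ⟨b, m, hb⟩ := hB.surj t
    have ha' : s * lA rA ^ (n + m) = lA (a * rA ^ m) := by
      rw [pow_add, ← mul_assoc, ha, map_mul, map_pow]
    have hb' : t * lB rB ^ (n + m) = lB (b * rB ^ n) := by
      rw [pow_add, mul_comm (lB rB ^ n), ← mul_assoc, hb, map_mul, map_pow]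
    have e3 : lC (φ (a * rA ^ m) - ψ (b * rB ^ n)) = 0 := by
      rw [map_sub, ← hφ, ← hψ, ← ha', ← hb', map_mul, map_mul, map_pow, map_pow, hφ, hψ, hst',
        hr', sub_self]
    obtain ⟨k, hk⟩ := hC.ker _ e3
    have hmem : (rA ^ k * (a * rA ^ m), rB ^ k * (b * rB ^ n)) ∈ fib φ ψ := by
      change φ (rA ^ k * (a * rA ^ m)) = ψ (rB ^ k * (b * rB ^ n))
      rw [map_mul, map_mul ψ, map_pow, map_pow ψ, ← hr', ← sub_eq_zero, ← mul_sub]
      exact hk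
    refine ⟨⟨_, hmem⟩, n + m + k, ?_⟩
    apply Subtype.ext
    apply Prod.ext
    · change s * lA rA ^ (n + m + k) = lA (rA ^ k * (a * rA ^ m))
      rw [map_mul, ← ha', map_pow, pow_add _ (n + m) k]
      ring
    · change t * lB rB ^ (n + m + k) = lB (rB ^ k * (b * rB ^ n))
      rw [map_mul, ← hb', map_pow, pow_add _ (n + m) k]
      ring
  · -- ker
    rintro ⟨⟨a, b⟩, hab⟩ h0
    have h1 : lA a = 0 := congrArg (fun p : fib φ' ψ' => p.1.1) h0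
    have h2 : lB b = 0 := congrArg (fun p : fib φ' ψ' => p.1.2) h0
    obtain ⟨n, hn⟩ := hA.ker a h1
    obtain ⟨m, hm⟩ := hB.ker b h2
    refine ⟨n + m, ?_⟩
    apply Subtype.ext
    apply Prod.ext
    · change rA ^ (n + m) * a = 0
      rw [pow_add, mul_comm (rA ^ n), mul_assoc, hn, mul_zero]
    · change rB ^ (n + m) * b = 0
      rw [pow_add, mul_assoc, hm, mul_zero]

end eqLocus

end Groth.Agent.Lib.Helper6.PinchAlg

namespace Groth.Agent.Lib.Helper6.AffPush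

open Scheme PinchAlg

section defs

variable {X Y Z : Scheme.{u}} (i : Z ⟶ X) (j : Z ⟶ Y)

/-- the fibre product of global sections. -/
abbrev ring : Subring (Γ(X, ⊤) × Γ(Y, ⊤)) := fib i.appTop.hom j.appTop.hom

/-- first projection. -/
def fstHom : ring i j →+* Γ(X, ⊤) := (RingHom.fst _ _).comp (ring i j).subtype

/-- second projection. -/
def sndHom : ring i j →+* Γ(Y, ⊤) := (RingHom.snd _ _).comp (ring i j).subtype

/-- the affine pinching of a span. -/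
noncomputable abbrev pt : Scheme.{u} := Spec (CommRingCat.of (ring i j))

/-- left leg. -/
noncomputable def inl : X ⟶ pt i j := X.toSpecΓ ≫ Spec.map (CommRingCat.ofHom (fstHom i j))

/-- right leg. -/
noncomputable def inr : Y ⟶ pt i j := Y.toSpecΓ ≫ Spec.map (CommRingCat.ofHom (sndHom i j))

theorem comm : i ≫ inl i j = j ≫ inr i j := by
  unfold inl inr
  rw [Scheme.toSpecΓ_naturality_assoc, Scheme.toSpecΓ_naturality_assoc, ← Spec.map_comp,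
    ← Spec.map_comp]
  congr 2
  ext ⟨⟨a, b⟩, hab⟩
  exact hab

/-- global sections of the pinching. -/
noncomputable def γ : Γ(pt i j, ⊤) ≃+* ring i j :=
  (Scheme.ΓSpecIso (CommRingCat.of (ring i j))).commRingCatIsoToRingEquiv

theorem inl_appTop (c : Γ(pt i j, ⊤)) : (inl i j).appTop c = (γ i j c).1.1 := by
  have h : (inl i j).appTop = (Scheme.ΓSpecIso (CommRingCat.of (ring i j))).hom ≫
      CommRingCat.ofHom (fstHom i j) := by
    unfold inl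
    rw [Scheme.Hom.comp_appTop, Scheme.toSpecΓ_appTop, Scheme.ΓSpecIso_naturality]
  rw [h]
  rfl

theorem inr_appTop (c : Γ(pt i j, ⊤)) : (inr i j).appTop c = (γ i j c).1.2 := by
  have h : (inr i j).appTop = (Scheme.ΓSpecIso (CommRingCat.of (ring i j))).hom ≫
      CommRingCat.ofHom (sndHom i j) := by
    unfold inr
    rw [Scheme.Hom.comp_appTop, Scheme.toSpecΓ_appTop, Scheme.ΓSpecIso_naturality]
  rw [h]
  rfl

theorem hPB (y : Γ(Y, ⊤)) (x : Γ(X, ⊤)) (h : j.appTop y = i.appTop x) :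
    ∃ c : Γ(pt i j, ⊤), (inr i j).appTop c = y ∧ (inl i j).appTop c = x := by
  refine ⟨(γ i j).symm ⟨(x, y), h.symm⟩, ?_, ?_⟩
  · rw [inr_appTop, RingEquiv.apply_symm_apply]
  · rw [inl_appTop, RingEquiv.apply_symm_apply]

theorem hINJ (c : Γ(pt i j, ⊤)) (h1 : (inr i j).appTop c = 0) (h2 : (inl i j).appTop c = 0) :
    c = 0 := by
  rw [inr_appTop] at h1
  rw [inl_appTop] at h2
  apply (γ i j).injective
  rw [map_zero]
  apply Subtype.ext
  exact Prod.ext h2 h1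

end defs

section functorial

variable {X Y Z X' Y' Z' : Scheme.{u}} (i : Z ⟶ X) (j : Z ⟶ Y) (i' : Z' ⟶ X') (j' : Z' ⟶ Y')
  (fX : X' ⟶ X) (fY : Y' ⟶ Y) (fZ : Z' ⟶ Z) (hi : i' ≫ fX = fZ ≫ i) (hj : j' ≫ fY = fZ ≫ j)

include hi in
theorem appTop_comm (a : Γ(X, ⊤)) : i'.appTop (fX.appTop a) = fZ.appTop (i.appTop a) := by
  rw [← CommRingCat.comp_apply, ← CommRingCat.comp_apply, ← Scheme.Hom.comp_appTop,
    ← Scheme.Hom.comp_appTop, hi]

/-- the map of fibre product rings induced by a map of spans. -/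
def ringMap : ring i j →+* ring i' j' :=
  fibMap i.appTop.hom j.appTop.hom i'.appTop.hom j'.appTop.hom fX.appTop.hom fY.appTop.hom
    fZ.appTop.hom (appTop_comm i i' fX fZ hi) (appTop_comm j j' fY fZ hj)

/-- the map of pinchings induced by a map of spans. -/
noncomputable def map : pt i' j' ⟶ pt i j :=
  Spec.map (CommRingCat.ofHom (ringMap i j i' j' fX fY fZ hi hj))

theorem inl_map : inl i' j' ≫ map i j i' j' fX fY fZ hi hj = fX ≫ inl i j := by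
  unfold inl map
  rw [Category.assoc, ← Spec.map_comp, Scheme.toSpecΓ_naturality_assoc, ← Spec.map_comp]
  rfl

theorem inr_map : inr i' j' ≫ map i j i' j' fX fY fZ hi hj = fY ≫ inr i j := by
  unfold inr map
  rw [Category.assoc, ← Spec.map_comp, Scheme.toSpecΓ_naturality_assoc, ← Spec.map_comp]
  rfl

end functorial

section functorial2

variable {X Y Z : Scheme.{u}} (i : Z ⟶ X) (j : Z ⟶ Y)

theorem map_id (hi : i ≫ 𝟙 X = 𝟙 Z ≫ i) (hj : j ≫ 𝟙 Y = 𝟙 Z ≫ j) :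
    map i j i j (𝟙 X) (𝟙 Y) (𝟙 Z) hi hj = 𝟙 _ := by
  unfold map
  have : ringMap i j i j (𝟙 X) (𝟙 Y) (𝟙 Z) hi hj = RingHom.id _ := by
    ext ⟨⟨a, b⟩, hab⟩ <;> rfl
  rw [this]
  exact Spec.map_id _

variable {X' Y' Z' X'' Y'' Z'' : Scheme.{u}} (i' : Z' ⟶ X') (j' : Z' ⟶ Y')
  (i'' : Z'' ⟶ X'') (j'' : Z'' ⟶ Y'')
  (fX : X' ⟶ X) (fY : Y' ⟶ Y) (fZ : Z' ⟶ Z) (hi : i' ≫ fX = fZ ≫ i) (hj : j' ≫ fY = fZ ≫ j)
  (gX : X'' ⟶ X') (gY : Y'' ⟶ Y') (gZ : Z'' ⟶ Z') (hi' : i'' ≫ gX = gZ ≫ i')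
  (hj' : j'' ≫ gY = gZ ≫ j')

theorem map_comp (hi'' : i'' ≫ gX ≫ fX = (gZ ≫ fZ) ≫ i) (hj'' : j'' ≫ gY ≫ fY = (gZ ≫ fZ) ≫ j) :
    map i' j' i'' j'' gX gY gZ hi' hj' ≫ map i j i' j' fX fY fZ hi hj =
      map i j i'' j'' (gX ≫ fX) (gY ≫ fY) (gZ ≫ fZ) hi'' hj'' := by
  unfold map
  rw [← Spec.map_comp]
  congr 1

end functorial2

section basic

theorem isAwayHom_of_isOpenImmersion {X' X : Scheme.{u}} [IsAffine X] (f : X' ⟶ X)
    [IsOpenImmersion f] (s : Γ(X, ⊤)) (h : f.opensRange = X.basicOpen s) :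
    IsAwayHom f.appTop.hom s := by
  have hpre : f ⁻¹ᵁ f.opensRange = ⊤ := f.preimage_opensRange
  have h1 : IsIso (f.app f.opensRange) := f.isIso_app _ le_rfl
  let E : Γ(X, f.opensRange) ⟶ Γ(X', ⊤) :=
    f.app f.opensRange ≫ X'.presheaf.map (eqToHom hpre.symm).op
  have hE : Function.Bijective E.hom := ConcreteCategory.bijective_of_isIso E
  refine (PinchAff.isAwayHom_res X s f.opensRange h).congr E.hom hE f.appTop.hom (fun c => ?_)
  change _ = (X'.presheaf.map (eqToHom hpre.symm).op)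
    (f.app f.opensRange (PinchAff.res X f.opensRange c))
  rw [PinchAff.res_app]
  unfold PinchAff.res
  rw [← CommRingCat.comp_apply, ← Functor.map_comp]
  have : (homOfLE (le_top : f ⁻¹ᵁ f.opensRange ≤ ⊤)).op ≫ (eqToHom hpre.symm).op =
      𝟙 (op (⊤ : X'.Opens)) := Subsingleton.elim _ _
  rw [this, X'.presheaf.map_id]
  rfl

variable {X Y Z X' Y' Z' : Scheme.{u}} (i : Z ⟶ X) (j : Z ⟶ Y) (i' : Z' ⟶ X') (j' : Z' ⟶ Y')
  (fX : X' ⟶ X) (fY : Y' ⟶ Y) (fZ : Z' ⟶ Z) (hi : i' ≫ fX = fZ ≫ i) (hj : j' ≫ fY = fZ ≫ j)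

theorem isOpenImmersion_map [IsAffine X] [IsAffine Y] [IsAffine Z]
    [IsOpenImmersion fX] [IsOpenImmersion fY] [IsOpenImmersion fZ]
    (r : ring i j) (hX : fX.opensRange = X.basicOpen r.1.1)
    (hY : fY.opensRange = Y.basicOpen r.1.2)
    (hZ : fZ.opensRange = Z.basicOpen (i.appTop r.1.1)) :
    IsOpenImmersion (map i j i' j' fX fY fZ hi hj) := by
  have hloc := (isAwayHom_fibMap i.appTop.hom j.appTop.hom i'.appTop.hom j'.appTop.hom
    fX.appTop.hom fY.appTop.hom fZ.appTop.hom (appTop_comm i i' fX fZ hi)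
    (appTop_comm j j' fY fZ hj) r (isAwayHom_of_isOpenImmersion fX _ hX)
    (isAwayHom_of_isOpenImmersion fY _ hY) (isAwayHom_of_isOpenImmersion fZ _ hZ)).isLocalization
  unfold map ringMap
  let _ := (fibMap i.appTop.hom j.appTop.hom i'.appTop.hom j'.appTop.hom
    fX.appTop.hom fY.appTop.hom fZ.appTop.hom (appTop_comm i i' fX fZ hi)
    (appTop_comm j j' fY fZ hj)).toAlgebra
  exact IsOpenImmersion.of_isLocalization r

end basic

section congr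

variable {X Y Z : Scheme.{u}} (i : Z ⟶ X) (j : Z ⟶ Y)

theorem map_eq_id {fX : X ⟶ X} {fY : Y ⟶ Y} {fZ : Z ⟶ Z} (hi : i ≫ fX = fZ ≫ i)
    (hj : j ≫ fY = fZ ≫ j) (hX : fX = 𝟙 X) (hY : fY = 𝟙 Y) (hZ : fZ = 𝟙 Z) :
    map i j i j fX fY fZ hi hj = 𝟙 _ := by
  subst hX hY hZ
  exact map_id i j hi hj

variable {X' Y' Z' X'' Y'' Z'' : Scheme.{u}} (i' : Z' ⟶ X') (j' : Z' ⟶ Y')
  (i'' : Z'' ⟶ X'') (j'' : Z'' ⟶ Y'')
  (fX : X' ⟶ X) (fY : Y' ⟶ Y) (fZ : Z' ⟶ Z) (hi : i' ≫ fX = fZ ≫ i) (hj : j' ≫ fY = fZ ≫ j)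
  (gX : X'' ⟶ X') (gY : Y'' ⟶ Y') (gZ : Z'' ⟶ Z') (hi' : i'' ≫ gX = gZ ≫ i')
  (hj' : j'' ≫ gY = gZ ≫ j')

theorem map_comp_eq (kX : X'' ⟶ X) (kY : Y'' ⟶ Y) (kZ : Z'' ⟶ Z) (hki : i'' ≫ kX = kZ ≫ i)
    (hkj : j'' ≫ kY = kZ ≫ j) (hX : gX ≫ fX = kX) (hY : gY ≫ fY = kY) (hZ : gZ ≫ fZ = kZ) :
    map i' j' i'' j'' gX gY gZ hi' hj' ≫ map i j i' j' fX fY fZ hi hj =
      map i j i'' j'' kX kY kZ hki hkj := by
  subst hX hY hZ
  exact map_comp i j i' j' i'' j'' fX fY fZ hi hj gX gY gZ hi' hj' hki hkj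

end congr

end Groth.Agent.Lib.Helper6.AffPush
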