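import Groth.Agent.Lib.Helper6.AffUniv
import Groth.Agent.S8255
import Groth.Prelude.Def_RelSpec


set_option autoImplicit false
universe u
open AlgebraicGeometry CategoryTheory Limits TopologicalSpace Opposite

namespace Groth.Agent.Lib.Helper6.AffPushout

open RelSpec

variable {S : Scheme.{u}}

theorem algHom_comp {X Y Z : Scheme.{u}} (f : X ⟶ S) (g : Y ⟶ S) (e : Z ⟶ S) (h : Y ⟶ X)
    (w : h ≫ f = g) (k : Z ⟶ Y) (w' : k ≫ g = e) (w'' : (k ≫ h) ≫ f = e) :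
    AffAlg.algHom f e (k ≫ h) w'' = AffAlg.algHom f g h w ≫ AffAlg.algHom g e k w' := by
  subst w
  subst w'
  ext U
  simp only [AffAlg.algHom]
  rfl

/-- the homomorphism of direct image algebras attached to an `S`-morphism. -/
noncomputable abbrev dHom {X₁ X₂ : Scheme.{u}} (s₁ : X₁ ⟶ S) [IsAffineHom s₁] (s₂ : X₂ ⟶ S)
    [IsAffineHom s₂] (h : X₁ ⟶ X₂) (wh : h ≫ s₂ = s₁) :
    QCAlg.directImage s₂ ⟶ QCAlg.directImage s₁ :=
  ⟨AffAlg.algHom s₂ s₁ h wh, AffAlg.algHom_comm s₂ s₁ h wh⟩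

/-- the algebra homomorphism attached to an `S`-morphism from a relative spectrum. -/
noncomputable def toHom {X : Scheme.{u}} (s : X ⟶ S) [IsAffineHom s] (B : QCAlg S) (a : B.spec ⟶ X)
    (w : a ≫ s = B.π) : QCAlg.directImage s ⟶ B :=
  ⟨AffAlg.algHom s B.π a w ≫ B.gammaMap, by
    change s.c ≫ AffAlg.algHom s B.π a w ≫ B.gammaMap = B.str
    rw [← Category.assoc, AffAlg.algHom_comm, B.π_c_gammaMap]⟩

theorem toHom_hom {X : Scheme.{u}} (s : X ⟶ S) [IsAffineHom s] (B : QCAlg S) (a : B.spec ⟶ X)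
    (w : a ≫ s = B.π) : (toHom s B a w).hom = AffAlg.algHom s B.π a w ≫ B.gammaMap := rfl

/-- the `S`-morphism from a relative spectrum attached to an algebra homomorphism. -/
noncomputable def ofHom {X : Scheme.{u}} (s : X ⟶ S) [IsAffineHom s] (B : QCAlg S)
    (α : QCAlg.directImage s ⟶ B) : B.spec ⟶ X :=
  haveI := Groth.Agent.S8255.result B
  AffUniv.lift s B.π (α.hom ≫ inv B.gammaMap)

theorem ofHom_comm_aux {X : Scheme.{u}} (s : X ⟶ S) [IsAffineHom s] (B : QCAlg S)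
    (α : QCAlg.directImage s ⟶ B) [IsIso B.gammaMap] :
    s.c ≫ (α.hom ≫ inv B.gammaMap) = B.π.c := by
  have h1 : s.c ≫ α.hom = B.str := α.comm
  rw [← Category.assoc, h1, ← B.π_c_gammaMap, Category.assoc, IsIso.hom_inv_id, Category.comp_id]

theorem ofHom_comp {X : Scheme.{u}} (s : X ⟶ S) [IsAffineHom s] (B : QCAlg S)
    (α : QCAlg.directImage s ⟶ B) : ofHom s B α ≫ s = B.π := by
  have := Groth.Agent.S8255.result B
  exact AffUniv.lift_comp s B.π _ (ofHom_comm_aux s B α)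

theorem toHom_ofHom {X : Scheme.{u}} (s : X ⟶ S) [IsAffineHom s] (B : QCAlg S)
    (α : QCAlg.directImage s ⟶ B) : toHom s B (ofHom s B α) (ofHom_comp s B α) = α := by
  have := Groth.Agent.S8255.result B
  apply QCAlg.hom_ext
  rw [toHom_hom]
  have := AffUniv.algHom_lift s B.π (α.hom ≫ inv B.gammaMap) (ofHom_comp s B α)
  unfold ofHom
  rw [this, Category.assoc, IsIso.inv_hom_id, Category.comp_id]

theorem toHom_injective {X : Scheme.{u}} (s : X ⟶ S) [IsAffineHom s] (B : QCAlg S)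
    (a₁ a₂ : B.spec ⟶ X) (w₁ : a₁ ≫ s = B.π) (w₂ : a₂ ≫ s = B.π)
    (h : toHom s B a₁ w₁ = toHom s B a₂ w₂) : a₁ = a₂ := by
  have := Groth.Agent.S8255.result B
  have h1 : AffAlg.algHom s B.π a₁ w₁ ≫ B.gammaMap = AffAlg.algHom s B.π a₂ w₂ ≫ B.gammaMap :=
    congrArg QCAlg.Hom.hom h
  have h2 : AffAlg.algHom s B.π a₁ w₁ = AffAlg.algHom s B.π a₂ w₂ := (cancel_mono _).mp h1
  have h3 : (⟨a₁, w₁⟩ : AffAlg.over s B.π) = ⟨a₂, w₂⟩ :=
    (AffUniv.bijective s B.π).1 (Subtype.ext h2)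
  exact congrArg Subtype.val h3

theorem toHom_comp {X₁ X₂ : Scheme.{u}} (s₁ : X₁ ⟶ S) [IsAffineHom s₁] (s₂ : X₂ ⟶ S)
    [IsAffineHom s₂] (h : X₁ ⟶ X₂) (wh : h ≫ s₂ = s₁) (B : QCAlg S) (a : B.spec ⟶ X₁)
    (w : a ≫ s₁ = B.π) (w' : (a ≫ h) ≫ s₂ = B.π) :
    toHom s₂ B (a ≫ h) w' = dHom s₁ s₂ h wh ≫ toHom s₁ B a w := by
  apply QCAlg.hom_ext
  rw [QCAlg.comp_hom, toHom_hom, toHom_hom, algHom_comp s₂ s₁ B.π h wh a w w', Category.assoc]
  rfl

theorem toHom_congr {X : Scheme.{u}} (s : X ⟶ S) [IsAffineHom s] (B : QCAlg S)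
    {a₁ a₂ : B.spec ⟶ X} (h : a₁ = a₂) (w₁ : a₁ ≫ s = B.π) (w₂ : a₂ ≫ s = B.π) :
    toHom s B a₁ w₁ = toHom s B a₂ w₂ := by
  subst h
  rfl

section

variable {X X' Y Z : Scheme.{u}} (sY : Y ⟶ S) [IsAffineHom sY] (sX : X ⟶ S)
    [IsAffineHom sX] (sX' : X' ⟶ S) [IsAffineHom sX'] (sZ : Z ⟶ S) [IsAffineHom sZ]
    (f : X ⟶ Y) (f' : X' ⟶ Y) (p : Z ⟶ X) (p' : Z ⟶ X') (wf : f ≫ sY = sX) (wf' : f' ≫ sY = sX')
    (wp : p ≫ sX = sZ) (wp' : p' ≫ sX' = sZ)

include wf wf' in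
omit [IsAffineHom sZ] in
theorem lift_cond (B : QCAlg S) (α : QCAlg.directImage sX ⟶ B) (α' : QCAlg.directImage sX' ⟶ B)
    (hα : dHom sX sY f wf ≫ α = dHom sX' sY f' wf' ≫ α') :
    ofHom sX B α ≫ f = ofHom sX' B α' ≫ f' := by
  have w₁ : (ofHom sX B α ≫ f) ≫ sY = B.π := by rw [Category.assoc, wf, ofHom_comp]
  have w₂ : (ofHom sX' B α' ≫ f') ≫ sY = B.π := by rw [Category.assoc, wf', ofHom_comp]
  apply toHom_injective sY B _ _ w₁ w₂
  rw [toHom_comp sX sY f wf B (ofHom sX B α) (ofHom_comp sX B α) w₁,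
    toHom_comp sX' sY f' wf' B (ofHom sX' B α') (ofHom_comp sX' B α') w₂,
    toHom_ofHom, toHom_ofHom, hα]

/-- the direct image algebra functor turns fibre products of schemes affine over `S` into pushouts
of quasi-coherent algebras. -/
theorem isPushout (hZ : IsPullback p p' f f') :
    IsPushout (dHom sX sY f wf) (dHom sX' sY f' wf') (dHom sZ sX p wp) (dHom sZ sX' p' wp') := by
  have wpf : (p ≫ f) ≫ sY = sZ := by rw [Category.assoc, wf, wp]
  have wpf' : (p' ≫ f') ≫ sY = sZ := by rw [Category.assoc, wf', wp']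
  have hsq : dHom sX sY f wf ≫ dHom sZ sX p wp = dHom sX' sY f' wf' ≫ dHom sZ sX' p' wp' := by
    apply QCAlg.hom_ext
    change AffAlg.algHom sY sX f wf ≫ AffAlg.algHom sX sZ p wp =
      AffAlg.algHom sY sX' f' wf' ≫ AffAlg.algHom sX' sZ p' wp'
    rw [← algHom_comp sY sX sZ f wf p wp wpf, ← algHom_comp sY sX' sZ f' wf' p' wp' wpf']
    simp only [hZ.w]
  -- the lift attached to a cocone
  have key : ∀ (B : QCAlg S) (α : QCAlg.directImage sX ⟶ B) (α' : QCAlg.directImage sX' ⟶ B)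
      (hα : dHom sX sY f wf ≫ α = dHom sX' sY f' wf' ≫ α'),
      ∃ (z : B.spec ⟶ Z) (wz : z ≫ sZ = B.π), dHom sZ sX p wp ≫ toHom sZ B z wz = α ∧
        dHom sZ sX' p' wp' ≫ toHom sZ B z wz = α' ∧
        ∀ m : QCAlg.directImage sZ ⟶ B, dHom sZ sX p wp ≫ m = α → dHom sZ sX' p' wp' ≫ m = α' →
          m = toHom sZ B z wz := by
    intro B α α' hα
    have hc := lift_cond sY sX sX' f f' wf wf' B α α' hα
    have wz : hZ.lift (ofHom sX B α) (ofHom sX' B α') hc ≫ sZ = B.π := by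
      rw [← wp, ← Category.assoc, hZ.lift_fst, ofHom_comp]
    refine ⟨hZ.lift (ofHom sX B α) (ofHom sX' B α') hc, wz, ?_, ?_, ?_⟩
    · have w' : (hZ.lift (ofHom sX B α) (ofHom sX' B α') hc ≫ p) ≫ sX = B.π := by
        rw [hZ.lift_fst, ofHom_comp]
      rw [← toHom_comp sZ sX p wp B _ wz w',
        toHom_congr sX B (hZ.lift_fst _ _ hc) w' (ofHom_comp sX B α), toHom_ofHom]
    · have w' : (hZ.lift (ofHom sX B α) (ofHom sX' B α') hc ≫ p') ≫ sX' = B.π := by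
        rw [hZ.lift_snd, ofHom_comp]
      rw [← toHom_comp sZ sX' p' wp' B _ wz w',
        toHom_congr sX' B (hZ.lift_snd _ _ hc) w' (ofHom_comp sX' B α'), toHom_ofHom]
    · intro m hm₁ hm₂
      have hz' : ofHom sZ B m = hZ.lift (ofHom sX B α) (ofHom sX' B α') hc := by
        apply hZ.hom_ext
        · rw [hZ.lift_fst]
          have w₁ : (ofHom sZ B m ≫ p) ≫ sX = B.π := by rw [Category.assoc, wp, ofHom_comp]
          apply toHom_injective sX B _ _ w₁ (ofHom_comp sX B α)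
          rw [toHom_comp sZ sX p wp B _ (ofHom_comp sZ B m) w₁, toHom_ofHom, toHom_ofHom, hm₁]
        · rw [hZ.lift_snd]
          have w₁ : (ofHom sZ B m ≫ p') ≫ sX' = B.π := by rw [Category.assoc, wp', ofHom_comp]
          apply toHom_injective sX' B _ _ w₁ (ofHom_comp sX' B α')
          rw [toHom_comp sZ sX' p' wp' B _ (ofHom_comp sZ B m) w₁, toHom_ofHom, toHom_ofHom, hm₂]
      rw [← toHom_congr sZ B hz' (ofHom_comp sZ B m) wz, toHom_ofHom]
  choose z wz h₁ h₂ h₃ using key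
  refine ⟨⟨hsq⟩, ⟨PushoutCocone.IsColimit.mk _
    (fun c => toHom sZ c.pt (z c.pt c.inl c.inr c.condition) (wz c.pt c.inl c.inr c.condition))
    (fun c => h₁ c.pt c.inl c.inr c.condition) (fun c => h₂ c.pt c.inl c.inr c.condition)
    (fun c m hm₁ hm₂ => h₃ c.pt c.inl c.inr c.condition m hm₁ hm₂)⟩⟩

end

end Groth.Agent.Lib.Helper6.AffPushout
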