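import Mathlib
import Groth.Prelude.Def_MoreMor

set_option autoImplicit false
universe u

open AlgebraicGeometry CategoryTheory TopologicalSpace

/-!
# Finite affine stratifications of quasi-compact quasi-separated schemes (helper6)

`exists_hasAffineStratification`: a qcqs scheme has a finite affine stratification.
`compact_of_hasAffineStratification`: the converse.
-/

namespace Groth.Agent.Lib.Helper6.AffStrat


section Top

variable {X : Type*} [TopologicalSpace X]

/-- A chain of closed sets starting at `T`, each step adding a `G`-good difference. -/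
inductive Chain (G : Set X → Prop) (T : Set X) : Set X → Prop
  | refl : Chain G T T
  | step {T' T'' : Set X} : Chain G T T' → IsClosed T'' → T' ⊆ T'' → G (T'' \ T') → Chain G T T''

variable {G G' : Set X → Prop} {T T' T'' : Set X}

theorem Chain.isClosed (hT : IsClosed T) (h : Chain G T T') : IsClosed T' := by
  cases h with
  | refl => exact hT
  | step _ h _ _ => exact h

theorem Chain.subset (h : Chain G T T') : T ⊆ T' := by
  induction h with
  | refl => exact subset_rfl
  | step _ _ h2 _ ih => exact ih.trans h2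

theorem Chain.trans (h : Chain G T T') (h' : Chain G T' T'') : Chain G T T'' := by
  induction h' with
  | refl => exact h
  | step _ hc hs hg ih => exact Chain.step ih hc hs hg

theorem Chain.single (hc : IsClosed T') (hs : T ⊆ T') (hg : G (T' \ T)) : Chain G T T' :=
  Chain.step Chain.refl hc hs hg

theorem Chain.refine (hT : IsClosed T)
    (H : ∀ T₁ T₂ : Set X, IsClosed T₁ → IsClosed T₂ → T₁ ⊆ T₂ → G (T₂ \ T₁) → Chain G' T₁ T₂)
    (h : Chain G T T') : Chain G' T T' := by
  induction h with
  | refl => exact Chain.refl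
  | step h0 hc hs hg ih => exact ih.trans (H _ _ (h0.isClosed hT) hc hs hg)

open Classical in
theorem Chain.exists_strat (h : Chain G ∅ T) :
    ∃ (n : ℕ) (s : X → ℕ), (∀ i, IsClosed {x | x ∈ T ∧ s x ≤ i}) ∧
      (∀ i < n, G {x | x ∈ T ∧ s x = i}) ∧ ∀ x ∈ T, s x < n := by
  have hcl : ∀ {T'}, Chain G ∅ T' → IsClosed T' := fun h => h.isClosed isClosed_empty
  induction h with
  | refl => exact ⟨0, fun _ => 0, fun i => by simp, fun i hi => by omega, fun x hx => by simp at hx⟩
  | @step T' T'' h0 hc hs hg ih =>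
    obtain ⟨n, s, h1, h2, h3⟩ := ih
    refine ⟨n + 1, fun x => if x ∈ T' then s x else n, fun i => ?_, fun i hi => ?_, fun x hx => ?_⟩
    · by_cases hi : i < n
      · convert h1 i using 1
        ext x
        simp only [Set.mem_ofPred_eq]
        constructor
        · rintro ⟨hx, hx'⟩
          by_cases hxT : x ∈ T'
          · rw [if_pos hxT] at hx'; exact ⟨hxT, hx'⟩
          · rw [if_neg hxT] at hx'; omega
        · rintro ⟨hx, hx'⟩
          rw [if_pos hx]; exact ⟨hs hx, hx'⟩
      · convert hc using 1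
        ext x
        simp only [Set.mem_ofPred_eq]
        constructor
        · exact fun h => h.1
        · intro hx
          refine ⟨hx, ?_⟩
          by_cases hxT : x ∈ T'
          · rw [if_pos hxT]; have := h3 x hxT; omega
          · rw [if_neg hxT]; omega
    · by_cases hi' : i < n
      · convert h2 i hi' using 1
        ext x
        simp only [Set.mem_ofPred_eq]
        constructor
        · rintro ⟨hx, hx'⟩
          by_cases hxT : x ∈ T'
          · rw [if_pos hxT] at hx'; exact ⟨hxT, hx'⟩
          · rw [if_neg hxT] at hx'; omega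
        · rintro ⟨hx, hx'⟩
          rw [if_pos hx]; exact ⟨hs hx, hx'⟩
      · have hin : i = n := by omega
        subst hin
        convert hg using 1
        ext x
        simp only [Set.mem_ofPred_eq, Set.mem_sdiff]
        constructor
        · rintro ⟨hx, hx'⟩
          refine ⟨hx, fun hxT => ?_⟩
          rw [if_pos hxT] at hx'
          have := h3 x hxT; omega
        · rintro ⟨hx, hxT⟩
          exact ⟨hx, by rw [if_neg hxT]⟩
    · simp only
      by_cases hxT : x ∈ T'
      · rw [if_pos hxT]; have := h3 x hxT; omega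
      · rw [if_neg hxT]; omega

end Top



variable {X : Scheme.{u}}

/-- `S` is closed in an affine open and homogeneous with respect to each member of `L`. -/
def Good (L : List X.Opens) (S : Set X) : Prop :=
  ∃ W : X.affineOpens, ∃ C : Set X, IsClosed C ∧ S = (W : Set X) ∩ C ∧
    ∀ V ∈ L, S ⊆ (V : Set X) ∨ Disjoint S (V : Set X)

theorem refine_aux (L : List X.Opens) (V : X.Opens) (W : X.affineOpens) (fs : Finset Γ(X, W.1)) :
    ∀ (T T' C : Set X), IsClosed T → IsClosed T' → T ⊆ T' → IsClosed C → T' \ T = (W : Set X) ∩ C →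
      (∀ V' ∈ L, T' \ T ⊆ (V' : Set X) ∨ Disjoint (T' \ T) (V' : Set X)) →
      (T' \ T) ∩ (V : Set X) = (T' \ T) ∩ ⋃ g ∈ fs, (X.basicOpen g : Set X) →
      Chain (Good (V :: L)) T T' := by
  classical
  induction fs using Finset.induction_on with
  | empty =>
    intro T T' C hT hT' hs hC hW hL hV
    refine Chain.single hT' hs ⟨W, C, hC, hW, ?_⟩
    intro V' hV'
    rcases List.mem_cons.mp hV' with rfl | h
    · right
      rw [Set.disjoint_iff_inter_eq_empty, hV]; simp
    · exact hL V' h
  | insert g fs hg ih =>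
    intro T T' C hT hT' hs hC hW hL hV
    set D : Set X := (X.basicOpen g : Set X) with hD
    have hDo : IsOpen D := (X.basicOpen g).isOpen
    have hDW : D ⊆ (W : Set X) := X.basicOpen_le g
    set T'' : Set X := T ∪ (T' ∩ Dᶜ) with hT''
    have hT''c : IsClosed T'' := hT.union (hT'.inter hDo.isClosed_compl)
    have h1 : T ⊆ T'' := Set.subset_union_left
    have h2 : T'' ⊆ T' := Set.union_subset hs Set.inter_subset_left
    have h3 : T'' \ T = (T' \ T) \ D := by
      ext x; simp only [hT'', Set.mem_sdiff, Set.mem_union, Set.mem_inter_iff, Set.mem_compl_iff]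
      tauto
    have h4 : T' \ T'' = (T' \ T) ∩ D := by
      ext x; simp only [hT'', Set.mem_sdiff, Set.mem_union, Set.mem_inter_iff, Set.mem_compl_iff]
      tauto
    have hc1 : Chain (Good (V :: L)) T T'' := by
      refine ih T T'' (C ∩ Dᶜ) hT hT''c h1 (hC.inter hDo.isClosed_compl) ?_ ?_ ?_
      · rw [h3, hW]; ext x; simp only [Set.mem_sdiff, Set.mem_inter_iff, Set.mem_compl_iff]; tauto
      · intro V' hV'
        rcases hL V' hV' with h | h
        · left; rw [h3]; exact Set.sdiff_subset.trans h
        · right; rw [h3]; exact h.mono_left Set.sdiff_subset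
      · rw [h3]
        have : (T' \ T) ∩ (V : Set X) = (T' \ T) ∩ (D ∪ ⋃ g ∈ fs, (X.basicOpen g : Set X)) := by
          rw [hV, Finset.set_biUnion_insert]
        ext x
        have hx := Set.ext_iff.mp this x
        simp only [Set.mem_inter_iff, Set.mem_union, Set.mem_sdiff] at hx ⊢
        tauto
    refine Chain.step hc1 hT' h2 ⟨⟨X.basicOpen g, W.2.basicOpen g⟩, C, hC, ?_, ?_⟩
    · rw [h4, hW]; ext x
      simp only [Set.mem_inter_iff]
      constructor
      · rintro ⟨⟨_, h⟩, h'⟩; exact ⟨h', h⟩
      · rintro ⟨h', h⟩; exact ⟨⟨hDW h', h⟩, h'⟩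
    · intro V' hV'
      rcases List.mem_cons.mp hV' with rfl | h
      · left
        rw [h4]
        intro x hx
        have : x ∈ (T' \ T) ∩ (V' : Set X) := by
          rw [hV, Finset.set_biUnion_insert]
          exact ⟨hx.1, Or.inl hx.2⟩
        exact this.2
      · rcases hL V' h with h | h
        · left; rw [h4]; exact Set.inter_subset_left.trans h
        · right; rw [h4]; exact h.mono_left Set.inter_subset_left

theorem exists_finset_basicOpen (V : X.Opens) (W : X.affineOpens)
    (hc : IsCompact ((V : Set X) ∩ (W : Set X))) :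
    ∃ fs : Finset Γ(X, W.1), (V : Set X) ∩ (W : Set X) = ⋃ g ∈ fs, (X.basicOpen g : Set X) := by
  classical
  obtain ⟨t, ht⟩ := hc.elim_finite_subcover
    (fun g : {g : Γ(X, W.1) // X.basicOpen g ≤ V} => (X.basicOpen g.1 : Set X))
    (fun g => (X.basicOpen g.1).isOpen) (by
      rintro x ⟨hxV, hxW⟩
      obtain ⟨f, hf, hxf⟩ := W.2.exists_basicOpen_le ⟨x, hxV⟩ hxW
      exact Set.mem_iUnion.mpr ⟨⟨f, hf⟩, hxf⟩)
  refine ⟨t.image Subtype.val, subset_antisymm ?_ ?_⟩
  · intro x hx
    obtain ⟨g, hg, hxg⟩ := Set.mem_iUnion₂.mp (ht hx)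
    exact Set.mem_iUnion₂.mpr ⟨g.1, Finset.mem_image_of_mem _ hg, hxg⟩
  · intro x hx
    obtain ⟨g, hg, hxg⟩ := Set.mem_iUnion₂.mp hx
    obtain ⟨g', _, rfl⟩ := Finset.mem_image.mp hg
    exact ⟨g'.2 hxg, X.basicOpen_le g'.1 hxg⟩

theorem Chain.refineOpen (L : List X.Opens) (V : X.Opens)
    (hV : ∀ W : X.affineOpens, IsCompact ((V : Set X) ∩ (W : Set X))) {T T' : Set X}
    (hT : IsClosed T) (h : Chain (Good L) T T') : Chain (Good (V :: L)) T T' := by
  refine h.refine hT ?_
  rintro T₁ T₂ h1 h2 hs ⟨W, C, hC, hW, hL⟩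
  obtain ⟨fs, hfs⟩ := exists_finset_basicOpen V W (hV W)
  refine refine_aux L V W fs T₁ T₂ C h1 h2 hs hC hW hL ?_
  rw [← hfs, hW]
  ext x; simp only [Set.mem_inter_iff]; tauto

theorem chain_init (s : Finset X.affineOpens) :
    Chain (Good ([] : List X.Opens)) (⋃ W ∈ s, ((W : X.affineOpens) : Set X))ᶜ Set.univ := by
  classical
  induction s using Finset.induction_on with
  | empty => simpa using Chain.refl
  | insert W s hW ih =>
    have hop : IsOpen (⋃ W ∈ s, ((W : X.affineOpens) : Set X)) :=
      isOpen_biUnion fun W _ => W.1.isOpen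
    refine Chain.trans (Chain.single hop.isClosed_compl ?_ ⟨W, _, hop.isClosed_compl, ?_, by simp⟩) ih
    · rw [Finset.set_biUnion_insert]
      exact Set.compl_subset_compl.mpr Set.subset_union_right
    · rw [Finset.set_biUnion_insert]
      ext x; simp only [Set.mem_sdiff, Set.mem_compl_iff, Set.mem_union, Set.mem_inter_iff]; tauto

theorem chain_list [QuasiSeparatedSpace X] (s : Finset X.affineOpens) (L : List X.affineOpens) :
    Chain (Good (L.map (fun W => W.1))) (⋃ W ∈ s, ((W : X.affineOpens) : Set X))ᶜ Set.univ := by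
  induction L with
  | nil => exact chain_init s
  | cons V L ih =>
    have hop : IsOpen (⋃ W ∈ s, ((W : X.affineOpens) : Set X)) :=
      isOpen_biUnion fun W _ => W.1.isOpen
    exact Chain.refineOpen _ V.1
      (fun W => QuasiSeparatedSpace.inter_isCompact _ _ V.1.isOpen V.2.isCompact W.1.isOpen W.2.isCompact)
      hop.isClosed_compl ih



variable {X : Scheme.{u}}

/-- The scheme-level goodness: range of an affine immersion from an affine scheme. -/
def IsStratum (X : Scheme.{u}) (S : Set X) : Prop :=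
  ∃ (Z : Scheme.{u}) (ι : Z ⟶ X), IsImmersion ι ∧ IsAffine Z ∧ IsAffineHom ι ∧ Set.range ι = S

theorem Good.isStratum (L : List X.affineOpens) (hL : ∀ x : X, ∃ W ∈ L, x ∈ (W : X.affineOpens).1)
    {S : Set X} (h : Good (L.map (fun W => W.1)) S) : IsStratum X S := by
  obtain ⟨W, C, hC, hS, hh⟩ := h
  -- the reduced closed subscheme of `W` on `W ↓∩ C`
  let Wsch : Scheme.{u} := W.1
  let CW : Closeds Wsch := ⟨W.1.ι ⁻¹' C, hC.preimage W.1.ι.continuous⟩
  let I : Wsch.IdealSheafData := Scheme.IdealSheafData.vanishingIdeal CW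
  let ι : I.subscheme ⟶ X := I.subschemeι ≫ W.1.ι
  have hrange : Set.range ι = S := by
    simp only [ι, Scheme.Hom.comp_base, TopCat.hom_comp, ContinuousMap.coe_comp, Set.range_comp]
    rw [Scheme.IdealSheafData.range_subschemeι, Scheme.IdealSheafData.coe_support_vanishingIdeal]
    rw [hS]
    ext x
    simp only [Set.mem_image, Set.mem_inter_iff]
    constructor
    · rintro ⟨y, hy, rfl⟩
      exact ⟨y.2, hy⟩
    · rintro ⟨hxW, hxC⟩
      exact ⟨⟨x, hxW⟩, hxC, rfl⟩
  have : IsAffine Wsch := W.2
  have : IsAffine I.subscheme := isAffine_of_isAffineHom I.subschemeι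
  refine ⟨I.subscheme, ι, inferInstance, inferInstance, ?_, hrange⟩
  refine isAffineHom_of_forall_exists_isAffineOpen _ fun x => ?_
  obtain ⟨U, hU, hxU⟩ := hL x
  refine ⟨U.1, hxU, U.2, ?_⟩
  rcases hh U.1 (List.mem_map.mpr ⟨U, hU, rfl⟩) with h | h
  · have : ι ⁻¹ᵁ U.1 = ⊤ := by
      ext z
      simp only [Scheme.Hom.coe_preimage, Set.mem_preimage, SetLike.mem_coe, Opens.coe_top, Set.mem_univ, iff_true]
      exact h (hrange ▸ Set.mem_range_self z)
    rw [this]; exact isAffineOpen_top _
  · have : ι ⁻¹ᵁ U.1 = ⊥ := by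
      ext z
      simp only [Scheme.Hom.coe_preimage, Set.mem_preimage, SetLike.mem_coe, Opens.coe_bot, Set.mem_empty_iff_false, iff_false]
      exact fun hz => Set.disjoint_left.mp h (hrange ▸ Set.mem_range_self z) hz
    rw [this]; exact isAffineOpen_bot _



variable {X : Scheme.{u}}

theorem isStratum_empty : IsStratum X (∅ : Set X) := by
    refine ⟨((⊥ : X.Opens) : Scheme.{u}), (⊥ : X.Opens).ι, inferInstance, (isAffineOpen_bot X), ?_, by simp⟩
    refine ⟨fun U hU => ?_⟩
    have : (⊥ : X.Opens).ι ⁻¹ᵁ U = ⊥ := by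
      ext z; exact z.2.elim
    rw [this]; exact isAffineOpen_bot _

theorem exists_hasAffineStratification [CompactSpace X] [QuasiSeparatedSpace X] :
    ∃ n : ℕ, MoreMor.HasAffineStratification X n := by
  classical
  obtain ⟨s, hs, hcov⟩ := (isCompact_iff_finite_and_eq_biUnion_affineOpens (U := (⊤ : X.Opens))).mp
    (by simpa using isCompact_univ)
  have hcov' : ∀ x : X, ∃ W ∈ hs.toFinset.toList, x ∈ (W : X.affineOpens).1 := by
    intro x
    have hx : x ∈ (⊤ : X.Opens) := trivial
    rw [hcov] at hx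
    simp only [Opens.mem_iSup] at hx
    obtain ⟨W, hW, hxW⟩ := hx
    exact ⟨W, by simpa using hW, hxW⟩
  have hchain := chain_list (X := X) hs.toFinset hs.toFinset.toList
  have huniv : (⋃ W ∈ hs.toFinset, ((W : X.affineOpens) : Set X))ᶜ = ∅ := by
    rw [Set.compl_empty_iff, Set.eq_univ_iff_forall]
    intro x
    obtain ⟨W, hW, hxW⟩ := hcov' x
    exact Set.mem_iUnion₂.mpr ⟨W, by simpa using hW, hxW⟩
  rw [huniv] at hchain
  obtain ⟨n, s', h1, h2, h3⟩ := hchain.exists_strat
  refine ⟨n, fun x => ⟨min (s' x) n, by omega⟩, fun i => ?_, fun i => ?_⟩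
  · by_cases hi : i.1 < n
    · convert h1 i.1 using 1
      ext x
      simp only [Set.mem_ofPred_eq, Fin.le_def, Set.mem_univ, true_and]
      have := h3 x trivial
      omega
    · convert isClosed_univ using 1
      ext x
      simp only [Set.mem_ofPred_eq, Fin.le_def, Set.mem_univ, iff_true]
      have := i.2
      omega
  · by_cases hi : i.1 < n
    · obtain ⟨Z, ι, a, b, c, d⟩ := Good.isStratum _ hcov' (h2 i.1 hi)
      refine ⟨Z, ι, a, b, c, d.trans ?_⟩
      ext x
      simp only [Set.mem_ofPred_eq, Fin.ext_iff, Set.mem_univ, true_and]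
      have := h3 x trivial
      omega
    · obtain ⟨Z, ι, a, b, c, d⟩ := isStratum_empty (X := X)
      refine ⟨Z, ι, a, b, c, d.trans ?_⟩
      ext x
      simp only [Set.mem_ofPred_eq, Fin.ext_iff, Set.mem_empty_iff_false, false_iff]
      have := h3 x trivial
      have := i.2
      omega

theorem compact_of_hasAffineStratification {n : ℕ} (h : MoreMor.HasAffineStratification X n) :
    CompactSpace X ∧ QuasiSeparatedSpace X := by
  obtain ⟨s, _, hs⟩ := h
  choose Z ι h1 h2 h3 h4 using hs
  have hx : ∀ x : X, ∃ z : Z (s x), ι (s x) z = x := by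
    intro x
    have : x ∈ Set.range (ι (s x)) := by rw [h4]; rfl
    exact this
  constructor
  · rw [← isCompact_univ_iff]
    have : (Set.univ : Set X) = ⋃ i, Set.range (ι i) := by
      symm
      rw [Set.eq_univ_iff_forall]
      intro x; exact Set.mem_iUnion.mpr ⟨s x, hx x⟩
    rw [this]
    refine isCompact_iUnion fun i => ?_
    have := h2 i
    exact isCompact_range (ι i).continuous
  · rw [quasiSeparatedSpace_iff_forall_affineOpens]
    intro U V
    have : ((U : X.Opens) : Set X) ∩ (V : X.Opens) =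
        ⋃ i, ι i '' (((ι i) ⁻¹ᵁ U.1 : Set (Z i)) ∩ ((ι i) ⁻¹ᵁ V.1 : Set (Z i))) := by
      ext x
      simp only [Set.mem_inter_iff, Set.mem_iUnion, Set.mem_image]
      constructor
      · rintro ⟨hU, hV⟩
        obtain ⟨z, hz⟩ := hx x
        exact ⟨_, z, ⟨by simpa [hz] using hU, by simpa [hz] using hV⟩, hz⟩
      · rintro ⟨i, z, ⟨hU, hV⟩, rfl⟩
        exact ⟨hU, hV⟩
    rw [this]
    refine isCompact_iUnion fun i => ?_
    have := h2 i
    have := h3 i
    refine IsCompact.image ?_ (ι i).continuous
    exact QuasiSeparatedSpace.inter_isCompact _ _ (ι i ⁻¹ᵁ U.1).isOpen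
      (U.2.preimage (ι i)).isCompact (ι i ⁻¹ᵁ V.1).isOpen (V.2.preimage (ι i)).isCompact

end Groth.Agent.Lib.Helper6.AffStrat
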