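import Mathlib

set_option autoImplicit false
universe u

namespace Groth.Agent.Lib.Helper6.NilpNakayama

open TensorProduct

theorem eq_top_of_sup_smul_top_of_isNilpotent {R M : Type*} [CommRing R] [AddCommGroup M]
    [Module R M] (I : Ideal R) (hI : IsNilpotent I) (N : Submodule R M)
    (h : N ⊔ I • (⊤ : Submodule R M) = ⊤) : N = ⊤ := by
  obtain ⟨n, hn⟩ := hI
  have key : ∀ m : ℕ, N ⊔ (I ^ m) • (⊤ : Submodule R M) = ⊤ := by
    intro m
    induction m with
    | zero => simp
    | succ m ih =>
      rw [eq_top_iff]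
      calc (⊤ : Submodule R M) = N ⊔ (I ^ m) • (⊤ : Submodule R M) := ih.symm
        _ = N ⊔ (I ^ m) • (N ⊔ I • (⊤ : Submodule R M)) := by rw [h]
        _ = N ⊔ ((I ^ m) • N ⊔ (I ^ m) • I • (⊤ : Submodule R M)) := by rw [Submodule.smul_sup]
        _ ≤ N ⊔ (I ^ (m + 1)) • (⊤ : Submodule R M) := by
          rw [← sup_assoc]
          apply sup_le_sup
          · exact sup_le le_rfl Submodule.smul_le_right
          · rw [pow_succ, Submodule.mul_smul]
  have := key n
  rw [hn, Ideal.zero_eq_bot, Submodule.bot_smul, sup_bot_eq] at this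
  exact this

theorem free_of_flat_of_nilpotent {R M : Type u} [CommRing R] [IsLocalRing R]
    (hR : IsNilpotent (IsLocalRing.maximalIdeal R))
    [AddCommGroup M] [Module R M] [Module.Flat R M] : Module.Free R M := by
  let w := Module.Free.chooseBasis (IsLocalRing.ResidueField R) (IsLocalRing.ResidueField R ⊗[R] M)
  have ⟨v, eq⟩ := (TensorProduct.mk_surjective R M (IsLocalRing.ResidueField R)
    Ideal.Quotient.mk_surjective).comp_left w
  refine .of_basis (.mk (Module.IsLocalRing.linearIndependent_of_flat _ (eq ▸ w.linearIndependent)) ?_)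
  apply ge_of_eq
  apply eq_top_of_sup_smul_top_of_isNilpotent _ hR
  have hker : LinearMap.ker (TensorProduct.mk R (IsLocalRing.ResidueField R) M 1) =
      IsLocalRing.maximalIdeal R • (⊤ : Submodule R M) :=
    LinearMap.ker_tensorProductMk M
  rw [← hker, ← Submodule.comap_map_eq, Submodule.map_span,
    ← Submodule.restrictScalars_span R (IsLocalRing.ResidueField R) Ideal.Quotient.mk_surjective,
    ← Set.range_comp]
  have : (⇑(TensorProduct.mk R (IsLocalRing.ResidueField R) M 1) ∘ v) = ⇑w := eq
  rw [this, w.span_eq]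
  simp

end Groth.Agent.Lib.Helper6.NilpNakayama
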