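import Groth.Agent.Lib.Helper6.LocalFlat3
import Groth.Agent.Lib.Helper6.NilpNakayama
import Mathlib

set_option autoImplicit false
universe u

namespace Groth.Agent.Lib.Helper6.ArtinFlat

open TensorProduct

section nat

variable {R S : Type*} [CommRing R] [CommRing S] [Algebra R S]

/-- naturality of `cancelBaseChange` in the last variable. -/
theorem cancel_natural_right {Q : Type*} [AddCommGroup Q] [Module R Q] [Module S Q]
    [IsScalarTower R S Q] {F M : Type*} [AddCommGroup F] [Module R F] [AddCommGroup M]
    [Module R M] (i : F →ₗ[R] M) (z : Q ⊗[S] (S ⊗[R] F)) :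
    AlgebraTensorModule.cancelBaseChange R S S Q M ((i.baseChange S).lTensor Q z) =
      i.lTensor Q (AlgebraTensorModule.cancelBaseChange R S S Q F z) := by
  induction z using TensorProduct.induction_on with
  | zero => simp
  | add x y hx hy => simp only [map_add, hx, hy]
  | tmul n w =>
    induction w using TensorProduct.induction_on with
    | zero => simp
    | add x y hx hy => simp only [tmul_add, map_add, hx, hy]
    | tmul r k => simp

/-- over a ring with a nilpotent ideal `I`: a surjection onto a flat module which is injective
mod `I` is injective. -/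
theorem injective_of_flat_of_nilpotent {S : Type*} [CommRing S] (I : Ideal S) (hI : IsNilpotent I)
    {N₂ N₃ : Type*} [AddCommGroup N₂] [Module S N₂] [AddCommGroup N₃] [Module S N₃]
    [Module.Flat S N₃] (g : N₂ →ₗ[S] N₃) (hg : Function.Surjective g)
    (hQ : Function.Injective (g.lTensor (S ⧸ I))) : Function.Injective g := by
  have hK'inj : Function.Injective ((LinearMap.ker g).subtype.lTensor (S ⧸ I)) :=
    lTensor_injective_of_exact_of_exact_of_rTensor_injective (R := S)
      (M₁ := I) (M₂ := S) (M₃ := S ⧸ I) (N₁ := LinearMap.ker g) (N₂ := N₂) (N₃ := N₃)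
      (f₁ := I.subtype) (f₂ := I.mkQ) (g₁ := (LinearMap.ker g).subtype) (g₂ := g)
      (LinearMap.exact_subtype_mkQ I) (Submodule.mkQ_surjective I)
      (LinearMap.exact_subtype_ker_map _) hg
      (Module.Flat.rTensor_preserves_injective_linearMap _ (Submodule.injective_subtype I))
      (Module.Flat.lTensor_preserves_injective_linearMap _
        (Submodule.injective_subtype (LinearMap.ker g)))
  have hsub : Subsingleton ((S ⧸ I) ⊗[S] (LinearMap.ker g)) := by
    have h0 : ∀ z, g.lTensor (S ⧸ I) ((LinearMap.ker g).subtype.lTensor (S ⧸ I) z) = 0 := by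
      intro z
      rw [← LinearMap.comp_apply, ← LinearMap.lTensor_comp]
      have : g ∘ₗ (LinearMap.ker g).subtype = 0 := by
        ext x
        exact x.2
      rw [this, LinearMap.lTensor_zero, LinearMap.zero_apply]
    exact ⟨fun a b => hK'inj (hQ (by rw [h0 a, h0 b]))⟩
  have htop : (I • ⊤ : Submodule S (LinearMap.ker g)) = ⊤ := by
    rw [eq_top_iff]
    intro x _
    rw [← LinearMap.ker_tensorProductMk, LinearMap.mem_ker]
    exact Subsingleton.elim _ _
  have := NilpNakayama.eq_top_of_sup_smul_top_of_isNilpotent I hI
    (⊥ : Submodule S (LinearMap.ker g)) (by rw [htop]; simp)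
  rw [← LinearMap.ker_eq_bot, ← Submodule.subsingleton_iff_eq_bot, ← Submodule.subsingleton_iff S]
  exact subsingleton_of_bot_eq_top this

end nat

section loc

variable {R S M : Type u} [CommRing R] [IsLocalRing R] [CommRing S] [Algebra R S]
  [AddCommGroup M] [Module R M]

/-- a lift of a basis of `k ⊗ M` gives a map `F → M` with `k ⊗ F → k ⊗ M` injective. -/
theorem lTensor_residue_injective {ι : Type*} (v : ι → M)
    (w : Module.Basis ι (IsLocalRing.ResidueField R) (IsLocalRing.ResidueField R ⊗[R] M))
    (hv : ∀ j, (1 : IsLocalRing.ResidueField R) ⊗ₜ[R] v j = w j) :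
    Function.Injective
      ((Finsupp.linearCombination R v).lTensor (IsLocalRing.ResidueField R)) := by
  classical
  have key : ∀ z : IsLocalRing.ResidueField R ⊗[R] (ι →₀ R),
      (Finsupp.linearCombination R v).lTensor (IsLocalRing.ResidueField R) z =
        w.repr.symm (TensorProduct.finsuppScalarRight R (IsLocalRing.ResidueField R)
          (IsLocalRing.ResidueField R) ι z) := by
    intro z
    induction z using TensorProduct.induction_on with
    | zero => simp
    | add x y hx hy => simp only [map_add, hx, hy]
    | tmul a f =>
      induction f using Finsupp.induction_linear with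
      | zero => simp
      | add f g hf hg => simp only [tmul_add, map_add, hf, hg]
      | single j r =>
        simp only [LinearMap.lTensor_tmul, Finsupp.linearCombination_single]
        rw [TensorProduct.finsuppScalarRight_apply_tmul]
        simp only [Finsupp.sum_single_index, zero_smul, Finsupp.single_zero]
        have h1 : Finsupp.single j (r • a) = (r • a) • Finsupp.single j (1 : IsLocalRing.ResidueField R) := by
          rw [Finsupp.smul_single, smul_eq_mul, mul_one]
        rw [h1, map_smul, Module.Basis.repr_symm_single_one, ← hv j,
          TensorProduct.tmul_smul, TensorProduct.smul_tmul', TensorProduct.smul_tmul',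
          smul_eq_mul, mul_one]
  intro x y hxy
  rw [key, key] at hxy
  exact (TensorProduct.finsuppScalarRight R (IsLocalRing.ResidueField R)
    (IsLocalRing.ResidueField R) ι).injective (w.repr.symm.injective hxy)

/-- `R` local with nilpotent maximal ideal, `R → S` injective, `S ⊗ M` flat over `S`:
then `M` is free. -/
theorem free_of_flat_baseChange (hR : IsNilpotent (IsLocalRing.maximalIdeal R))
    (hinj : Function.Injective (algebraMap R S)) [Module.Flat S (S ⊗[R] M)] :
    Module.Free R M := by
  classical
  let w := Module.Free.chooseBasis (IsLocalRing.ResidueField R)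
    (IsLocalRing.ResidueField R ⊗[R] M)
  have ⟨v, eq⟩ := (TensorProduct.mk_surjective R M (IsLocalRing.ResidueField R)
    Ideal.Quotient.mk_surjective).comp_left w
  have hv : ∀ j, (1 : IsLocalRing.ResidueField R) ⊗ₜ[R] v j = w j := fun j => congrFun eq j
  set i := Finsupp.linearCombination R v with hi
  have hsurj : Function.Surjective i := by
    rw [← LinearMap.range_eq_top, Finsupp.range_linearCombination]
    apply NilpNakayama.eq_top_of_sup_smul_top_of_isNilpotent _ hR
    have hker : LinearMap.ker (TensorProduct.mk R (IsLocalRing.ResidueField R) M 1) =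
        IsLocalRing.maximalIdeal R • (⊤ : Submodule R M) :=
      LinearMap.ker_tensorProductMk M
    rw [← hker, ← Submodule.comap_map_eq, Submodule.map_span,
      ← Submodule.restrictScalars_span R (IsLocalRing.ResidueField R)
        Ideal.Quotient.mk_surjective,
      ← Set.range_comp]
    have : (⇑(TensorProduct.mk R (IsLocalRing.ResidueField R) M 1) ∘ v) = ⇑w := eq
    rw [this, w.span_eq]
    simp
  have hk := lTensor_residue_injective v w hv
  set I : Ideal S := (IsLocalRing.maximalIdeal R).map (algebraMap R S) with hI
  have hQ : Function.Injective (i.lTensor (S ⧸ I)) := by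
    have htors : Module.IsTorsionBySet R (S ⧸ I) (IsLocalRing.maximalIdeal R) := by
      intro x a
      obtain ⟨y, rfl⟩ := Ideal.Quotient.mk_surjective x
      rw [← algebraMap_smul S (a : R), ← Ideal.Quotient.mk_eq_mk, ← Submodule.Quotient.mk_smul]
      refine (Submodule.Quotient.mk_eq_zero _).mpr ?_
      rw [smul_eq_mul]
      exact Ideal.mul_mem_right _ _ (Ideal.mem_map_of_mem _ a.2)
    letI := htors.module
    exact LocalFlat.lTensor_injective_of_field i (IsLocalRing.maximalIdeal R) hk (S ⧸ I)
  have hQS : Function.Injective ((i.baseChange S).lTensor (S ⧸ I)) := by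
    intro x y hxy
    have := congrArg (AlgebraTensorModule.cancelBaseChange R S S (S ⧸ I) M) hxy
    rw [cancel_natural_right, cancel_natural_right] at this
    exact (AlgebraTensorModule.cancelBaseChange R S S (S ⧸ I) _).injective (hQ this)
  have hsurjS : Function.Surjective (i.baseChange S) := LinearMap.lTensor_surjective _ hsurj
  have hInil : IsNilpotent I := by
    obtain ⟨n, hn⟩ := hR
    exact ⟨n, by rw [hI, ← Ideal.map_pow, hn, Ideal.zero_eq_bot, Ideal.map_bot,
      Ideal.zero_eq_bot]⟩
  have hSinj : Function.Injective (i.baseChange S) :=
    injective_of_flat_of_nilpotent I hInil (i.baseChange S) hsurjS hQS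
  have hinj_i : Function.Injective i := by
    rw [injective_iff_map_eq_zero]
    intro x hx
    have : FaithfulSMul R S := (faithfulSMul_iff_algebraMap_injective R S).mpr hinj
    apply Module.Flat.tensorProduct_mk_injective R (_ →₀ R) S
    rw [map_zero]
    apply hSinj
    rw [map_zero]
    change (i.baseChange S) ((1 : S) ⊗ₜ[R] x) = 0
    rw [LinearMap.baseChange_tmul, hx, TensorProduct.tmul_zero]
  exact Module.Free.of_equiv (LinearEquiv.ofBijective i ⟨hinj_i, hsurj⟩)

end loc

section glob

variable {R S M : Type u} [CommRing R] [CommRing S] [IsArtinianRing R] [Algebra R S]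
  [AddCommGroup M] [Module R M]

/-- `R` artinian, `R → S` injective, `S ⊗ M` flat over `S`: then `M` is flat over `R`. -/
theorem flat_of_flat_baseChange (hinj : Function.Injective (algebraMap R S))
    [Module.Flat S (S ⊗[R] M)] : Module.Flat R M := by
  apply Module.flat_of_localized_maximal
  intro P hP
  have hnil : IsNilpotent (IsLocalRing.maximalIdeal (Localization.AtPrime P)) := by
    have := IsArtinianRing.isNilpotent_jacobson_bot (R := Localization.AtPrime P)
    rwa [IsLocalRing.jacobson_eq_maximalIdeal ⊥ bot_ne_top] at this
  have hinjP : Function.Injective (algebraMap (Localization.AtPrime P)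
      (Localization (Algebra.algebraMapSubmonoid S P.primeCompl))) :=
    localizationAlgebra_injective (Localization.AtPrime P)
      (Localization (Algebra.algebraMapSubmonoid S P.primeCompl)) hinj
  have hflat : Module.Flat (Localization (Algebra.algebraMapSubmonoid S P.primeCompl))
      ((Localization (Algebra.algebraMapSubmonoid S P.primeCompl)) ⊗[Localization.AtPrime P]
        (LocalizedModule P.primeCompl M)) := by
    let e1 : LocalizedModule P.primeCompl M ≃ₗ[Localization.AtPrime P]
        (Localization.AtPrime P) ⊗[R] M := LocalizedModule.equivTensorProduct P.primeCompl M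
    let e2 := AlgebraTensorModule.congr
      (LinearEquiv.refl (Localization (Algebra.algebraMapSubmonoid S P.primeCompl))
        (Localization (Algebra.algebraMapSubmonoid S P.primeCompl))) e1
    let e3 := AlgebraTensorModule.cancelBaseChange R (Localization.AtPrime P)
      (Localization (Algebra.algebraMapSubmonoid S P.primeCompl))
      (Localization (Algebra.algebraMapSubmonoid S P.primeCompl)) M
    let e4 := AlgebraTensorModule.cancelBaseChange R S
      (Localization (Algebra.algebraMapSubmonoid S P.primeCompl))
      (Localization (Algebra.algebraMapSubmonoid S P.primeCompl)) M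
    exact Module.Flat.of_linearEquiv (e2 ≪≫ₗ e3 ≪≫ₗ e4.symm)
  have hfree : Module.Free (Localization.AtPrime P) (LocalizedModule P.primeCompl M) :=
    free_of_flat_baseChange (S := Localization (Algebra.algebraMapSubmonoid S P.primeCompl))
      hnil hinjP
  have : Module.Flat (Localization.AtPrime P) (LocalizedModule P.primeCompl M) := inferInstance
  exact (Module.flat_iff_of_isLocalization (Localization.AtPrime P) P.primeCompl
    (LocalizedModule P.primeCompl M)).mp this

end glob

end Groth.Agent.Lib.Helper6.ArtinFlat
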