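import Mathlib

set_option autoImplicit false
universe u

namespace Groth.Agent.Lib.Helper6.AssFlat

open TensorProduct

section C

variable {A : Type u} [CommRing A] (J : Ideal A) (M : Type u) [AddCommGroup M] [Module A M]

/-- tensoring an injective map of modules killed by `J` with a module flat modulo `J`. -/
theorem rTensor_injective_of_killed (hM : Module.Flat (A ⧸ J) ((A ⧸ J) ⊗[A] M))
    {Q' Q : Type u} [AddCommGroup Q'] [Module A Q'] [AddCommGroup Q] [Module A Q]
    (hQ' : ∀ j ∈ J, ∀ q : Q', j • q = 0) (hQ : ∀ j ∈ J, ∀ q : Q, j • q = 0)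
    (f : Q' →ₗ[A] Q) (hf : Function.Injective f) : Function.Injective (f.rTensor M) := by
  have t' : Module.IsTorsionBySet A Q' (J : Set A) := fun q j => hQ' j.1 j.2 q
  have t : Module.IsTorsionBySet A Q (J : Set A) := fun q j => hQ j.1 j.2 q
  let m' : Module (A ⧸ J) Q' := t'.module
  let m : Module (A ⧸ J) Q := t.module
  have : IsScalarTower A (A ⧸ J) Q' := t'.isScalarTower
  have : IsScalarTower A (A ⧸ J) Q := t.isScalarTower
  let f₀ : Q' →ₗ[A ⧸ J] Q :=
    LinearMap.extendScalarsOfSurjective (Ideal.Quotient.mk_surjective (I := J)) f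
  have h1 : Function.Injective (f₀.rTensor ((A ⧸ J) ⊗[A] M)) :=
    Module.Flat.rTensor_preserves_injective_linearMap f₀ hf
  let e' := AlgebraTensorModule.cancelBaseChange A (A ⧸ J) (A ⧸ J) Q' M
  let e := AlgebraTensorModule.cancelBaseChange A (A ⧸ J) (A ⧸ J) Q M
  have hcomm : ∀ z, e (f₀.rTensor ((A ⧸ J) ⊗[A] M) z) = f.rTensor M (e' z) := by
    intro z
    induction z using TensorProduct.induction_on with
    | zero => simp
    | add x y hx hy => simp only [map_add, hx, hy]
    | tmul q w =>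
      induction w using TensorProduct.induction_on with
      | zero => simp
      | add x y hx hy => simp only [tmul_add, map_add, hx, hy]
      | tmul r k =>
        simp only [LinearMap.rTensor_tmul, e, e', AlgebraTensorModule.cancelBaseChange_tmul]
        congr 1
        exact (map_smul f₀ r q).symm
  intro x y hxy
  obtain ⟨x', rfl⟩ := e'.surjective x
  obtain ⟨y', rfl⟩ := e'.surjective y
  rw [← hcomm, ← hcomm] at hxy
  rw [h1 (e.injective hxy)]

/-- an element of `M ⊗ P` killed by a scalar acting injectively on `P` vanishes, when `P` is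
killed by `J` and `M` is flat modulo `J`. -/
theorem eq_zero_of_smul_eq_zero (hM : Module.Flat (A ⧸ J) ((A ⧸ J) ⊗[A] M))
    {P : Type u} [AddCommGroup P] [Module A P] (hPJ : ∀ j ∈ J, ∀ q : P, j • q = 0) (s : A)
    (hs : ∀ q : P, s • q = 0 → q = 0) (w : M ⊗[A] P) (h : s • w = 0) : w = 0 := by
  have hs' : Function.Injective (LinearMap.lsmul A P s) := by
    rw [injective_iff_map_eq_zero]
    intro q hq
    exact hs q hq
  have hsPM : Function.Injective ((LinearMap.lsmul A P s).lTensor M) := by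
    rw [LinearMap.lTensor_inj_iff_rTensor_inj]
    exact rTensor_injective_of_killed J M hM hPJ hPJ (LinearMap.lsmul A P s) hs'
  have key : ∀ w : M ⊗[A] P, (LinearMap.lsmul A P s).lTensor M w = s • w := by
    intro w
    induction w using TensorProduct.induction_on with
    | zero => simp
    | add x y hx hy => simp only [map_add, smul_add, hx, hy]
    | tmul m q => simp [TensorProduct.tmul_smul]
  apply hsPM
  rw [map_zero, key, h]

/-- abstract form of the induction step. -/
theorem exists_lift_of_smul_eq_zero (hM : Module.Flat (A ⧸ J) ((A ⧸ J) ⊗[A] M))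
    {N₁ N₂ N₃ : Type u} [AddCommGroup N₁] [Module A N₁] [AddCommGroup N₂] [Module A N₂]
    [AddCommGroup N₃] [Module A N₃] (f : N₁ →ₗ[A] N₂) (g : N₂ →ₗ[A] N₃)
    (hex : Function.Exact f g) (hg : Function.Surjective g)
    (hPJ : ∀ j ∈ J, ∀ q : N₃, j • q = 0) (s : A)
    (hs : ∀ q : N₃, s • q = 0 → q = 0) (z : M ⊗[A] N₂) (hz : s • z = 0) :
    ∃ y : M ⊗[A] N₁, f.lTensor M y = z := by
  have hw : g.lTensor M z = 0 := by
    refine eq_zero_of_smul_eq_zero J M hM hPJ s hs _ ?_
    rw [← map_smul, hz, map_zero]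
  exact (lTensor_exact M hex hg z).mp hw

end C

section A

variable {A : Type u} [CommRing A] (M : Type u) [AddCommGroup M] [Module A M]

/-- an element of the kernel of `M ⊗ 𝔞 → M ⊗ A` dies at every prime where `M` is flat. -/
theorem exists_smul_eq_zero (p : Ideal A) [p.IsPrime]
    (hp : Module.Flat (Localization.AtPrime p) (LocalizedModule p.primeCompl M))
    (𝔞 : Ideal A) (z : M ⊗[A] 𝔞) (hz : 𝔞.subtype.lTensor M z = 0) :
    ∃ s : A, s ∉ p ∧ s • z = 0 := by
  have hflat : Module.Flat A (LocalizedModule p.primeCompl M) :=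
    (Module.flat_iff_of_isLocalization (Localization.AtPrime p) p.primeCompl _).mp hp
  let g := LocalizedModule.mkLinearMap p.primeCompl M
  have hloc : IsLocalizedModule p.primeCompl (AlgebraTensorModule.rTensor A 𝔞 g) :=
    inferInstance
  have hinj : Function.Injective (𝔞.subtype.lTensor (LocalizedModule p.primeCompl M)) :=
    Module.Flat.lTensor_preserves_injective_linearMap _ Subtype.val_injective
  have h1 : 𝔞.subtype.lTensor (LocalizedModule p.primeCompl M) (g.rTensor 𝔞 z) = 0 := by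
    rw [← LinearMap.comp_apply, LinearMap.lTensor_comp_rTensor, ← LinearMap.rTensor_comp_lTensor,
      LinearMap.comp_apply, hz, map_zero]
  have h2 : AlgebraTensorModule.rTensor A 𝔞 g z = 0 := hinj (h1.trans (map_zero _).symm)
  obtain ⟨c, hc⟩ := (IsLocalizedModule.eq_zero_iff p.primeCompl
    (AlgebraTensorModule.rTensor A 𝔞 g)).mp h2
  exact ⟨c.1, c.2, hc⟩

/-- with flatness at all associated primes, kernel elements are killed by a nonzerodivisor. -/
theorem exists_nonZeroDivisor_smul_eq_zero [IsNoetherianRing A]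
    (hass : ∀ p : associatedPrimes A A,
      haveI : p.1.IsPrime := IsAssociatedPrime.isPrime p.2
      Module.Flat (Localization.AtPrime p.1) (LocalizedModule p.1.primeCompl M))
    (𝔞 : Ideal A) (z : M ⊗[A] 𝔞) (hz : 𝔞.subtype.lTensor M z = 0) :
    ∃ s ∈ nonZeroDivisors A, s • z = 0 := by
  by_contra hcon
  push Not at hcon
  let 𝔟 : Ideal A := LinearMap.ker (LinearMap.toSpanSingleton A (M ⊗[A] 𝔞) z)
  have hmem : ∀ a, a ∈ 𝔟 ↔ a • z = 0 := fun a => by
    simp [𝔟, LinearMap.mem_ker, LinearMap.toSpanSingleton_apply]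
  have hfin : (associatedPrimes A A).Finite := associatedPrimes.finite A A
  have hsub : (𝔟 : Set A) ⊆ ⋃ p ∈ (hfin.toFinset : Set (Ideal A)), (p : Set A) := by
    intro a ha
    have hnz : a ∉ nonZeroDivisors A := fun h => hcon a h ((hmem a).mp ha)
    have : a ∈ ((nonZeroDivisors A : Set A))ᶜ := hnz
    rw [← biUnion_associatedPrimes_eq_compl_nonZeroDivisors A] at this
    simpa using this
  rw [Ideal.subset_union_prime (f := fun p : Ideal A => p) ⊥ ⊥
    (fun p hp _ _ => IsAssociatedPrime.isPrime (hfin.mem_toFinset.mp hp))] at hsub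
  obtain ⟨p, hp, hle⟩ := hsub
  have hp' : p ∈ associatedPrimes A A := hfin.mem_toFinset.mp hp
  have : p.IsPrime := IsAssociatedPrime.isPrime hp'
  obtain ⟨s, hs, hsz⟩ := exists_smul_eq_zero M p (hass ⟨p, hp'⟩) 𝔞 z hz
  exact hs (hle ((hmem s).mpr hsz))

end A

section main

variable {A : Type u} [CommRing A] (J : Ideal A)
  (M : Type u) [AddCommGroup M] [Module A M]

/-- the ideal killing `J ^ i`. -/
def annPow (i : ℕ) : Ideal A := Submodule.annihilator (J ^ i : Ideal A)

theorem mem_annPow {i : ℕ} {a : A} : a ∈ annPow J i ↔ ∀ j ∈ J ^ i, a * j = 0 := by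
  simp [annPow, Submodule.mem_annihilator]

/-- the map `a ↦ (j ↦ a * j)` on an ideal, with values in `Hom(J ^ i, A)`. -/
def psi (𝔞 : Ideal A) (i : ℕ) : 𝔞 →ₗ[A] (↥(J ^ i) →ₗ[A] A) :=
  (LinearMap.lcomp A A (J ^ i : Ideal A).subtype) ∘ₗ (LinearMap.mul A A) ∘ₗ 𝔞.subtype

@[simp] theorem psi_apply (𝔞 : Ideal A) (i : ℕ) (a : 𝔞) (j : ↥(J ^ i)) :
    psi J 𝔞 i a j = (a : A) * (j : A) := rfl

variable [IsNoetherianRing A]

theorem step (hM : Module.Flat (A ⧸ J) ((A ⧸ J) ⊗[A] M))
    (hass : ∀ p : associatedPrimes A A,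
      haveI : p.1.IsPrime := IsAssociatedPrime.isPrime p.2
      Module.Flat (Localization.AtPrime p.1) (LocalizedModule p.1.primeCompl M))
    (i : ℕ)
    (IH : ∀ 𝔠 : Ideal A, 𝔠 ≤ annPow J i → Function.Injective (𝔠.subtype.lTensor M))
    (𝔞 : Ideal A) (h𝔞 : 𝔞 ≤ annPow J (i + 1)) : Function.Injective (𝔞.subtype.lTensor M) := by
  rw [injective_iff_map_eq_zero]
  intro z hz
  obtain ⟨s, hs, hsz⟩ := exists_nonZeroDivisor_smul_eq_zero M hass 𝔞 z hz
  -- the quotient piece
  let ψ := psi J 𝔞 i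
  let P := LinearMap.range ψ
  let ψ' : 𝔞 →ₗ[A] P := ψ.rangeRestrict
  have hψ'surj : Function.Surjective ψ' := LinearMap.surjective_rangeRestrict ψ
  have hPJ : ∀ j ∈ J, ∀ q : P, j • q = 0 := by
    rintro j hj ⟨_, a, rfl⟩
    apply Subtype.ext
    apply LinearMap.ext
    intro k
    change j • ((a : A) * (k : A)) = 0
    have h1 : (a : A) ∈ annPow J (i + 1) := h𝔞 a.2
    have h2 : j * (k : A) ∈ J ^ (i + 1) := by
      rw [pow_succ']
      exact Ideal.mul_mem_mul hj k.2
    have := (mem_annPow J).mp h1 _ h2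
    rw [smul_eq_mul]
    linear_combination this
  have hsP : ∀ q : P, s • q = 0 → q = 0 := by
    rintro ⟨φ, hφ⟩ h
    apply Subtype.ext
    apply LinearMap.ext
    intro k
    have h' : s • φ k = 0 := by
      have := congrArg (fun q : P => (q : ↥(J ^ i) →ₗ[A] A) k) h
      simpa using this
    rw [smul_eq_mul] at h'
    exact (mul_left_mem_nonZeroDivisors_eq_zero_iff hs).mp h'
  -- exactness
  let 𝔠 : Ideal A := 𝔞 ⊓ annPow J i
  let ι : 𝔠 →ₗ[A] 𝔞 := Submodule.inclusion inf_le_left
  have hex : Function.Exact ι ψ' := by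
    intro a
    constructor
    · intro ha
      have ha' : ψ a = 0 := congrArg Subtype.val ha
      have hmem : (a : A) ∈ annPow J i := by
        rw [mem_annPow]
        intro j hj
        exact LinearMap.congr_fun ha' ⟨j, hj⟩
      exact ⟨⟨a.1, a.2, hmem⟩, rfl⟩
    · rintro ⟨c, rfl⟩
      apply Subtype.ext
      apply LinearMap.ext
      intro k
      exact (mem_annPow J).mp c.2.2 _ k.2
  obtain ⟨y, hyz⟩ := exists_lift_of_smul_eq_zero J M hM (N₁ := ↥𝔠) (N₂ := ↥𝔞) (N₃ := ↥P) ι ψ' hex
    hψ'surj (fun j hj q => hPJ j hj q) s (fun q h => hsP q h) z hsz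
  have hy : 𝔠.subtype.lTensor M y = 0 := by
    have h3 : 𝔞.subtype ∘ₗ ι = 𝔠.subtype := rfl
    rw [← h3, LinearMap.lTensor_comp, LinearMap.comp_apply, hyz, hz]
  have hy0 : y = 0 := IH 𝔠 inf_le_right (hy.trans (map_zero _).symm)
  rw [← hyz, hy0, map_zero]

theorem flat_of_flat_at_associatedPrimes (hJ : IsNilpotent J)
    (hM : Module.Flat (A ⧸ J) ((A ⧸ J) ⊗[A] M))
    (hass : ∀ p : associatedPrimes A A,
      haveI : p.1.IsPrime := IsAssociatedPrime.isPrime p.2
      Module.Flat (Localization.AtPrime p.1) (LocalizedModule p.1.primeCompl M)) :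
    Module.Flat A M := by
  have key : ∀ i : ℕ, ∀ 𝔞 : Ideal A, 𝔞 ≤ annPow J i →
      Function.Injective (𝔞.subtype.lTensor M) := by
    intro i
    induction i with
    | zero =>
      intro 𝔞 h𝔞
      have h0 : 𝔞 = ⊥ := by
        rw [eq_bot_iff]
        intro a ha
        have := (mem_annPow J).mp (h𝔞 ha) 1 (by simp)
        simpa using this
      subst h0
      intro x y _
      exact Subsingleton.elim _ _
    | succ i IH => exact step J M hM hass i IH
  obtain ⟨n, hn⟩ := hJ
  rw [Module.Flat.iff_lTensor_injective']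
  intro 𝔞
  apply key n
  intro a _
  rw [mem_annPow, hn]
  intro j hj
  rw [Ideal.zero_eq_bot, Ideal.mem_bot] at hj
  rw [hj, mul_zero]

end main

end Groth.Agent.Lib.Helper6.AssFlat
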