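import Mathlib
import Groth.Prelude.Def_SGA3x
import Groth.Agent.Lib.Helper75.MTGa2

/-! helper6: points of an affine `U`-scheme with values in `Spec B`, `B` an algebra over `Γ(U, V)`. -/
set_option autoImplicit false
set_option linter.unusedSectionVars false
set_option linter.style.haveILetI false
universe u
open CategoryTheory CategoryTheory.Limits AlgebraicGeometry Opposite

noncomputable section

namespace Groth.Agent.Lib.Helper6.CentPts

open Groth.Agent.Lib.Helper5 Groth.Agent.Lib.Helper75.MTGa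

variable {U : Scheme.{u}} {V : U.Opens} (hV : IsAffineOpen V)

/-- the algebra structure of the coordinate ring of `X` over `V`. -/
@[reducible] def coordAlg (X : Over U) : Algebra Γ(U, V) Γ(X.left, X.hom ⁻¹ᵁ V) := (X.hom.app V).hom.toAlgebra

attribute [local instance] coordAlg

theorem ovMap_comp {B B' B'' : Type u} [CommRing B] [CommRing B'] [CommRing B'']
    [Algebra Γ(U, V) B] [Algebra Γ(U, V) B'] [Algebra Γ(U, V) B'']
    (φ : B →ₐ[Γ(U, V)] B') (φ' : B' →ₐ[Γ(U, V)] B'') :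
    ovMap hV φ' ≫ ovMap hV φ = ovMap hV (φ'.comp φ) := by
  apply Over.OverMorphism.ext
  rw [Over.comp_left, ovMap_left, ovMap_left, ovMap_left, ← Spec.map_comp, ← CommRingCat.ofHom_comp]
  rfl

variable (X : Over U) [IsAffineHom X.hom]

theorem fromSpec_hom :
    (hV.preimage X.hom).fromSpec ≫ X.hom = Spec.map (X.hom.app V) ≫ hV.fromSpec := by
  rw [← IsAffineOpen.SpecMap_appLE_fromSpec X.hom hV (hV.preimage X.hom) le_rfl,
    Scheme.Hom.appLE_eq_app]

/-- the `Spec B`-point of `X` given by an algebra map. -/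
def ptO {B : Type u} [CommRing B] [Algebra Γ(U, V) B]
    (ψ : Γ(X.left, X.hom ⁻¹ᵁ V) →ₐ[Γ(U, V)] B) : ov hV B ⟶ X :=
  Over.homMk (Spec.map (CommRingCat.ofHom ψ.toRingHom) ≫ (hV.preimage X.hom).fromSpec) (by
    simp only [Over.mk_hom]
    rw [Category.assoc, fromSpec_hom hV X, ← Category.assoc, ← Spec.map_comp]
    congr 2
    ext x
    exact ψ.commutes x)

theorem ptO_left {B : Type u} [CommRing B] [Algebra Γ(U, V) B]
    (ψ : Γ(X.left, X.hom ⁻¹ᵁ V) →ₐ[Γ(U, V)] B) :
    (ptO hV X ψ).left = Spec.map (CommRingCat.ofHom ψ.toRingHom) ≫ (hV.preimage X.hom).fromSpec :=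
  rfl

theorem ptO_nat {B B' : Type u} [CommRing B] [CommRing B'] [Algebra Γ(U, V) B]
    [Algebra Γ(U, V) B'] (θ : B →ₐ[Γ(U, V)] B') (ψ : Γ(X.left, X.hom ⁻¹ᵁ V) →ₐ[Γ(U, V)] B) :
    ovMap hV θ ≫ ptO hV X ψ = ptO hV X (θ.comp ψ) := by
  apply Over.OverMorphism.ext
  rw [Over.comp_left, ovMap_left, ptO_left, ptO_left, ← Category.assoc, ← Spec.map_comp,
    ← CommRingCat.ofHom_comp]
  rfl

theorem ptO_inj {B : Type u} [CommRing B] [Algebra Γ(U, V) B]
    {ψ ψ' : Γ(X.left, X.hom ⁻¹ᵁ V) →ₐ[Γ(U, V)] B} (h : ptO hV X ψ = ptO hV X ψ') : ψ = ψ' := by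
  have h1 := congrArg (fun m => m.left) h
  simp only [ptO_left] at h1
  rw [cancel_mono] at h1
  have h2 := Spec.map_injective h1
  refine AlgHom.ext fun a => ?_
  have h3 := congrArg (fun m => m.hom a) h2
  exact h3

theorem ptO_surj {B : Type u} [CommRing B] [Algebra Γ(U, V) B] (d : ov hV B ⟶ X) :
    ∃ ψ : Γ(X.left, X.hom ⁻¹ᵁ V) →ₐ[Γ(U, V)] B, ptO hV X ψ = d := by
  have hw : d.left ≫ X.hom = Spec.map (CommRingCat.ofHom (algebraMap Γ(U, V) B)) ≫ hV.fromSpec :=
    Over.w d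
  have hrange : Set.range d.left ⊆ Set.range (hV.preimage X.hom).fromSpec := by
    rw [IsAffineOpen.range_fromSpec]
    rintro _ ⟨x, rfl⟩
    change X.hom (d.left x) ∈ V
    have h1 : X.hom (d.left x) = (d.left ≫ X.hom) x := rfl
    rw [h1, hw]
    have h2 : (Spec.map (CommRingCat.ofHom (algebraMap Γ(U, V) B)) ≫ hV.fromSpec) x ∈
        Set.range hV.fromSpec := ⟨_, rfl⟩
    rw [IsAffineOpen.range_fromSpec] at h2
    exact h2
  let l := IsOpenImmersion.lift (hV.preimage X.hom).fromSpec d.left hrange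
  have hl : l ≫ (hV.preimage X.hom).fromSpec = d.left := IsOpenImmersion.lift_fac _ _ _
  let φ0 : Γ(X.left, X.hom ⁻¹ᵁ V) ⟶ CommRingCat.of B := Spec.preimage l
  have hφ0 : Spec.map φ0 = l := Spec.map_preimage l
  have hcomm : X.hom.app V ≫ φ0 = CommRingCat.ofHom (algebraMap Γ(U, V) B) := by
    apply Spec.map_injective
    rw [← cancel_mono hV.fromSpec, ← hw, ← hl, Spec.map_comp, hφ0, Category.assoc, Category.assoc,
      fromSpec_hom hV X]
  let ψ : Γ(X.left, X.hom ⁻¹ᵁ V) →ₐ[Γ(U, V)] B :=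
    { φ0.hom with
      commutes' := fun r => by
        have := congrArg (fun m => m.hom r) hcomm
        exact this }
  refine ⟨ψ, ?_⟩
  apply Over.OverMorphism.ext
  rw [ptO_left, ← hl, ← hφ0]
  rfl

end Groth.Agent.Lib.Helper6.CentPts
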