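import Mathlib

/-! helper6: degree-zero averaging for coactions of a group algebra (pure algebra for S19142). -/
set_option autoImplicit false
universe u
open MonoidAlgebra

namespace Groth.Agent.Lib.Helper6.DiagAvg

variable {B : Type*} [CommRing B] {G : Type*} [CommGroup G]

/-- if all coefficients of `x`, `y` lie in `J` and `J * J = ⊥` then `x * y = 0`. -/
theorem mul_eq_zero_of_coeff_mem (J : Ideal B) (hJ : J * J = ⊥) (x y : MonoidAlgebra B G)
    (hx : ∀ g, x.coeff g ∈ J) (hy : ∀ g, y.coeff g ∈ J) : x * y = 0 := by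
  classical
  have hx' := sum_coeff_single x
  rw [← hx', Finsupp.sum, Finset.sum_mul]
  apply Finset.sum_eq_zero
  intro g _
  apply MonoidAlgebra.ext
  apply Finsupp.ext
  intro h
  rw [coeff_single_mul_apply]
  have : x.coeff g * y.coeff (g⁻¹ * h) ∈ J * J := Ideal.mul_mem_mul (hx g) (hy _)
  rw [hJ] at this
  simpa using this

variable {R A : Type*} [CommRing R] [CommRing A] [Algebra R A] [Algebra R B]

theorem exists_invariant_lift (ρ : A →ₐ[R] MonoidAlgebra A G)
    (hco : ∀ a g, ρ ((ρ a).coeff g) = single g ((ρ a).coeff g))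
    (ψ : A →ₐ[R] B) (J : Ideal B) (hJ : J * J = ⊥)
    (h1 : ∀ a g, g ≠ 1 → ψ ((ρ a).coeff g) ∈ J)
    (h2 : ∀ a, ψ ((ρ a).coeff 1) - ψ a ∈ J) :
    ∃ ψ' : A →ₐ[R] B, (∀ a, ψ' a - ψ a ∈ J) ∧
      ∀ a, mapAlgHom G ψ' (ρ a) = single 1 (ψ' a) := by
  classical
  let Xh : A →ₐ[R] MonoidAlgebra B G := (mapAlgHom G ψ).comp ρ
  let c : A → B := fun a => ψ ((ρ a).coeff 1)
  have hc : ∀ a, (Xh a).coeff 1 = c a := fun a => coeff_mapAlgHom ψ (ρ a) 1
  let X' : A → MonoidAlgebra B G := fun a => Xh a - single 1 (c a)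
  have hX' : ∀ a g, (X' a).coeff g ∈ J := by
    intro a g
    have e : (X' a).coeff g = (Xh a).coeff g - (single (1 : G) (c a)).coeff g := rfl
    rw [e, coeff_single, Finsupp.single_apply]
    by_cases hg : g = 1
    · subst hg
      rw [if_pos rfl, hc, sub_self]
      exact J.zero_mem
    · rw [if_neg (Ne.symm hg), sub_zero]
      have : (Xh a).coeff g = ψ ((ρ a).coeff g) := coeff_mapAlgHom ψ (ρ a) g
      rw [this]
      exact h1 a g hg
  have hX'1 : ∀ a, (X' a).coeff 1 = 0 := by
    intro a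
    have e : (X' a).coeff 1 = (Xh a).coeff 1 - (single (1 : G) (c a)).coeff 1 := rfl
    rw [e, coeff_single, Finsupp.single_eq_same, hc, sub_self]
  have hdec : ∀ a, Xh a = single 1 (c a) + X' a := fun a => by
    simp only [X']; abel
  have hmul : ∀ a b, c (a * b) = c a * c b := by
    intro a b
    have e : ∀ x y : MonoidAlgebra B G, (x + y).coeff 1 = x.coeff 1 + y.coeff 1 := fun _ _ => rfl
    have e0 : X' a * X' b = 0 :=
      mul_eq_zero_of_coeff_mem J hJ (X' a) (X' b) (hX' a) (hX' b)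
    have e1 : (single (1 : G) (c a) * single (1 : G) (c b)).coeff 1 = c a * c b := by
      rw [coeff_single_one_mul, coeff_single, Finsupp.single_eq_same]
    have e2 : (single (1 : G) (c a) * X' b).coeff 1 = 0 := by
      rw [coeff_single_one_mul, hX'1, mul_zero]
    have e3 : (X' a * single (1 : G) (c b)).coeff 1 = 0 := by
      rw [coeff_mul_single_one, hX'1, zero_mul]
    have e4 : Xh (a * b) = Xh a * Xh b := map_mul Xh a b
    rw [← hc, e4, hdec a, hdec b, add_mul, mul_add, mul_add, e0, add_zero, e, e, e1, e2, e3,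
      add_zero, add_zero]
  let ψ' : A →ₐ[R] B :=
    { toFun := c
      map_one' := by
        change ψ ((ρ 1).coeff 1) = 1
        have h1' : ρ 1 = 1 := map_one ρ
        rw [h1', coeff_one_one]
        exact map_one ψ
      map_mul' := hmul
      map_zero' := by
        change ψ ((ρ 0).coeff 1) = 0
        have h0' : ρ 0 = 0 := map_zero ρ
        rw [h0']
        exact map_zero ψ
      map_add' := by
        intro a b
        change ψ ((ρ (a + b)).coeff 1) = ψ ((ρ a).coeff 1) + ψ ((ρ b).coeff 1)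
        have ha' : ρ (a + b) = ρ a + ρ b := map_add ρ a b
        rw [ha', ← map_add ψ]
        rfl
      commutes' := by
        intro r
        change ψ ((ρ (algebraMap R A r)).coeff 1) = algebraMap R B r
        rw [AlgHom.commutes, coe_algebraMap, Function.comp_apply, coeff_single,
          Finsupp.single_eq_same, AlgHom.commutes] }
  refine ⟨ψ', h2, ?_⟩
  intro a
  apply MonoidAlgebra.ext
  apply Finsupp.ext
  intro g
  rw [coeff_mapAlgHom, coeff_single, Finsupp.single_apply]
  change ψ ((ρ ((ρ a).coeff g)).coeff 1) = _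
  rw [hco, coeff_single, Finsupp.single_apply]
  by_cases hg : g = 1
  · subst hg
    rw [if_pos rfl, if_pos rfl]
    rfl
  · rw [if_neg hg, if_neg (Ne.symm hg), map_zero]


section System

variable {R A : Type u} [CommRing R] [CommRing A] [Algebra R A] {G : Type} [CommGroup G]

/-- an abstract conjugation system: `cj χ ψ` is "the point `ψ` conjugated by the character `χ`". -/
structure CjSystem (R A : Type u) [CommRing R] [CommRing A] [Algebra R A] (G : Type) [CommGroup G] where
  cj : ∀ (B : Type u) [CommRing B] [Algebra R B], (G →* B) → (A →ₐ[R] B) → (A →ₐ[R] B)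
  nat : ∀ (B B' : Type u) [CommRing B] [CommRing B'] [Algebra R B] [Algebra R B']
    (θ : B →ₐ[R] B') (χ : G →* B) (ψ : A →ₐ[R] B),
    θ.comp (cj B χ ψ) = cj B' ((θ : B →* B').comp χ) (θ.comp ψ)
  mul : ∀ (B : Type u) [CommRing B] [Algebra R B] (χ χ' : G →* B) (ψ : A →ₐ[R] B),
    cj B (χ * χ') ψ = cj B χ (cj B χ' ψ)

variable (C : CjSystem R A G)

/-- the coaction. -/
noncomputable def CjSystem.ρ : A →ₐ[R] MonoidAlgebra A G :=
  C.cj (MonoidAlgebra A G) (of A G) singleOneAlgHom

theorem CjSystem.cj_eq (B : Type u) [CommRing B] [Algebra R B] (χ : G →* B) (ψ : A →ₐ[R] B) :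
    C.cj B χ ψ = (liftNCAlgHom ψ χ (fun _ _ => Commute.all _ _)).comp C.ρ := by
  have h := C.nat (MonoidAlgebra A G) B (liftNCAlgHom ψ χ (fun _ _ => Commute.all _ _))
    (of A G) singleOneAlgHom
  have e1 : ((liftNCAlgHom ψ χ (fun _ _ => Commute.all _ _) : MonoidAlgebra A G →ₐ[R] B) :
      MonoidAlgebra A G →* B).comp (of A G) = χ := by
    refine MonoidHom.ext fun g => ?_
    show (liftNCAlgHom ψ χ (fun _ _ => Commute.all _ _)) (single g 1) = χ g
    rw [coe_liftNCAlgHom, liftNC_single]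
    simp
  have e2 : (liftNCAlgHom ψ χ (fun _ _ => Commute.all _ _)).comp singleOneAlgHom = ψ := by
    refine AlgHom.ext fun a => ?_
    show (liftNCAlgHom ψ χ (fun _ _ => Commute.all _ _)) (single 1 a) = ψ a
    rw [coe_liftNCAlgHom, liftNC_single]
    simp
  rw [e1, e2] at h
  exact h.symm

theorem liftNC_eq_map (B : Type u) [CommRing B] [Algebra R B] (ψ : A →ₐ[R] B) :
    liftNCAlgHom ((singleOneAlgHom : B →ₐ[R] MonoidAlgebra B G).comp ψ) (of B G)
      (fun _ _ => Commute.all _ _) = mapAlgHom G ψ := by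
  apply algHom_ext
  · intro m
    rw [coe_liftNCAlgHom, liftNC_single, mapAlgHom_single]
    simp
  · refine AlgHom.ext fun a => ?_
    show (liftNCAlgHom ((singleOneAlgHom : B →ₐ[R] MonoidAlgebra B G).comp ψ) (of B G)
      (fun _ _ => Commute.all _ _)) (single 1 a) = mapAlgHom G ψ (single 1 a)
    rw [coe_liftNCAlgHom, liftNC_single, mapAlgHom_single]
    simp

theorem CjSystem.cj_of (B : Type u) [CommRing B] [Algebra R B] (ψ : A →ₐ[R] B) :
    C.cj (MonoidAlgebra B G) (of B G) (singleOneAlgHom.comp ψ) = (mapAlgHom G ψ).comp C.ρ := by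
  rw [C.cj_eq, liftNC_eq_map]

/-- the comultiplication-type map. -/
noncomputable def Δ : MonoidAlgebra A G →ₐ[R] MonoidAlgebra (MonoidAlgebra A G) G :=
  liftNCAlgHom ((singleOneAlgHom : MonoidAlgebra A G →ₐ[R] _).comp singleOneAlgHom)
    (of (MonoidAlgebra A G) G *
      ((singleOneAlgHom : MonoidAlgebra A G →ₐ[R] MonoidAlgebra (MonoidAlgebra A G) G) :
        MonoidAlgebra A G →* _).comp (of A G))
    (fun _ _ => Commute.all _ _)

theorem Δ_single (h : G) (a : A) :
    (Δ (R := R) (single h a) : MonoidAlgebra (MonoidAlgebra A G) G) = single h (single h a) := by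
  unfold Δ
  rw [coe_liftNCAlgHom, liftNC_single]
  simp [singleOneAlgHom, single_mul_single]

theorem coeff_Δ (x : MonoidAlgebra A G) (g : G) :
    (Δ (R := R) x).coeff g = single g (x.coeff g) := by
  classical
  induction x using induction_linear with
  | zero => simp
  | add x y hx hy =>
    have e : ∀ u v : MonoidAlgebra (MonoidAlgebra A G) G, (u + v).coeff g = u.coeff g + v.coeff g :=
      fun _ _ => rfl
    have e' : ∀ u v : MonoidAlgebra A G, (u + v).coeff g = u.coeff g + v.coeff g :=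
      fun _ _ => rfl
    rw [map_add, e, hx, hy, e', single_add]
  | single h a =>
    rw [Δ_single, coeff_single, Finsupp.single_apply, coeff_single, Finsupp.single_apply]
    by_cases hg : h = g
    · subst hg; simp
    · simp [hg]

theorem CjSystem.coassoc (a : A) (g : G) :
    C.ρ ((C.ρ a).coeff g) = single g ((C.ρ a).coeff g) := by
  have h1 := C.cj_of (MonoidAlgebra A G) C.ρ
  have h2 : (singleOneAlgHom : MonoidAlgebra A G →ₐ[R] MonoidAlgebra (MonoidAlgebra A G) G).comp C.ρ =
      C.cj _ (((singleOneAlgHom : MonoidAlgebra A G →ₐ[R] MonoidAlgebra (MonoidAlgebra A G) G) :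
        MonoidAlgebra A G →* _).comp (of A G)) (singleOneAlgHom.comp singleOneAlgHom) :=
    C.nat (MonoidAlgebra A G) (MonoidAlgebra (MonoidAlgebra A G) G) singleOneAlgHom (of A G)
      singleOneAlgHom
  rw [h2, ← C.mul, C.cj_eq] at h1
  have h3 := congrArg (fun φ : A →ₐ[R] MonoidAlgebra (MonoidAlgebra A G) G => (φ a).coeff g) h1
  simp only [AlgHom.comp_apply] at h3
  rw [coeff_mapAlgHom] at h3
  rw [← h3]
  exact coeff_Δ (R := R) (C.ρ a) g

theorem CjSystem.exists_lift (B : Type u) [CommRing B] [Algebra R B] (J : Ideal B)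
    (hJ : J * J = ⊥) (ψ : A →ₐ[R] B)
    (h : C.cj (MonoidAlgebra (B ⧸ J) G) (of (B ⧸ J) G)
        (singleOneAlgHom.comp ((Ideal.Quotient.mkₐ R J).comp ψ)) =
      singleOneAlgHom.comp ((Ideal.Quotient.mkₐ R J).comp ψ)) :
    ∃ ψ' : A →ₐ[R] B, (Ideal.Quotient.mkₐ R J).comp ψ' = (Ideal.Quotient.mkₐ R J).comp ψ ∧
      C.cj (MonoidAlgebra B G) (of B G) (singleOneAlgHom.comp ψ') = singleOneAlgHom.comp ψ' := by
  classical
  rw [C.cj_of] at h
  have hcoef : ∀ a g, Ideal.Quotient.mk J (ψ ((C.ρ a).coeff g)) =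
      if (1 : G) = g then Ideal.Quotient.mk J (ψ a) else 0 := by
    intro a g
    have := congrArg (fun φ : A →ₐ[R] MonoidAlgebra (B ⧸ J) G => (φ a).coeff g) h
    simp only [AlgHom.comp_apply] at this
    rw [coeff_mapAlgHom] at this
    rw [show (singleOneAlgHom (R := R) (Ideal.Quotient.mkₐ R J (ψ a)) : MonoidAlgebra (B ⧸ J) G) =
      single 1 (Ideal.Quotient.mkₐ R J (ψ a)) from rfl, coeff_single, Finsupp.single_apply] at this
    exact this
  have h1 : ∀ a g, g ≠ 1 → ψ ((C.ρ a).coeff g) ∈ J := by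
    intro a g hg
    have := hcoef a g
    rw [if_neg (Ne.symm hg)] at this
    exact Ideal.Quotient.eq_zero_iff_mem.mp this
  have h2 : ∀ a, ψ ((C.ρ a).coeff 1) - ψ a ∈ J := by
    intro a
    have := hcoef a 1
    rw [if_pos rfl] at this
    exact Ideal.Quotient.eq.mp this
  obtain ⟨ψ', hψ'1, hψ'2⟩ := exists_invariant_lift C.ρ C.coassoc ψ J hJ h1 h2
  refine ⟨ψ', ?_, ?_⟩
  · refine AlgHom.ext fun a => ?_
    exact Ideal.Quotient.eq.mpr (hψ'1 a)
  · rw [C.cj_of]
    refine AlgHom.ext fun a => ?_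
    exact hψ'2 a

end System

end Groth.Agent.Lib.Helper6.DiagAvg
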