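import Mathlib

/-!
# Finite locally free morphisms are finite free over a basis of affine opens (helper6)

`isBasis_freeOpens g`: for `g : Z ⟶ S` finite, flat and locally of finite presentation, the affine
opens `W` of `S` such that `Γ(Z ×_S W)` has a finite basis over `Γ(W)` form a basis of opens of `S`.
-/

set_option autoImplicit false
set_option linter.style.haveILetI false
universe u
open CategoryTheory CategoryTheory.Limits TensorProduct Module AlgebraicGeometry

namespace Groth.Agent.Lib.Helper6.MorSGlue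

section
section Alg

variable {R : Type*} [CommRing R] {M : Type*} [AddCommGroup M] [Module R M]

attribute [local instance] RingHomInvPair.of_ringEquiv in
lemma free_of_isLocalization_away (r : R)
    (Rr Mr : Type*) [CommRing Rr] [Algebra R Rr] [IsLocalization.Away r Rr]
    [AddCommGroup Mr] [Module R Mr] (f : M →ₗ[R] Mr) [IsLocalizedModule (.powers r) f]
    [Module Rr Mr] [IsScalarTower R Rr Mr]
    [Module.Free (Localization.Away r) (LocalizedModule.Away r M)] :
    Module.Free Rr Mr := by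
  set e := (IsLocalization.algEquiv (Submonoid.powers r)
      (Localization.Away r) Rr).toRingEquiv
  apply Module.Free.of_equiv (σ := (e : Localization.Away r →+* Rr)) (σ' := (e.symm : Rr →+* _))
    (M := LocalizedModule.Away r M)
  refine { __ := IsLocalizedModule.iso (Submonoid.powers r) f, map_smul' := ?_ }
  intro a x
  obtain ⟨a, s, rfl⟩ := IsLocalization.exists_mk'_eq (Submonoid.powers r) a
  apply ((Module.End.isUnit_iff _).mp (IsLocalizedModule.map_units f s)).1
  simp [e, ← map_smul, ← smul_assoc]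

lemma exists_free_away {A : Type*} [CommRing A] [Algebra R A] [Module.Finite R A]
    [Module.Flat R A] [Algebra.FinitePresentation R A] (p : Ideal R) [p.IsPrime] :
    ∃ r, r ∉ p ∧ Module.Free (Localization.Away r) (LocalizedModule.Away r A) := by
  haveI : Module.FinitePresentation R A :=
    Module.FinitePresentation.of_finite_of_finitePresentation R A
  haveI : Module.Free (Localization.AtPrime p) (LocalizedModule p.primeCompl A) :=
    Module.free_of_flat_of_isLocalRing
  obtain ⟨r, hr, hfree, -⟩ := Module.FinitePresentation.exists_free_localizedModule_powers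
    p.primeCompl (LocalizedModule.mkLinearMap p.primeCompl A) (Localization.AtPrime p)
  exact ⟨r, hr, hfree⟩

end Alg

end

section
theorem exists_fin_basis' (R M : Type*) [CommRing R] [AddCommGroup M] [Module R M] [Module.Free R M]
    [Module.Finite R M] : ∃ n : ℕ, Nonempty (Basis (Fin n) R M) := by
  by_cases hR : Nontrivial R
  · let b := Module.Free.chooseBasis R M
    haveI : Fintype (Module.Free.ChooseBasisIndex R M) := Module.Free.ChooseBasisIndex.fintype R M
    exact ⟨_, ⟨b.reindex (Fintype.equivFin _)⟩⟩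
  · rw [not_nontrivial_iff_subsingleton] at hR
    haveI : Subsingleton M := Module.subsingleton R M
    exact ⟨0, ⟨Basis.empty M⟩⟩

theorem exists_basis_of_isPushout {R M Rr G : CommRingCat.{u}} (φ : R ⟶ M) (ρ : R ⟶ Rr)
    (l : M ⟶ G) (t : Rr ⟶ G) (h : IsPushout φ ρ l t) (r : R)
    (hloc : letI := ρ.hom.toAlgebra; IsLocalization.Away r Rr)
    (hfree : letI := φ.hom.toAlgebra
      Module.Free (Localization.Away r) (LocalizedModule.Away r M))
    (hfin : φ.hom.Finite) :
    ∃ n : ℕ, Nonempty (letI := t.hom.toAlgebra; Basis (Fin n) Rr G) := by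
  letI : Algebra R M := φ.hom.toAlgebra
  letI : Algebra R Rr := ρ.hom.toAlgebra
  letI : Algebra Rr G := t.hom.toAlgebra
  haveI : Module.Finite R M := hfin
  have tp := CommRingCat.isPushout_tensorProduct R Rr M
  let e : G ≅ CommRingCat.of (Rr ⊗[R] M) := h.flip.isoIsPushout _ _ tp
  have ht : ∀ c : Rr, e.hom (t c) = c ⊗ₜ[R] (1 : M) := by
    intro c
    have := h.flip.inl_isoIsPushout_hom _ _ tp
    exact congr($this c)
  haveI : Module.Free Rr (Rr ⊗[R] M) :=
    free_of_isLocalization_away r Rr (Rr ⊗[R] M) (TensorProduct.mk R Rr M 1)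
  let E : (Rr ⊗[R] M) ≃ₗ[Rr] G :=
    { toFun := e.inv
      invFun := e.hom
      left_inv := fun x => by
        change (e.inv ≫ e.hom) x = x
        rw [Iso.inv_hom_id]; rfl
      right_inv := fun x => by
        change (e.hom ≫ e.inv) x = x
        rw [Iso.hom_inv_id]; rfl
      map_add' := fun x y => map_add _ x y
      map_smul' := fun c x => by
        have h1 : c • x = (c ⊗ₜ[R] (1 : M)) * x := by
          rw [Algebra.smul_def]; rfl
        have h2 : e.inv (c ⊗ₜ[R] (1 : M)) = t c := by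
          rw [← ht]
          change (e.hom ≫ e.inv) (t c) = t c
          rw [Iso.hom_inv_id]; rfl
        simp only [RingHom.id_apply]
        rw [h1, map_mul, h2, Algebra.smul_def]
        rfl }
  haveI : Module.Free Rr G := Module.Free.of_equiv E
  haveI : Module.Finite Rr G := Module.Finite.equiv E
  exact exists_fin_basis' Rr G

end

section
variable {S Z : Scheme.{u}}

theorem exists_basis_basicOpen (g : Z ⟶ S) [IsFinite g] {W' : S.Opens} (hW' : IsAffineOpen W')
    (r : Γ(S, W'))
    (hfree : letI := (g.app W').hom.toAlgebra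
      Module.Free (Localization.Away r) (LocalizedModule.Away r Γ(Z, g ⁻¹ᵁ W'))) :
    ∃ n : ℕ, Nonempty (letI := ((pullback.snd g (S.basicOpen r).ι).appTop).hom.toAlgebra
      Basis (Fin n) Γ((S.basicOpen r : Scheme.{u}), ⊤) Γ(pullback g (S.basicOpen r).ι, ⊤)) := by
  set W := S.basicOpen r with hW
  have hWW' : W ≤ W' := S.basicOpen_le r
  have H := IsPullback.of_hasPullback g W.ι
  have hUST : (⊤ : (W : Scheme.{u}).Opens) ≤ W.ι ⁻¹ᵁ W' := by
    intro x _
    exact hWW' x.2
  have hUY : (⊤ : (pullback g W.ι).Opens) =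
      pullback.fst g W.ι ⁻¹ᵁ (g ⁻¹ᵁ W') ⊓ pullback.snd g W.ι ⁻¹ᵁ ⊤ := by
    rw [← Scheme.Hom.comp_preimage, pullback.condition, Scheme.Hom.comp_preimage]
    have : W.ι ⁻¹ᵁ W' = ⊤ := top_le_iff.mp hUST
    rw [this]
    simp
  have hWaff : IsAffineOpen W := hW'.basicOpen r
  haveI : IsAffine (W : Scheme.{u}) := hWaff
  have hiso := isIso_pushoutSection_of_isAffineOpen H (US := W') (UT := ⊤) (UX := g ⁻¹ᵁ W')
    (hUST := hUST) (hUSX := le_rfl) hUY hW' (isAffineOpen_top _) (hW'.preimage g)
  have hpo := (isIso_pushoutSection_iff H (US := W') (UT := ⊤) (UX := g ⁻¹ᵁ W')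
    (hUST := hUST) (hUSX := le_rfl) hUY).mp hiso
  have e1 : g.appLE W' (g ⁻¹ᵁ W') le_rfl = g.app W' := Scheme.Hom.appLE_eq_app _
  have e2 : (pullback.snd g W.ι).appLE ⊤ ⊤ (by simp) = (pullback.snd g W.ι).appTop := by
    rw [Scheme.Hom.appLE]
    simp [Scheme.Hom.appTop]
  have hV : W.ι ''ᵁ (⊤ : (W : Scheme.{u}).Opens) = S.basicOpen r := by
    rw [Scheme.Opens.ι_image_top]
  have hVle : W.ι ''ᵁ (⊤ : (W : Scheme.{u}).Opens) ≤ W' := hV.le.trans hWW'
  have e3 : W.ι.appLE W' ⊤ hUST = S.presheaf.map (homOfLE hVle).op := by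
    rw [Scheme.Hom.appLE, Scheme.Opens.ι_app]
    erw [← Functor.map_comp]
    rfl
  have hloc := hW'.isLocalization_of_eq_basicOpen r (homOfLE hVle) hV
  rw [← e3] at hloc
  have hfin : (g.app W').hom.Finite := IsFinite.finite_app g W' hW'
  rw [← e1] at hfree hfin
  have := exists_basis_of_isPushout _ _ _ _ hpo r hloc hfree hfin
  rw [e2] at this
  exact this

end

section
variable {S Z : Scheme.{u}}

/-- The affine opens of the base over which a morphism is finite free. -/
def freeOpens (g : Z ⟶ S) : Set S.Opens :=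
  {W | IsAffineOpen W ∧ ∃ n : ℕ, Nonempty (letI := ((pullback.snd g W.ι).appTop).hom.toAlgebra
      Basis (Fin n) Γ((W : Scheme.{u}), ⊤) Γ(pullback g W.ι, ⊤))}

theorem isBasis_freeOpens (g : Z ⟶ S) [IsFinite g] [Flat g] [LocallyOfFinitePresentation g] :
    TopologicalSpace.Opens.IsBasis (freeOpens g) := by
  rw [TopologicalSpace.Opens.isBasis_iff_nbhd]
  intro U s hs
  obtain ⟨_, ⟨W', hW' : IsAffineOpen W', rfl⟩, hsW', hW'U⟩ :=
    (S.isBasis_affineOpens).exists_subset_of_mem_open hs U.2
  letI : Algebra Γ(S, W') Γ(Z, g ⁻¹ᵁ W') := (g.app W').hom.toAlgebra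
  have hfin : (g.app W').hom.Finite := IsFinite.finite_app g W' hW'
  have e1 : g.appLE W' (g ⁻¹ᵁ W') le_rfl = g.app W' := Scheme.Hom.appLE_eq_app _
  have hflat : (g.app W').hom.Flat := by
    rw [← e1]
    exact HasRingHomProperty.appLE @Flat g inferInstance ⟨W', hW'⟩ ⟨_, hW'.preimage g⟩ le_rfl
  have hfp : (g.app W').hom.FinitePresentation := by
    rw [← e1]
    exact HasRingHomProperty.appLE @LocallyOfFinitePresentation g inferInstance ⟨W', hW'⟩
      ⟨_, hW'.preimage g⟩ le_rfl
  haveI : Module.Finite Γ(S, W') Γ(Z, g ⁻¹ᵁ W') := hfin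
  haveI : Module.Flat Γ(S, W') Γ(Z, g ⁻¹ᵁ W') := hflat
  haveI : Algebra.FinitePresentation Γ(S, W') Γ(Z, g ⁻¹ᵁ W') := hfp
  let 𝔭 := hW'.primeIdealOf ⟨s, hsW'⟩
  obtain ⟨r, hr, hfree⟩ := exists_free_away (A := Γ(Z, g ⁻¹ᵁ W')) 𝔭.asIdeal
  refine ⟨S.basicOpen r, ⟨hW'.basicOpen r, exists_basis_basicOpen g hW' r hfree⟩, ?_,
    (S.basicOpen_le r).trans hW'U⟩
  have h1 : hW'.fromSpec 𝔭 = s := hW'.fromSpec_primeIdealOf ⟨s, hsW'⟩
  rw [← h1]
  change 𝔭 ∈ hW'.fromSpec ⁻¹ᵁ S.basicOpen r
  rw [hW'.fromSpec_preimage_basicOpen]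
  exact hr

end

end Groth.Agent.Lib.Helper6.MorSGlue
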