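import Mathlib

/-!
# Content ideals of subsets of projective modules (helper6)

For a projective `A`-module `P` and a subset `N ⊆ P` there is an ideal `content N` of `A` such that for every
`A`-algebra `A''` the image of `N` in `P ⊗[A] A''` vanishes iff `content N` maps to zero in `A''`.
-/

set_option autoImplicit false
universe u
open scoped TensorProduct

namespace Groth.Agent.Lib.Helper6.EssFreeAlg

section Content
variable {A : Type u} [CommRing A] {P : Type u} [AddCommGroup P] [Module A P]
variable (s : P →ₗ[A] (P →₀ A))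

/-- the ideal generated by all coordinates of all elements of `N`. -/
def content (N : Set P) : Ideal A := Ideal.span {a | ∃ x ∈ N, ∃ p : P, a = s x p}

theorem content_fg (N : Set P) (hN : N.Finite) : (content s N).FG := by
  classical
  have h : {a | ∃ x ∈ N, ∃ p : P, a = s x p} ⊆
      (⋃ x ∈ N, ((s x).support.image (fun p => s x p) : Set A)) ∪ {0} := by
    rintro a ⟨x, hx, p, rfl⟩
    by_cases hp : s x p = 0
    · right
      exact hp
    · left
      simp only [Set.mem_iUnion]
      refine ⟨x, hx, ?_⟩
      simp only [Finset.coe_image, Set.mem_image, Finset.mem_coe, Finsupp.mem_support_iff]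
      exact ⟨p, hp, rfl⟩
  have hfin : ((⋃ x ∈ N, ((s x).support.image (fun p => s x p) : Set A)) ∪ {0}).Finite := by
    apply Set.Finite.union _ (Set.finite_singleton 0)
    exact hN.biUnion (fun x _ => Finset.finite_toSet _)
  have hfin' := hfin.subset h
  exact ⟨hfin'.toFinset, by rw [Set.Finite.coe_toFinset]; rfl⟩

variable (hs : ∀ x, Finsupp.linearCombination A id (s x) = x)

include hs in
theorem tmul_eq_zero_iff (N : Set P) (A'' : Type u) [CommRing A''] [Algebra A A''] :
    (∀ x ∈ N, x ⊗ₜ[A] (1 : A'') = 0) ↔ Ideal.map (algebraMap A A'') (content s N) = ⊥ := by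
  rw [Ideal.map_eq_bot_iff_le_ker, content, Ideal.span_le]
  constructor
  · rintro h a ⟨x, hx, p, rfl⟩
    change algebraMap A A'' (s x p) = 0
    let ε : P →ₗ[A] A := (Finsupp.lapply p).comp s
    have h1 := congrArg (fun z => TensorProduct.lid A A'' (LinearMap.rTensor A'' ε z)) (h x hx)
    simp only [LinearMap.rTensor_tmul, TensorProduct.lid_tmul, map_zero] at h1
    rw [Algebra.algebraMap_eq_smul_one]
    exact h1
  · intro h x hx
    have hx' : x = ∑ p ∈ (s x).support, (s x p) • p := by
      conv_lhs => rw [← hs x]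
      rw [Finsupp.linearCombination_apply, Finsupp.sum]
      rfl
    rw [hx', TensorProduct.sum_tmul]
    apply Finset.sum_eq_zero
    intro p _
    have h0 : algebraMap A A'' (s x p) = 0 := h ⟨x, hx, p, rfl⟩
    rw [TensorProduct.smul_tmul, ← Algebra.algebraMap_eq_smul_one, h0, TensorProduct.tmul_zero]

end Content

section Alg
variable {A : Type u} [CommRing A] {B : Type u} [CommRing B] [Algebra A B]

theorem ideal_tmul_eq_zero_iff (N : Set B) (A'' : Type u) [CommRing A''] [Algebra A A''] :
    (∀ x ∈ Ideal.span N, x ⊗ₜ[A] (1 : A'') = 0) ↔ ∀ x ∈ N, x ⊗ₜ[A] (1 : A'') = 0 := by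
  constructor
  · intro h x hx
    exact h x (Ideal.subset_span hx)
  · intro h x hx
    induction hx using Submodule.span_induction with
    | mem x hx => exact h x hx
    | zero => exact TensorProduct.zero_tmul _ _
    | add x y _ _ hx hy => rw [TensorProduct.add_tmul, hx, hy, add_zero]
    | smul b x _ hx =>
      have : (b • x) ⊗ₜ[A] (1 : A'') = (b ⊗ₜ[A] (1 : A'')) * (x ⊗ₜ[A] (1 : A'')) := by
        rw [Algebra.TensorProduct.tmul_mul_tmul, mul_one, smul_eq_mul]
      rw [this, hx, mul_zero]

/-- For a projective `A`-algebra `B` and an ideal `I` of `B` there is an ideal `c` of `A` such that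
`I` dies in `B ⊗ A''` iff `c` dies in `A''`; `c` is finitely generated if `I` is. -/
theorem exists_content [Module.Projective A B] (I : Ideal B) :
    ∃ c : Ideal A, (I.FG → c.FG) ∧ ∀ (A'' : Type u) [CommRing A''] [Algebra A A''],
      (∀ x ∈ I, x ⊗ₜ[A] (1 : A'') = 0) ↔ Ideal.map (algebraMap A A'') c = ⊥ := by
  classical
  obtain ⟨s, hs⟩ := (Module.projective_def' (R := A) (P := B)).mp inferInstance
  have hs' : ∀ x, Finsupp.linearCombination A id (s x) = x := fun x =>
    congrArg (fun f : B →ₗ[A] B => f x) hs
  by_cases hI : I.FG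
  · obtain ⟨N, hN⟩ := hI
    refine ⟨content s (N : Set B), fun _ => content_fg s _ N.finite_toSet, ?_⟩
    intro A'' _ _
    rw [← tmul_eq_zero_iff s hs', ← ideal_tmul_eq_zero_iff, hN]
  · refine ⟨content s (I : Set B), fun h => absurd h hI, ?_⟩
    intro A'' _ _
    rw [← tmul_eq_zero_iff s hs']
    rfl

end Alg

end Groth.Agent.Lib.Helper6.EssFreeAlg
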