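import Mathlib
import Groth.Agent.Lib.Helper6.EssFreeAlg

/-!
# Local form of the representability theorem for essentially free morphisms (helper6)
-/

set_option autoImplicit false
set_option linter.unusedSectionVars false
set_option linter.style.haveILetI false
universe u
open scoped TensorProduct
open CategoryTheory CategoryTheory.Limits AlgebraicGeometry

namespace Groth.Agent.Lib.Helper6.EssFreeLocal

open Groth.Agent.Lib.Helper6.EssFreeAlg

section Fac
variable {Y Z W W' V : Scheme.{u}}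

/-- `h` factors through `m`. -/
def Fac (m : Y ⟶ Z) (h : W ⟶ Z) : Prop := ∃ l : W ⟶ Y, l ≫ m = h

theorem fac_iff_isIso (m : Y ⟶ Z) [Mono m] (h : W ⟶ Z) : Fac m h ↔ IsIso (pullback.snd m h) := by
  constructor
  · rintro ⟨l, hl⟩
    refine ⟨pullback.lift l (𝟙 W) (by rw [hl, Category.id_comp]), ?_, pullback.lift_snd _ _ _⟩
    rw [← cancel_mono (pullback.snd m h), Category.assoc, pullback.lift_snd, Category.comp_id,
      Category.id_comp]
  · intro hi
    exact ⟨inv (pullback.snd m h) ≫ pullback.fst m h, by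
      rw [Category.assoc, pullback.condition, IsIso.inv_hom_id_assoc]⟩

theorem fac_precomp (m : Y ⟶ Z) (h : W ⟶ Z) (a : W' ⟶ W) (H : Fac m h) : Fac m (a ≫ h) := by
  obtain ⟨l, hl⟩ := H
  exact ⟨a ≫ l, by rw [Category.assoc, hl]⟩

theorem fac_precomp_iso (m : Y ⟶ Z) (h : W ⟶ Z) (a : W' ⟶ W) [IsIso a] :
    Fac m (a ≫ h) ↔ Fac m h := by
  constructor
  · intro H
    have := fac_precomp m (a ≫ h) (inv a) H
    rwa [IsIso.inv_hom_id_assoc] at this
  · exact fac_precomp m h a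

theorem fac_of_cover (m : Y ⟶ Z) [Mono m] (h : W ⟶ Z) (𝒲 : W.OpenCover)
    (H : ∀ i, Fac m (𝒲.f i ≫ h)) : Fac m h := by
  choose l hl using H
  refine ⟨𝒲.glueMorphisms l ?_, ?_⟩
  · intro i k
    rw [← cancel_mono m, Category.assoc, Category.assoc, hl, hl, pullback.condition_assoc]
  · apply 𝒲.hom_ext
    intro i
    rw [Scheme.Cover.ι_glueMorphisms_assoc, hl]

theorem fac_pullback_iff (m : Y ⟶ Z) (v : V ⟶ Z) (h₀ : W ⟶ V) :
    Fac (pullback.snd m v) h₀ ↔ Fac m (h₀ ≫ v) := by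
  constructor
  · rintro ⟨l, hl⟩
    exact ⟨l ≫ pullback.fst m v, by rw [Category.assoc, pullback.condition, ← Category.assoc, hl]⟩
  · rintro ⟨l, hl⟩
    exact ⟨pullback.lift l h₀ hl, pullback.lift_snd _ _ _⟩

theorem fac_spec_iff {B C : Type u} [CommRing B] [CommRing C] (I : Ideal B) {X : Scheme.{u}}
    (e : X ≅ Spec (CommRingCat.of (B ⧸ I))) (ψ : B →+* C) :
    Fac (e.hom ≫ Spec.map (CommRingCat.ofHom (Ideal.Quotient.mk I)))
      (Spec.map (CommRingCat.ofHom ψ)) ↔ I ≤ RingHom.ker ψ := by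
  constructor
  · rintro ⟨l, hl⟩
    let ρ : CommRingCat.of (B ⧸ I) ⟶ CommRingCat.of C := Spec.preimage (l ≫ e.hom)
    have hρ : Spec.map ρ = l ≫ e.hom := Spec.map_preimage _
    have h1 : Spec.map (CommRingCat.ofHom (Ideal.Quotient.mk I) ≫ ρ) =
        Spec.map (CommRingCat.ofHom ψ) := by
      rw [Spec.map_comp, hρ, Category.assoc, hl]
    have h2 := Spec.map_injective h1
    intro a ha
    have h3 := congrArg (fun f => f.hom a) h2
    change ρ.hom (Ideal.Quotient.mk I a) = ψ a at h3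
    rw [RingHom.mem_ker, ← h3, Ideal.Quotient.eq_zero_iff_mem.mpr ha, map_zero]
  · intro h
    refine ⟨Spec.map (CommRingCat.ofHom (Ideal.Quotient.lift I ψ (fun a ha => h ha))) ≫ e.inv, ?_⟩
    rw [Category.assoc, Iso.inv_hom_id_assoc, ← Spec.map_comp, ← CommRingCat.ofHom_comp]
    congr 2

end Fac


theorem openCoverOfLeft_f_fst {X Y Z : Scheme.{u}} (𝒰 : X.OpenCover) (f : X ⟶ Z) (g : Y ⟶ Z)
    (i : 𝒰.I₀) : (Scheme.Pullback.openCoverOfLeft 𝒰 f g).f i ≫ pullback.fst f g =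
      pullback.fst (𝒰.f i ≫ f) g ≫ 𝒰.f i :=
  pullback.lift_fst _ _ _

theorem fac_openCoverOfLeft_iff {X Y Z Y₀ : Scheme.{u}} (m : Y₀ ⟶ X) (𝒰 : X.OpenCover) (f : X ⟶ Z)
    (g : Y ⟶ Z) (i : 𝒰.I₀) :
    Fac m ((Scheme.Pullback.openCoverOfLeft 𝒰 f g).f i ≫ pullback.fst f g) ↔
      Fac m (pullback.fst (𝒰.f i ≫ f) g ≫ 𝒰.f i) :=
  Iff.of_eq (congrArg (Fac m) (openCoverOfLeft_f_fst 𝒰 f g i))

section Local
variable {A' : Type u} [CommRing A'] {Z' Y' : Scheme.{u}}
  (f' : Z' ⟶ Spec (CommRingCat.of A')) (j' : Y' ⟶ Z') [IsClosedImmersion j']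
  {ι : Type u} (B : ι → Type u) [∀ i, CommRing (B i)] [∀ i, Algebra A' (B i)]
  (v : ∀ i, Spec (CommRingCat.of (B i)) ⟶ Z') [∀ i, IsOpenImmersion (v i)]
  (hv : ∀ i, v i ≫ f' = Spec.map (CommRingCat.ofHom (algebraMap A' (B i))))
  (hcov : ∀ z : Z', ∃ i, ∃ y, v i y = z)
  (hproj : ∀ i, Module.Projective A' (B i))

theorem fac_piece_iff (i : ι) (I : Ideal (B i)) {X : Scheme.{u}}
    (e : X ≅ Spec (CommRingCat.of (B i ⧸ I)))
    (m : X ⟶ Spec (CommRingCat.of (B i)))
    (hm : m = e.hom ≫ Spec.map (CommRingCat.ofHom (Ideal.Quotient.mk I)))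
    (R : Type u) [CommRing R] [Algebra A' R]
    (p : Spec (CommRingCat.of (B i)) ⟶ Spec (CommRingCat.of A'))
    (hp : p = Spec.map (CommRingCat.ofHom (algebraMap A' (B i)))) :
    Fac m (pullback.fst p (Spec.map (CommRingCat.ofHom (algebraMap A' R)))) ↔
      ∀ a ∈ I, a ⊗ₜ[A'] (1 : R) = 0 := by
  subst hp
  subst hm
  rw [← fac_precomp_iso _ _ (pullbackSpecIso A' (B i) R).inv, pullbackSpecIso_inv_fst,
    fac_spec_iff]
  constructor
  · intro h a ha
    exact h ha
  · intro h a ha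
    exact h a ha

include hv hcov hproj in
theorem exists_ideal_spec :
    ∃ c : Ideal A', (Finite ι → LocallyOfFinitePresentation j' → c.FG) ∧
      ∀ (R : Type u) [CommRing R] (φ : A' →+* R),
        Fac j' (pullback.fst f' (Spec.map (CommRingCat.ofHom φ))) ↔ c ≤ RingHom.ker φ := by
  classical
  -- the pieces of `Y'`
  have hI : ∀ i, ∃ I : Ideal (B i), ∃ e : pullback j' (v i) ≅ Spec (CommRingCat.of (B i ⧸ I)),
      pullback.snd j' (v i) = e.hom ≫ Spec.map (CommRingCat.ofHom (Ideal.Quotient.mk I)) := fun i =>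
    (IsClosedImmersion.Spec_iff (R := CommRingCat.of (B i)) (f := pullback.snd j' (v i))).mp
      inferInstance
  choose I e he using hI
  have hc : ∀ i, ∃ c : Ideal A', ((I i).FG → c.FG) ∧
      ∀ (A'' : Type u) [CommRing A''] [Algebra A' A''],
        (∀ x ∈ I i, x ⊗ₜ[A'] (1 : A'') = 0) ↔ Ideal.map (algebraMap A' A'') c = ⊥ := fun i =>
    haveI := hproj i
    exists_content (I i)
  choose c hcfg hc using hc
  let 𝒰 : Z'.OpenCover := Scheme.Cover.mkOfCovers ι (fun i => Spec (CommRingCat.of (B i))) v hcov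
  refine ⟨⨆ i, c i, ?_, ?_⟩
  · intro hfin hfp
    haveI := hfin
    have : ∀ i, (c i).FG := by
      intro i
      apply hcfg i
      have h1 : LocallyOfFinitePresentation (pullback.snd j' (v i)) := inferInstance
      rw [he i] at h1
      have h2 : LocallyOfFinitePresentation
          (Spec.map (CommRingCat.ofHom (Ideal.Quotient.mk (I i)))) := by
        have e2 : Spec.map (CommRingCat.ofHom (Ideal.Quotient.mk (I i))) =
            (e i).inv ≫ ((e i).hom ≫ Spec.map (CommRingCat.ofHom (Ideal.Quotient.mk (I i)))) := by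
          rw [Iso.inv_hom_id_assoc]
        rw [e2]
        infer_instance
      have h3 := (LocallyOfFinitePresentation.SpecMap_iff _).mp h2
      have h4 : Algebra.FinitePresentation (B i) (B i ⧸ I i) :=
        RingHom.finitePresentation_algebraMap.mp h3
      have h5 := Algebra.FinitePresentation.ker_fG_of_surjective (Ideal.Quotient.mkₐ (B i) (I i))
        Ideal.Quotient.mk_surjective
      have h6 : RingHom.ker (Ideal.Quotient.mkₐ (B i) (I i)).toRingHom = I i := Ideal.mk_ker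
      rwa [h6] at h5
    exact Submodule.fg_iSup _ this
  · intro R _ φ
    letI : Algebra A' R := φ.toAlgebra
    have hφ : φ = algebraMap A' R := rfl
    rw [hφ, iSup_le_iff]
    have key : ∀ i : ι, Fac j' (pullback.fst (v i ≫ f')
        (Spec.map (CommRingCat.ofHom (algebraMap A' R))) ≫ v i) ↔
        c i ≤ RingHom.ker (algebraMap A' R) := by
      intro i
      rw [← fac_pullback_iff, fac_piece_iff B i (I i) (e i) _ (he i) R _ (hv i), hc i R,
        Ideal.map_eq_bot_iff_le_ker]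
    constructor
    · intro H i
      have h1 := fac_precomp j' _ ((Scheme.Pullback.openCoverOfLeft 𝒰 f'
        (Spec.map (CommRingCat.ofHom (algebraMap A' R)))).f i) H
      exact (key i).mp ((fac_openCoverOfLeft_iff j' 𝒰 f' _ i).mp h1)
    · intro H
      apply fac_of_cover j' _ (Scheme.Pullback.openCoverOfLeft 𝒰 f'
        (Spec.map (CommRingCat.ofHom (algebraMap A' R))))
      intro i
      exact (fac_openCoverOfLeft_iff j' 𝒰 f' _ i).mpr ((key i).mpr (H i))

end Local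


section Affine

theorem fac_base_iso {S' S'' Z' Y' : Scheme.{u}} (f' : Z' ⟶ S') (j' : Y' ⟶ Z') (σ : S' ≅ S'')
    {T : Scheme.{u}} (x : T ⟶ S') :
    Fac j' (pullback.fst (f' ≫ σ.hom) (x ≫ σ.hom)) ↔ Fac j' (pullback.fst f' x) := by
  constructor
  · rintro ⟨l, hl⟩
    refine ⟨pullback.lift (pullback.fst f' x) (pullback.snd f' x)
      (by rw [← Category.assoc, pullback.condition, Category.assoc]) ≫ l, ?_⟩
    rw [Category.assoc, hl, pullback.lift_fst]
  · rintro ⟨l, hl⟩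
    refine ⟨pullback.lift (pullback.fst _ _) (pullback.snd _ _)
      (by rw [← cancel_mono σ.hom, Category.assoc, Category.assoc, pullback.condition]) ≫ l, ?_⟩
    rw [Category.assoc, hl, pullback.lift_fst]

theorem fac_fst_of_cover {X Y Z Y₀ : Scheme.{u}} (m : Y₀ ⟶ X) [Mono m] (f : X ⟶ Z) (g : Y ⟶ Z)
    (𝒯 : Y.OpenCover) :
    Fac m (pullback.fst f g) ↔ ∀ k, Fac m (pullback.fst f (𝒯.f k ≫ g)) := by
  have e1 : ∀ k, (Scheme.Pullback.openCoverOfRight 𝒯 f g).f k ≫ pullback.fst f g =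
      pullback.fst f (𝒯.f k ≫ g) := fun k =>
    (pullback.lift_fst _ _ _).trans (Category.comp_id _)
  constructor
  · intro H k
    exact (Iff.of_eq (congrArg (Fac m) (e1 k))).mp (fac_precomp m _ _ H)
  · intro H
    apply fac_of_cover m _ (Scheme.Pullback.openCoverOfRight 𝒯 f g)
    intro k
    exact (Iff.of_eq (congrArg (Fac m) (e1 k))).mpr (H k)

theorem fac_of_cover_iff {Y Z W : Scheme.{u}} (m : Y ⟶ Z) [Mono m] (h : W ⟶ Z) (𝒲 : W.OpenCover) :
    Fac m h ↔ ∀ i, Fac m (𝒲.f i ≫ h) :=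
  ⟨fun H i => fac_precomp m h _ H, fac_of_cover m h 𝒲⟩

variable {S' Z' Y' : Scheme.{u}} [IsAffine S'] (f' : Z' ⟶ S') (j' : Y' ⟶ Z') [IsClosedImmersion j']

theorem exists_closed_affine
    (hV : ∀ z : Z', ∃ V : Z'.Opens, z ∈ V ∧ IsAffineOpen V ∧
        (letI := (V.ι ≫ f').appTop.hom.toAlgebra
         Module.Projective Γ(S', ⊤) Γ(↑V, ⊤))) :
    ∃ (T' : Scheme.{u}) (t' : T' ⟶ S'), IsClosedImmersion t' ∧
      (QuasiCompact f' → LocallyOfFinitePresentation j' → LocallyOfFinitePresentation t') ∧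
      ∀ (T : Scheme.{u}) (x : T ⟶ S'), Fac t' x ↔ Fac j' (pullback.fst f' x) := by
  classical
  choose V hzV hVaff hVproj using hV
  obtain ⟨t, ht_cov, ht_fin⟩ : ∃ t : Set Z', (∀ z : Z', ∃ z₀ ∈ t, z ∈ V z₀) ∧
      (QuasiCompact f' → t.Finite) := by
    by_cases hqc : QuasiCompact f'
    · haveI : CompactSpace Z' := QuasiCompact.compactSpace_of_compactSpace f'
      obtain ⟨t, ht⟩ := isCompact_univ.elim_finite_subcover
        (fun z : Z' => ((V z : Z'.Opens) : Set Z')) (fun z => (V z).isOpen)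
        (fun z _ => Set.mem_iUnion.mpr ⟨z, hzV z⟩)
      refine ⟨↑t, fun z => ?_, fun _ => t.finite_toSet⟩
      obtain ⟨z₀, hz₀⟩ := Set.mem_iUnion.mp (ht (Set.mem_univ z))
      obtain ⟨hz₀t, hz⟩ := Set.mem_iUnion.mp hz₀
      exact ⟨z₀, hz₀t, hz⟩
    · exact ⟨Set.univ, fun z => ⟨z, trivial, hzV z⟩, fun h => absurd h hqc⟩
  let A' : Type u := Γ(S', ⊤)
  let σ : S' ≅ Spec (CommRingCat.of A') := S'.isoSpec
  let B : t → Type u := fun i => Γ(↑(V i.1), ⊤)
  letI : ∀ i : t, Algebra A' (B i) := fun i => ((V i.1).ι ≫ f').appTop.hom.toAlgebra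
  haveI : ∀ i : t, IsAffine ↑(V i.1) := fun i => hVaff i.1
  let v : ∀ i : t, Spec (CommRingCat.of (B i)) ⟶ Z' := fun i =>
    (↑(V i.1) : Scheme).isoSpec.inv ≫ (V i.1).ι
  haveI : ∀ i, IsOpenImmersion (v i) := fun i => by dsimp only [v]; infer_instance
  have hv : ∀ i, v i ≫ (f' ≫ σ.hom) = Spec.map (CommRingCat.ofHom (algebraMap A' (B i))) := by
    intro i
    change ((↑(V i.1) : Scheme).isoSpec.inv ≫ (V i.1).ι) ≫ f' ≫ S'.isoSpec.hom =
      Spec.map ((V i.1).ι ≫ f').appTop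
    rw [Category.assoc, ← Category.assoc (V i.1).ι, ← Scheme.isoSpec_inv_naturality_assoc,
      Iso.inv_hom_id, Category.comp_id]
  have hcov : ∀ z : Z', ∃ i : t, ∃ y, v i y = z := by
    intro z
    obtain ⟨z₀, hz₀, hz⟩ := ht_cov z
    refine ⟨⟨z₀, hz₀⟩, ?_⟩
    haveI : IsAffine ↑(V z₀) := hVaff z₀
    have hz' : z ∈ Set.range (V z₀).ι := by rw [Scheme.Opens.range_ι]; exact hz
    obtain ⟨y', hy'⟩ := hz'
    refine ⟨(↑(V z₀) : Scheme).isoSpec.hom y', ?_⟩
    change ((↑(V z₀) : Scheme).isoSpec.inv ≫ (V z₀).ι) ((↑(V z₀) : Scheme).isoSpec.hom y') = z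
    rw [← Scheme.Hom.comp_apply, Iso.hom_inv_id_assoc, hy']
  obtain ⟨c, hcfg, hc⟩ := exists_ideal_spec (f' ≫ σ.hom) j' B v hv hcov (fun i => hVproj i.1)
  refine ⟨Spec (CommRingCat.of (A' ⧸ c)),
    Spec.map (CommRingCat.ofHom (Ideal.Quotient.mk c)) ≫ σ.inv, inferInstance, ?_, ?_⟩
  · intro hqc hfp
    have hfg : c.FG := hcfg (ht_fin hqc).to_subtype hfp
    have h1 : Algebra.FinitePresentation A' (A' ⧸ c) := Algebra.FinitePresentation.quotient hfg
    have h2 : LocallyOfFinitePresentation (Spec.map (CommRingCat.ofHom (Ideal.Quotient.mk c))) :=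
      (LocallyOfFinitePresentation.SpecMap_iff _).mpr
        (RingHom.finitePresentation_algebraMap.mpr h1)
    infer_instance
  · -- affine case first
    have haff : ∀ (R : CommRingCat.{u}) (x : Spec R ⟶ S'),
        Fac (Spec.map (CommRingCat.ofHom (Ideal.Quotient.mk c)) ≫ σ.inv) x ↔
          Fac j' (pullback.fst f' x) := by
      intro R x
      let φ : CommRingCat.of A' ⟶ R := Spec.preimage (x ≫ σ.hom)
      have hφ : Spec.map φ = x ≫ σ.hom := Spec.map_preimage _
      have hφ' : Spec.map (CommRingCat.ofHom φ.hom) = x ≫ σ.hom := hφ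
      rw [← fac_base_iso f' j' σ x, ← hφ', hc R φ.hom,
        ← fac_spec_iff c (Iso.refl _) φ.hom, hφ']
      constructor
      · rintro ⟨l, hl⟩
        exact ⟨l, by rw [Iso.refl_hom, Category.id_comp, ← hl, Category.assoc, Category.assoc,
          Iso.inv_hom_id, Category.comp_id]⟩
      · rintro ⟨l, hl⟩
        refine ⟨l, ?_⟩
        rw [Iso.refl_hom, Category.id_comp] at hl
        rw [← Category.assoc, hl, Category.assoc, Iso.hom_inv_id, Category.comp_id]
    intro T x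
    rw [fac_of_cover_iff _ x T.affineOpenCover.openCover,
      fac_fst_of_cover j' f' x T.affineOpenCover.openCover]
    exact forall_congr' fun k => haff _ _

end Affine

end Groth.Agent.Lib.Helper6.EssFreeLocal
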