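import Mathlib
import Groth.Agent.Lib.Helper6.EssFreeLocal
import Groth.Agent.Lib.Helper5.DescClosed

/-!
# fpqc descent step for the representability theorem for essentially free morphisms (helper6)
-/

set_option autoImplicit false
set_option linter.unusedSectionVars false
set_option linter.style.haveILetI false
universe u
open CategoryTheory CategoryTheory.Limits AlgebraicGeometry

namespace Groth.Agent.Lib.Helper6.EssFreeDesc

open Groth.Agent.Lib.Helper6.EssFreeLocal Groth.Agent.Lib.Helper5.DescClosed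

section General

/-- fpqc descent of factorisation through a monomorphism which is a closed immersion. -/
theorem fac_descent {Y Z W W' : Scheme.{u}} (m : Y ⟶ Z) [Mono m] (h : W ⟶ Z) (q : W' ⟶ W)
    [Surjective q] [Flat q] [QuasiCompact q] (H : Fac m (q ≫ h)) : Fac m h := by
  rw [fac_iff_isIso] at H ⊢
  let sndmap : pullback m (q ≫ h) ⟶ pullback m h :=
    pullback.lift (pullback.fst m (q ≫ h)) (pullback.snd m (q ≫ h) ≫ q)
      (by rw [Category.assoc, pullback.condition])
  have big : IsPullback (sndmap ≫ pullback.fst m h) (pullback.snd m (q ≫ h)) m (q ≫ h) := by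
    have : sndmap ≫ pullback.fst m h = pullback.fst m (q ≫ h) := pullback.lift_fst _ _ _
    rw [this]
    exact IsPullback.of_hasPullback _ _
  have sq : IsPullback sndmap (pullback.snd m (q ≫ h)) (pullback.snd m h) q :=
    IsPullback.of_right big (pullback.lift_snd _ _ _) (IsPullback.of_hasPullback m h)
  exact MorphismProperty.of_isPullback_of_descendsAlong (P := MorphismProperty.isomorphisms Scheme.{u})
    (Q := (@Surjective ⊓ @Flat ⊓ @QuasiCompact : MorphismProperty Scheme.{u})) sq.flip
    ⟨⟨inferInstance, inferInstance⟩, inferInstance⟩ H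

theorem fac_iff_ker_le {Y Z W : Scheme.{u}} (m : Y ⟶ Z) [IsClosedImmersion m] (h : W ⟶ Z) :
    Fac m h ↔ m.ker ≤ h.ker := by
  constructor
  · rintro ⟨l, rfl⟩
    exact Scheme.Hom.le_ker_comp l m
  · intro H
    exact ⟨IsClosedImmersion.lift m h H, IsClosedImmersion.lift_fac m h H⟩

theorem fac_subschemeι_ker_iff {Y Z W : Scheme.{u}} (m : Y ⟶ Z) [IsClosedImmersion m] (h : W ⟶ Z) :
    Fac m.ker.subschemeι h ↔ Fac m h := by
  rw [fac_iff_ker_le, fac_iff_ker_le, Scheme.IdealSheafData.ker_subschemeι]

theorem idealSheaf_eq_of_fac_iff {X : Scheme.{u}} (K₁ K₂ : X.IdealSheafData)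
    (h : ∀ (T : Scheme.{u}) (x : T ⟶ X), Fac K₁.subschemeι x ↔ Fac K₂.subschemeι x) : K₁ = K₂ := by
  apply le_antisymm
  · have h1 := (h _ K₂.subschemeι).mpr ⟨𝟙 _, Category.id_comp _⟩
    rw [fac_iff_ker_le, Scheme.IdealSheafData.ker_subschemeι,
      Scheme.IdealSheafData.ker_subschemeι] at h1
    exact h1
  · have h1 := (h _ K₁.subschemeι).mp ⟨𝟙 _, Category.id_comp _⟩
    rw [fac_iff_ker_le, Scheme.IdealSheafData.ker_subschemeι,
      Scheme.IdealSheafData.ker_subschemeι] at h1
    exact h1

end General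

section Pr
variable {S Z Y : Scheme.{u}} (f : Z ⟶ S) (j : Y ⟶ Z)

/-- `Z_T ⟶ Z` factors through `Y`. -/
def Pr {T : Scheme.{u}} (y : T ⟶ S) : Prop := Fac j (pullback.fst f y)

theorem pr_precomp {T T' : Scheme.{u}} (y : T ⟶ S) (a : T' ⟶ T) (H : Pr f j y) :
    Pr f j (a ≫ y) := by
  have := fac_precomp j _ (pullback.map f (a ≫ y) f y (𝟙 _) a (𝟙 _) (by simp) (by simp)) H
  rwa [pullback.lift_fst, Category.comp_id] at this

theorem pr_descent [Mono j] {T T' : Scheme.{u}} (y : T ⟶ S) (p : T' ⟶ T)
    [Surjective p] [Flat p] [QuasiCompact p] (H : Pr f j (p ≫ y)) : Pr f j y := by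
  let q : pullback f (p ≫ y) ⟶ pullback f y :=
    pullback.lift (pullback.fst f (p ≫ y)) (pullback.snd f (p ≫ y) ≫ p)
      (by rw [Category.assoc, pullback.condition])
  have big : IsPullback (pullback.fst f (p ≫ y)) (pullback.snd f (p ≫ y)) f (p ≫ y) :=
    IsPullback.of_hasPullback _ _
  have hq1 : q ≫ pullback.fst f y = pullback.fst f (p ≫ y) := pullback.lift_fst _ _ _
  have sq : IsPullback (pullback.snd f (p ≫ y)) q p (pullback.snd f y) := by
    have big' : IsPullback (pullback.snd f (p ≫ y)) (q ≫ pullback.fst f y) (p ≫ y) f := by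
      rw [hq1]
      exact big.flip
    exact IsPullback.of_bot big' (pullback.lift_snd _ _ _).symm (IsPullback.of_hasPullback f y).flip
  haveI : Surjective q := MorphismProperty.of_isPullback (P := @Surjective) sq inferInstance
  haveI : Flat q := MorphismProperty.of_isPullback (P := @Flat) sq inferInstance
  haveI : QuasiCompact q := MorphismProperty.of_isPullback (P := @QuasiCompact) sq inferInstance
  unfold Pr at H ⊢
  rw [← hq1] at H
  exact fac_descent j _ q H

/-- `Pr` in terms of a base change of the data. -/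
theorem pr_baseChange_iff {S' T : Scheme.{u}} (b : S' ⟶ S) (x : T ⟶ S') :
    Fac (pullback.snd j (pullback.fst f b)) (pullback.fst (pullback.snd f b) x) ↔
      Pr f j (x ≫ b) := by
  rw [fac_pullback_iff]
  unfold Pr
  rw [← fac_precomp_iso j _ (pullbackLeftPullbackSndIso f b x).hom, pullbackLeftPullbackSndIso_hom_fst]

end Pr


section Descent
variable {S Z Y : Scheme.{u}} (f : Z ⟶ S) (j : Y ⟶ Z) [IsClosedImmersion j]

theorem exists_closed_of_fpqc {U S' : Scheme.{u}} (b : U ⟶ S) (g : S' ⟶ U)
    [Flat g] [Surjective g] [QuasiCompact g]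
    {T' : Scheme.{u}} (t' : T' ⟶ S') [IsClosedImmersion t']
    (ht' : ∀ (T : Scheme.{u}) (x : T ⟶ S'), Fac t' x ↔ Pr f j (x ≫ g ≫ b)) :
    ∃ (TU : Scheme.{u}) (t : TU ⟶ U), IsClosedImmersion t ∧
      (LocallyOfFinitePresentation t' → LocallyOfFinitePresentation t) ∧
      ∀ (T : Scheme.{u}) (y : T ⟶ U), Fac t y ↔ Pr f j (y ≫ b) := by
  let K' : S'.IdealSheafData := t'.ker
  have hK' : ∀ (T : Scheme.{u}) (x : T ⟶ S'), Fac K'.subschemeι x ↔ Pr f j (x ≫ g ≫ b) :=
    fun T x => (fac_subschemeι_ker_iff t' x).trans (ht' T x)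
  -- compatibility on the double fibre product
  have hcomp : K'.comap (pullback.fst g g) = K'.comap (pullback.snd g g) := by
    apply idealSheaf_eq_of_fac_iff
    intro T x
    have h1 : Fac (K'.comap (pullback.fst g g)).subschemeι x ↔
        Fac K'.subschemeι (x ≫ pullback.fst g g) := lifts_comap_iff K' _ x
    have h2 : Fac (K'.comap (pullback.snd g g)).subschemeι x ↔
        Fac K'.subschemeι (x ≫ pullback.snd g g) := lifts_comap_iff K' _ x
    rw [h1, h2, hK', hK', Category.assoc, Category.assoc, pullback.condition_assoc]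
  have hg : Presieve.ofArrows (fun _ : PUnit.{u + 1} => S') (fun _ => g) ∈
      Scheme.fpqcPrecoverage U := by
    rw [Presieve.ofArrows_pUnit]
    exact Scheme.Hom.singleton_mem_fpqcPrecoverage g
  obtain ⟨J, hJ, -⟩ := existsUnique_comap_eq (fun _ : PUnit.{u + 1} => g) (fun _ => K')
    (fun _ _ => hcomp) hg
  have hJ' : J.comap g = K' := hJ PUnit.unit
  refine ⟨J.subscheme, J.subschemeι, inferInstance, ?_, ?_⟩
  · intro hfp
    have h1 : LocallyOfFinitePresentation K'.subschemeι := by
      have e1 : K'.subschemeι = inv t'.toImage ≫ t' := by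
        rw [IsIso.eq_inv_comp]
        exact t'.toImage_imageι
      rw [e1]
      infer_instance
    have h2 : ∀ K'' : S'.IdealSheafData, K'' = K' →
        LocallyOfFinitePresentation K''.subschemeι := by
      rintro _ rfl
      exact h1
    have h3 : LocallyOfFinitePresentation (pullback.fst g J.subschemeι) := by
      rw [← Scheme.IdealSheafData.comapIso_inv_subschemeι]
      haveI := h2 _ hJ'
      infer_instance
    exact MorphismProperty.of_isPullback_of_descendsAlong (P := @LocallyOfFinitePresentation)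
      (Q := (@Surjective ⊓ @Flat ⊓ @QuasiCompact : MorphismProperty Scheme.{u}))
      (IsPullback.of_hasPullback g J.subschemeι)
      ⟨⟨inferInstance, inferInstance⟩, inferInstance⟩ h3
  · intro T y
    let p := pullback.fst y g
    let x := pullback.snd y g
    have hpx : p ≫ y = x ≫ g := pullback.condition
    have e1 : Fac J.subschemeι y ↔ Fac J.subschemeι (p ≫ y) :=
      ⟨fac_precomp _ _ _, fac_descent _ _ p⟩
    have e2 : Fac J.subschemeι (x ≫ g) ↔ Fac (J.comap g).subschemeι x :=
      (lifts_comap_iff J g x).symm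
    have e3 : ∀ K'' : S'.IdealSheafData, K'' = K' →
        (Fac K''.subschemeι x ↔ Pr f j (x ≫ g ≫ b)) := by
      rintro _ rfl
      exact hK' _ x
    have e4 : Pr f j (p ≫ y ≫ b) ↔ Pr f j (y ≫ b) :=
      ⟨pr_descent f j _ p, pr_precomp f j _ p⟩
    rw [e1, hpx, e2, e3 _ hJ', ← Category.assoc, ← hpx, Category.assoc, e4]

end Descent

end Groth.Agent.Lib.Helper6.EssFreeDesc
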