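import Mathlib
import Groth.Prelude.Def_Flatn
import Groth.Prelude.Def_AlgSp
import Groth.Agent.Lib.Helper5.LocalRepB

/-!
# Zariski-local representability of presheaves on `Over S` relative to a basis of opens of `S`
(helper6)

`exists_rep_of_basis_of_rep`: if `P : (Over S)ᵒᵖ ⥤ Type u` is an fppf sheaf (after `uliftFunctor`)
and over the members `W` of a basis of opens of `S` the restricted functor
`(Over.map W.ι).op ⋙ P` is representable by `M` with `Q M.hom` (`Q` Zariski-local on the target), then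
`P` is representable by some `V` with `Q V.hom`.  Built on helper5's
`LocalRepB.exists_rep_of_basis`.  `morS_isSheaf`: `Flatn.morS g f` is an fppf sheaf.
-/

set_option autoImplicit false
set_option linter.style.haveILetI false
universe u
open CategoryTheory CategoryTheory.Limits AlgebraicGeometry Opposite

namespace Groth.Agent.Lib.Helper6.MorSGlue

section
open AlgSp Groth.Agent.Lib.Helper23.AlgSpMor Groth.Agent.Lib.Helper5.LocalRep

variable {S : Scheme.{u}}

/-- The fppf sheaf attached to a `Type u`-valued presheaf whose lift is a sheaf. -/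
def shOf (P : (Over S)ᵒᵖ ⥤ Type u)
    (hP : Presheaf.IsSheaf (J S) (P ⋙ uliftFunctor.{u + 1})) : Sp S :=
  ⟨P ⋙ uliftFunctor.{u + 1}, hP⟩

variable (P : (Over S)ᵒᵖ ⥤ Type u) (hP : Presheaf.IsSheaf (J S) (P ⋙ uliftFunctor.{u + 1}))

/-- The terminal object of `Over S`. -/
abbrev T0 (S : Scheme.{u}) : Over S := Over.mk (𝟙 S)

instance (T' : Over S) : Subsingleton (T' ⟶ T0 S) :=
  ⟨fun a b => Over.mkIdTerminal.hom_ext a b⟩

/-- The map to the terminal sheaf. -/
def toT0 : shOf P hP ⟶ (yon S).obj (T0 S) :=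
  ⟨{ app := fun T' => ↾(fun _ => ULift.up (Over.homMk T'.unop.hom (by simp)))
     naturality := by
      intro T' T'' φ
      ext x
      apply ULift.ext
      exact Subsingleton.elim (α := T''.unop ⟶ T0 S) _ _ }⟩

/-- The map from a representable sheaf attached to a section. -/
def vOf (V : Over S) (ξ : P.obj (op V)) : (yon S).obj V ⟶ shOf P hP :=
  ⟨{ app := fun T' => ↾(fun a => ULift.up (P.map a.down.op ξ))
     naturality := by
      intro T' T'' φ
      ext ⟨a⟩
      apply ULift.ext
      change P.map (φ.unop ≫ a).op ξ = P.map φ (P.map a.op ξ)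
      rw [op_comp, Functor.map_comp]
      rfl }⟩

@[simp] lemma vOf_app (V : Over S) (ξ : P.obj (op V)) (T' : Over S) (a : T' ⟶ V) :
    (vOf P hP V ξ).hom.app (op T') ⟨a⟩ = ⟨P.map a.op ξ⟩ := rfl

end

section
open AlgSp Groth.Agent.Lib.Helper23.AlgSpMor Groth.Agent.Lib.Helper5.LocalRep

variable {S : Scheme.{u}}
variable (P : (Over S)ᵒᵖ ⥤ Type u) (hP : Presheaf.IsSheaf (J S) (P ⋙ uliftFunctor.{u + 1}))

instance subsingleton_hom_overOpens (T' : Over S) (W : S.Opens) :
    Subsingleton (T' ⟶ overOpens (T0 S) W) := by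
  refine ⟨fun a b => ?_⟩
  ext1
  rw [← cancel_mono W.ι]
  have ha : a.left ≫ W.ι ≫ 𝟙 S = T'.hom := Over.w a
  have hb : b.left ≫ W.ι ≫ 𝟙 S = T'.hom := Over.w b
  rw [Category.comp_id] at ha hb
  rw [ha, hb]

section

variable (W : S.Opens)

/-- `Over.map W.ι` is full. -/
lemma exists_map_eq {A M : Over (W : Scheme.{u})}
    (a : (Over.map W.ι).obj A ⟶ (Over.map W.ι).obj M) :
    ∃ a' : A ⟶ M, (Over.map W.ι).map a' = a := by
  refine ⟨Over.homMk a.left ?_, ?_⟩
  · rw [← cancel_mono W.ι]
    have := Over.w a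
    simpa using this
  · ext1
    rfl

lemma map_injective {A M : Over (W : Scheme.{u})} :
    Function.Injective (fun a' : A ⟶ M => (Over.map W.ι).map a') := by
  intro a b h
  ext1
  exact congrArg (fun t => t.left) h

variable {P} {W}
variable {M : Over (W : Scheme.{u})} (rep : ((Over.map W.ι).op ⋙ P).RepresentableBy M)

lemma homEquiv_eq {A : Over (W : Scheme.{u})} (a' : A ⟶ M) :
    rep.homEquiv a' = P.map ((Over.map W.ι).map a').op (rep.homEquiv (𝟙 M)) := by
  have := rep.homEquiv_comp a' (𝟙 M)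
  rw [Category.comp_id] at this
  exact this

lemma existsUnique_of_rep (A : Over (W : Scheme.{u})) (x : P.obj (op ((Over.map W.ι).obj A))) :
    ∃! a : (Over.map W.ι).obj A ⟶ (Over.map W.ι).obj M,
      P.map a.op (rep.homEquiv (𝟙 M)) = x := by
  refine ⟨(Over.map W.ι).map (rep.homEquiv.symm x), ?_, ?_⟩
  · show P.map ((Over.map W.ι).map (rep.homEquiv.symm x)).op (rep.homEquiv (𝟙 M)) = x
    rw [← homEquiv_eq, Equiv.apply_symm_apply]
  · intro a ha
    obtain ⟨a', rfl⟩ := exists_map_eq W a
    congr 1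
    apply rep.homEquiv.injective
    rw [Equiv.apply_symm_apply, homEquiv_eq, ha]

lemma exists_over_eq (T' : Over S) (u : T' ⟶ overOpens (T0 S) W) :
    ∃ A : Over (W : Scheme.{u}), T' = (Over.map W.ι).obj A := by
  refine ⟨Over.mk u.left, ?_⟩
  have : u.left ≫ W.ι ≫ 𝟙 S = T'.hom := Over.w u
  rw [Category.comp_id] at this
  change T' = Over.mk (u.left ≫ W.ι)
  rw [this]
  rfl

end

end

section
open AlgSp Groth.Agent.Lib.Helper23.AlgSpMor Groth.Agent.Lib.Helper5.LocalRep

variable {S : Scheme.{u}}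
variable (P : (Over S)ᵒᵖ ⥤ Type u) (hP : Presheaf.IsSheaf (J S) (P ⋙ uliftFunctor.{u + 1}))
variable {W : S.Opens} {M : Over (W : Scheme.{u})}
  (rep : ((Over.map W.ι).op ⋙ P).RepresentableBy M)

/-- the structure map of the local representing object. -/
noncomputable def qOf (W : S.Opens) (M : Over (W : Scheme.{u})) :
    (Over.map W.ι).obj M ⟶ overOpens (T0 S) W :=
  Over.homMk M.hom (by simp)

lemma isPullback_rep :
    IsPullback (vOf P hP _ (rep.homEquiv (𝟙 M))) ((yon S).map (qOf W M)) (toT0 P hP)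
      ((yon S).map (overOpensι (T0 S) W)) := by
  have comm : vOf P hP _ (rep.homEquiv (𝟙 M)) ≫ toT0 P hP =
      (yon S).map (qOf W M) ≫ (yon S).map (overOpensι (T0 S) W) := by
    ext T' x
    apply ULift.ext
    exact Subsingleton.elim (α := T'.unop ⟶ T0 S) _ _
  refine IsPullback.of_map (sheafToPresheaf (J S) (Type (u + 1))) comm ?_
  refine IsPullback.of_forall_isPullback_app fun T' => ?_
  rw [Types.isPullback_iff]
  refine ⟨?_, ?_, ?_⟩
  · ext x
    apply ULift.ext
    exact Subsingleton.elim (α := T'.unop ⟶ T0 S) _ _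
  · rintro ⟨a⟩ ⟨b⟩ ⟨h1, h2⟩
    obtain ⟨T'⟩ := T'
    obtain ⟨A, rfl⟩ := exists_over_eq T' (a ≫ qOf W M)
    have h1' : P.map a.op (rep.homEquiv (𝟙 M)) = P.map b.op (rep.homEquiv (𝟙 M)) :=
      congrArg ULift.down h1
    congr 1
    exact (existsUnique_of_rep rep A _).unique rfl h1'.symm
  · rintro ⟨x⟩ ⟨c⟩ -
    obtain ⟨T'⟩ := T'
    obtain ⟨A, rfl⟩ := exists_over_eq T' c
    obtain ⟨a, ha, -⟩ := existsUnique_of_rep rep A x
    refine ⟨⟨a⟩, ?_, ?_⟩
    · apply ULift.ext
      exact ha
    · apply ULift.ext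
      exact Subsingleton.elim (α := (Over.map W.ι).obj A ⟶ overOpens (T0 S) W) _ _

/-- Representing data over `W` from a representation of the restricted functor. -/
noncomputable def repData : RepData (toT0 P hP) W where
  V := (Over.map W.ι).obj M
  q := qOf W M
  v := vOf P hP _ (rep.homEquiv (𝟙 M))
  sq := isPullback_rep P hP rep

end

section
open AlgSp Groth.Agent.Lib.Helper23.AlgSpMor Groth.Agent.Lib.Helper5.LocalRep
  Groth.Agent.Lib.Helper5.LocalRepB

variable {S : Scheme.{u}}
variable (P : (Over S)ᵒᵖ ⥤ Type u) (hP : Presheaf.IsSheaf (J S) (P ⋙ uliftFunctor.{u + 1}))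

/-- Un-lifting a representation. -/
def representableByOfUlift {V : Over S} (r : (P ⋙ uliftFunctor.{u + 1}).RepresentableBy V) :
    P.RepresentableBy V where
  homEquiv := r.homEquiv.trans Equiv.ulift
  homEquiv_comp f g := by
    have := r.homEquiv_comp f g
    simp only [Equiv.trans_apply, this]
    rfl

include hP in
theorem exists_rep_of_basis_of_rep (Q : MorphismProperty Scheme.{u}) [IsZariskiLocalAtTarget Q]
    (B : Set S.Opens) (hB : TopologicalSpace.Opens.IsBasis B)
    (h : ∀ W ∈ B, ∃ M : Over (W : Scheme.{u}), Q M.hom ∧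
      Nonempty (((Over.map W.ι).op ⋙ P).RepresentableBy M)) :
    ∃ V : Over S, Q V.hom ∧ Nonempty (P.RepresentableBy V) := by
  choose M hM rep using h
  let D : ∀ W : ↥B, RepData (toT0 P hP) (T := T0 S) W.1 := fun W =>
    repData P hP (rep W.1 W.2).some
  obtain ⟨V, q, e, he, hpb⟩ := exists_rep_of_basis (T := T0 S) hB D
  refine ⟨V, ?_, ⟨representableByOfUlift P (representableByOfIso e)⟩⟩
  have hq : q.left = V.hom := by
    have := Over.w q
    simpa using this
  rw [← hq]
  apply IsZariskiLocalAtTarget.of_openCover (basisCover (X := S) hB)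
  intro W
  obtain ⟨j, sqj⟩ := hpb W
  have e' : pullback.snd q.left W.1.ι = sqj.isoPullback.inv ≫ (D W).q.left :=
    (Iso.eq_inv_comp _).mpr sqj.isoPullback_hom_snd
  change Q (pullback.snd q.left W.1.ι)
  rw [e']
  exact (Q.cancel_left_of_respectsIso _ _).mpr (hM W.1 W.2)

end

section
open AlgSp

variable {S Z X : Scheme.{u}}

theorem morS_isSheaf (g : Z ⟶ S) (f : X ⟶ S) :
    Presheaf.IsSheaf (J S) (Flatn.morS g f ⋙ uliftFunctor.{u + 1}) := by
  haveI : (Over.pullback g ⋙ Over.map g).IsContinuous (J S) (J S) :=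
    Functor.isContinuous_comp (Over.pullback g) (Over.map g) (J S)
      (Scheme.fppfTopology.over Z) (J S)
  exact Functor.op_comp_isSheaf (Over.pullback g ⋙ Over.map g) (J S) (J S)
    ((yon S).obj (Over.mk f))

end

end Groth.Agent.Lib.Helper6.MorSGlue
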