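import Mathlib
import Groth.Prelude.Def_SGA3x
import Groth.Agent.Lib.Helper6.EssFreeDesc
import Groth.Agent.Lib.Helper6.MorSGlue

/-!
# Representability by a closed subscheme for essentially free morphisms (helper6)

SGA3 VIII 6.4: for `f : Z ⟶ S` essentially free and `j : Y ⟶ Z` a closed immersion, the functor
"`Z_T ⟶ Z` factors through `Y`" on `S`-schemes is represented by a closed subscheme of `S`.
-/

set_option autoImplicit false
set_option linter.unusedSectionVars false
set_option linter.style.haveILetI false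
universe u
open CategoryTheory CategoryTheory.Limits AlgebraicGeometry Opposite

namespace Groth.Agent.Lib.Helper6.EssFreeGlue

open Groth.Agent.Lib.Helper6.EssFreeLocal Groth.Agent.Lib.Helper6.EssFreeDesc
  Groth.Agent.Lib.Helper6.MorSGlue

section
variable {S Z Y : Scheme.{u}} (f : Z ⟶ S) (j : Y ⟶ Z) [IsClosedImmersion j]

/-- the functor `T ↦ Hom_Z(Z_T, Y)`. -/
noncomputable def PF : (Over S)ᵒᵖ ⥤ Type u := (Over.pullback f).op ⋙ yoneda.obj (Over.mk j)

theorem PF_isSheaf : Presheaf.IsSheaf (AlgSp.J S) (PF f j ⋙ uliftFunctor.{u + 1}) :=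
  Functor.op_comp_isSheaf (Over.pullback f) (AlgSp.J S) (Scheme.fppfTopology.over Z)
    ((AlgSp.yon Z).obj (Over.mk j))

theorem nonempty_PF_iff (A : Over S) : Nonempty ((PF f j).obj (op A)) ↔ Pr f j A.hom := by
  constructor
  · rintro ⟨l⟩
    have hl : l.left ≫ j = pullback.snd A.hom f := Over.w l
    exact ⟨(pullbackSymmetry f A.hom).hom ≫ l.left, by
      rw [Category.assoc, hl, pullbackSymmetry_hom_comp_snd]⟩
  · rintro ⟨l, hl⟩
    exact ⟨Over.homMk ((pullbackSymmetry A.hom f).hom ≫ l) (by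
      change ((pullbackSymmetry A.hom f).hom ≫ l) ≫ j = pullback.snd A.hom f
      rw [Category.assoc, hl, pullbackSymmetry_hom_comp_fst])⟩

instance (A : Over S) : Subsingleton ((PF f j).obj (op A)) :=
  ⟨fun a b => by
    have ha : a.left ≫ j = pullback.snd A.hom f := Over.w a
    have hb : b.left ≫ j = pullback.snd A.hom f := Over.w b
    exact Over.OverMorphism.ext ((cancel_mono j).mp (ha.trans hb.symm))⟩

/-- `t` represents the functor over `U`. -/
def IsRepOver {U TU : Scheme.{u}} (b : U ⟶ S) (t : TU ⟶ U) : Prop :=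
  IsClosedImmersion t ∧ ∀ (T : Scheme.{u}) (y : T ⟶ U), Fac t y ↔ Pr f j (y ≫ b)

variable {f j}

theorem IsRepOver.restrict {U TU W : Scheme.{u}} {b : U ⟶ S} {t : TU ⟶ U}
    (h : IsRepOver f j b t) (c : W ⟶ U) : IsRepOver f j (c ≫ b) (pullback.snd t c) := by
  haveI := h.1
  refine ⟨inferInstance, fun T y => ?_⟩
  rw [fac_pullback_iff, h.2, Category.assoc]

theorem IsRepOver.iso_of {U A B : Scheme.{u}} {b : U ⟶ S} {t₁ : A ⟶ U} {t₂ : B ⟶ U}
    (h₁ : IsRepOver f j b t₁) (h₂ : IsRepOver f j b t₂) :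
    ∃ l : A ⟶ B, IsIso l ∧ l ≫ t₂ = t₁ := by
  haveI := h₁.1
  haveI := h₂.1
  obtain ⟨l, hl⟩ := (h₂.2 _ t₁).mpr ((h₁.2 _ t₁).mp ⟨𝟙 _, Category.id_comp _⟩)
  obtain ⟨l', hl'⟩ := (h₁.2 _ t₂).mpr ((h₂.2 _ t₂).mp ⟨𝟙 _, Category.id_comp _⟩)
  refine ⟨l, ⟨l', ?_, ?_⟩, hl⟩
  · rw [← cancel_mono t₁, Category.assoc, hl', hl, Category.id_comp]
  · rw [← cancel_mono t₂, Category.assoc, hl, hl', Category.id_comp]

variable (f j)

/-- representability over an open. -/
noncomputable def repOfIsRepOver (W : S.Opens) {TW : Scheme.{u}} (t : TW ⟶ (W : Scheme.{u}))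
    (h : IsRepOver f j W.ι t) :
    ((Over.map W.ι).op ⋙ PF f j).RepresentableBy (Over.mk t) where
  homEquiv {A} :=
    haveI := h.1
    haveI : Subsingleton (A ⟶ Over.mk t) := ⟨fun a b => by
      have ha : a.left ≫ t = A.hom := Over.w a
      have hb : b.left ≫ t = A.hom := Over.w b
      exact Over.OverMorphism.ext ((cancel_mono t).mp (ha.trans hb.symm))⟩
    haveI : Subsingleton (((Over.map W.ι).op ⋙ PF f j).obj (op A)) :=
      inferInstanceAs (Subsingleton ((PF f j).obj (op ((Over.map W.ι).obj A))))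
    equivOfSubsingletonOfSubsingleton
      (fun a => Classical.choice ((nonempty_PF_iff f j ((Over.map W.ι).obj A)).mpr
        ((h.2 _ A.hom).mp ⟨a.left, Over.w a⟩)))
      (fun l => Over.homMk
        ((h.2 _ A.hom).mpr ((nonempty_PF_iff f j ((Over.map W.ι).obj A)).mp ⟨l⟩)).choose
        ((h.2 _ A.hom).mpr ((nonempty_PF_iff f j ((Over.map W.ι).obj A)).mp ⟨l⟩)).choose_spec)
  homEquiv_comp {A A'} a b := by
    haveI : Subsingleton (((Over.map W.ι).op ⋙ PF f j).obj (op A)) :=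
      inferInstanceAs (Subsingleton ((PF f j).obj (op ((Over.map W.ι).obj A))))
    exact Subsingleton.elim _ _

end


section Main
open Groth.Agent.Lib.Helper5.LocalRepB
variable {S Z Y : Scheme.{u}} (f : Z ⟶ S) (j : Y ⟶ Z) [IsClosedImmersion j]

theorem main (hf : SGA3x.IsEssentiallyFree f) :
    ∃ (T : Scheme.{u}) (t : T ⟶ S), IsClosedImmersion t ∧
      (∀ (S' : Scheme.{u}) (g : S' ⟶ S),
        (∃ g' : S' ⟶ T, g' ≫ t = g) ↔ IsIso (pullback.snd j (pullback.fst f g))) ∧
      (QuasiCompact f → LocallyOfFinitePresentation j → LocallyOfFinitePresentation t) := by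
  -- local data
  have hloc : ∀ s : S, ∃ U : S.Opens, s ∈ U ∧ ∃ (TU : Scheme.{u}) (t : TU ⟶ (U : Scheme.{u})),
      IsRepOver f j U.ι t ∧
        (QuasiCompact f → LocallyOfFinitePresentation j → LocallyOfFinitePresentation t) := by
    intro s
    obtain ⟨U, hsU, hUaff, S', hS'aff, g, hgflat, hgsurj, hV⟩ := hf s
    haveI := hS'aff
    haveI : IsAffine (U : Scheme.{u}) := hUaff
    haveI := hgflat
    haveI := hgsurj
    obtain ⟨T', t', ht'ci, ht'fp, ht'⟩ := exists_closed_affine (pullback.snd f (g ≫ U.ι))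
      (pullback.snd j (pullback.fst f (g ≫ U.ι))) hV
    haveI := ht'ci
    obtain ⟨TU, t, htci, htfp, ht⟩ := exists_closed_of_fpqc f j U.ι g t'
      (fun T x => (ht' T x).trans (pr_baseChange_iff f j (g ≫ U.ι) x))
    exact ⟨U, hsU, TU, t, ⟨htci, ht⟩, fun hqc hfp =>
      haveI := hqc
      haveI := hfp
      htfp (ht'fp inferInstance inferInstance)⟩
  choose U hsU TU t hrep hfp using hloc
  let B : Set S.Opens := {W | ∃ s, W ≤ U s}
  have hB : TopologicalSpace.Opens.IsBasis B := by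
    rw [TopologicalSpace.Opens.isBasis_iff_nbhd]
    intro O x hx
    exact ⟨O ⊓ U x, ⟨x, inf_le_right⟩, ⟨hx, hsU x⟩, inf_le_left⟩
  have hW : ∀ W ∈ B, ∃ s, ∃ hW : W ≤ U s,
      IsRepOver f j W.ι (pullback.snd (t s) (S.homOfLE hW)) := by
    rintro W ⟨s, hW⟩
    have h1 := (hrep s).restrict (S.homOfLE hW)
    rw [S.homOfLE_ι hW] at h1
    exact ⟨s, hW, h1⟩
  obtain ⟨V, hVci, ⟨rV⟩⟩ := exists_rep_of_basis_of_rep (PF f j) (PF_isSheaf f j)
    @IsClosedImmersion B hB (by
      intro W hWB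
      obtain ⟨s, hW', h1⟩ := hW W hWB
      exact ⟨Over.mk (pullback.snd (t s) (S.homOfLE hW')), h1.1, ⟨repOfIsRepOver f j W _ h1⟩⟩)
  have hVrep : ∀ (T : Scheme.{u}) (y : T ⟶ S), Fac V.hom y ↔ Pr f j y := by
    intro T y
    refine Iff.trans ?_ (nonempty_PF_iff f j (Over.mk y))
    constructor
    · rintro ⟨g', hg'⟩
      exact ⟨rV.homEquiv (Over.homMk g' hg')⟩
    · rintro ⟨l⟩
      exact ⟨(rV.homEquiv.symm l).left, Over.w (rV.homEquiv.symm l)⟩
  refine ⟨V.left, V.hom, hVci, ?_, ?_⟩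
  · intro S' g
    rw [← fac_iff_isIso]
    exact hVrep S' g
  · intro hqc hfpj
    have hV' : IsRepOver f j (𝟙 S) V.hom :=
      ⟨hVci, fun T y => by rw [Category.comp_id]; exact hVrep T y⟩
    haveI : IsZariskiLocalAtTarget (@LocallyOfFinitePresentation : MorphismProperty Scheme.{u}) :=
      HasRingHomProperty.instIsZariskiLocalAtTarget (Q := RingHom.FinitePresentation) _
    apply IsZariskiLocalAtTarget.of_openCover
      (P := (@LocallyOfFinitePresentation : MorphismProperty Scheme.{u})) (basisCover hB)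
    rintro ⟨W, hWB⟩
    obtain ⟨s, hW', h1⟩ := hW W hWB
    have h2 := hV'.restrict W.ι
    rw [Category.comp_id] at h2
    obtain ⟨l, hl, hl'⟩ := h2.iso_of h1
    haveI := hfp s hqc hfpj
    change LocallyOfFinitePresentation (pullback.snd V.hom W.ι)
    rw [← hl']
    infer_instance

end Main

end Groth.Agent.Lib.Helper6.EssFreeGlue
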