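import Mathlib
/-! Geometry for the Weil restriction: `Γ(T ×_S Z) = Γ(T) ⊗ Γ(Z)` for `Z → S` affine with finite free
coordinate ring, maps to affine schemes. -/

set_option autoImplicit false
set_option linter.style.haveILetI false
universe u
open CategoryTheory Limits AlgebraicGeometry Opposite TopologicalSpace TensorProduct Module

namespace Groth.Agent.Lib.Helper6.WeilGeom

variable {Y T : Scheme.{u}} {ι : Type} [Fintype ι]

/-- `Φ_V (a) = Σ_i p^*(a_i) · s_i|_{p⁻¹V}`. -/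
noncomputable def Phi (p : Y ⟶ T) (s : ι → Γ(Y, ⊤)) (V : T.Opens) (a : ι → Γ(T, V)) :
    Γ(Y, p ⁻¹ᵁ V) :=
  ∑ i, p.app V (a i) * Y.presheaf.map (homOfLE le_top).op (s i)

theorem Phi_res (p : Y ⟶ T) (s : ι → Γ(Y, ⊤)) {V V' : T.Opens} (h : V' ≤ V) (a : ι → Γ(T, V)) :
    Y.presheaf.map (homOfLE (p.preimage_mono h)).op (Phi p s V a) =
      Phi p s V' (fun i => T.presheaf.map (homOfLE h).op (a i)) := by
  unfold Phi
  rw [map_sum]
  refine Finset.sum_congr rfl fun i _ => ?_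
  rw [map_mul]
  congr 1
  · rw [← CommRingCat.comp_apply, ← CommRingCat.comp_apply, p.naturality]
    rfl
  · rw [← CommRingCat.comp_apply, ← Functor.map_comp]
    rfl

theorem Phi_bijective_of_basis (p : Y ⟶ T) (s : ι → Γ(Y, ⊤)) (𝓑 : Set T.Opens)
    (h𝓑 : Opens.IsBasis 𝓑) (hB : ∀ V ∈ 𝓑, Function.Bijective (Phi p s V)) (U : T.Opens) :
    Function.Bijective (Phi p s U) := by
  let I := {W : T.Opens // W ∈ 𝓑 ∧ W ≤ U}
  let Uf : I → T.Opens := fun W => W.1
  have hcov : U ≤ iSup Uf := by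
    intro x hx
    obtain ⟨V, hV, hxV, hVO⟩ := Opens.isBasis_iff_nbhd.mp h𝓑 hx
    exact Opens.mem_iSup.mpr ⟨⟨V, hV, hVO⟩, hxV⟩
  have hcovY : p ⁻¹ᵁ U ≤ ⨆ W : I, p ⁻¹ᵁ W.1 := by
    intro y hy
    obtain ⟨W, hW⟩ := Opens.mem_iSup.mp (hcov hy)
    exact Opens.mem_iSup.mpr ⟨W, hW⟩
  -- injectivity on every open
  have hinj : ∀ U₀ : T.Opens, Function.Injective (Phi p s U₀) := by
    intro U₀ a a' haa'
    funext i
    apply T.sheaf.eq_of_locally_eq' (fun W : {W : T.Opens // W ∈ 𝓑 ∧ W ≤ U₀} => W.1) U₀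
      (fun W => homOfLE W.2.2)
    · intro x hx
      obtain ⟨V, hV, hxV, hVO⟩ := Opens.isBasis_iff_nbhd.mp h𝓑 hx
      exact Opens.mem_iSup.mpr ⟨⟨V, hV, hVO⟩, hxV⟩
    · intro W
      have h1 := congrArg (Y.presheaf.map (homOfLE (p.preimage_mono W.2.2)).op) haa'
      rw [Phi_res, Phi_res] at h1
      exact congrFun ((hB W.1 W.2.1).1 h1) i
  refine ⟨hinj U, fun y => ?_⟩
  -- local preimages
  have hloc : ∀ W : I, ∃ a : ι → Γ(T, W.1),
      Phi p s W.1 a = Y.presheaf.map (homOfLE (p.preimage_mono W.2.2)).op y :=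
    fun W => (hB W.1 W.2.1).2 _
  choose sf hsf using hloc
  have hcompat : ∀ i, TopCat.Presheaf.IsCompatible T.presheaf Uf (fun W => sf W i) := by
    intro i W₁ W₂
    refine congrFun (hinj (Uf W₁ ⊓ Uf W₂) (a₁ := fun i => T.presheaf.map (Opens.infLELeft _ _).op (sf W₁ i))
      (a₂ := fun i => T.presheaf.map (Opens.infLERight _ _).op (sf W₂ i)) ?_) i
    have e1 := Phi_res p s (inf_le_left : Uf W₁ ⊓ Uf W₂ ≤ Uf W₁) (sf W₁)
    have e2 := Phi_res p s (inf_le_right : Uf W₁ ⊓ Uf W₂ ≤ Uf W₂) (sf W₂)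
    refine e1.symm.trans (Eq.trans ?_ e2)
    rw [hsf, hsf, ← CommRingCat.comp_apply, ← CommRingCat.comp_apply, ← Functor.map_comp,
      ← Functor.map_comp]
    rfl
  have hglue : ∀ i, ∃ z : Γ(T, U), ∀ W : I, T.presheaf.map (homOfLE W.2.2).op z = sf W i := by
    intro i
    obtain ⟨z, hz, -⟩ := T.sheaf.existsUnique_gluing' Uf U (fun W => homOfLE W.2.2) hcov
      (fun W => sf W i) (hcompat i)
    exact ⟨z, hz⟩
  choose z hz using hglue
  refine ⟨z, ?_⟩
  apply Y.sheaf.eq_of_locally_eq' (fun W : I => p ⁻¹ᵁ W.1) (p ⁻¹ᵁ U)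
    (fun W => homOfLE (p.preimage_mono W.2.2)) hcovY
  intro W
  have := Phi_res p s W.2.2 z
  refine this.trans (Eq.trans ?_ (hsf W))
  congr 1
  funext i
  exact hz i W

end Groth.Agent.Lib.Helper6.WeilGeom


namespace Groth.Agent.Lib.Helper6.WeilGeom

theorem bijective_sum_tmul {R A C : Type u} [CommRing R] [CommRing A] [CommRing C] [Algebra R A]
    [Algebra R C] {ι : Type} [Fintype ι] (b : Basis ι R C) :
    Function.Bijective (fun a : ι → A => ∑ i, a i ⊗ₜ[R] b i) := by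
  classical
  have h : (fun a : ι → A => ∑ i, a i ⊗ₜ[R] b i) =
      (Algebra.TensorProduct.basis A b).equivFun.symm := by
    funext a
    rw [Basis.equivFun_symm_apply]
    refine Finset.sum_congr rfl fun i _ => ?_
    rw [Algebra.TensorProduct.basis_repr_symm_apply']
  rw [h]
  exact (Algebra.TensorProduct.basis A b).equivFun.symm.bijective

theorem bijective_sum_of_isPushout {R A C G : CommRingCat.{u}} (α : R ⟶ A) (γ : R ⟶ C)
    (l : A ⟶ G) (r : C ⟶ G) (h : IsPushout α γ l r) {ι : Type} [Fintype ι]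
    (b : letI := γ.hom.toAlgebra; Basis ι R C) :
    Function.Bijective (fun a : ι → A => ∑ i, l (a i) * r (b i)) := by
  letI : Algebra R A := α.hom.toAlgebra
  letI : Algebra R C := γ.hom.toAlgebra
  have tp := CommRingCat.isPushout_tensorProduct R A C
  let e : G ≅ CommRingCat.of (A ⊗[R] C) := h.isoIsPushout _ _ tp
  have hl : ∀ a : A, e.hom (l a) = a ⊗ₜ[R] (1 : C) := by
    intro a
    have := h.inl_isoIsPushout_hom _ _ tp
    exact congr($this a)
  have hr : ∀ c : C, e.hom (r c) = (1 : A) ⊗ₜ[R] c := by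
    intro c
    have := h.inr_isoIsPushout_hom _ _ tp
    exact congr($this c)
  have hcomp : (fun a : ι → A => ∑ i, a i ⊗ₜ[R] b i) =
      e.hom ∘ (fun a : ι → A => ∑ i, l (a i) * r (b i)) := by
    funext a
    simp only [Function.comp_apply, map_sum, map_mul, hl, hr,
      Algebra.TensorProduct.tmul_mul_tmul, mul_one, one_mul]
  have hb := bijective_sum_tmul (A := A) b
  rw [hcomp] at hb
  have he : Function.Bijective e.hom := (ConcreteCategory.isIso_iff_bijective e.hom).mp inferInstance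
  exact (Function.Bijective.of_comp_iff' he _).mp hb

end Groth.Agent.Lib.Helper6.WeilGeom


namespace Groth.Agent.Lib.Helper6.WeilGeom

variable {S Z T : Scheme.{u}}

theorem Phi_bijective_affine [IsAffine S] [IsAffine Z] (g : Z ⟶ S) (t : T ⟶ S)
    {ι : Type} [Fintype ι] (γ : Γ(S, ⊤) ⟶ Γ(Z, ⊤)) (hγ : g.appTop = γ)
    (b : letI := γ.hom.toAlgebra; Basis ι Γ(S, ⊤) Γ(Z, ⊤)) (V : T.Opens) (hV : IsAffineOpen V) :
    Function.Bijective (Phi (pullback.fst t g) (fun i => (pullback.snd t g).appTop (b i)) V) := by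
  subst hγ
  have H := IsPullback.of_hasPullback t g
  have hUY : pullback.fst t g ⁻¹ᵁ V = pullback.fst t g ⁻¹ᵁ V ⊓ pullback.snd t g ⁻¹ᵁ ⊤ := by
    simp
  have hiso := isIso_pushoutSection_of_isAffineOpen H (US := ⊤) (UT := ⊤) (UX := V)
    (hUST := le_top) (hUSX := le_top) hUY (isAffineOpen_top S) (isAffineOpen_top Z) hV
  have hpo := (isIso_pushoutSection_iff H (US := ⊤) (UT := ⊤) (UX := V)
    (hUST := le_top) (hUSX := le_top) hUY).mp hiso
  have e0 : g.appLE ⊤ ⊤ le_top = g.appTop := by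
    rw [Scheme.Hom.appLE]
    simp [Scheme.Hom.appTop]
  have key : ∀ (γ' : Γ(S, ⊤) ⟶ Γ(Z, ⊤)) (hγ' : γ' = g.appTop)
      (hpo' : IsPushout (t.appLE ⊤ V le_top) γ'
        ((pullback.fst t g).appLE V (pullback.fst t g ⁻¹ᵁ V) le_rfl)
        ((pullback.snd t g).appLE ⊤ (pullback.fst t g ⁻¹ᵁ V) le_top)),
      Function.Bijective (Phi (pullback.fst t g) (fun i => (pullback.snd t g).appTop (b i)) V) := by
    intro γ' hγ' hpo'
    subst hγ'
    have := bijective_sum_of_isPushout _ _ _ _ hpo' b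
    convert this using 2 with a
    unfold Phi
    refine Finset.sum_congr rfl fun i _ => ?_
    congr 1
    rw [Scheme.Hom.appLE_eq_app]
  exact key _ e0 hpo

theorem theta_bijective [IsAffine S] [IsAffine Z] (g : Z ⟶ S) (t : T ⟶ S)
    {ι : Type} [Fintype ι]
    (b : letI := g.appTop.hom.toAlgebra; Basis ι Γ(S, ⊤) Γ(Z, ⊤)) :
    Function.Bijective (Phi (pullback.fst t g) (fun i => (pullback.snd t g).appTop (b i)) ⊤) :=
  Phi_bijective_of_basis _ _ _ (Scheme.isBasis_affineOpens T)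
    (fun V hV => Phi_bijective_affine g t _ rfl b V hV) ⊤

end Groth.Agent.Lib.Helper6.WeilGeom


namespace Groth.Agent.Lib.Helper6.WeilGeom

/-- the morphism to an affine scheme attached to a ring map on global sections. -/
noncomputable def toAff {Y X : Scheme.{u}} [IsAffine X] (φ : Γ(X, ⊤) ⟶ Γ(Y, ⊤)) : Y ⟶ X :=
  Y.toSpecΓ ≫ Spec.map φ ≫ X.isoSpec.inv

theorem toAff_appTop {Y X : Scheme.{u}} [IsAffine X] (φ : Γ(X, ⊤) ⟶ Γ(Y, ⊤)) :
    (toAff φ).appTop = φ := by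
  have h1 : X.isoSpec.inv.appTop ≫ (Scheme.ΓSpecIso Γ(X, ⊤)).hom = 𝟙 _ := by
    have : X.isoSpec.hom.appTop = (Scheme.ΓSpecIso Γ(X, ⊤)).hom := by
      rw [Scheme.isoSpec_hom, Scheme.toSpecΓ_appTop]
    rw [← this, ← Scheme.Hom.comp_appTop, Iso.hom_inv_id, Scheme.Hom.id_appTop]
  unfold toAff
  rw [Scheme.Hom.comp_appTop, Scheme.Hom.comp_appTop, Scheme.toSpecΓ_appTop, Category.assoc,
    Scheme.ΓSpecIso_naturality, ← Category.assoc, h1, Category.id_comp]

/-- the ring map attached to a morphism to `Spec`. -/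
noncomputable def ringOf {T : Scheme.{u}} {R₀ : CommRingCat.{u}} (v : T ⟶ Spec R₀) :
    R₀ ⟶ Γ(T, ⊤) :=
  (Scheme.ΓSpecIso R₀).inv ≫ v.appTop

theorem ringOf_injective {T : Scheme.{u}} {R₀ : CommRingCat.{u}} :
    Function.Injective (ringOf (T := T) (R₀ := R₀)) := by
  intro v v' h
  apply ext_of_isAffine
  unfold ringOf at h
  exact (cancel_epi _).mp h

theorem ringOf_comp {T' T : Scheme.{u}} {R₀ : CommRingCat.{u}} (w : T' ⟶ T) (v : T ⟶ Spec R₀) :
    ringOf (w ≫ v) = ringOf v ≫ w.appTop := by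
  unfold ringOf
  rw [Scheme.Hom.comp_appTop, Category.assoc]

theorem ringOf_toSpecΓ_map {T : Scheme.{u}} {R₀ : CommRingCat.{u}} (φ : R₀ ⟶ Γ(T, ⊤)) :
    ringOf (T.toSpecΓ ≫ Spec.map φ) = φ := by
  unfold ringOf
  rw [Scheme.Hom.comp_appTop, Scheme.toSpecΓ_appTop, Scheme.ΓSpecIso_naturality,
    Iso.inv_hom_id_assoc]

theorem ringOf_specMap {R₀ R₁ : CommRingCat.{u}} (α : R₀ ⟶ R₁) :
    ringOf (Spec.map α) = α ≫ (Scheme.ΓSpecIso R₁).inv := by
  unfold ringOf
  rw [Scheme.ΓSpecIso_inv_naturality]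

end Groth.Agent.Lib.Helper6.WeilGeom
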