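import Mathlib
import Groth.Prelude.Def_Flatn
import Groth.Agent.Lib.Helper6.WeilAlg
import Groth.Agent.Lib.Helper6.WeilGeom
/-! Representability of `Mor_S(Z, X)` (Weil restriction) for affine `S, Z, X` with `Γ(Z)` finite free. -/

set_option autoImplicit false
set_option linter.style.haveILetI false
universe u
open CategoryTheory Limits AlgebraicGeometry Opposite TopologicalSpace TensorProduct Module
open Groth.Agent.Lib.Helper6.WeilAlg Groth.Agent.Lib.Helper6.WeilGeom

namespace Groth.Agent.Lib.Helper6.WeilRep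

variable {Z X S : Scheme.{u}}

theorem isoSpec_inv_appTop' [IsAffine S] :
    S.isoSpec.inv.appTop = (Scheme.ΓSpecIso Γ(S, ⊤)).inv := by
  have h1 : S.isoSpec.inv.appTop ≫ (Scheme.ΓSpecIso Γ(S, ⊤)).hom = 𝟙 _ := by
    have : S.isoSpec.hom.appTop = (Scheme.ΓSpecIso Γ(S, ⊤)).hom := by
      rw [Scheme.isoSpec_hom, Scheme.toSpecΓ_appTop]
    rw [← this, ← Scheme.Hom.comp_appTop, Iso.hom_inv_id, Scheme.Hom.id_appTop]
  rw [← Category.comp_id (S.isoSpec.inv.appTop), ← Iso.hom_inv_id (Scheme.ΓSpecIso Γ(S, ⊤)),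
    ← Category.assoc, h1, Category.id_comp]

/-- (L2) -/
theorem comp_ringOf [IsAffine S] {T : Scheme.{u}} {B' : CommRingCat.{u}} (α : Γ(S, ⊤) ⟶ B')
    (v : T ⟶ Spec B') : α ≫ ringOf v = (v ≫ Spec.map α ≫ S.isoSpec.inv).appTop := by
  unfold ringOf
  rw [Scheme.Hom.comp_appTop, Scheme.Hom.comp_appTop, isoSpec_inv_appTop',
    ← Category.assoc α, Scheme.ΓSpecIso_inv_naturality, Category.assoc]

theorem Phi_top {Y T : Scheme.{u}} {ι : Type} [Fintype ι] (p : Y ⟶ T) (s : ι → Γ(Y, ⊤))
    (a : ι → Γ(T, ⊤)) : Phi p s ⊤ a = ∑ i, p.appTop (a i) * s i := by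
  unfold Phi
  refine Finset.sum_congr rfl fun i _ => ?_
  congr 1
  have : (homOfLE (le_top : p ⁻¹ᵁ ⊤ ≤ ⊤)) = 𝟙 _ := Subsingleton.elim _ _
  rw [this]
  simp
  rfl

end Groth.Agent.Lib.Helper6.WeilRep


namespace Groth.Agent.Lib.Helper6.WeilRep

variable {Z X S : Scheme.{u}}

section Data

variable [IsAffine S] [IsAffine Z] (g : Z ⟶ S) {T : Scheme.{u}} (t : T ⟶ S)

/-- algebra structure on `Γ(T)` from `t : T ⟶ S`. -/
@[reducible] noncomputable def algT : Algebra Γ(S, ⊤) Γ(T, ⊤) := t.appTop.hom.toAlgebra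

/-- algebra structure on `Γ(T ×_S Z)`. -/
@[reducible] noncomputable def algG : Algebra Γ(S, ⊤) Γ(pullback t g, ⊤) :=
  (t.appTop ≫ (pullback.fst t g).appTop).hom.toAlgebra

/-- `fst^*` as an algebra map. -/
noncomputable def fstA :
    letI := algT t; letI := algG g t
    Γ(T, ⊤) →ₐ[Γ(S, ⊤)] Γ(pullback t g, ⊤) :=
  letI := algT t; letI := algG g t
  { (pullback.fst t g).appTop.hom with commutes' := fun _ => rfl }

/-- `snd^*` as an algebra map. -/
noncomputable def sndA :
    letI := algT g; letI := algG g t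
    Γ(Z, ⊤) →ₐ[Γ(S, ⊤)] Γ(pullback t g, ⊤) :=
  letI := algT g; letI := algG g t
  { (pullback.snd t g).appTop.hom with
    commutes' := fun r => by
      have h : g.appTop ≫ (pullback.snd t g).appTop = t.appTop ≫ (pullback.fst t g).appTop := by
        rw [← Scheme.Hom.comp_appTop, ← Scheme.Hom.comp_appTop, pullback.condition]
      exact congr($h r) }

theorem hbij {n : ℕ} (b : letI := algT g; Basis (Fin n) Γ(S, ⊤) Γ(Z, ⊤)) :
    letI := algT g; letI := algT t; letI := algG g t
    Function.Bijective (fun a : Fin n → Γ(T, ⊤) => ∑ i, fstA g t (a i) * sndA g t (b i)) := by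
  letI := algT g; letI := algT t; letI := algG g t
  have h := theta_bijective g t b
  have e : (fun a : Fin n → Γ(T, ⊤) => ∑ i, fstA g t (a i) * sndA g t (b i)) =
      Phi (pullback.fst t g) (fun i => (pullback.snd t g).appTop (b i)) ⊤ := by
    funext a
    rw [Phi_top]
    rfl
  rw [e]
  exact h

end Data

end Groth.Agent.Lib.Helper6.WeilRep


namespace Groth.Agent.Lib.Helper6.WeilRep

variable {Z X S : Scheme.{u}} [IsAffine S] [IsAffine Z] [IsAffine X] (g : Z ⟶ S) (f : X ⟶ S)
variable {n : ℕ} (b : letI := algT g; Basis (Fin n) Γ(S, ⊤) Γ(Z, ⊤))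

/-- the Weil restriction algebra as an object of `CommRingCat`. -/
noncomputable def WB : CommRingCat.{u} :=
  letI := algT g; letI := algT f
  CommRingCat.of (WAlg b Γ(X, ⊤))

/-- the structure map `R → B'`. -/
noncomputable def WBα : Γ(S, ⊤) ⟶ WB g f b :=
  letI := algT g; letI := algT f
  CommRingCat.ofHom (algebraMap Γ(S, ⊤) (WAlg b Γ(X, ⊤)))

/-- the structure morphism of the Weil restriction. -/
noncomputable def wS : Spec (WB g f b) ⟶ S := Spec.map (WBα g f b) ≫ S.isoSpec.inv

/-- the algebra map attached to a morphism `T ⟶ Spec B'` over `S`. -/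
noncomputable def algOf {T : Scheme.{u}} (t : T ⟶ S) (v : T ⟶ Spec (WB g f b))
    (hv : v ≫ wS g f b = t) :
    letI := algT g; letI := algT f; letI := algT t
    WAlg b Γ(X, ⊤) →ₐ[Γ(S, ⊤)] Γ(T, ⊤) :=
  letI := algT g; letI := algT f; letI := algT t
  { (ringOf v).hom with
    commutes' := fun r => by
      have h := comp_ringOf (WBα g f b) v
      have h2 : (v ≫ Spec.map (WBα g f b) ≫ S.isoSpec.inv) = t := hv
      rw [h2] at h
      exact congr($h r) }

theorem algOf_apply {T : Scheme.{u}} (t : T ⟶ S) (v : T ⟶ Spec (WB g f b))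
    (hv : v ≫ wS g f b = t) (y) : algOf g f b t v hv y = ringOf v y := rfl

end Groth.Agent.Lib.Helper6.WeilRep

namespace Groth.Agent.Lib.Helper6.WeilRep

variable {Z X S : Scheme.{u}} [IsAffine S] [IsAffine Z] [IsAffine X] (g : Z ⟶ S) (f : X ⟶ S)
variable {n : ℕ} (b : letI := algT g; Basis (Fin n) Γ(S, ⊤) Γ(Z, ⊤))

/-- the evaluation ring map `B → Γ(W ×_S Z)`. -/
noncomputable def evR :
    letI := algT g; letI := algT f; letI := algG g (wS g f b)
    Γ(X, ⊤) →ₐ[Γ(S, ⊤)] Γ(pullback (wS g f b) g, ⊤) :=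
  letI := algT g; letI := algT f; letI := algT (wS g f b); letI := algG g (wS g f b)
  Theta b Γ(X, ⊤) (fstA g (wS g f b)) (sndA g (wS g f b))
    (algOf g f b (wS g f b) (𝟙 _) (Category.id_comp _))

/-- the evaluation morphism `W ×_S Z ⟶ X`. -/
noncomputable def ev : pullback (wS g f b) g ⟶ X :=
  letI := algT g; letI := algT f; letI := algG g (wS g f b)
  toAff (CommRingCat.ofHom (evR g f b).toRingHom)

theorem ev_appTop_apply (x : Γ(X, ⊤)) :
    letI := algT g; letI := algT f
    (ev g f b).appTop x = ∑ i, (pullback.fst (wS g f b) g).appTop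
      ((Scheme.ΓSpecIso (WB g f b)).inv (q b Γ(X, ⊤) (MvPolynomial.X (x, i)))) *
        (pullback.snd (wS g f b) g).appTop (b i) := by
  letI := algT g; letI := algT f; letI := algT (wS g f b); letI := algG g (wS g f b)
  unfold ev
  rw [toAff_appTop]
  change evR g f b x = _
  unfold evR
  rw [Theta_apply]
  refine Finset.sum_congr rfl fun i _ => ?_
  congr 1

theorem ev_comp : ev g f b ≫ f = pullback.snd (wS g f b) g ≫ g := by
  letI := algT g; letI := algT f; letI := algT (wS g f b); letI := algG g (wS g f b)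
  apply ext_of_isAffine
  rw [Scheme.Hom.comp_appTop, Scheme.Hom.comp_appTop]
  unfold ev
  rw [toAff_appTop]
  have h : g.appTop ≫ (pullback.snd (wS g f b) g).appTop =
      (wS g f b).appTop ≫ (pullback.fst (wS g f b) g).appTop := by
    rw [← Scheme.Hom.comp_appTop, ← Scheme.Hom.comp_appTop, pullback.condition]
  rw [h]
  ext r
  exact (evR g f b).commutes r

/-- the universal element. -/
noncomputable def xi : (Flatn.morS g f).obj (op (Over.mk (wS g f b))) :=
  Over.homMk (ev g f b) (ev_comp g f b)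

end Groth.Agent.Lib.Helper6.WeilRep

namespace Groth.Agent.Lib.Helper6.WeilRep

variable {Z X S : Scheme.{u}} [IsAffine S] [IsAffine Z] [IsAffine X] (g : Z ⟶ S) (f : X ⟶ S)
variable {n : ℕ} (b : letI := algT g; Basis (Fin n) Γ(S, ⊤) Γ(Z, ⊤))

/-- base change of a morphism over `S`. -/
noncomputable def bcMap {T : Over S} (u : T ⟶ Over.mk (wS g f b)) :
    pullback T.hom g ⟶ pullback (wS g f b) g :=
  pullback.lift (pullback.fst T.hom g ≫ u.left) (pullback.snd T.hom g) (by
    rw [Category.assoc]
    have := Over.w u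
    simp only [Over.mk_hom] at this
    rw [this, pullback.condition])

theorem map_xi_left {T : Over S} (u : T ⟶ Over.mk (wS g f b)) :
    ((Flatn.morS g f).map u.op (xi g f b)).left = bcMap g f b u ≫ ev g f b := by
  rw [Flatn.morS_map]
  rfl

theorem key {T : Over S} (u : T ⟶ Over.mk (wS g f b)) (x : Γ(X, ⊤)) :
    letI := algT g; letI := algT f
    ((Flatn.morS g f).map u.op (xi g f b)).left.appTop x =
      ∑ i, (pullback.fst T.hom g).appTop (ringOf u.left (q b Γ(X, ⊤) (MvPolynomial.X (x, i)))) *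
        (pullback.snd T.hom g).appTop (b i) := by
  letI := algT g; letI := algT f
  change (bcMap g f b u ≫ ev g f b).appTop x = _
  rw [Scheme.Hom.comp_appTop, CommRingCat.comp_apply, ev_appTop_apply, map_sum]
  refine Finset.sum_congr rfl fun i _ => ?_
  rw [map_mul]
  congr 1
  · rw [← CommRingCat.comp_apply, ← Scheme.Hom.comp_appTop]
    have : bcMap g f b u ≫ pullback.fst (wS g f b) g = pullback.fst T.hom g ≫ u.left :=
      pullback.lift_fst _ _ _
    rw [this, Scheme.Hom.comp_appTop]
    rfl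
  · rw [← CommRingCat.comp_apply, ← Scheme.Hom.comp_appTop]
    have : bcMap g f b u ≫ pullback.snd (wS g f b) g = pullback.snd T.hom g :=
      pullback.lift_snd _ _ _
    rw [this]

end Groth.Agent.Lib.Helper6.WeilRep

namespace Groth.Agent.Lib.Helper6.WeilRep

variable {Z X S : Scheme.{u}} [IsAffine S] [IsAffine Z] [IsAffine X] (g : Z ⟶ S) (f : X ⟶ S)
variable {n : ℕ} (b : letI := algT g; Basis (Fin n) Γ(S, ⊤) Γ(Z, ⊤))

theorem psi_bijective (T : Over S) :
    Function.Bijective (fun u : T ⟶ Over.mk (wS g f b) =>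
      (Flatn.morS g f).map u.op (xi g f b)) := by
  letI := algT g; letI := algT f; letI := algT T.hom; letI := algG g T.hom
  have hΘ := Theta_bijective b Γ(X, ⊤) (fstA g T.hom) (sndA g T.hom) (hbij g T.hom b)
  constructor
  · intro u u' h
    have hw : u.left ≫ wS g f b = T.hom := Over.w u
    have hw' : u'.left ≫ wS g f b = T.hom := Over.w u'
    have h1 : Theta b Γ(X, ⊤) (fstA g T.hom) (sndA g T.hom) (algOf g f b T.hom u.left hw) =
        Theta b Γ(X, ⊤) (fstA g T.hom) (sndA g T.hom) (algOf g f b T.hom u'.left hw') := by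
      apply AlgHom.ext
      intro x
      rw [Theta_apply, Theta_apply]
      have k := key g f b u x
      have k' := key g f b u' x
      have hx := congrArg (fun β : (Flatn.morS g f).obj (op T) => β.left.appTop x) h
      exact k.symm.trans (hx.trans k')
    have h2 := hΘ.1 h1
    have h3 : ringOf u.left = ringOf u'.left := by
      ext y
      exact congrArg (fun F => F y) h2
    exact Over.OverMorphism.ext (ringOf_injective h3)
  · intro β
    have hβ : (β.left : pullback T.hom g ⟶ X) ≫ f = pullback.snd T.hom g ≫ g := Over.w β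
    let ψ : Γ(X, ⊤) →ₐ[Γ(S, ⊤)] Γ(pullback T.hom g, ⊤) :=
      { (β.left : pullback T.hom g ⟶ X).appTop.hom with
        commutes' := fun r => by
          have h : f.appTop ≫ (β.left : pullback T.hom g ⟶ X).appTop =
              T.hom.appTop ≫ (pullback.fst T.hom g).appTop := by
            rw [← Scheme.Hom.comp_appTop, ← Scheme.Hom.comp_appTop, hβ, ← pullback.condition]
          exact congr($h r) }
    obtain ⟨φ, hφ⟩ := hΘ.2 ψ
    let v : T.left ⟶ Spec (WB g f b) :=
      T.left.toSpecΓ ≫ Spec.map (CommRingCat.ofHom φ.toRingHom)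
    have hrv : ringOf v = CommRingCat.ofHom φ.toRingHom := ringOf_toSpecΓ_map _
    have hv : v ≫ wS g f b = T.hom := by
      apply ext_of_isAffine
      have := comp_ringOf (WBα g f b) v
      rw [hrv] at this
      refine Eq.trans this.symm ?_
      ext r
      exact φ.commutes r
    refine ⟨Over.homMk v hv, ?_⟩
    apply Over.OverMorphism.ext
    change (((Flatn.morS g f).map (Over.homMk v hv : T ⟶ Over.mk (wS g f b)).op (xi g f b)).left :
      pullback T.hom g ⟶ X) = β.left
    refine ext_of_isAffine (Y := X) ?_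
    ext x
    have k := key g f b (Over.homMk v hv : T ⟶ Over.mk (wS g f b)) x
    refine k.trans ?_
    have hx := congrArg (fun F => F x) hφ
    rw [Theta_apply] at hx
    refine Eq.trans ?_ hx
    refine Finset.sum_congr rfl fun i _ => ?_
    have e1 : ringOf (Over.homMk v hv : T ⟶ Over.mk (wS g f b)).left
        (q b Γ(X, ⊤) (MvPolynomial.X (x, i))) = φ (q b Γ(X, ⊤) (MvPolynomial.X (x, i))) := by
      change ringOf v _ = _
      rw [hrv]
      rfl
    rw [e1]
    rfl

/-- the Weil restriction represents `morS g f`. -/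
noncomputable def representableBy :
    (Flatn.morS g f).RepresentableBy (Over.mk (wS g f b)) where
  homEquiv {T} := Equiv.ofBijective _ (psi_bijective g f b T)
  homEquiv_comp {T T'} u v := by
    change (Flatn.morS g f).map (u ≫ v).op (xi g f b) =
      (Flatn.morS g f).map u.op ((Flatn.morS g f).map v.op (xi g f b))
    rw [op_comp, Functor.map_comp]
    rfl

end Groth.Agent.Lib.Helper6.WeilRep


namespace Groth.Agent.Lib.Helper6.WeilRep

theorem exists_fin_basis (R M : Type*) [CommRing R] [AddCommGroup M] [Module R M] [Module.Free R M]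
    [Module.Finite R M] : ∃ n : ℕ, Nonempty (Basis (Fin n) R M) := by
  rcases subsingleton_or_nontrivial R with h | h
  · haveI : Subsingleton M := Module.subsingleton R M
    exact ⟨0, ⟨Basis.empty M⟩⟩
  · exact ⟨_, ⟨Module.finBasis R M⟩⟩

end Groth.Agent.Lib.Helper6.WeilRep
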