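import Mathlib
import Groth.Prelude.Def_Flatn
import Groth.Prelude.Def_AlgSp
import Groth.Agent.Lib.Helper6.MorSGlue
import Groth.Agent.Lib.Helper81.MorBase
import Groth.Agent.Lib.Helper23.SLQGlue
import Groth.Agent.S7194

/-!
# Representability of `Mor_S(Z, X)` by gluing open subfunctors (helper6)

* `exists_affineOpen_of_finite`: prime avoidance for finitely many points of an affine open.
* `locus g f U φ`, `mem_locus`, `forall_mem_iff`: the open locus of `T` over which a relative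
  morphism `φ : T ×_S Z ⟶ X` maps into an open `U ⊆ X` (`g` universally closed).
* `repWith_isOpenImmersion_shEta`: `Mor_S(Z, U) ⟶ Mor_S(Z, X)` is representable by open immersions.
* `isRepresentable_of_cov`: for `g` finite locally free, `Mor_S(Z, X)` is representable as soon as
  for every relative morphism `φ` and point `t` the image of the fibre over `t` lies in an affine open.
* `isRepresentable_of_AF`: the same under the (AF)-type condition on `f`.
-/

set_option autoImplicit false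
set_option linter.style.haveILetI false
universe u
open CategoryTheory CategoryTheory.Limits AlgebraicGeometry Opposite

namespace Groth.Agent.Lib.Helper6.MorSOpen

section
/-- Finitely many points of an affine open `U'` lying in an open `V` have a common affine open
neighbourhood inside `U' ⊓ V` (prime avoidance). -/
theorem exists_affineOpen_of_finite {X : Scheme.{u}} {U' : X.Opens} (hU' : IsAffineOpen U')
    (V : X.Opens) (F : Set X) (hF : F.Finite) (hFU : F ⊆ U') (hFV : F ⊆ V) :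
    ∃ U : X.Opens, IsAffineOpen U ∧ F ⊆ U ∧ U ≤ U' ∧ U ≤ V := by
  classical
  by_cases hne : F.Nonempty
  swap
  · rw [Set.not_nonempty_iff_eq_empty] at hne
    subst hne
    exact ⟨⊥, isAffineOpen_bot X, Set.empty_subset _, bot_le, bot_le⟩
  obtain ⟨x₀, hx₀⟩ := hne
  haveI : Fintype F := hF.fintype
  let p : F → PrimeSpectrum Γ(X, U') := fun x => hU'.primeIdealOf ⟨x.1, hFU x.2⟩
  have hp : ∀ x : F, hU'.fromSpec (p x) = x.1 := fun x => hU'.fromSpec_primeIdealOf ⟨x.1, hFU x.2⟩
  let C : Set (PrimeSpectrum Γ(X, U')) := {q | hU'.fromSpec q ∉ V}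
  have hC : IsClosed C := (hU'.fromSpec ⁻¹ᵁ V).2.isClosed_compl
  let I := PrimeSpectrum.vanishingIdeal C
  have hI : PrimeSpectrum.zeroLocus (I : Set Γ(X, U')) = C := by
    rw [PrimeSpectrum.zeroLocus_vanishingIdeal_eq_closure, hC.closure_eq]
  have hnot : ∀ x : F, ¬ I ≤ (p x).asIdeal := by
    intro x hle
    have : p x ∈ PrimeSpectrum.zeroLocus (I : Set Γ(X, U')) := hle
    rw [hI] at this
    apply this
    rw [hp]
    exact hFV x.2
  have hex : ∃ c ∈ I, ∀ x : F, c ∉ (p x).asIdeal := by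
    by_contra hcon
    push Not at hcon
    have hsub : (I : Set Γ(X, U')) ⊆ ⋃ x ∈ ((Finset.univ : Finset F) : Set F), (p x).asIdeal := by
      intro c hc
      obtain ⟨x, hx⟩ := hcon c hc
      simp only [Finset.coe_univ, Set.mem_univ, Set.iUnion_true, Set.mem_iUnion]
      exact ⟨x, hx⟩
    rw [Ideal.subset_union_prime (⟨x₀, hx₀⟩ : F) ⟨x₀, hx₀⟩
      (fun x _ _ _ => (p x).isPrime)] at hsub
    obtain ⟨x, -, hx⟩ := hsub
    exact hnot x hx
  obtain ⟨c, hcI, hc⟩ := hex
  refine ⟨X.basicOpen c, hU'.basicOpen c, ?_, X.basicOpen_le c, ?_⟩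
  · intro x hx
    have h1 : hU'.fromSpec (p ⟨x, hx⟩) = x := hp ⟨x, hx⟩
    change x ∈ X.basicOpen c
    rw [← h1]
    change p ⟨x, hx⟩ ∈ hU'.fromSpec ⁻¹ᵁ X.basicOpen c
    rw [hU'.fromSpec_preimage_basicOpen]
    exact hc ⟨x, hx⟩
  · intro x hx
    have hxU' : x ∈ U' := X.basicOpen_le c hx
    let q := hU'.primeIdealOf ⟨x, hxU'⟩
    have hq : hU'.fromSpec q = x := hU'.fromSpec_primeIdealOf ⟨x, hxU'⟩
    have hqc : q ∈ hU'.fromSpec ⁻¹ᵁ X.basicOpen c := by
      change hU'.fromSpec q ∈ X.basicOpen c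
      rw [hq]; exact hx
    rw [hU'.fromSpec_preimage_basicOpen] at hqc
    by_contra hxV
    have hqC : q ∈ C := by
      change ¬ (hU'.fromSpec q ∈ V)
      rw [hq]; exact hxV
    rw [← hI] at hqC
    exact hqc (hqC hcI)

end

section
variable {S Z X : Scheme.{u}} (g : Z ⟶ S) (f : X ⟶ S) (U : X.Opens)

/-- the inclusion of an open subscheme, over `S`. -/
noncomputable def incl : Over.mk (U.ι ≫ f) ⟶ Over.mk f := Over.homMk U.ι rfl

/-- the induced map of functors of relative morphisms. -/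
noncomputable def eta : Flatn.morS g (U.ι ≫ f) ⟶ Flatn.morS g f :=
  Functor.whiskerLeft _ (yoneda.map (incl f U))

lemma eta_app_left (T : Over S) (ψ : (Flatn.morS g (U.ι ≫ f)).obj (op T)) :
    ((eta g f U).app (op T) ψ).left = ψ.left ≫ U.ι := rfl

lemma eta_injective (T : Over S) : Function.Injective ((eta g f U).app (op T)) := by
  intro a b h
  apply Over.OverMorphism.ext
  have := congrArg (fun t => CommaMorphism.left t) h
  simp only [eta_app_left] at this
  exact (cancel_mono U.ι).mp this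

/-- the base change map on fibre products with `Z`. -/
noncomputable abbrev bcm {T' T : Over S} (k : T' ⟶ T) : pullback T'.hom g ⟶ pullback T.hom g :=
  ((Over.pullback g).map k).left

lemma morS_map_left {T' T : Over S} (k : T' ⟶ T) (φ : (Flatn.morS g f).obj (op T)) :
    ((Flatn.morS g f).map k.op φ).left = bcm g k ≫ φ.left := rfl

@[reassoc]
lemma bcm_fst {T' T : Over S} (k : T' ⟶ T) :
    bcm g k ≫ pullback.fst T.hom g = pullback.fst T'.hom g ≫ k.left := by
  simp only [bcm, Over.pullback_map_left]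
  exact pullback.lift_fst _ _ _

@[reassoc]
lemma bcm_snd {T' T : Over S} (k : T' ⟶ T) :
    bcm g k ≫ pullback.snd T.hom g = pullback.snd T'.hom g := by
  simp only [bcm, Over.pullback_map_left]
  exact pullback.lift_snd _ _ _

lemma isPullback_bcm {T' T : Over S} (k : T' ⟶ T) :
    IsPullback (bcm g k) (pullback.fst T'.hom g) (pullback.fst T.hom g) k.left := by
  refine IsPullback.of_right ?_ (bcm_fst g k) (IsPullback.of_hasPullback T.hom g).flip
  rw [bcm_snd, Over.w k]
  exact (IsPullback.of_hasPullback T'.hom g).flip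

lemma exists_preimage_of_isPullback {P A B C : Scheme.{u}} {fst : P ⟶ A} {snd : P ⟶ B}
    {a : A ⟶ C} {b : B ⟶ C} (h : IsPullback fst snd a b) (x : A) (y : B) (hxy : a x = b y) :
    ∃ p : P, fst p = x ∧ snd p = y := by
  obtain ⟨z, hz1, hz2⟩ := Scheme.Pullback.exists_preimage_pullback x y hxy
  refine ⟨h.isoPullback.inv z, ?_, ?_⟩
  · rw [← Scheme.Hom.comp_apply, h.isoPullback_inv_fst, hz1]
  · rw [← Scheme.Hom.comp_apply, h.isoPullback_inv_snd, hz2]

end

section
variable {S Z X : Scheme.{u}} (g : Z ⟶ S) (f : X ⟶ S) (U : X.Opens)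

/-- The locus of `T` over which the relative morphism `φ` maps the fibres of `T ×_S Z` into `U`. -/
noncomputable def locus [UniversallyClosed g] {T : Over S} (φ : (Flatn.morS g f).obj (op T)) :
    T.left.Opens :=
  ⟨(pullback.fst T.hom g '' (φ.left ⁻¹' (U : Set X)ᶜ))ᶜ, by
    rw [isOpen_compl_iff]
    apply (pullback.fst T.hom g).isClosedMap
    exact (U.2.isClosed_compl).preimage φ.left.continuous⟩

lemma mem_locus [UniversallyClosed g] {T : Over S} (φ : (Flatn.morS g f).obj (op T))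
    (t : T.left) :
    t ∈ locus g f U φ ↔ ∀ y : ↥(pullback T.hom g), pullback.fst T.hom g y = t → φ.left y ∈ U := by
  change t ∉ _ ↔ _
  simp only [Set.mem_image, Set.mem_preimage, Set.mem_compl_iff, SetLike.mem_coe, not_exists,
    not_and]
  constructor
  · intro h y hy
    by_contra hcon
    exact h y hcon hy
  · intro h y hy hyt
    exact hy (h y hyt)

/-- A relative morphism factors through `U` after base change along `k` iff `k` lands in the
locus. -/
lemma forall_mem_iff [UniversallyClosed g] {T' T : Over S} (k : T' ⟶ T)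
    (φ : (Flatn.morS g f).obj (op T)) :
    (∀ y' : ↥(pullback T'.hom g), ((Flatn.morS g f).map k.op φ).left y' ∈ U) ↔
      ∀ t' : T'.left, k.left t' ∈ locus g f U φ := by
  constructor
  · intro h t'
    rw [mem_locus]
    intro y hy
    obtain ⟨y', hy'1, hy'2⟩ := exists_preimage_of_isPullback (isPullback_bcm g k).flip t' y hy.symm
    have := h y'
    rw [morS_map_left, Scheme.Hom.comp_apply, hy'2] at this
    exact this
  · intro h y'
    rw [morS_map_left, Scheme.Hom.comp_apply]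
    have h1 := h (pullback.fst T'.hom g y')
    rw [mem_locus] at h1
    apply h1
    rw [← Scheme.Hom.comp_apply, bcm_fst, Scheme.Hom.comp_apply]

/-- Factorization through the open `U`. -/
lemma exists_eta_eq {T : Over S} (φ : (Flatn.morS g f).obj (op T))
    (h : ∀ y : ↥(pullback T.hom g), φ.left y ∈ U) :
    ∃ ψ : (Flatn.morS g (U.ι ≫ f)).obj (op T), (eta g f U).app (op T) ψ = φ := by
  have hr : Set.range φ.left ⊆ Set.range U.ι := by
    rintro _ ⟨y, rfl⟩
    rw [Scheme.Opens.range_ι]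
    exact h y
  refine ⟨Over.homMk (IsOpenImmersion.lift U.ι φ.left hr) ?_, ?_⟩
  · change IsOpenImmersion.lift U.ι φ.left hr ≫ U.ι ≫ f = _
    rw [IsOpenImmersion.lift_fac_assoc]
    exact Over.w φ
  · apply Over.OverMorphism.ext
    rw [eta_app_left]
    exact IsOpenImmersion.lift_fac _ _ _

lemma eta_left_mem {T : Over S} (ψ : (Flatn.morS g (U.ι ≫ f)).obj (op T))
    (y : ↥(pullback T.hom g)) : ((eta g f U).app (op T) ψ).left y ∈ U := by
  rw [eta_app_left, Scheme.Hom.comp_apply]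
  exact (ψ.left y).2

end

section
open AlgSp Groth.Agent.Lib.Helper23.AlgSpMor Groth.Agent.Lib.Helper6.MorSGlue

variable {S : Scheme.{u}}

section General

variable (P : (Over S)ᵒᵖ ⥤ Type u) (hP : Presheaf.IsSheaf (J S) (P ⋙ uliftFunctor.{u + 1}))
variable (P' : (Over S)ᵒᵖ ⥤ Type u) (hP' : Presheaf.IsSheaf (J S) (P' ⋙ uliftFunctor.{u + 1}))

/-- the map of sheaves induced by a natural transformation. -/
def shMap (η : P' ⟶ P) : shOf P' hP' ⟶ shOf P hP :=
  ⟨Functor.whiskerRight η uliftFunctor.{u + 1}⟩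

lemma yon_map_comp_vOf {T' V : Over S} (l : T' ⟶ V) (ξ : P.obj (op V)) :
    (yon S).map l ≫ vOf P hP V ξ = vOf P hP T' (P.map l.op ξ) := by
  ext T'' ⟨a⟩
  apply ULift.ext
  change P.map (a ≫ l).op ξ = P.map a.op (P.map l.op ξ)
  rw [op_comp, Functor.map_comp]
  rfl

lemma vOf_comp_shMap (η : P' ⟶ P) {V : Over S} (ξ : P'.obj (op V)) :
    vOf P' hP' V ξ ≫ shMap P hP P' hP' η = vOf P hP V (η.app (op V) ξ) := by
  ext T'' ⟨a⟩
  apply ULift.ext
  change η.app (op T''.unop) (P'.map a.op ξ) = P.map a.op (η.app (op V) ξ)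
  exact NatTrans.naturality_apply η a.op ξ

lemma exists_vOf_eq {T : Over S} (g' : (yon S).obj T ⟶ shOf P hP) :
    ∃ φ : P.obj (op T), g' = vOf P hP T φ := by
  refine ⟨(g'.hom.app (op T) ⟨𝟙 T⟩).down, ?_⟩
  ext T'' ⟨a⟩
  apply ULift.ext
  have := NatTrans.naturality_apply g'.hom a.op (⟨𝟙 T⟩ : ((yon S).obj T).obj.obj (op T))
  change (g'.hom.app T'' ⟨a ≫ 𝟙 T⟩) = _ at this
  rw [Category.comp_id] at this
  exact congrArg ULift.down this

lemma vOf_injective {T : Over S} : Function.Injective (vOf P hP T) := by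
  intro a b h
  have := congrArg (fun t => (t.hom.app (op T) (ULift.up (𝟙 T))).down) h
  change P.map (𝟙 T).op a = P.map (𝟙 T).op b at this
  simpa using this

end General

end

section
open AlgSp Groth.Agent.Lib.Helper23.AlgSpMor Groth.Agent.Lib.Helper6.MorSGlue

variable {S Z X : Scheme.{u}} (g : Z ⟶ S) (f : X ⟶ S) (U : X.Opens)

/-- the sheaf of relative morphisms. -/
noncomputable abbrev shMor : Sp S := shOf (Flatn.morS g f) (morS_isSheaf g f)

/-- the map of sheaves induced by an open `U ⊆ X`. -/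
noncomputable abbrev shEta : shMor g (U.ι ≫ f) ⟶ shMor g f :=
  shMap _ (morS_isSheaf g f) _ (morS_isSheaf g (U.ι ≫ f)) (eta g f U)

theorem repWith_isOpenImmersion_shEta [UniversallyClosed g] :
    RepWith @IsOpenImmersion (shEta g f U) := by
  apply MorphismProperty.relative.of_exists
  intro T g'
  obtain ⟨φ, rfl⟩ := exists_vOf_eq _ (morS_isSheaf g f) g'
  let O := locus g f U φ
  let q : overOpens T O ⟶ T := overOpensι T O
  have hmem : ∀ y' : ↥(pullback (overOpens T O).hom g),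
      ((Flatn.morS g f).map q.op φ).left y' ∈ U := by
    rw [forall_mem_iff]
    intro t'
    exact t'.2
  obtain ⟨ψ, hψ⟩ := exists_eta_eq g f U _ hmem
  have comm : vOf _ (morS_isSheaf g (U.ι ≫ f)) _ ψ ≫ shEta g f U =
      (yon S).map q ≫ vOf _ (morS_isSheaf g f) T φ := by
    rw [vOf_comp_shMap, yon_map_comp_vOf, hψ]
  refine ⟨overOpens T O, vOf _ (morS_isSheaf g (U.ι ≫ f)) _ ψ, q, ?_, ?_⟩
  swap
  · change IsOpenImmersion O.ι
    infer_instance
  refine IsPullback.of_map (sheafToPresheaf (J S) (Type (u + 1))) comm ?_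
  refine IsPullback.of_forall_isPullback_app fun T'' => ?_
  rw [Types.isPullback_iff]
  refine ⟨?_, ?_, ?_⟩
  · exact congrArg (fun t => t.hom.app T'') comm
  · rintro ⟨a⟩ ⟨b⟩ ⟨-, h2⟩
    have h2' : a ≫ q = b ≫ q := congrArg ULift.down h2
    congr 1
    haveI : Mono q := inferInstance
    exact (cancel_mono q).mp h2'
  · rintro ⟨x⟩ ⟨k⟩ hxk
    obtain ⟨T''⟩ := T''
    have hxk' : (eta g f U).app (op T'') x = (Flatn.morS g f).map k.op φ :=
      congrArg ULift.down hxk
    have hk : ∀ t' : T''.left, k.left t' ∈ O := by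
      rw [← forall_mem_iff, ← hxk']
      exact eta_left_mem g f U x
    have hr : Set.range k.left ⊆ Set.range O.ι := by
      rintro _ ⟨t', rfl⟩
      rw [Scheme.Opens.range_ι]
      exact hk t'
    let a : T'' ⟶ overOpens T O := Over.homMk (IsOpenImmersion.lift O.ι k.left hr) (by
      change IsOpenImmersion.lift O.ι k.left hr ≫ O.ι ≫ T.hom = _
      rw [IsOpenImmersion.lift_fac_assoc]
      exact Over.w k)
    have ha : a ≫ q = k := by
      apply Over.OverMorphism.ext
      exact IsOpenImmersion.lift_fac _ _ _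
    refine ⟨⟨a⟩, ?_, ?_⟩
    · apply ULift.ext
      change (Flatn.morS g (U.ι ≫ f)).map a.op ψ = x
      apply eta_injective g f U
      rw [NatTrans.naturality_apply (eta g f U) a.op ψ, hψ, hxk', ← ha]
      change _ = (Flatn.morS g f).map (a ≫ q).op φ
      rw [op_comp, Functor.map_comp]
      rfl
    · apply ULift.ext
      exact ha

end

section
open AlgSp Groth.Agent.Lib.Helper23.AlgSpMor Groth.Agent.Lib.Helper6.MorSGlue
  Groth.Agent.Lib.Helper81.MorBase

variable {S Z X : Scheme.{u}} (g : Z ⟶ S) (f : X ⟶ S)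

lemma isAffine_pullback_of_le {W : S.Opens} {U : X.Opens} (hU : IsAffineOpen U)
    (hUW : U ≤ f ⁻¹ᵁ W) : IsAffine (pullback (U.ι ≫ f) W.ι) := by
  haveI : IsAffine (U : Scheme.{u}) := hU
  haveI : Surjective (pullback.fst (U.ι ≫ f) W.ι) := by
    constructor
    intro x
    have hx : (U.ι ≫ f) x = W.ι ⟨(U.ι ≫ f) x, hUW x.2⟩ := rfl
    obtain ⟨z, hz, -⟩ := Scheme.Pullback.exists_preimage_pullback x _ hx
    exact ⟨z, hz⟩
  haveI : IsIso (pullback.fst (U.ι ≫ f) W.ι) :=
    (isIso_iff_isOpenImmersion_and_surjective _).mpr ⟨inferInstance, inferInstance⟩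
  exact .of_isIso (pullback.fst (U.ι ≫ f) W.ι)

/-- Local representability over an affine open `W` of `S` for an affine open `U ≤ f⁻¹ W`. -/
theorem exists_rep_local (hg : Mor2.IsFinLocFree g) {W : S.Opens} {U : X.Opens}
    (hW : IsAffineOpen W) (hU : IsAffineOpen U) (hUW : U ≤ f ⁻¹ᵁ W) :
    ∃ M : Over (W : Scheme.{u}),
      Nonempty (((Over.map W.ι).op ⋙ Flatn.morS g (U.ι ≫ f)).RepresentableBy M) := by
  haveI : IsAffine (W : Scheme.{u}) := hW
  haveI := isAffine_pullback_of_le f hU hUW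
  have hg' : Mor2.IsFinLocFree (pullback.snd g W.ι) := by
    obtain ⟨h1, h2, h3⟩ := hg
    exact ⟨inferInstance, inferInstance, inferInstance⟩
  obtain ⟨M, -, ⟨r⟩⟩ := Groth.Agent.S7194.result (pullback.snd g W.ι)
    (pullback.snd (U.ι ≫ f) W.ι) hg'
  exact ⟨M, ⟨r.ofIso (natIso g (U.ι ≫ f) W.ι)⟩⟩

lemma exists_lift_of_rep {P : (Over S)ᵒᵖ ⥤ Type u} {W : S.Opens} {M : Over (W : Scheme.{u})}
    (rep : ((Over.map W.ι).op ⋙ P).RepresentableBy M) (T' : Over S)
    (u : T' ⟶ overOpens (T0 S) W) (x : P.obj (op T')) :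
    ∃ l : T' ⟶ (Over.map W.ι).obj M, P.map l.op (rep.homEquiv (𝟙 M)) = x := by
  obtain ⟨A, rfl⟩ := exists_over_eq T' u
  obtain ⟨a, ha, -⟩ := existsUnique_of_rep rep A x
  exact ⟨a, ha⟩

end

section
open AlgSp Groth.Agent.Lib.Helper23.AlgSpMor Groth.Agent.Lib.Helper6.MorSGlue
  Groth.Agent.Lib.Helper81.MorBase

variable {S Z X : Scheme.{u}} (g : Z ⟶ S) (f : X ⟶ S)

lemma f_left_apply {T : Over S} (φ : (Flatn.morS g f).obj (op T)) (y : ↥(pullback T.hom g)) :
    f (φ.left y) = T.hom (pullback.fst T.hom g y) := by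
  have h1 : φ.left ≫ f = pullback.snd T.hom g ≫ g := Over.w φ
  rw [← Scheme.Hom.comp_apply, h1, ← pullback.condition, Scheme.Hom.comp_apply]

theorem isRepresentable_of_cov (hg : Mor2.IsFinLocFree g)
    (hcov : ∀ (T : Over S) (φ : (Flatn.morS g f).obj (op T)) (t : T.left),
      ∃ U' : X.Opens, IsAffineOpen U' ∧
        ∀ y : ↥(pullback T.hom g), pullback.fst T.hom g y = t → φ.left y ∈ U') :
    (Flatn.morS g f).IsRepresentable := by
  obtain ⟨h1, h2, h3⟩ := id hg
  haveI := h1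
  let ι := {i : S.Opens × X.Opens // IsAffineOpen i.1 ∧ IsAffineOpen i.2 ∧ i.2 ≤ f ⁻¹ᵁ i.1}
  choose M hM using fun i : ι => exists_rep_local g f hg i.2.1 i.2.2.1 i.2.2.2
  let rep : ∀ i : ι,
      ((Over.map i.1.1.ι).op ⋙ Flatn.morS g (i.1.2.ι ≫ f)).RepresentableBy (M i) :=
    fun i => (hM i).some
  let Xi : ι → Over S := fun i => (Over.map i.1.1.ι).obj (M i)
  let ξ : ∀ i : ι, (Flatn.morS g (i.1.2.ι ≫ f)).obj (op (Xi i)) :=
    fun i => (rep i).homEquiv (𝟙 (M i))
  let fi : ∀ i : ι, (yon S).obj (Xi i) ⟶ shMor g f := fun i =>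
    vOf _ (morS_isSheaf g (i.1.2.ι ≫ f)) (Xi i) (ξ i) ≫ shEta g f i.1.2
  have hf : ∀ i, RepWith @IsOpenImmersion (fi i) := by
    intro i
    apply (RepWith @IsOpenImmersion).comp_mem
    · have sq := isPullback_rep _ (morS_isSheaf g (i.1.2.ι ≫ f)) (rep i)
      exact MorphismProperty.of_isPullback sq.flip ((repWith_yon_map_iff _ _).2 (by
        change IsOpenImmersion i.1.1.ι; infer_instance))
    · exact repWith_isOpenImmersion_shEta g f i.1.2
  have key := Groth.Agent.Lib.Helper23.SLQGlue.isRepresentable_of_open_cover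
    (F := shMor g f) (X := Xi) (f := fi) hf ?_
  · obtain ⟨Y, ⟨r⟩⟩ := key.has_representation
    exact (representableByOfUlift _ r).isRepresentable
  intro T g' t
  obtain ⟨φ, rfl⟩ := exists_vOf_eq _ (morS_isSheaf g f) g'
  obtain ⟨U', hU', hU'mem⟩ := hcov T φ t
  obtain ⟨_, ⟨(W : S.Opens), hW : IsAffineOpen W, rfl⟩, hsW, -⟩ :=
    (S.isBasis_affineOpens).exists_subset_of_mem_open (Set.mem_univ (T.hom t)) isOpen_univ
  let Fset : Set X := φ.left '' (pullback.fst T.hom g ⁻¹' {t})
  have hFfin : Fset.Finite :=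
    (Scheme.Hom.finite_preimage_singleton (pullback.fst T.hom g) t).image _
  have hFU' : Fset ⊆ U' := by
    rintro _ ⟨y, hy, rfl⟩
    exact hU'mem y hy
  have hFW : Fset ⊆ f ⁻¹ᵁ W := by
    rintro _ ⟨y, hy, rfl⟩
    change f (φ.left y) ∈ W
    rw [f_left_apply, hy]
    exact hsW
  obtain ⟨U, hU, hFU, -, hUW⟩ := exists_affineOpen_of_finite hU' (f ⁻¹ᵁ W) Fset hFfin hFU' hFW
  let i : ι := ⟨(W, U), hW, hU, hUW⟩
  let O : T.left.Opens := locus g f U φ ⊓ T.hom ⁻¹ᵁ W
  have htO : t ∈ O := by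
    refine ⟨?_, hsW⟩
    change t ∈ locus g f U φ
    rw [mem_locus]
    intro y hy
    exact hFU ⟨y, hy, rfl⟩
  let q : overOpens T O ⟶ T := overOpensι T O
  have hmem : ∀ y' : ↥(pullback (overOpens T O).hom g),
      ((Flatn.morS g f).map q.op φ).left y' ∈ U := by
    rw [forall_mem_iff]
    intro t'
    exact t'.2.1
  obtain ⟨ψ, hψ⟩ := exists_eta_eq g f U _ hmem
  have hr : Set.range (O.ι ≫ T.hom) ⊆ Set.range W.ι := by
    rintro _ ⟨t', rfl⟩
    rw [Scheme.Opens.range_ι]
    exact t'.2.2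
  let u : overOpens T O ⟶ overOpens (T0 S) W :=
    Over.homMk (IsOpenImmersion.lift W.ι (O.ι ≫ T.hom) hr) (by
      change IsOpenImmersion.lift W.ι (O.ι ≫ T.hom) hr ≫ W.ι ≫ 𝟙 S = O.ι ≫ T.hom
      rw [Category.comp_id, IsOpenImmersion.lift_fac])
  obtain ⟨l, hl⟩ := exists_lift_of_rep (rep i) (overOpens T O) u ψ
  refine ⟨i, O, htO, l, ?_⟩
  change (yon S).map l ≫ vOf _ (morS_isSheaf g (U.ι ≫ f)) (Xi i) (ξ i) ≫ shEta g f U = _
  rw [← Category.assoc, yon_map_comp_vOf, vOf_comp_shMap, yon_map_comp_vOf]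
  congr 1
  rw [hl, hψ]

end

section
variable {S Z X : Scheme.{u}} (g : Z ⟶ S) (f : X ⟶ S)

theorem isRepresentable_of_AF (hg : Mor2.IsFinLocFree g)
    (hAF : ∀ (s : S) (d : ℕ) (x : Fin d → ↥X), (∀ k, f (x k) = s) →
      ∃ U : X.Opens, IsAffineOpen U ∧ ∀ k, x k ∈ U) :
    (Flatn.morS g f).IsRepresentable := by
  apply isRepresentable_of_cov g f hg
  intro T φ t
  haveI : IsFinite g := hg.1
  have hFfin : (φ.left '' (pullback.fst T.hom g ⁻¹' {t})).Finite :=
    (Scheme.Hom.finite_preimage_singleton (pullback.fst T.hom g) t).image _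
  obtain ⟨d, x, -, hx⟩ := hFfin.fin_param
  have hxs : ∀ k, f (x k) = T.hom t := by
    intro k
    have : x k ∈ φ.left '' (pullback.fst T.hom g ⁻¹' {t}) := hx ▸ Set.mem_range_self k
    obtain ⟨y, hy, hyk⟩ := this
    rw [← hyk, f_left_apply, hy]
  obtain ⟨U, hU, hUx⟩ := hAF (T.hom t) d x hxs
  refine ⟨U, hU, fun y hy => ?_⟩
  have : φ.left y ∈ Set.range x := hx ▸ ⟨y, hy, rfl⟩
  obtain ⟨k, hk⟩ := this
  rw [← hk]
  exact hUx k

end

end Groth.Agent.Lib.Helper6.MorSOpen
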