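import Mathlib

/-!
# Equalizers of representable functors (helper6)
-/

set_option autoImplicit false
set_option linter.style.haveILetI false
universe v u
open CategoryTheory CategoryTheory.Limits Opposite

namespace Groth.Agent.Lib.Helper6.RepEq

variable {C : Type u} [Category.{v} C] [HasEqualizers C]

/-- A subfunctor of a representable functor cut out by the equalizer of two maps to another
representable functor is representable. -/
theorem isRepresentable_of_equalizer {F1 F2 W : Cᵒᵖ ⥤ Type v} (ι : W ⟶ F1) (α β : F1 ⟶ F2)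
    (hinj : ∀ T : Cᵒᵖ, Function.Injective (ι.app T))
    (himg : ∀ (T : Cᵒᵖ) (φ : F1.obj T), (∃ w, ι.app T w = φ) ↔ α.app T φ = β.app T φ)
    {R1 R2 : C} (r1 : F1.RepresentableBy R1) (r2 : F2.RepresentableBy R2) :
    W.IsRepresentable := by
  let ξ1 := r1.homEquiv (𝟙 R1)
  let a : R1 ⟶ R2 := r2.homEquiv.symm (α.app _ ξ1)
  let b : R1 ⟶ R2 := r2.homEquiv.symm (β.app _ ξ1)
  have h1 : ∀ {T : C} (v : T ⟶ R1), r1.homEquiv v = F1.map v.op ξ1 := fun v => by
    have := r1.homEquiv_comp v (𝟙 R1)
    rwa [Category.comp_id] at this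
  have ha : ∀ {T : C} (v : T ⟶ R1), r2.homEquiv (v ≫ a) = α.app _ (r1.homEquiv v) := fun v => by
    rw [r2.homEquiv_comp, Equiv.apply_symm_apply, h1, NatTrans.naturality_apply]
  have hb : ∀ {T : C} (v : T ⟶ R1), r2.homEquiv (v ≫ b) = β.app _ (r1.homEquiv v) := fun v => by
    rw [r2.homEquiv_comp, Equiv.apply_symm_apply, h1, NatTrans.naturality_apply]
  let e := equalizer.ι a b
  have hex : ∀ {T : C} (u : T ⟶ equalizer a b), ∃ w, ι.app (op T) w = r1.homEquiv (u ≫ e) := by
    intro T u
    rw [himg, ← ha, ← hb, Category.assoc, Category.assoc, equalizer.condition]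
  let toW : ∀ {T : C}, (T ⟶ equalizer a b) → W.obj (op T) := fun u => (hex u).choose
  have htoW : ∀ {T : C} (u : T ⟶ equalizer a b), ι.app (op T) (toW u) = r1.homEquiv (u ≫ e) :=
    fun u => (hex u).choose_spec
  have hbij : ∀ T : C, Function.Bijective (toW (T := T)) := by
    intro T
    constructor
    · intro u u' h
      have := congrArg (ι.app (op T)) h
      rw [htoW, htoW] at this
      have h2 := r1.homEquiv.injective this
      exact (cancel_mono e).mp h2
    · intro w
      let v : T ⟶ R1 := r1.homEquiv.symm (ι.app (op T) w)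
      have hv : r1.homEquiv v = ι.app (op T) w := Equiv.apply_symm_apply _ _
      have hab : v ≫ a = v ≫ b := by
        apply r2.homEquiv.injective
        rw [ha, hb, hv]
        exact (himg _ _).mp ⟨w, rfl⟩
      refine ⟨equalizer.lift v hab, ?_⟩
      apply hinj
      rw [htoW, equalizer.lift_ι, hv]
  exact Functor.RepresentableBy.isRepresentable
    { homEquiv := fun {T} => Equiv.ofBijective toW (hbij T)
      homEquiv_comp := fun {T T'} t u => by
        apply hinj
        change ι.app (op T) (toW (t ≫ u)) = ι.app (op T) (W.map t.op (toW u))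
        rw [htoW, NatTrans.naturality_apply, htoW, Category.assoc, r1.homEquiv_comp] }

end Groth.Agent.Lib.Helper6.RepEq
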