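import Mathlib
import Groth.Prelude.Def_Flatn
import Groth.Prelude.Def_WeilRes
import Groth.Prelude.Def_Flat
import Groth.Agent.Lib.Helper6.MorSOpen
import Groth.Agent.Lib.Helper6.RepEq

/-!
# Existence of Weil restrictions from representability of `Mor_S(S', X')` (helper6)

`exists_isWeilRes f X' hf h1`: for `f : S' ⟶ S` finite locally free, if `Flatn.morS f (X'.hom ≫ f)`
is representable then a Weil restriction `(R, q)` of `X'` along `f` exists (`WeilRes.IsWeilRes`):
the Weil restriction functor is the equalizer of two maps `Mor_S(S', X') ⇉ Mor_S(S', S')`.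
-/

set_option autoImplicit false
set_option linter.style.haveILetI false
universe u
open CategoryTheory CategoryTheory.Limits AlgebraicGeometry Opposite

namespace Groth.Agent.Lib.Helper6.WeilEx

open Groth.Agent.Lib.Helper6.MorSOpen Groth.Agent.Lib.Helper6.RepEq

variable {S S' : Scheme.{u}} (f : S' ⟶ S) (X' : Over S')

/-- the inclusion of the Weil restriction functor into the functor of relative morphisms. -/
noncomputable def iota : WeilRes.functor f X' ⟶ Flatn.morS f (X'.hom ≫ f) where
  app T := ↾(fun w => (Over.map f).map w)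
  naturality T T' k := by
    ext w
    change (Over.map f).map ((Over.pullback f).map k.unop ≫ w) =
      (Over.map f).map ((Over.pullback f).map k.unop) ≫ (Over.map f).map w
    rw [Functor.map_comp]

/-- post-composition with the structure map of `X'`. -/
noncomputable def alpha : Flatn.morS f (X'.hom ≫ f) ⟶ Flatn.morS f f :=
  Functor.whiskerLeft _ (yoneda.map (Over.homMk X'.hom rfl : Over.mk (X'.hom ≫ f) ⟶ Over.mk f))

/-- the canonical projection `T ×_S S' ⟶ S'` as a relative morphism. -/
noncomputable def can (T : Over S) : (Flatn.morS f f).obj (op T) :=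
  Over.homMk (pullback.snd T.hom f) rfl

/-- the constant map to the canonical projection. -/
noncomputable def beta : Flatn.morS f (X'.hom ≫ f) ⟶ Flatn.morS f f where
  app T := ↾(fun _ => can f T.unop)
  naturality T T' k := by
    ext φ
    change can f T'.unop = (Flatn.morS f f).map k (can f T.unop)
    obtain ⟨T⟩ := T
    obtain ⟨T'⟩ := T'
    obtain ⟨k, rfl⟩ : ∃ k' : T' ⟶ T, k = k'.op := ⟨k.unop, rfl⟩
    apply Over.OverMorphism.ext
    rw [morS_map_left]
    exact (bcm_snd f k).symm

theorem isRepresentable_functor (hf : Mor2.IsFinLocFree f)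
    (h1 : (Flatn.morS f (X'.hom ≫ f)).IsRepresentable) :
    (WeilRes.functor f X').IsRepresentable := by
  haveI : IsFinite f := hf.1
  obtain ⟨R2, -, ⟨r2⟩⟩ := Groth.Agent.S7194.result f f hf
  obtain ⟨R1, ⟨r1⟩⟩ := h1.has_representation
  refine isRepresentable_of_equalizer (iota f X') (alpha f X') (beta f X') ?_ ?_ r1 r2
  · rintro ⟨T⟩ w w' h
    apply Over.OverMorphism.ext
    have h' : (Over.map f).map w = (Over.map f).map w' := h
    have h'' := congrArg (fun t => CommaMorphism.left t) h'
    exact h''
  · rintro ⟨T⟩ φ
    constructor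
    · rintro ⟨w, rfl⟩
      apply Over.OverMorphism.ext
      exact Over.w w
    · intro h
      have h' : φ.left ≫ X'.hom = pullback.snd T.hom f :=
        congrArg (fun t => CommaMorphism.left t) h
      exact ⟨Over.homMk φ.left h', by apply Over.OverMorphism.ext; rfl⟩

theorem exists_isWeilRes (hf : Mor2.IsFinLocFree f)
    (h1 : (Flatn.morS f (X'.hom ≫ f)).IsRepresentable) :
    ∃ (R : Over S) (q : Red.bc f R ⟶ X'), WeilRes.IsWeilRes f X' R q := by
  obtain ⟨R, ⟨e⟩⟩ := (isRepresentable_functor f X' hf h1).has_representation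
  exact ⟨R, e.homEquiv (𝟙 R), WeilRes.IsWeilRes.of_representableBy e⟩

end Groth.Agent.Lib.Helper6.WeilEx
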