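import Mathlib

/-!
# Ring-level theory of Weil restriction: smoothness and surjectivity of the universal map (helper6)

For `B → B'` and a `B'`-algebra `A'`, a `B`-algebra `W` with `u : A' →ₐ[B'] B' ⊗[B] W` is the
Weil restriction algebra when `IsUniv u`: `φ ↦ (id ⊗ φ) ∘ u` is a bijection
`(W →ₐ[B] D) ≃ (A' →ₐ[B'] B' ⊗[B] D)` for all `B`-algebras `D`.

* `finiteType_of_isUniv`: `W` is of finite type over `B` (`A'` of finite type, `B'` flat).
* `formallySmooth_of_isUniv`, `smooth_of_isUniv`: `u` is (formally) smooth when `A'` is.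
* `comap_surjective_of_isUniv`: `Spec (B' ⊗ W) → Spec A'` is surjective (`B'` finite over `B`,
  `A'` formally smooth of finite type with `Spec A' → Spec B'` surjective).
* `smooth_rel`, `comap_surjective_rel`: the map `W_Y → W_X` induced by a smooth surjective
  `A'_Y → A'_X` is smooth and surjective on spectra.
* `exists_lift_pullback`, `exists_algHom_of_artinian`, `nonempty_algHom_of_isAlgClosed`: lifting tools.
-/

set_option autoImplicit false
set_option linter.style.haveILetI false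
set_option linter.unusedSectionVars false
universe u
open TensorProduct CategoryTheory CategoryTheory.Limits AlgebraicGeometry

namespace Groth.Agent.Lib.Helper6.WeilSmAlg

section RL
variable {R A E Ebar D Dbar : Type u} [CommRing R] [CommRing A] [Algebra R A]
  [Algebra.FormallySmooth R A] [CommRing E] [Algebra R E] [CommRing Ebar] [Algebra R Ebar]
  [CommRing D] [Algebra R D] [CommRing Dbar] [Algebra R Dbar]

/-- Lifting through a surjection onto a fibre product with square-zero kernel. -/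
theorem exists_lift_pullback (r : E →ₐ[R] Ebar) (m : E →ₐ[R] D) (mbar : Ebar →ₐ[R] Dbar)
    (π : D →ₐ[R] Dbar) (hcomm : mbar.comp r = π.comp m)
    (hsurj : ∀ (e' : Ebar) (d : D), mbar e' = π d → ∃ e : E, r e = e' ∧ m e = d)
    (hnil : ∀ x y : E, r x = 0 → r y = 0 → x * y = 0)
    (ψ₀ : A →ₐ[R] Ebar) (x : A →ₐ[R] D) (hx : mbar.comp ψ₀ = π.comp x) :
    ∃ ψ : A →ₐ[R] E, r.comp ψ = ψ₀ ∧ m.comp ψ = x := by
  let P : Subalgebra R (Ebar × D) :=
    AlgHom.equalizer (mbar.comp (AlgHom.fst R Ebar D)) (π.comp (AlgHom.snd R Ebar D))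
  let ρ : E →ₐ[R] P := (AlgHom.prod r m).codRestrict P (fun e => AlgHom.congr_fun hcomm e)
  let f : A →ₐ[R] P := (AlgHom.prod ψ₀ x).codRestrict P (fun a => AlgHom.congr_fun hx a)
  have hρ : Function.Surjective ρ := by
    rintro ⟨⟨e', d⟩, h⟩
    obtain ⟨e, he1, he2⟩ := hsurj e' d h
    refine ⟨e, ?_⟩
    apply Subtype.ext
    change (r e, m e) = (e', d)
    rw [he1, he2]
  have hker : IsNilpotent (RingHom.ker (ρ : E →+* P)) := by
    refine ⟨2, ?_⟩
    rw [Ideal.zero_eq_bot, eq_bot_iff, pow_two, Ideal.mul_le]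
    intro a ha b hb
    rw [RingHom.mem_ker] at ha hb
    have ha' : r a = 0 := congrArg (fun z : P => z.1.1) ha
    have hb' : r b = 0 := congrArg (fun z : P => z.1.1) hb
    rw [Ideal.mem_bot]
    exact hnil a b ha' hb'
  let ψ := Algebra.FormallySmooth.liftOfSurjective f ρ hρ hker
  have hψ : ∀ a, ρ (ψ a) = f a := Algebra.FormallySmooth.liftOfSurjective_apply f ρ hρ hker
  refine ⟨ψ, ?_, ?_⟩
  · ext a
    exact congrArg (fun z : P => z.1.1) (hψ a)
  · ext a
    exact congrArg (fun z : P => z.1.2) (hψ a)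

end RL

section Univ
variable {B B' : Type u} [CommRing B] [CommRing B'] [Algebra B B']
variable {A' W : Type u} [CommRing A'] [Algebra B' A'] [CommRing W] [Algebra B W]

/-- `φ ↦ (id ⊗ φ) ∘ u`. -/
noncomputable def Phi (u : A' →ₐ[B'] B' ⊗[B] W) (D : Type u) [CommRing D] [Algebra B D]
    (φ : W →ₐ[B] D) : A' →ₐ[B'] B' ⊗[B] D :=
  (Algebra.TensorProduct.map (AlgHom.id B' B') φ).comp u

/-- `u` exhibits `W` as the Weil restriction algebra of `A'` along `B → B'`. -/
def IsUniv (u : A' →ₐ[B'] B' ⊗[B] W) : Prop :=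
  ∀ (D : Type u) [CommRing D] [Algebra B D], Function.Bijective (Phi u D)

theorem Phi_comp (u : A' →ₐ[B'] B' ⊗[B] W) {D D₁ : Type u} [CommRing D] [Algebra B D]
    [CommRing D₁] [Algebra B D₁] (h : D →ₐ[B] D₁) (φ : W →ₐ[B] D) :
    Phi u D₁ (h.comp φ) = (Algebra.TensorProduct.map (AlgHom.id B' B') h).comp (Phi u D φ) := by
  unfold Phi
  rw [Algebra.TensorProduct.map_id_comp, AlgHom.comp_assoc]

/-- the multiplication map `B' ⊗ D → D` for a `B'`-algebra `D`. -/
noncomputable def mu (D : Type u) [CommRing D] [Algebra B D] [Algebra B' D] [IsScalarTower B B' D] :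
    B' ⊗[B] D →ₐ[B'] D :=
  Algebra.TensorProduct.lift (Algebra.ofId B' D) (AlgHom.id B D) (fun _ _ => Commute.all _ _)

@[simp]
theorem mu_tmul (D : Type u) [CommRing D] [Algebra B D] [Algebra B' D] [IsScalarTower B B' D]
    (b : B') (d : D) : mu (B := B) D (b ⊗ₜ d) = algebraMap B' D b * d := by
  simp [mu]

theorem mu_natural {D D₁ : Type u} [CommRing D] [Algebra B D] [Algebra B' D] [IsScalarTower B B' D]
    [CommRing D₁] [Algebra B D₁] [Algebra B' D₁] [IsScalarTower B B' D₁] (h : D →ₐ[B'] D₁) :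
    h.comp (mu (B := B) D) =
      (mu (B := B) D₁).comp (Algebra.TensorProduct.map (AlgHom.id B' B') (h.restrictScalars B)) := by
  apply Algebra.TensorProduct.ext'
  intro b d
  simp

end Univ

section Core
variable {B B' : Type u} [CommRing B] [CommRing B'] [Algebra B B']
variable {D : Type u} [CommRing D] [Algebra B D] [Algebra B' D] [IsScalarTower B B' D] (I : Ideal D)

theorem tp_surj (e' : B' ⊗[B] (D ⧸ I)) (d : D)
    (h : mu (B := B) (D ⧸ I) e' = Ideal.Quotient.mk I d) :
    ∃ e : B' ⊗[B] D, Algebra.TensorProduct.map (AlgHom.id B' B') (Ideal.Quotient.mkₐ B I) e = e' ∧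
      mu (B := B) D e = d := by
  have hs : Function.Surjective
      (Algebra.TensorProduct.map (AlgHom.id B' B') (Ideal.Quotient.mkₐ B I)) :=
    Algebra.TensorProduct.map_surjective _ _ Function.surjective_id
      (Ideal.Quotient.mkₐ_surjective B I)
  obtain ⟨e₀, he₀⟩ := hs e'
  have hnat := mu_natural (B := B) (Ideal.Quotient.mkₐ B' I)
  have h1 : Ideal.Quotient.mk I (mu (B := B) D e₀) = Ideal.Quotient.mk I d := by
    have := AlgHom.congr_fun hnat e₀
    simp only [AlgHom.comp_apply] at this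
    rw [← h, ← he₀]
    exact this
  refine ⟨e₀ - 1 ⊗ₜ (mu (B := B) D e₀ - d), ?_, ?_⟩
  · rw [map_sub, he₀, Algebra.TensorProduct.map_tmul]
    have : (Ideal.Quotient.mkₐ B I) (mu (B := B) D e₀ - d) = 0 := by
      change Ideal.Quotient.mk I _ = 0
      rw [map_sub, h1, sub_self]
    rw [this, TensorProduct.tmul_zero, sub_zero]
  · rw [map_sub, mu_tmul, map_one, one_mul]
    ring

omit [Algebra B' D] [IsScalarTower B B' D] in
theorem tp_nil (hI : I ^ 2 = ⊥) (x y : B' ⊗[B] D)
    (hx : Algebra.TensorProduct.map (AlgHom.id B' B') (Ideal.Quotient.mkₐ B I) x = 0)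
    (hy : Algebra.TensorProduct.map (AlgHom.id B' B') (Ideal.Quotient.mkₐ B I) y = 0) :
    x * y = 0 := by
  have hker := Algebra.TensorProduct.lTensor_ker (A := B') (Ideal.Quotient.mkₐ B I)
    (Ideal.Quotient.mkₐ_surjective B I)
  have hx' : x ∈ RingHom.ker (Algebra.TensorProduct.map (AlgHom.id B B') (Ideal.Quotient.mkₐ B I)) :=
    hx
  have hy' : y ∈ RingHom.ker (Algebra.TensorProduct.map (AlgHom.id B B') (Ideal.Quotient.mkₐ B I)) :=
    hy
  rw [hker] at hx' hy'
  have hI' : RingHom.ker (Ideal.Quotient.mkₐ B I) = I := Ideal.Quotient.mkₐ_ker B I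
  rw [hI'] at hx' hy'
  have : x * y ∈ (I.map (Algebra.TensorProduct.includeRight : D →ₐ[B] B' ⊗[B] D)) ^ 2 := by
    rw [pow_two]
    exact Ideal.mul_mem_mul hx' hy'
  rw [← Ideal.map_pow, hI, Ideal.map_bot] at this
  exact this

end Core

section Core2
variable {B B' : Type u} [CommRing B] [CommRing B'] [Algebra B B']
variable {A' W : Type u} [CommRing A'] [Algebra B' A'] [CommRing W] [Algebra B W]

theorem eq_mu_comp {D : Type u} [CommRing D] [Algebra B D] [Algebra B' D] [IsScalarTower B B' D]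
    (g : B' ⊗[B] W →ₐ[B'] D) :
    g = (mu (B := B) D).comp (Algebra.TensorProduct.map (AlgHom.id B' B')
      ((g.restrictScalars B).comp Algebra.TensorProduct.includeRight)) := by
  apply Algebra.TensorProduct.ext'
  intro b w
  simp only [AlgHom.comp_apply, Algebra.TensorProduct.map_tmul, AlgHom.id_apply, mu_tmul,
    AlgHom.restrictScalars_apply, Algebra.TensorProduct.includeRight_apply]
  rw [← Algebra.smul_def, ← map_smul, TensorProduct.smul_tmul', smul_eq_mul, mul_one]

theorem fs_core [Algebra.FormallySmooth B' A'] (u : A' →ₐ[B'] B' ⊗[B] W) (hu : IsUniv u)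
    {D : Type u} [CommRing D] [Algebra B D] [Algebra B' D] [IsScalarTower B B' D]
    (I : Ideal D) (hI : I ^ 2 = ⊥) (σ : A' →ₐ[B'] D) (gbar : B' ⊗[B] W →ₐ[B'] D ⧸ I)
    (hg : gbar.comp u = (Ideal.Quotient.mkₐ B' I).comp σ) :
    ∃ g : B' ⊗[B] W →ₐ[B'] D, g.comp u = σ ∧ (Ideal.Quotient.mkₐ B' I).comp g = gbar := by
  let φbar : W →ₐ[B] D ⧸ I := (gbar.restrictScalars B).comp Algebra.TensorProduct.includeRight
  have hgbar : gbar = (mu (B := B) (D ⧸ I)).comp
      (Algebra.TensorProduct.map (AlgHom.id B' B') φbar) := eq_mu_comp gbar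
  let ψbar := Phi u (D ⧸ I) φbar
  have hψbar : (mu (B := B) (D ⧸ I)).comp ψbar = (Ideal.Quotient.mkₐ B' I).comp σ := by
    rw [← hg]
    conv_rhs => rw [hgbar]
    rfl
  obtain ⟨ψ, hψ1, hψ2⟩ := exists_lift_pullback
    (Algebra.TensorProduct.map (AlgHom.id B' B') (Ideal.Quotient.mkₐ B I))
    (mu (B := B) D) (mu (B := B) (D ⧸ I)) (Ideal.Quotient.mkₐ B' I)
    (mu_natural (B := B) (Ideal.Quotient.mkₐ B' I)).symm
    (tp_surj I) (tp_nil I hI) ψbar σ hψbar
  obtain ⟨φ, hφ⟩ := (hu D).surjective ψ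
  refine ⟨(mu (B := B) D).comp (Algebra.TensorProduct.map (AlgHom.id B' B') φ), ?_, ?_⟩
  · rw [AlgHom.comp_assoc]
    change (mu (B := B) D).comp (Phi u D φ) = σ
    rw [hφ, hψ2]
  · have hφbar : (Ideal.Quotient.mkₐ B I).comp φ = φbar := by
      apply (hu (D ⧸ I)).injective
      rw [Phi_comp, hφ, hψ1]
    rw [← AlgHom.comp_assoc, mu_natural, AlgHom.comp_assoc, ← Algebra.TensorProduct.map_id_comp]
    conv_rhs => rw [hgbar]
    congr 2

end Core2

section FS
variable {B B' : Type u} [CommRing B] [CommRing B'] [Algebra B B']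
variable {A' W : Type u} [CommRing A'] [Algebra B' A'] [CommRing W] [Algebra B W]

theorem formallySmooth_of_isUniv [Algebra.FormallySmooth B' A'] (u : A' →ₐ[B'] B' ⊗[B] W)
    (hu : IsUniv u) : (u : A' →+* B' ⊗[B] W).FormallySmooth := by
  unfold RingHom.FormallySmooth
  letI : Algebra A' (B' ⊗[B] W) := (u : A' →+* _).toAlgebra
  apply Algebra.FormallySmooth.of_comp_surjective
  intro D _ _ I hI gbar
  letI : Algebra B' D := ((algebraMap A' D).comp (algebraMap B' A')).toAlgebra
  letI : Algebra B D := ((algebraMap B' D).comp (algebraMap B B')).toAlgebra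
  haveI : IsScalarTower B' A' D := IsScalarTower.of_algebraMap_eq (fun _ => rfl)
  haveI : IsScalarTower B B' D := IsScalarTower.of_algebraMap_eq (fun _ => rfl)
  haveI : IsScalarTower B' A' (B' ⊗[B] W) :=
    IsScalarTower.of_algebraMap_eq (fun b => (u.commutes b).symm)
  let σ : A' →ₐ[B'] D := IsScalarTower.toAlgHom B' A' D
  let gbar' : B' ⊗[B] W →ₐ[B'] D ⧸ I := gbar.restrictScalars B'
  have hg : gbar'.comp u = (Ideal.Quotient.mkₐ B' I).comp σ := by
    ext a
    change gbar (algebraMap A' (B' ⊗[B] W) a) = _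
    rw [gbar.commutes]
    rfl
  obtain ⟨g, hg1, hg2⟩ := fs_core u hu I hI σ gbar' hg
  let g' : B' ⊗[B] W →ₐ[A'] D :=
    { g.toRingHom with
      commutes' := fun a => AlgHom.congr_fun hg1 a }
  refine ⟨g', ?_⟩
  ext x
  exact AlgHom.congr_fun hg2 x

end FS

section FG
variable {B B' : Type u} [CommRing B] [CommRing B'] [Algebra B B']
variable {A' W : Type u} [CommRing A'] [Algebra B' A'] [CommRing W] [Algebra B W]

theorem range_map_val_mono {V V' : Subalgebra B W} (hV : V ≤ V') :
    (Algebra.TensorProduct.map (AlgHom.id B' B') V.val).range ≤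
      (Algebra.TensorProduct.map (AlgHom.id B' B') V'.val).range := by
  rintro _ ⟨t, rfl⟩
  refine ⟨Algebra.TensorProduct.map (AlgHom.id B' B') (Subalgebra.inclusion hV) t, ?_⟩
  have : (Algebra.TensorProduct.map (AlgHom.id B' B') V'.val).comp
      (Algebra.TensorProduct.map (AlgHom.id B' B') (Subalgebra.inclusion hV)) =
      Algebra.TensorProduct.map (AlgHom.id B' B') V.val := by
    rw [← Algebra.TensorProduct.map_id_comp]
    rfl
  exact AlgHom.congr_fun this t

theorem exists_fg_mem_range (z : B' ⊗[B] W) :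
    ∃ W₀ : Subalgebra B W, W₀.FG ∧
      z ∈ (Algebra.TensorProduct.map (AlgHom.id B' B') W₀.val).range := by
  induction z using TensorProduct.induction_on with
  | zero => exact ⟨⊥, Subalgebra.fg_bot, zero_mem _⟩
  | tmul b w =>
    refine ⟨Algebra.adjoin B {w}, ?_, ?_⟩
    · have := Subalgebra.fg_adjoin_finset (R := B) ({w} : Finset W)
      simpa using this
    · exact ⟨b ⊗ₜ ⟨w, Algebra.subset_adjoin (Set.mem_singleton w)⟩, rfl⟩
  | add x y hx hy =>
    obtain ⟨W₁, h1, hx⟩ := hx
    obtain ⟨W₂, h2, hy⟩ := hy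
    refine ⟨W₁ ⊔ W₂, h1.sup h2, ?_⟩
    exact add_mem (range_map_val_mono le_sup_left hx) (range_map_val_mono le_sup_right hy)

theorem exists_fg_forall_mem_range (s : Finset (B' ⊗[B] W)) :
    ∃ W₀ : Subalgebra B W, W₀.FG ∧
      ∀ z ∈ s, z ∈ (Algebra.TensorProduct.map (AlgHom.id B' B') W₀.val).range := by
  classical
  induction s using Finset.induction_on with
  | empty => exact ⟨⊥, Subalgebra.fg_bot, fun z hz => absurd hz (Finset.notMem_empty z)⟩
  | insert a s _ ih =>
    obtain ⟨W₁, h1, hs⟩ := ih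
    obtain ⟨W₂, h2, ha⟩ := exists_fg_mem_range (B := B) (B' := B') a
    refine ⟨W₁ ⊔ W₂, h1.sup h2, ?_⟩
    intro z hz
    rcases Finset.mem_insert.mp hz with rfl | hz
    · exact range_map_val_mono le_sup_right ha
    · exact range_map_val_mono le_sup_left (hs z hz)

theorem finiteType_of_isUniv [Algebra.FiniteType B' A'] [Module.Flat B B']
    (u : A' →ₐ[B'] B' ⊗[B] W) (hu : IsUniv u) : Algebra.FiniteType B W := by
  classical
  obtain ⟨s, hs⟩ := (Algebra.FiniteType.out : (⊤ : Subalgebra B' A').FG)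
  obtain ⟨W₀, hW₀, hmem⟩ := exists_fg_forall_mem_range (B := B) (B' := B') (s.image u)
  let ι : W₀ →ₐ[B] W := W₀.val
  let T : B' ⊗[B] W₀ →ₐ[B'] B' ⊗[B] W := Algebra.TensorProduct.map (AlgHom.id B' B') ι
  have hT : Function.Injective T := by
    have := Module.Flat.lTensor_preserves_injective_linearMap (M := B') ι.toLinearMap
      Subtype.val_injective
    exact this
  have hrange : ∀ a : A', u a ∈ T.range := by
    have h1 : u.range ≤ T.range := by
      rw [← Algebra.map_top, ← hs, AlgHom.map_adjoin, Algebra.adjoin_le_iff]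
      rintro _ ⟨x, hx, rfl⟩
      exact hmem _ (Finset.mem_image_of_mem u hx)
    intro a
    exact h1 (AlgHom.mem_range_self u a)
  let u₀ : A' →ₐ[B'] B' ⊗[B] W₀ :=
    (AlgEquiv.ofInjective T hT).symm.toAlgHom.comp (u.codRestrict T.range hrange)
  have hu₀ : T.comp u₀ = u := by
    ext a
    change T ((AlgEquiv.ofInjective T hT).symm (u.codRestrict T.range hrange a)) = u a
    have := (AlgEquiv.ofInjective T hT).apply_symm_apply (u.codRestrict T.range hrange a)
    exact congrArg Subtype.val this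
  obtain ⟨φ, hφ⟩ := (hu W₀).surjective u₀
  have hid : ι.comp φ = AlgHom.id B W := by
    apply (hu W).injective
    rw [Phi_comp, hφ]
    change T.comp u₀ = _
    rw [hu₀]
    unfold Phi
    rw [Algebra.TensorProduct.map_id, AlgHom.id_comp]
  have htop : W₀ = ⊤ := by
    rw [eq_top_iff]
    intro w _
    have : ι (φ w) = w := AlgHom.congr_fun hid w
    rw [← this]
    exact (φ w).2
  exact ⟨htop ▸ hW₀⟩

end FG

section Smooth
variable {B B' : Type u} [CommRing B] [CommRing B'] [Algebra B B']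
variable {A' W : Type u} [CommRing A'] [Algebra B' A'] [CommRing W] [Algebra B W]

theorem smooth_of_isUniv [IsNoetherianRing B'] [Algebra.FormallySmooth B' A']
    [Algebra.FiniteType B' A'] [Module.Flat B B'] (u : A' →ₐ[B'] B' ⊗[B] W) (hu : IsUniv u) :
    (u : A' →+* B' ⊗[B] W).Smooth := by
  rw [RingHom.smooth_def]
  refine ⟨formallySmooth_of_isUniv u hu, ?_⟩
  haveI := finiteType_of_isUniv u hu
  haveI : IsNoetherianRing A' := Algebra.FiniteType.isNoetherianRing B' A'
  unfold RingHom.FinitePresentation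
  letI : Algebra A' (B' ⊗[B] W) := (u : A' →+* _).toAlgebra
  haveI : IsScalarTower B' A' (B' ⊗[B] W) :=
    IsScalarTower.of_algebraMap_eq (fun b => (u.commutes b).symm)
  haveI : Algebra.FiniteType A' (B' ⊗[B] W) :=
    Algebra.FiniteType.of_restrictScalars_finiteType B' A' (B' ⊗[B] W)
  exact Algebra.FinitePresentation.of_finiteType.mp inferInstance

end Smooth

section Points

theorem nontrivial_tensor_of_surjective {R A L : Type u} [CommRing R] [CommRing A] [Algebra R A]
    (hsurj : Function.Surjective (PrimeSpectrum.comap (algebraMap R A)))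
    [Field L] [Algebra R L] : Nontrivial (L ⊗[R] A) := by
  haveI : Surjective (Spec.map (CommRingCat.ofHom (algebraMap R A))) := ⟨hsurj⟩
  have hs : Surjective (pullback.fst (Spec.map (CommRingCat.ofHom (algebraMap R L)))
      (Spec.map (CommRingCat.ofHom (algebraMap R A)))) := inferInstance
  obtain ⟨x, -⟩ := hs.surj (default : Spec (CommRingCat.of L))
  have y := (pullbackSpecIso R L A).hom x
  by_contra h
  rw [not_nontrivial_iff_subsingleton] at h
  haveI := h
  exact (PrimeSpectrum.instIsEmptyOfSubsingleton (R := L ⊗[R] A)).false y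

end Points

section Points

theorem nonempty_algHom_of_isAlgClosed {R A L : Type u} [CommRing R] [CommRing A] [Algebra R A]
    [Algebra.FiniteType R A]
    (hsurj : Function.Surjective (PrimeSpectrum.comap (algebraMap R A)))
    [Field L] [IsAlgClosed L] [Algebra R L] : Nonempty (A →ₐ[R] L) := by
  haveI := nontrivial_tensor_of_surjective (L := L) hsurj
  obtain ⟨M, hM⟩ := Ideal.exists_maximal (L ⊗[R] A)
  letI := Ideal.Quotient.field M
  haveI : Algebra.FiniteType L (L ⊗[R] A) := inferInstance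
  haveI : Algebra.FiniteType L ((L ⊗[R] A) ⧸ M) := inferInstance
  haveI : Module.Finite L ((L ⊗[R] A) ⧸ M) := finite_of_finite_type_of_isJacobsonRing L _
  have hbij : Function.Bijective (algebraMap L ((L ⊗[R] A) ⧸ M)) :=
    IsAlgClosed.algebraMap_bijective_of_isIntegral
  let e : L ≃ₐ[L] ((L ⊗[R] A) ⧸ M) := AlgEquiv.ofBijective (Algebra.ofId L _) hbij
  exact ⟨((e.symm.toAlgHom.restrictScalars R).comp ((Ideal.Quotient.mkₐ L M).restrictScalars R)).comp
    Algebra.TensorProduct.includeRight⟩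

end Points

section Artin

variable {R A E : Type u} [CommRing R] [CommRing A] [Algebra R A] [Algebra.FormallySmooth R A]
  [CommRing E] [Algebra R E] [IsArtinianRing E]

theorem exists_algHom_of_artinian (τ : ∀ m : MaximalSpectrum E, A →ₐ[R] E ⧸ m.asIdeal) :
    ∃ ψ : A →ₐ[R] E, ∀ m : MaximalSpectrum E, (Ideal.Quotient.mkₐ R m.asIdeal).comp ψ = τ m := by
  classical
  let ψbar : A →ₐ[R] (∀ m : MaximalSpectrum E, E ⧸ m.asIdeal) := AlgHom.pi τ
  let ρ : E →ₐ[R] (∀ m : MaximalSpectrum E, E ⧸ m.asIdeal) :=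
    AlgHom.pi (fun m => Ideal.Quotient.mkₐ R m.asIdeal)
  have hρ : ∀ x : E, ρ x = IsArtinianRing.quotNilradicalEquivPi E (Ideal.Quotient.mk _ x) := by
    intro x
    rfl
  have hsurj : Function.Surjective ρ := by
    intro y
    obtain ⟨z, hz⟩ := (IsArtinianRing.quotNilradicalEquivPi E).surjective y
    obtain ⟨x, rfl⟩ := Ideal.Quotient.mk_surjective z
    exact ⟨x, (hρ x).trans hz⟩
  have hker : IsNilpotent (RingHom.ker (ρ : E →+* (∀ m : MaximalSpectrum E, E ⧸ m.asIdeal))) := by
    have : RingHom.ker (ρ : E →+* (∀ m : MaximalSpectrum E, E ⧸ m.asIdeal)) = nilradical E := by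
      ext x
      rw [RingHom.mem_ker]
      change ρ x = 0 ↔ _
      rw [hρ, map_eq_zero_iff _ (IsArtinianRing.quotNilradicalEquivPi E).injective,
        Ideal.Quotient.eq_zero_iff_mem]
    rw [this]
    exact IsArtinianRing.isNilpotent_nilradical
  let ψ := Algebra.FormallySmooth.liftOfSurjective ψbar ρ hsurj hker
  have hψ : ∀ a, ρ (ψ a) = ψbar a :=
    Algebra.FormallySmooth.liftOfSurjective_apply ψbar ρ hsurj hker
  refine ⟨ψ, fun m => ?_⟩
  ext a
  exact congrFun (hψ a) m

end Artin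

section Surj
variable {B B' : Type u} [CommRing B] [CommRing B'] [Algebra B B']

/-- `B' ⊗[B] K` is Artinian and its residue fields are algebraically closed, for `K` algebraically
closed and `B'` finite over `B`. -/
theorem artinian_tensor [Module.Finite B B'] (K : Type u) [Field K] [Algebra B K] :
    IsArtinianRing (B' ⊗[B] K) := by
  haveI : IsArtinianRing (K ⊗[B] B') := IsArtinianRing.of_finite K _
  exact (Algebra.TensorProduct.comm B K B').toRingEquiv.isArtinianRing

theorem isAlgClosed_quotient [Module.Finite B B'] (K : Type u) [Field K] [IsAlgClosed K]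
    [Algebra B K] (m : Ideal (B' ⊗[B] K)) [m.IsMaximal] :
    letI := Ideal.Quotient.field m
    IsAlgClosed ((B' ⊗[B] K) ⧸ m) := by
  letI := Ideal.Quotient.field m
  let j₀ : K →+* B' ⊗[B] K := (Algebra.TensorProduct.includeRight : K →ₐ[B] B' ⊗[B] K)
  have hj₀ : j₀.Finite := by
    have h1 : j₀ = ((Algebra.TensorProduct.comm B K B').toRingEquiv : K ⊗[B] B' →+* B' ⊗[B] K).comp
        (algebraMap K (K ⊗[B] B')) := by
      ext x
      simp [j₀]
    rw [h1]
    refine RingHom.Finite.comp ?_ ?_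
    · exact RingHom.Finite.of_surjective _ (Algebra.TensorProduct.comm B K B').surjective
    · exact RingHom.finite_algebraMap.mpr inferInstance
  let j : K →+* (B' ⊗[B] K) ⧸ m := (Ideal.Quotient.mk m).comp j₀
  have hj : j.Finite :=
    RingHom.Finite.comp (RingHom.Finite.of_surjective _ Ideal.Quotient.mk_surjective) hj₀
  letI : Algebra K ((B' ⊗[B] K) ⧸ m) := j.toAlgebra
  haveI : Module.Finite K ((B' ⊗[B] K) ⧸ m) := hj
  have hbij : Function.Bijective (algebraMap K ((B' ⊗[B] K) ⧸ m)) :=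
    IsAlgClosed.algebraMap_bijective_of_isIntegral
  exact IsAlgClosed.of_ringEquiv K _ (RingEquiv.ofBijective _ hbij)

end Surj

section Surj
variable {B B' : Type u} [CommRing B] [CommRing B'] [Algebra B B']
variable {A' W : Type u} [CommRing A'] [Algebra B' A'] [CommRing W] [Algebra B W]

/-- Existence of a `B'`-algebra map `A' → B' ⊗ K` whose composition with multiplication is a
given `σ`. -/
theorem exists_algHom_tensor [Module.Finite B B'] [Algebra.FormallySmooth B' A']
    [Algebra.FiniteType B' A']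
    (hA : Function.Surjective (PrimeSpectrum.comap (algebraMap B' A')))
    (K : Type u) [Field K] [IsAlgClosed K] [Algebra B K] [Algebra B' K] [IsScalarTower B B' K]
    (σ : A' →ₐ[B'] K) :
    ∃ ψ : A' →ₐ[B'] B' ⊗[B] K, (mu (B := B) K).comp ψ = σ := by
  haveI := artinian_tensor (B := B) (B' := B') K
  have hμ : Function.Surjective (mu (B := B) (B' := B') K) := fun x => ⟨1 ⊗ₜ x, by simp⟩
  haveI hmax : (RingHom.ker (mu (B := B) (B' := B') K)).IsMaximal :=
    RingHom.ker_isMaximal_of_surjective _ hμ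
  let m₀ : MaximalSpectrum (B' ⊗[B] K) := ⟨RingHom.ker (mu (B := B) (B' := B') K), hmax⟩
  let μbar : ((B' ⊗[B] K) ⧸ m₀.asIdeal) ≃ₐ[B'] K := Ideal.quotientKerAlgEquivOfSurjective hμ
  have hμbar : ∀ x : B' ⊗[B] K, μbar (Ideal.Quotient.mk _ x) = mu (B := B) K x := fun x => rfl
  let τ₀ : A' →ₐ[B'] (B' ⊗[B] K) ⧸ m₀.asIdeal := μbar.symm.toAlgHom.comp σ
  have hpt : ∀ m : MaximalSpectrum (B' ⊗[B] K), Nonempty (A' →ₐ[B'] (B' ⊗[B] K) ⧸ m.asIdeal) := by
    intro m
    haveI := m.isMaximal
    letI := Ideal.Quotient.field m.asIdeal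
    haveI := isAlgClosed_quotient (B := B) (B' := B') K m.asIdeal
    exact nonempty_algHom_of_isAlgClosed hA
  classical
  let τ : ∀ m : MaximalSpectrum (B' ⊗[B] K), A' →ₐ[B'] (B' ⊗[B] K) ⧸ m.asIdeal := fun m =>
    if h : m = m₀ then h ▸ τ₀ else (hpt m).some
  have hτ : τ m₀ = τ₀ := by simp [τ]
  obtain ⟨ψ, hψ⟩ := exists_algHom_of_artinian τ
  refine ⟨ψ, ?_⟩
  ext a
  have h1 : Ideal.Quotient.mk _ (ψ a) = τ₀ a := by
    rw [← hτ]
    exact AlgHom.congr_fun (hψ m₀) a
  have h2 := congrArg μbar h1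
  rw [hμbar] at h2
  rw [AlgHom.comp_apply, h2]
  exact μbar.apply_symm_apply (σ a)

theorem exists_ringHom_of_isUniv [Module.Finite B B'] [Algebra.FormallySmooth B' A']
    [Algebra.FiniteType B' A']
    (hA : Function.Surjective (PrimeSpectrum.comap (algebraMap B' A')))
    (u : A' →ₐ[B'] B' ⊗[B] W) (hu : IsUniv u)
    (K : Type u) [Field K] [IsAlgClosed K] (σ₀ : A' →+* K) :
    ∃ g : B' ⊗[B] W →+* K, g.comp (u : A' →+* B' ⊗[B] W) = σ₀ := by
  letI : Algebra A' K := σ₀.toAlgebra
  letI : Algebra B' K := (σ₀.comp (algebraMap B' A')).toAlgebra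
  letI : Algebra B K := ((σ₀.comp (algebraMap B' A')).comp (algebraMap B B')).toAlgebra
  haveI : IsScalarTower B' A' K := IsScalarTower.of_algebraMap_eq (fun _ => rfl)
  haveI : IsScalarTower B B' K := IsScalarTower.of_algebraMap_eq (fun _ => rfl)
  let σ : A' →ₐ[B'] K := IsScalarTower.toAlgHom B' A' K
  obtain ⟨ψ, hψ⟩ := exists_algHom_tensor (B := B) hA K σ
  obtain ⟨φ, hφ⟩ := (hu K).surjective ψ
  let g : B' ⊗[B] W →ₐ[B'] K :=
    (mu (B := B) K).comp (Algebra.TensorProduct.map (AlgHom.id B' B') φ)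
  have hg : g.comp u = σ := by
    change (mu (B := B) K).comp (Phi u K φ) = σ
    rw [hφ, hψ]
  refine ⟨(g : B' ⊗[B] W →+* K), ?_⟩
  ext a
  exact AlgHom.congr_fun hg a

theorem comap_surjective_of_isUniv [Module.Finite B B'] [Algebra.FormallySmooth B' A']
    [Algebra.FiniteType B' A']
    (hA : Function.Surjective (PrimeSpectrum.comap (algebraMap B' A')))
    (u : A' →ₐ[B'] B' ⊗[B] W) (hu : IsUniv u) :
    Function.Surjective (PrimeSpectrum.comap (u : A' →+* B' ⊗[B] W)) := by
  intro p'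
  let σ₀ : A' →+* AlgebraicClosure p'.asIdeal.ResidueField :=
    (algebraMap p'.asIdeal.ResidueField (AlgebraicClosure p'.asIdeal.ResidueField)).comp
    (algebraMap A' p'.asIdeal.ResidueField)
  have hσ₀ : RingHom.ker σ₀ = p'.asIdeal := by
    rw [← RingHom.comap_ker, (RingHom.injective_iff_ker_eq_bot _).mp
      (algebraMap p'.asIdeal.ResidueField (AlgebraicClosure p'.asIdeal.ResidueField)).injective,
      ← RingHom.ker_eq_comap_bot, Ideal.ker_algebraMap_residueField]
  obtain ⟨g, hg⟩ := exists_ringHom_of_isUniv hA u hu _ σ₀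
  refine ⟨⟨RingHom.ker g, RingHom.ker_isPrime _⟩, ?_⟩
  apply PrimeSpectrum.ext
  change Ideal.comap (u : A' →+* B' ⊗[B] W) (RingHom.ker g) = p'.asIdeal
  rw [RingHom.comap_ker, hg]
  exact hσ₀

end Surj

section Rel
variable {B B' : Type u} [CommRing B] [CommRing B'] [Algebra B B']
variable {AX AY WX WY : Type u} [CommRing AX] [Algebra B' AX] [CommRing AY] [Algebra B' AY]
  [CommRing WX] [Algebra B WX] [CommRing WY] [Algebra B WY]
variable (uX : AX →ₐ[B'] B' ⊗[B] WX) (uY : AY →ₐ[B'] B' ⊗[B] WY)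
  (f : AY →ₐ[B'] AX) (w : WY →ₐ[B] WX)

theorem Phi_comp_f (hw : (Algebra.TensorProduct.map (AlgHom.id B' B') w).comp uY = uX.comp f)
    {D : Type u} [CommRing D] [Algebra B D] (φ : WX →ₐ[B] D) :
    (Phi uX D φ).comp f = Phi uY D (φ.comp w) := by
  unfold Phi
  rw [Algebra.TensorProduct.map_id_comp, AlgHom.comp_assoc, AlgHom.comp_assoc, hw]

/-- relative lifting for the formally smooth `f`. -/
theorem exists_lift_rel (hf : (f : AY →+* AX).FormallySmooth)
    {D : Type u} [CommRing D] [Algebra B D] (I : Ideal D) (hI : I ^ 2 = ⊥)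
    (ψY : AY →ₐ[B'] B' ⊗[B] D) (ψXbar : AX →ₐ[B'] B' ⊗[B] (D ⧸ I))
    (h : ψXbar.comp f =
      (Algebra.TensorProduct.map (AlgHom.id B' B') (Ideal.Quotient.mkₐ B I)).comp ψY) :
    ∃ ψX : AX →ₐ[B'] B' ⊗[B] D, ψX.comp f = ψY ∧
      (Algebra.TensorProduct.map (AlgHom.id B' B') (Ideal.Quotient.mkₐ B I)).comp ψX = ψXbar := by
  letI : Algebra AY AX := (f : AY →+* AX).toAlgebra
  haveI : Algebra.FormallySmooth AY AX := hf
  let r : B' ⊗[B] D →ₐ[B'] B' ⊗[B] (D ⧸ I) :=
    Algebra.TensorProduct.map (AlgHom.id B' B') (Ideal.Quotient.mkₐ B I)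
  letI : Algebra AY (B' ⊗[B] D) := (ψY : AY →+* B' ⊗[B] D).toAlgebra
  letI : Algebra AY (B' ⊗[B] (D ⧸ I)) := ((r : B' ⊗[B] D →+* B' ⊗[B] (D ⧸ I)).comp (ψY : AY →+* B' ⊗[B] D)).toAlgebra
  let r' : B' ⊗[B] D →ₐ[AY] B' ⊗[B] (D ⧸ I) :=
    { (r : B' ⊗[B] D →+* B' ⊗[B] (D ⧸ I)) with commutes' := fun _ => rfl }
  let ψXbar' : AX →ₐ[AY] B' ⊗[B] (D ⧸ I) :=
    { (ψXbar : AX →+* B' ⊗[B] (D ⧸ I)) with
      commutes' := fun a => AlgHom.congr_fun h a }
  have hr0 : Function.Surjective r :=
    Algebra.TensorProduct.map_surjective _ _ Function.surjective_id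
      (Ideal.Quotient.mkₐ_surjective B I)
  have hr : Function.Surjective r' := hr0
  have hker : IsNilpotent (RingHom.ker (r' : B' ⊗[B] D →+* B' ⊗[B] (D ⧸ I))) := by
    refine ⟨2, ?_⟩
    rw [Ideal.zero_eq_bot, eq_bot_iff, pow_two, Ideal.mul_le]
    intro a ha b hb
    rw [Ideal.mem_bot]
    exact tp_nil I hI a b ha hb
  let ψ' := Algebra.FormallySmooth.liftOfSurjective ψXbar' r' hr hker
  have hψ' : ∀ a, r' (ψ' a) = ψXbar' a :=
    Algebra.FormallySmooth.liftOfSurjective_apply ψXbar' r' hr hker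
  have hcomm : ∀ a : AY, ψ' (f a) = ψY a := fun a => ψ'.commutes a
  let ψX : AX →ₐ[B'] B' ⊗[B] D :=
    { (ψ' : AX →+* B' ⊗[B] D) with
      commutes' := fun b => by
        have h1 : algebraMap B' AX b = f (algebraMap B' AY b) := (f.commutes b).symm
        change ψ' (algebraMap B' AX b) = _
        rw [h1, hcomm, ψY.commutes] }
  refine ⟨ψX, ?_, ?_⟩
  · ext a
    exact hcomm a
  · ext a
    exact hψ' a

end Rel

section Rel2
variable {B B' : Type u} [CommRing B] [CommRing B'] [Algebra B B']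
variable {AX AY WX WY : Type u} [CommRing AX] [Algebra B' AX] [CommRing AY] [Algebra B' AY]
  [CommRing WX] [Algebra B WX] [CommRing WY] [Algebra B WY]
variable (uX : AX →ₐ[B'] B' ⊗[B] WX) (uY : AY →ₐ[B'] B' ⊗[B] WY)
  (f : AY →ₐ[B'] AX) (w : WY →ₐ[B] WX)

theorem formallySmooth_rel (huX : IsUniv uX) (huY : IsUniv uY)
    (hw : (Algebra.TensorProduct.map (AlgHom.id B' B') w).comp uY = uX.comp f)
    (hf : (f : AY →+* AX).FormallySmooth) : (w : WY →+* WX).FormallySmooth := by
  unfold RingHom.FormallySmooth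
  letI : Algebra WY WX := (w : WY →+* WX).toAlgebra
  apply Algebra.FormallySmooth.of_comp_surjective
  intro D _ _ I hI gbar
  letI : Algebra B D := ((algebraMap WY D).comp (algebraMap B WY)).toAlgebra
  haveI : IsScalarTower B WY D := IsScalarTower.of_algebraMap_eq (fun _ => rfl)
  haveI : IsScalarTower B WY WX := IsScalarTower.of_algebraMap_eq (fun b => (w.commutes b).symm)
  let φY : WY →ₐ[B] D := IsScalarTower.toAlgHom B WY D
  let gbarB : WX →ₐ[B] D ⧸ I := gbar.restrictScalars B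
  have h0 : gbarB.comp w = (Ideal.Quotient.mkₐ B I).comp φY := by
    ext y
    change gbar (algebraMap WY WX y) = _
    rw [gbar.commutes]
    rfl
  have h : (Phi uX (D ⧸ I) gbarB).comp f =
      (Algebra.TensorProduct.map (AlgHom.id B' B') (Ideal.Quotient.mkₐ B I)).comp (Phi uY D φY) := by
    rw [Phi_comp_f uX uY f w hw, h0, Phi_comp]
  obtain ⟨ψX, hψX1, hψX2⟩ := exists_lift_rel f hf I hI (Phi uY D φY) (Phi uX (D ⧸ I) gbarB) h
  obtain ⟨φX, hφX⟩ := (huX D).surjective ψX
  have hφXw : φX.comp w = φY := by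
    apply (huY D).injective
    rw [← Phi_comp_f uX uY f w hw, hφX, hψX1]
  have hmk : (Ideal.Quotient.mkₐ B I).comp φX = gbarB := by
    apply (huX (D ⧸ I)).injective
    rw [Phi_comp, hφX, hψX2]
  let g' : WX →ₐ[WY] D :=
    { (φX : WX →+* D) with commutes' := fun y => AlgHom.congr_fun hφXw y }
  refine ⟨g', ?_⟩
  ext x
  exact AlgHom.congr_fun hmk x

theorem smooth_rel [IsNoetherianRing B] [Module.Flat B B'] [Algebra.FiniteType B' AX]
    [Algebra.FiniteType B' AY] (huX : IsUniv uX) (huY : IsUniv uY)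
    (hw : (Algebra.TensorProduct.map (AlgHom.id B' B') w).comp uY = uX.comp f)
    (hf : (f : AY →+* AX).FormallySmooth) : (w : WY →+* WX).Smooth := by
  rw [RingHom.smooth_def]
  refine ⟨formallySmooth_rel uX uY f w huX huY hw hf, ?_⟩
  haveI := finiteType_of_isUniv uX huX
  haveI := finiteType_of_isUniv uY huY
  haveI : IsNoetherianRing WY := Algebra.FiniteType.isNoetherianRing B WY
  unfold RingHom.FinitePresentation
  letI : Algebra WY WX := (w : WY →+* WX).toAlgebra
  haveI : IsScalarTower B WY WX := IsScalarTower.of_algebraMap_eq (fun b => (w.commutes b).symm)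
  haveI : Algebra.FiniteType WY WX := Algebra.FiniteType.of_restrictScalars_finiteType B WY WX
  exact Algebra.FinitePresentation.of_finiteType.mp inferInstance

theorem exists_ringHom_rel [Module.Finite B B'] (huX : IsUniv uX) (huY : IsUniv uY)
    (hw : (Algebra.TensorProduct.map (AlgHom.id B' B') w).comp uY = uX.comp f)
    (hf : (f : AY →+* AX).FormallySmooth) (hft : (f : AY →+* AX).FiniteType)
    (hsurj : Function.Surjective (PrimeSpectrum.comap (f : AY →+* AX)))
    (K : Type u) [Field K] [IsAlgClosed K] (φ₀ : WY →+* K) :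
    ∃ φX : WX →+* K, φX.comp (w : WY →+* WX) = φ₀ := by
  letI : Algebra WY K := φ₀.toAlgebra
  letI : Algebra B K := (φ₀.comp (algebraMap B WY)).toAlgebra
  haveI : IsScalarTower B WY K := IsScalarTower.of_algebraMap_eq (fun _ => rfl)
  let φY : WY →ₐ[B] K := IsScalarTower.toAlgHom B WY K
  let ψY := Phi uY K φY
  letI : Algebra AY AX := (f : AY →+* AX).toAlgebra
  haveI : Algebra.FormallySmooth AY AX := hf
  haveI : Algebra.FiniteType AY AX := hft
  letI : Algebra AY (B' ⊗[B] K) := (ψY : AY →+* B' ⊗[B] K).toAlgebra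
  haveI := artinian_tensor (B := B) (B' := B') K
  have hpt : ∀ m : MaximalSpectrum (B' ⊗[B] K), Nonempty (AX →ₐ[AY] (B' ⊗[B] K) ⧸ m.asIdeal) := by
    intro m
    haveI := m.isMaximal
    letI := Ideal.Quotient.field m.asIdeal
    haveI := isAlgClosed_quotient (B := B) (B' := B') K m.asIdeal
    exact nonempty_algHom_of_isAlgClosed hsurj
  obtain ⟨ψ', -⟩ := exists_algHom_of_artinian (fun m => (hpt m).some)
  have hcomm : ∀ a : AY, ψ' (f a) = ψY a := fun a => ψ'.commutes a
  let ψX : AX →ₐ[B'] B' ⊗[B] K :=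
    { (ψ' : AX →+* B' ⊗[B] K) with
      commutes' := fun b => by
        have h1 : algebraMap B' AX b = f (algebraMap B' AY b) := (f.commutes b).symm
        change ψ' (algebraMap B' AX b) = _
        rw [h1, hcomm, ψY.commutes] }
  have hψX : ψX.comp f = ψY := by
    ext a
    exact hcomm a
  obtain ⟨φX, hφX⟩ := (huX K).surjective ψX
  have hφXw : φX.comp w = φY := by
    apply (huY K).injective
    rw [← Phi_comp_f uX uY f w hw, hφX, hψX]
  refine ⟨(φX : WX →+* K), ?_⟩
  ext y
  exact AlgHom.congr_fun hφXw y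

theorem comap_surjective_rel [Module.Finite B B'] (huX : IsUniv uX) (huY : IsUniv uY)
    (hw : (Algebra.TensorProduct.map (AlgHom.id B' B') w).comp uY = uX.comp f)
    (hf : (f : AY →+* AX).FormallySmooth) (hft : (f : AY →+* AX).FiniteType)
    (hsurj : Function.Surjective (PrimeSpectrum.comap (f : AY →+* AX))) :
    Function.Surjective (PrimeSpectrum.comap (w : WY →+* WX)) := by
  intro q
  let φ₀ : WY →+* AlgebraicClosure q.asIdeal.ResidueField :=
    (algebraMap q.asIdeal.ResidueField (AlgebraicClosure q.asIdeal.ResidueField)).comp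
    (algebraMap WY q.asIdeal.ResidueField)
  have hφ₀ : RingHom.ker φ₀ = q.asIdeal := by
    rw [← RingHom.comap_ker, (RingHom.injective_iff_ker_eq_bot _).mp
      (algebraMap q.asIdeal.ResidueField (AlgebraicClosure q.asIdeal.ResidueField)).injective,
      ← RingHom.ker_eq_comap_bot, Ideal.ker_algebraMap_residueField]
  obtain ⟨g, hg⟩ := exists_ringHom_rel uX uY f w huX huY hw hf hft hsurj _ φ₀
  refine ⟨⟨RingHom.ker g, RingHom.ker_isPrime _⟩, ?_⟩
  apply PrimeSpectrum.ext
  change Ideal.comap (w : WY →+* WX) (RingHom.ker g) = q.asIdeal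
  rw [RingHom.comap_ker, hg]
  exact hφ₀

end Rel2

end Groth.Agent.Lib.Helper6.WeilSmAlg
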