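import Mathlib
import Groth.Agent.Lib.Helper6.WeilSmAlg
import Groth.Agent.Lib.Helper6.WeilEx

/-!
# Weil restriction of affine schemes: dictionary between schemes and rings (helper6)

* `exists_equalizer_rep`, `isAffine_of_rep`: a scheme representing the Weil restriction functor of an
  affine scheme along a finite locally free morphism to an affine base is affine.
* `TT`, `XA`, `kap`, `alphaD`, `toAlg`, `ofAlg`, `uOf`, `isUniv_uOf`: in `Spec` form, natural
  bijections `(Y ⟶ Spec W) ≃ (Y_{B'} ⟶ Spec A')` give a universal algebra map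
  `A' →ₐ[B'] B' ⊗[B] W` in the sense of `WeilSmAlg.IsUniv`.
* `transport`, `isoTT`: reduction of the general affine case to the `Spec` form.
* `weil_q_smooth_surjective`: the universal morphism `q : R ×_B B' ⟶ X'` of a Weil restriction
  of a smooth surjective affine `X'` along finite flat `B → B'` (Noetherian) is smooth surjective.
-/

set_option autoImplicit false
set_option linter.style.haveILetI false
set_option linter.unusedSectionVars false
universe v u
open TensorProduct CategoryTheory CategoryTheory.Limits AlgebraicGeometry Opposite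

namespace Groth.Agent.Lib.Helper6.WeilSmDict

open Groth.Agent.Lib.Helper6.WeilSmAlg

section RepEq
variable {C : Type u} [Category.{v} C] [HasEqualizers C]

/-- A subfunctor of a representable functor cut out by the equalizer of two maps to another
representable functor is represented by an equalizer. -/
theorem exists_equalizer_rep {F1 F2 W : Cᵒᵖ ⥤ Type v} (ι : W ⟶ F1) (α β : F1 ⟶ F2)
    (hinj : ∀ T : Cᵒᵖ, Function.Injective (ι.app T))
    (himg : ∀ (T : Cᵒᵖ) (φ : F1.obj T), (∃ w, ι.app T w = φ) ↔ α.app T φ = β.app T φ)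
    {R1 R2 : C} (r1 : F1.RepresentableBy R1) (r2 : F2.RepresentableBy R2) :
    ∃ a b : R1 ⟶ R2, Nonempty (W.RepresentableBy (equalizer a b)) := by
  let ξ1 := r1.homEquiv (𝟙 R1)
  let a : R1 ⟶ R2 := r2.homEquiv.symm (α.app _ ξ1)
  let b : R1 ⟶ R2 := r2.homEquiv.symm (β.app _ ξ1)
  have h1 : ∀ {T : C} (v : T ⟶ R1), r1.homEquiv v = F1.map v.op ξ1 := fun v => by
    have := r1.homEquiv_comp v (𝟙 R1)
    rwa [Category.comp_id] at this
  have ha : ∀ {T : C} (v : T ⟶ R1), r2.homEquiv (v ≫ a) = α.app _ (r1.homEquiv v) := fun v => by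
    rw [r2.homEquiv_comp, Equiv.apply_symm_apply, h1, NatTrans.naturality_apply]
  have hb : ∀ {T : C} (v : T ⟶ R1), r2.homEquiv (v ≫ b) = β.app _ (r1.homEquiv v) := fun v => by
    rw [r2.homEquiv_comp, Equiv.apply_symm_apply, h1, NatTrans.naturality_apply]
  let e := equalizer.ι a b
  have hex : ∀ {T : C} (u : T ⟶ equalizer a b), ∃ w, ι.app (op T) w = r1.homEquiv (u ≫ e) := by
    intro T u
    rw [himg, ← ha, ← hb, Category.assoc, Category.assoc, equalizer.condition]
  let toW : ∀ {T : C}, (T ⟶ equalizer a b) → W.obj (op T) := fun u => (hex u).choose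
  have htoW : ∀ {T : C} (u : T ⟶ equalizer a b), ι.app (op T) (toW u) = r1.homEquiv (u ≫ e) :=
    fun u => (hex u).choose_spec
  have hbij : ∀ T : C, Function.Bijective (toW (T := T)) := by
    intro T
    constructor
    · intro u u' h
      have := congrArg (ι.app (op T)) h
      rw [htoW, htoW] at this
      have h2 := r1.homEquiv.injective this
      exact (cancel_mono e).mp h2
    · intro w
      let v : T ⟶ R1 := r1.homEquiv.symm (ι.app (op T) w)
      have hv : r1.homEquiv v = ι.app (op T) w := Equiv.apply_symm_apply _ _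
      have hab : v ≫ a = v ≫ b := by
        apply r2.homEquiv.injective
        rw [ha, hb, hv]
        exact (himg _ _).mp ⟨w, rfl⟩
      refine ⟨equalizer.lift v hab, ?_⟩
      apply hinj
      rw [htoW, equalizer.lift_ι, hv]
  exact ⟨a, b, ⟨
    { homEquiv := fun {T} => Equiv.ofBijective toW (hbij T)
      homEquiv_comp := fun {T T'} t u => by
        apply hinj
        change ι.app (op T) (toW (t ≫ u)) = ι.app (op T) (W.map t.op (toW u))
        rw [htoW, NatTrans.naturality_apply, htoW, Category.assoc, r1.homEquiv_comp] }⟩⟩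

end RepEq

section Affine
open Groth.Agent.Lib.Helper6.WeilEx

theorem isAffine_of_rep {S S' : Scheme.{u}} [IsAffine S] (f : S' ⟶ S) (hf : Mor2.IsFinLocFree f)
    (X' : Over S') [IsAffine X'.left] (R : Over S)
    (rR : (WeilRes.functor f X').RepresentableBy R) : IsAffine R.left := by
  haveI : IsFinite f := hf.1
  haveI : IsAffine S' := isAffine_of_isAffineHom f
  obtain ⟨R1, hR1, ⟨r1⟩⟩ := Groth.Agent.S7194.result f (X'.hom ≫ f) hf
  obtain ⟨R2, hR2, ⟨r2⟩⟩ := Groth.Agent.S7194.result f f hf
  obtain ⟨a, b, ⟨rE⟩⟩ := exists_equalizer_rep (iota f X') (alpha f X') (beta f X') (by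
      rintro ⟨T⟩ w w' h
      apply Over.OverMorphism.ext
      have h' : (Over.map f).map w = (Over.map f).map w' := h
      have h'' := congrArg (fun t => CommaMorphism.left t) h'
      exact h'') (by
      rintro ⟨T⟩ φ
      constructor
      · rintro ⟨w, rfl⟩
        apply Over.OverMorphism.ext
        exact Over.w w
      · intro h
        have h' : φ.left ≫ X'.hom = pullback.snd T.hom f :=
          congrArg (fun t => CommaMorphism.left t) h
        exact ⟨Over.homMk φ.left h', by apply Over.OverMorphism.ext; rfl⟩) r1 r2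
  haveI : IsAffine R1.left := isAffine_of_isAffineHom R1.hom
  haveI : IsSeparated R2.hom := inferInstance
  haveI : IsClosedImmersion (equalizer.ι a b).left := inferInstance
  haveI : IsAffine (equalizer a b).left := isAffine_of_isAffineHom (equalizer.ι a b).left
  let iso : R ≅ equalizer a b := rR.uniqueUpToIso rE
  haveI : IsIso iso.hom.left := (Over.forget S).map_isIso iso.hom
  exact isAffine_of_isAffineHom iso.hom.left

end Affine


section SpecForm
variable (B B' : Type u) [CommRing B] [CommRing B'] [Algebra B B']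

/-- the base morphism `Spec B' ⟶ Spec B`. -/
noncomputable abbrev bb : Spec (CommRingCat.of B') ⟶ Spec (CommRingCat.of B) :=
  Spec.map (CommRingCat.ofHom (algebraMap B B'))

/-- `Spec D` over `Spec B`. -/
noncomputable abbrev TT (D : Type u) [CommRing D] [Algebra B D] : Over (Spec (CommRingCat.of B)) :=
  Over.mk (Spec.map (CommRingCat.ofHom (algebraMap B D)))

variable {B}

/-- the morphism `Spec D ⟶ Spec W` over `Spec B` of an algebra map. -/
noncomputable def alphaD {W D : Type u} [CommRing W] [Algebra B W] [CommRing D] [Algebra B D]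
    (φ : W →ₐ[B] D) : TT B D ⟶ TT B W :=
  Over.homMk (Spec.map (CommRingCat.ofHom (φ : W →+* D))) (by
    change Spec.map _ ≫ Spec.map _ = Spec.map _
    rw [← Spec.map_comp, ← CommRingCat.ofHom_comp, φ.comp_algebraMap])

theorem alphaD_injective {W D : Type u} [CommRing W] [Algebra B W] [CommRing D] [Algebra B D] :
    Function.Injective (alphaD (B := B) (W := W) (D := D)) := by
  intro φ φ' h
  have h1 := congrArg (fun t => CommaMorphism.left t) h
  have h2 : CommRingCat.ofHom (φ : W →+* D) = CommRingCat.ofHom (φ' : W →+* D) :=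
    Spec.map_injective h1
  have h3 : (φ : W →+* D) = (φ' : W →+* D) := congrArg CommRingCat.Hom.hom h2
  ext x
  exact congrArg (fun f : W →+* D => f x) h3

theorem alphaD_surjective {W D : Type u} [CommRing W] [Algebra B W] [CommRing D] [Algebra B D] :
    Function.Surjective (alphaD (B := B) (W := W) (D := D)) := by
  intro t
  let ρ : CommRingCat.of W ⟶ CommRingCat.of D := Spec.preimage t.left
  have hρ : Spec.map ρ = t.left := Spec.map_preimage _
  have hw : t.left ≫ Spec.map (CommRingCat.ofHom (algebraMap B W)) =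
      Spec.map (CommRingCat.ofHom (algebraMap B D)) := Over.w t
  rw [← hρ, ← Spec.map_comp] at hw
  have hw' := Spec.map_injective hw
  let φ : W →ₐ[B] D :=
    { ρ.hom with
      commutes' := fun b => by
        have := congrArg (fun f => f.hom b) hw'
        exact this }
  refine ⟨φ, ?_⟩
  apply Over.OverMorphism.ext
  change Spec.map (CommRingCat.ofHom ρ.hom) = t.left
  rw [← hρ]
  rfl

end SpecForm


section SpecForm
variable {B : Type u} (B' : Type u) [CommRing B] [CommRing B'] [Algebra B B']

/-- `(Spec D) ×_{Spec B} Spec B' ≅ Spec (B' ⊗ D)`. -/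
noncomputable def kap (D : Type u) [CommRing D] [Algebra B D] :
    ((Over.pullback (bb B B')).obj (TT B D)).left ≅ Spec (CommRingCat.of (B' ⊗[B] D)) :=
  pullbackSymmetry _ _ ≪≫ pullbackSpecIso B B' D

theorem kap_inv_fst (D : Type u) [CommRing D] [Algebra B D] :
    (kap B' D).inv ≫ pullback.fst (TT B D).hom (bb B B') =
      Spec.map (CommRingCat.ofHom
        ((Algebra.TensorProduct.includeRight : D →ₐ[B] B' ⊗[B] D) : D →+* B' ⊗[B] D)) := by
  unfold kap
  simp only [Iso.trans_inv, Category.assoc, pullbackSymmetry_inv_comp_fst]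
  exact pullbackSpecIso_inv_snd B B' D

theorem kap_inv_snd (D : Type u) [CommRing D] [Algebra B D] :
    (kap B' D).inv ≫ pullback.snd (TT B D).hom (bb B B') =
      Spec.map (CommRingCat.ofHom (algebraMap B' (B' ⊗[B] D))) := by
  unfold kap
  simp only [Iso.trans_inv, Category.assoc, pullbackSymmetry_inv_comp_snd]
  exact pullbackSpecIso_inv_fst' B B' D

theorem pbmap_fst {S S' : Scheme.{u}} (g : S' ⟶ S) {T' T : Over S} (k : T' ⟶ T) :
    ((Over.pullback g).map k).left ≫ pullback.fst T.hom g = pullback.fst T'.hom g ≫ k.left := by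
  simp only [Over.pullback_map_left]
  exact pullback.lift_fst _ _ _

theorem pbmap_snd {S S' : Scheme.{u}} (g : S' ⟶ S) {T' T : Over S} (k : T' ⟶ T) :
    ((Over.pullback g).map k).left ≫ pullback.snd T.hom g = pullback.snd T'.hom g := by
  simp only [Over.pullback_map_left]
  exact pullback.lift_snd _ _ _

theorem kap_natural {W D : Type u} [CommRing W] [Algebra B W] [CommRing D] [Algebra B D]
    (φ : W →ₐ[B] D) :
    (kap B' D).inv ≫ ((Over.pullback (bb B B')).map (alphaD φ)).left =
      Spec.map (CommRingCat.ofHom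
        ((Algebra.TensorProduct.map (AlgHom.id B' B') φ : B' ⊗[B] W →ₐ[B'] B' ⊗[B] D) :
          B' ⊗[B] W →+* B' ⊗[B] D)) ≫ (kap B' W).inv := by
  apply pullback.hom_ext
  · rw [Category.assoc, Category.assoc, kap_inv_fst, pbmap_fst, ← Category.assoc, kap_inv_fst]
    change Spec.map _ ≫ Spec.map _ = Spec.map _ ≫ Spec.map _
    rw [← Spec.map_comp, ← Spec.map_comp, ← CommRingCat.ofHom_comp, ← CommRingCat.ofHom_comp]
    congr 2
  · rw [Category.assoc, Category.assoc, kap_inv_snd, pbmap_snd, kap_inv_snd]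
    rw [← Spec.map_comp, ← CommRingCat.ofHom_comp]
    congr 2
    ext x
    simp

end SpecForm


section SpecForm
variable {B : Type u} (B' : Type u) [CommRing B] [CommRing B'] [Algebra B B']
variable (A' : Type u) [CommRing A'] [Algebra B' A']

/-- `Spec A'` over `Spec B'`. -/
noncomputable abbrev XA : Over (Spec (CommRingCat.of B')) :=
  Over.mk (Spec.map (CommRingCat.ofHom (algebraMap B' A')))

variable {A'}

theorem algHom_ext_of_spec {D : Type u} [CommRing D] [Algebra B' D] {ψ ψ' : A' →ₐ[B'] D}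
    (h : Spec.map (CommRingCat.ofHom (ψ : A' →+* D)) = Spec.map (CommRingCat.ofHom (ψ' : A' →+* D))) :
    ψ = ψ' := by
  have h2 : CommRingCat.ofHom (ψ : A' →+* D) = CommRingCat.ofHom (ψ' : A' →+* D) :=
    Spec.map_injective h
  have h3 : (ψ : A' →+* D) = (ψ' : A' →+* D) := congrArg CommRingCat.Hom.hom h2
  ext x
  exact congrArg (fun f : A' →+* D => f x) h3

/-- the algebra map of a morphism `(Spec D)_{B'} ⟶ Spec A'` over `Spec B'`. -/
noncomputable def toAlg {D : Type u} [CommRing D] [Algebra B D]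
    (ψ' : (Over.pullback (bb B B')).obj (TT B D) ⟶ XA B' A') : A' →ₐ[B'] B' ⊗[B] D :=
  { (Spec.preimage ((kap B' D).inv ≫ ψ'.left) :
        CommRingCat.of A' ⟶ CommRingCat.of (B' ⊗[B] D)).hom with
    commutes' := fun b => by
      have hw : ψ'.left ≫ Spec.map (CommRingCat.ofHom (algebraMap B' A')) =
          pullback.snd (TT B D).hom (bb B B') := Over.w ψ'
      have h1 : Spec.map (Spec.preimage ((kap B' D).inv ≫ ψ'.left) :
          CommRingCat.of A' ⟶ CommRingCat.of (B' ⊗[B] D)) ≫
          Spec.map (CommRingCat.ofHom (algebraMap B' A')) =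
          Spec.map (CommRingCat.ofHom (algebraMap B' (B' ⊗[B] D))) := by
        rw [Spec.map_preimage, Category.assoc, hw, kap_inv_snd]
      rw [← Spec.map_comp] at h1
      have h2 := Spec.map_injective h1
      exact congrArg (fun f => f.hom b) h2 }

theorem spec_toAlg {D : Type u} [CommRing D] [Algebra B D]
    (ψ' : (Over.pullback (bb B B')).obj (TT B D) ⟶ XA B' A') :
    Spec.map (CommRingCat.ofHom ((toAlg B' ψ' : A' →ₐ[B'] B' ⊗[B] D) : A' →+* B' ⊗[B] D)) =
      (kap B' D).inv ≫ ψ'.left := by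
  have : CommRingCat.ofHom ((toAlg B' ψ' : A' →ₐ[B'] B' ⊗[B] D) : A' →+* B' ⊗[B] D) =
      (Spec.preimage ((kap B' D).inv ≫ ψ'.left) :
        CommRingCat.of A' ⟶ CommRingCat.of (B' ⊗[B] D)) := rfl
  rw [this, Spec.map_preimage]

/-- the morphism over `Spec B'` of an algebra map. -/
noncomputable def ofAlg {D : Type u} [CommRing D] [Algebra B D] (ψ : A' →ₐ[B'] B' ⊗[B] D) :
    (Over.pullback (bb B B')).obj (TT B D) ⟶ XA B' A' :=
  Over.homMk ((kap B' D).hom ≫ Spec.map (CommRingCat.ofHom (ψ : A' →+* B' ⊗[B] D))) (by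
    change ((kap B' D).hom ≫ Spec.map _) ≫ Spec.map _ = pullback.snd (TT B D).hom (bb B B')
    rw [Category.assoc, ← Spec.map_comp, ← CommRingCat.ofHom_comp, ψ.comp_algebraMap,
      ← kap_inv_snd, Iso.hom_inv_id_assoc])

theorem ofAlg_left {D : Type u} [CommRing D] [Algebra B D] (ψ : A' →ₐ[B'] B' ⊗[B] D) :
    (ofAlg B' ψ).left = (kap B' D).hom ≫ Spec.map (CommRingCat.ofHom (ψ : A' →+* B' ⊗[B] D)) :=
  rfl

end SpecForm


section SpecForm
variable {B : Type u} (B' : Type u) [CommRing B] [CommRing B'] [Algebra B B']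
variable {A' W : Type u} [CommRing A'] [Algebra B' A'] [CommRing W] [Algebra B W]

variable (e : ∀ Y : Over (Spec (CommRingCat.of B)),
    (Y ⟶ TT B W) ≃ ((Over.pullback (bb B B')).obj Y ⟶ XA B' A'))
  (he : ∀ (Y Z : Over (Spec (CommRingCat.of B))) (h : Y ⟶ Z) (g : Z ⟶ TT B W),
    e Y (h ≫ g) = (Over.pullback (bb B B')).map h ≫ e Z g)

/-- the universal algebra map. -/
noncomputable def uOf : A' →ₐ[B'] B' ⊗[B] W := toAlg B' (e (TT B W) (𝟙 _))

include he in
theorem spec_Phi {D : Type u} [CommRing D] [Algebra B D] (φ : W →ₐ[B] D) :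
    Spec.map (CommRingCat.ofHom ((Phi (uOf B' e) D φ : A' →ₐ[B'] B' ⊗[B] D) : A' →+* B' ⊗[B] D)) =
      (kap B' D).inv ≫ (e (TT B D) (alphaD φ)).left := by
  have h1 : e (TT B D) (alphaD φ) =
      (Over.pullback (bb B B')).map (alphaD φ) ≫ e (TT B W) (𝟙 _) := by
    rw [← he, Category.comp_id]
  rw [h1, Over.comp_left, ← Category.assoc, kap_natural, Category.assoc, ← spec_toAlg,
    ← Spec.map_comp, ← CommRingCat.ofHom_comp]
  rfl

include he in
theorem isUniv_uOf : IsUniv (uOf B' e) := by
  intro D _ _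
  constructor
  · intro φ φ' h
    have h1 := spec_Phi B' e he φ
    have h2 := spec_Phi B' e he φ'
    rw [h] at h1
    have h3 : (e (TT B D) (alphaD φ)).left = (e (TT B D) (alphaD φ')).left := by
      rw [← cancel_epi (kap B' D).inv, ← h1, ← h2]
    have h4 : e (TT B D) (alphaD φ) = e (TT B D) (alphaD φ') := Over.OverMorphism.ext h3
    exact alphaD_injective ((e (TT B D)).injective h4)
  · intro ψ
    obtain ⟨φ, hφ⟩ := alphaD_surjective ((e (TT B D)).symm (ofAlg B' ψ))
    refine ⟨φ, ?_⟩
    apply algHom_ext_of_spec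
    rw [spec_Phi B' e he φ, hφ, Equiv.apply_symm_apply, ofAlg_left, Iso.inv_hom_id_assoc]

theorem q_eq : (e (TT B W) (𝟙 _)).left =
    (kap B' W).hom ≫ Spec.map (CommRingCat.ofHom ((uOf B' e : A' →ₐ[B'] B' ⊗[B] W) :
      A' →+* B' ⊗[B] W)) := by
  unfold uOf
  rw [spec_toAlg, Iso.hom_inv_id_assoc]

end SpecForm


section SpecForm
variable {B : Type u} (B' : Type u) [CommRing B] [CommRing B'] [Algebra B B']
variable {A' W : Type u} [CommRing A'] [Algebra B' A'] [CommRing W] [Algebra B W]

theorem main_spec [IsNoetherianRing B'] [Module.Finite B B'] [Module.Flat B B']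
    [Algebra.Smooth B' A']
    (hA : Function.Surjective (PrimeSpectrum.comap (algebraMap B' A')))
    (e : ∀ Y : Over (Spec (CommRingCat.of B)),
      (Y ⟶ TT B W) ≃ ((Over.pullback (bb B B')).obj Y ⟶ XA B' A'))
    (he : ∀ (Y Z : Over (Spec (CommRingCat.of B))) (h : Y ⟶ Z) (g : Z ⟶ TT B W),
      e Y (h ≫ g) = (Over.pullback (bb B B')).map h ≫ e Z g) :
    Smooth (e (TT B W) (𝟙 _)).left ∧ Surjective (e (TT B W) (𝟙 _)).left := by
  haveI : Algebra.FormallySmooth B' A' := Algebra.Smooth.formallySmooth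
  haveI : Algebra.FinitePresentation B' A' := Algebra.Smooth.finitePresentation
  haveI : Algebra.FiniteType B' A' := inferInstance
  have hu := isUniv_uOf B' e he
  rw [q_eq B' e]
  constructor
  · haveI : Smooth (Spec.map (CommRingCat.ofHom ((uOf B' e : A' →ₐ[B'] B' ⊗[B] W) :
        A' →+* B' ⊗[B] W))) :=
      HasRingHomProperty.Spec_iff.mpr (smooth_of_isUniv (uOf B' e) hu)
    infer_instance
  · haveI : Surjective (Spec.map (CommRingCat.ofHom ((uOf B' e : A' →ₐ[B'] B' ⊗[B] W) :
        A' →+* B' ⊗[B] W))) :=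
      ⟨comap_surjective_of_isUniv hA (uOf B' e) hu⟩
    infer_instance

end SpecForm


section Transport

theorem transport {S S' : Scheme.{u}} (g : S' ⟶ S) {R R₁ : Over S} {X' X₁ : Over S'}
    (j : R₁ ≅ R) (i : X' ≅ X₁)
    (e : ∀ Y : Over S, (Y ⟶ R) ≃ ((Over.pullback g).obj Y ⟶ X'))
    (he : ∀ (Y Z : Over S) (h : Y ⟶ Z) (t : Z ⟶ R),
      e Y (h ≫ t) = (Over.pullback g).map h ≫ e Z t) :
    ∃ e₁ : ∀ Y : Over S, (Y ⟶ R₁) ≃ ((Over.pullback g).obj Y ⟶ X₁),
      (∀ (Y Z : Over S) (h : Y ⟶ Z) (t : Z ⟶ R₁),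
        e₁ Y (h ≫ t) = (Over.pullback g).map h ≫ e₁ Z t) ∧
      (e R (𝟙 R)).left =
        ((Over.pullback g).map j.inv).left ≫ (e₁ R₁ (𝟙 R₁)).left ≫ i.inv.left := by
  refine ⟨fun Y => (j.homToEquiv).trans ((e Y).trans i.homToEquiv), ?_, ?_⟩
  · intro Y Z h t
    change e Y ((h ≫ t) ≫ j.hom) ≫ i.hom = (Over.pullback g).map h ≫ e Z (t ≫ j.hom) ≫ i.hom
    rw [Category.assoc, he, Category.assoc]
  · change _ = ((Over.pullback g).map j.inv).left ≫ (e R₁ (𝟙 R₁ ≫ j.hom) ≫ i.hom).left ≫ i.inv.left
    rw [Category.id_comp]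
    have h1 : e R₁ j.hom = (Over.pullback g).map j.hom ≫ e R (𝟙 R) := by
      rw [← he, Category.comp_id]
    rw [h1, ← Over.comp_left, ← Over.comp_left, Category.assoc, Category.assoc, i.hom_inv_id,
      Category.comp_id, ← Category.assoc, ← CategoryTheory.Functor.map_comp, j.inv_hom_id, CategoryTheory.Functor.map_id,
      Category.id_comp]

end Transport

section AffIso

/-- the algebra structure on global sections of a scheme over `Spec B`. -/
noncomputable abbrev algOver {B : Type u} [CommRing B] (Y : Over (Spec (CommRingCat.of B))) :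
    Algebra B Γ(Y.left, ⊤) :=
  ((Scheme.ΓSpecIso (CommRingCat.of B)).inv ≫ Y.hom.appTop).hom.toAlgebra

/-- an affine scheme over `Spec B` is `Spec` of its algebra of global sections. -/
noncomputable def isoTT {B : Type u} [CommRing B] (Y : Over (Spec (CommRingCat.of B)))
    [IsAffine Y.left] :
    letI := algOver Y
    Y ≅ TT B Γ(Y.left, ⊤) :=
  letI := algOver Y
  Over.isoMk Y.left.isoSpec (by
    change Y.left.toSpecΓ ≫ Spec.map (CommRingCat.ofHom
      ((Scheme.ΓSpecIso (CommRingCat.of B)).inv ≫ Y.hom.appTop).hom) = Y.hom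
    rw [CommRingCat.ofHom_hom, Spec.map_comp, ← Category.assoc, ← Scheme.toSpecΓ_naturality,
      Category.assoc, toSpecΓ_SpecMap_ΓSpecIso_inv, Category.comp_id])

end AffIso


section Main

theorem isFinLocFree_bb (B B' : Type u) [CommRing B] [CommRing B'] [Algebra B B']
    [IsNoetherianRing B] [Module.Finite B B'] [Module.Flat B B'] :
    Mor2.IsFinLocFree (bb B B') := by
  refine ⟨?_, ?_, ?_⟩
  · exact (IsFinite.SpecMap_iff _).mpr (RingHom.finite_algebraMap.mpr inferInstance)
  · exact Flat.SpecMap_iff.mpr (RingHom.flat_algebraMap_iff.mpr inferInstance)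
  · refine (LocallyOfFinitePresentation.SpecMap_iff _).mpr ?_
    have : Algebra.FinitePresentation B B' := Algebra.FinitePresentation.of_finiteType.mp inferInstance
    exact RingHom.finitePresentation_algebraMap.mpr this

theorem algebra_smooth_of_smooth {B' : Type u} [CommRing B']
    (X' : Over (Spec (CommRingCat.of B'))) [IsAffine X'.left] [Smooth X'.hom] :
    letI := algOver X'
    Algebra.Smooth B' Γ(X'.left, ⊤) := by
  letI := algOver X'
  have hw : (isoTT X').inv.left ≫ X'.hom = (XA B' Γ(X'.left, ⊤)).hom := Over.w (isoTT X').inv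
  haveI : IsIso (isoTT X').inv.left := (Over.forget _).map_isIso (isoTT X').inv
  have hs : Smooth (XA B' Γ(X'.left, ⊤)).hom := by
    rw [← hw]
    infer_instance
  exact RingHom.smooth_algebraMap.mp (HasRingHomProperty.Spec_iff.mp hs)

theorem comap_surjective_of_surjective {B' : Type u} [CommRing B']
    (X' : Over (Spec (CommRingCat.of B'))) [IsAffine X'.left] [Surjective X'.hom] :
    letI := algOver X'
    Function.Surjective (PrimeSpectrum.comap (algebraMap B' Γ(X'.left, ⊤))) := by
  letI := algOver X'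
  have hw : (isoTT X').inv.left ≫ X'.hom = (XA B' Γ(X'.left, ⊤)).hom := Over.w (isoTT X').inv
  haveI : IsIso (isoTT X').inv.left := (Over.forget _).map_isIso (isoTT X').inv
  have hs : Surjective (XA B' Γ(X'.left, ⊤)).hom := by
    rw [← hw]
    infer_instance
  exact hs.surj

theorem weil_q_smooth_surjective (B B' : Type u) [CommRing B] [CommRing B'] [Algebra B B']
    [IsNoetherianRing B] [IsNoetherianRing B'] [Module.Finite B B'] [Module.Flat B B']
    (X' : Over (Spec (CommRingCat.of B'))) [IsAffine X'.left] [Smooth X'.hom] [Surjective X'.hom]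
    (R : Over (Spec (CommRingCat.of B)))
    (e : ∀ Y : Over (Spec (CommRingCat.of B)),
      (Y ⟶ R) ≃ ((Over.pullback (bb B B')).obj Y ⟶ X'))
    (he : ∀ (Y Z : Over (Spec (CommRingCat.of B))) (h : Y ⟶ Z) (g : Z ⟶ R),
      e Y (h ≫ g) = (Over.pullback (bb B B')).map h ≫ e Z g) :
    Smooth (e R (𝟙 R)).left ∧ Surjective (e R (𝟙 R)).left := by
  have hfin := isFinLocFree_bb B B'
  let rR : (WeilRes.functor (bb B B') X').RepresentableBy R :=
    { homEquiv := fun {Y} => e Y
      homEquiv_comp := fun h t => he _ _ h t }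
  haveI : IsAffine R.left := isAffine_of_rep (bb B B') hfin X' R rR
  letI := algOver R
  letI := algOver X'
  obtain ⟨e₁, he₁, hq⟩ := transport (bb B B') (isoTT R).symm (isoTT X') e he
  haveI := algebra_smooth_of_smooth X'
  have hsurj := comap_surjective_of_surjective X'
  obtain ⟨h1, h2⟩ := main_spec B' hsurj e₁ he₁
  haveI : IsIso ((Over.pullback (bb B B')).map (isoTT R).symm.inv).left :=
    (Over.forget _).map_isIso ((Over.pullback (bb B B')).map (isoTT R).symm.inv)
  haveI : IsIso (isoTT X').inv.left := (Over.forget _).map_isIso (isoTT X').inv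
  rw [hq]
  constructor <;> infer_instance

end Main

end Groth.Agent.Lib.Helper6.WeilSmDict
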