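import Mathlib
import Groth.Prelude.Def_SGA3x
import Groth.Agent.Lib.Helper6.WeilSmDict
import Groth.Agent.S4101
import Groth.Agent.S5356
import Groth.Prelude.Def_AlgGrp

/-!
# Essential freeness of affine schemes with projective coordinate ring (helper6)
-/

set_option autoImplicit false
set_option linter.unusedSectionVars false
set_option linter.style.haveILetI false
universe u
open scoped TensorProduct
open CategoryTheory CategoryTheory.Limits AlgebraicGeometry Opposite

namespace Groth.Agent.Lib.Helper6.FixedLocus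

open Groth.Agent.Lib.Helper6.WeilSmDict

section Alg

theorem projective_of_ringEquiv_sq {R S M N : Type u} [CommRing R] [CommRing S] [CommRing M]
    [CommRing N] [Algebra R M] [Algebra S N] (α : R ≃+* S) (β : M ≃+* N)
    (h : ∀ r, β (algebraMap R M r) = algebraMap S N (α r)) [Module.Projective R M] :
    Module.Projective S N := by
  letI : RingHomInvPair (α : R →+* S) (α.symm : S →+* R) := RingHomInvPair.of_ringEquiv α
  letI : RingHomInvPair (α.symm : S →+* R) (α : R →+* S) := RingHomInvPair.of_ringEquiv α.symm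
  let e₂ : M ≃ₛₗ[(α : R →+* S)] N :=
    { toFun := β
      map_add' := map_add β
      map_smul' := fun r x => by
        change β (r • x) = (α r) • β x
        rw [Algebra.smul_def, Algebra.smul_def, map_mul, h]
      invFun := β.symm
      left_inv := β.left_inv
      right_inv := β.right_inv }
  exact Module.Projective.of_equiv e₂

end Alg

section EF

/-- essential freeness from a single faithfully flat affine chart. -/
theorem essFree_of_top {S S' X : Scheme.{u}} [IsAffine S] [IsAffine S'] (f : X ⟶ S)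
    (g : S' ⟶ ((⊤ : S.Opens) : Scheme.{u})) [Flat g] [Surjective g]
    (haff : IsAffine (pullback f (g ≫ (⊤ : S.Opens).ι)))
    (hproj : letI := (pullback.snd f (g ≫ (⊤ : S.Opens).ι)).appTop.hom.toAlgebra
      Module.Projective Γ(S', ⊤) Γ(pullback f (g ≫ (⊤ : S.Opens).ι), ⊤)) :
    SGA3x.IsEssentiallyFree f := by
  intro s
  refine ⟨⊤, trivial, isAffineOpen_top S, S', inferInstance, g, inferInstance, inferInstance, ?_⟩
  intro x
  refine ⟨⊤, trivial, isAffineOpen_top _, ?_⟩
  letI a1 : Algebra Γ(S', ⊤) Γ(pullback f (g ≫ (⊤ : S.Opens).ι), ⊤) :=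
    (pullback.snd f (g ≫ (⊤ : S.Opens).ι)).appTop.hom.toAlgebra
  letI a2 : Algebra Γ(S', ⊤)
      Γ(((⊤ : (pullback f (g ≫ (⊤ : S.Opens).ι)).Opens) : Scheme.{u}), ⊤) :=
    ((⊤ : (pullback f (g ≫ (⊤ : S.Opens).ι)).Opens).ι ≫
      pullback.snd f (g ≫ (⊤ : S.Opens).ι)).appTop.hom.toAlgebra
  haveI := hproj
  haveI : IsIso (⊤ : (pullback f (g ≫ (⊤ : S.Opens).ι)).Opens).ι :=
    (Scheme.topIso _).isIso_hom
  haveI : IsIso (⊤ : (pullback f (g ≫ (⊤ : S.Opens).ι)).Opens).ι.appTop :=
    inferInstanceAs (IsIso (Scheme.Γ.map (⊤ : (pullback f (g ≫ (⊤ : S.Opens).ι)).Opens).ι.op))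
  let β : Γ(pullback f (g ≫ (⊤ : S.Opens).ι), ⊤) ≃+*
      Γ(((⊤ : (pullback f (g ≫ (⊤ : S.Opens).ι)).Opens) : Scheme.{u}), ⊤) :=
    (asIso (⊤ : (pullback f (g ≫ (⊤ : S.Opens).ι)).Opens).ι.appTop).commRingCatIsoToRingEquiv
  exact projective_of_ringEquiv_sq (RingEquiv.refl _) β (fun r => by
    change ((pullback.snd f (g ≫ (⊤ : S.Opens).ι)).appTop ≫
      (⊤ : (pullback f (g ≫ (⊤ : S.Opens).ι)).Opens).ι.appTop).hom r =
      ((⊤ : (pullback f (g ≫ (⊤ : S.Opens).ι)).Opens).ι ≫
        pullback.snd f (g ≫ (⊤ : S.Opens).ι)).appTop.hom r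
    rw [← Scheme.Hom.comp_appTop])

end EF


section Proj

theorem essFree_of_projective (k : Type u) [CommRing k] (H : Over (Spec (CommRingCat.of k)))
    (A : Type u) [CommRing A] [Algebra k A] (eA : H.left ≅ Spec (CommRingCat.of A))
    (heA : eA.hom ≫ Spec.map (CommRingCat.ofHom (algebraMap k A)) = H.hom)
    (k' : Type u) [CommRing k'] [Algebra k k'] [Module.FaithfullyFlat k k']
    [Module.Projective k' (k' ⊗[k] A)] :
    SGA3x.IsEssentiallyFree H.hom := by
  let S := Spec (CommRingCat.of k)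
  haveI : Flat (Spec.map (CommRingCat.ofHom (algebraMap k k'))) :=
    Flat.SpecMap_iff.mpr (RingHom.flat_algebraMap_iff.mpr inferInstance)
  haveI : Surjective (Spec.map (CommRingCat.ofHom (algebraMap k k'))) :=
    ⟨PrimeSpectrum.comap_surjective_of_faithfullyFlat⟩
  let g : Spec (CommRingCat.of k') ⟶ ((⊤ : S.Opens) : Scheme.{u}) :=
    Spec.map (CommRingCat.ofHom (algebraMap k k')) ≫ (Scheme.topIso S).inv
  have hg : g ≫ (⊤ : S.Opens).ι = Spec.map (CommRingCat.ofHom (algebraMap k k')) := by
    change (Spec.map (CommRingCat.ofHom (algebraMap k k')) ≫ (Scheme.topIso S).inv) ≫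
      (⊤ : S.Opens).ι = _
    rw [Category.assoc, Scheme.toIso_inv_ι, Category.comp_id]
  have key : ∀ (q : Spec (CommRingCat.of k') ⟶ S)
      (_ : q = Spec.map (CommRingCat.ofHom (algebraMap k k'))),
      IsAffine (pullback H.hom q) ∧
        (letI := (pullback.snd H.hom q).appTop.hom.toAlgebra
         Module.Projective Γ(Spec (CommRingCat.of k'), ⊤) Γ(pullback H.hom q, ⊤)) := by
    intro q hq
    subst hq
    let ψ : pullback H.hom (Spec.map (CommRingCat.ofHom (algebraMap k k'))) ⟶
        pullback (Spec.map (CommRingCat.ofHom (algebraMap k A)))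
          (Spec.map (CommRingCat.ofHom (algebraMap k k'))) :=
      pullback.map _ _ _ _ eA.hom (𝟙 _) (𝟙 _) (by rw [Category.comp_id, heA]) (by simp)
    haveI : IsIso ψ := by dsimp only [ψ]; infer_instance
    let θ : pullback H.hom (Spec.map (CommRingCat.ofHom (algebraMap k k'))) ≅
        Spec (CommRingCat.of (k' ⊗[k] A)) := asIso ψ ≪≫ kap k' A
    have hθ : pullback.snd H.hom (Spec.map (CommRingCat.ofHom (algebraMap k k'))) =
        θ.hom ≫ Spec.map (CommRingCat.ofHom (algebraMap k' (k' ⊗[k] A))) := by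
      rw [← kap_inv_snd]
      change _ = (ψ ≫ (kap k' A).hom) ≫ (kap k' A).inv ≫ pullback.snd _ _
      rw [Category.assoc, Iso.hom_inv_id_assoc]
      change _ = pullback.map _ _ _ _ eA.hom (𝟙 _) (𝟙 _) _ _ ≫ pullback.snd _ _
      rw [pullback.lift_snd, Category.comp_id]
    refine ⟨IsAffine.of_isIso θ.hom, ?_⟩
    haveI : IsIso θ.hom.appTop := inferInstanceAs (IsIso (Scheme.Γ.map θ.hom.op))
    letI : Algebra Γ(Spec (CommRingCat.of k'), ⊤)
        Γ(pullback H.hom (Spec.map (CommRingCat.ofHom (algebraMap k k'))), ⊤) :=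
      (pullback.snd H.hom (Spec.map (CommRingCat.ofHom (algebraMap k k')))).appTop.hom.toAlgebra
    let α : k' ≃+* Γ(Spec (CommRingCat.of k'), ⊤) :=
      (Scheme.ΓSpecIso (CommRingCat.of k')).symm.commRingCatIsoToRingEquiv
    let β : (k' ⊗[k] A) ≃+*
        Γ(pullback H.hom (Spec.map (CommRingCat.ofHom (algebraMap k k'))), ⊤) :=
      ((Scheme.ΓSpecIso (CommRingCat.of (k' ⊗[k] A))).symm ≪≫
        asIso θ.hom.appTop).commRingCatIsoToRingEquiv
    refine projective_of_ringEquiv_sq α β (fun r => ?_)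
    have e : CommRingCat.ofHom (algebraMap k' (k' ⊗[k] A)) ≫
        (Scheme.ΓSpecIso (CommRingCat.of (k' ⊗[k] A))).inv ≫ θ.hom.appTop =
        (Scheme.ΓSpecIso (CommRingCat.of k')).inv ≫
          (pullback.snd H.hom (Spec.map (CommRingCat.ofHom (algebraMap k k')))).appTop := by
      rw [hθ, Scheme.Hom.comp_appTop, ← Category.assoc, Scheme.ΓSpecIso_inv_naturality,
        Category.assoc]
    exact congrArg (fun f => f.hom r) e
  obtain ⟨h1, h2⟩ := key (g ≫ (⊤ : S.Opens).ι) hg
  exact essFree_of_top H.hom g h1 h2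

end Proj


section Fixed
open MonoidalCategory CartesianMonoidalCategory MonObj
open Groth.Agent.Lib.Helper6.EssFreeLocal

variable {S : Scheme.{u}} (H Y : Over S) [GrpObj H] (a : AlgGrp.Action H Y)

theorem fixed_closed (hEF : SGA3x.IsEssentiallyFree H.hom) [IsSeparated Y.hom] :
    ∃ (Z : Over S) (z : Z ⟶ Y), IsClosedImmersion z.left ∧
      ∀ (X : Over S) (y : X ⟶ Y), (∃ w : X ⟶ Z, w ≫ z = y) ↔
        ∀ (X' : Over S) (x : X' ⟶ X) (h : X' ⟶ H), lift h (x ≫ y) ≫ a.act = x ≫ y := by
  let f : (H ⊗ Y).left ⟶ Y.left := (snd H Y).left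
  have hEF' : SGA3x.IsEssentiallyFree f :=
    Groth.Agent.S5356.result.2.2.2 _ _ _ H.hom Y.hom hEF
  have hd : a.act.left ≫ Y.hom = f ≫ Y.hom := by
    rw [Over.w a.act, Over.w (snd H Y)]
  let d : (H ⊗ Y).left ⟶ pullback Y.hom Y.hom := pullback.lift a.act.left f hd
  let j : pullback (pullback.diagonal Y.hom) d ⟶ (H ⊗ Y).left :=
    pullback.snd (pullback.diagonal Y.hom) d
  haveI : IsClosedImmersion j := by dsimp only [j]; infer_instance
  have hj : ∀ {W : Scheme.{u}} (w : W ⟶ (H ⊗ Y).left), Fac j w ↔ w ≫ a.act.left = w ≫ f := by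
    intro W w
    constructor
    · rintro ⟨l, rfl⟩
      have h1 : (l ≫ j) ≫ d = (l ≫ pullback.fst (pullback.diagonal Y.hom) d) ≫
          pullback.diagonal Y.hom := by
        rw [Category.assoc, Category.assoc, pullback.condition]
      have h2 := congrArg (fun m => m ≫ pullback.fst Y.hom Y.hom) h1
      have h3 := congrArg (fun m => m ≫ pullback.snd Y.hom Y.hom) h1
      simp only [Category.assoc, pullback.diagonal_fst, pullback.diagonal_snd, Category.comp_id,
        d, pullback.lift_fst, pullback.lift_snd] at h2 h3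
      rw [Category.assoc, Category.assoc, h2, h3]
    · intro hw
      refine ⟨pullback.lift (w ≫ a.act.left) w ?_, pullback.lift_snd _ _ _⟩
      apply pullback.hom_ext
      · simp only [Category.assoc, pullback.diagonal_fst, Category.comp_id, d, pullback.lift_fst]
      · simp only [Category.assoc, pullback.diagonal_snd, Category.comp_id, d, pullback.lift_snd]
        exact hw
  obtain ⟨T, t, htci, hT, -⟩ := Groth.Agent.S4101.result Y.left (H ⊗ Y).left _ f hEF' j
  refine ⟨Over.mk (t ≫ Y.hom), Over.homMk t rfl, htci, ?_⟩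
  intro X y
  have e1 : (∃ w : X ⟶ Over.mk (t ≫ Y.hom), w ≫ Over.homMk t rfl = y) ↔
      ∃ g' : X.left ⟶ T, g' ≫ t = y.left := by
    constructor
    · rintro ⟨w, rfl⟩
      exact ⟨w.left, rfl⟩
    · rintro ⟨g', hg'⟩
      refine ⟨Over.homMk g' ?_, Over.OverMorphism.ext hg'⟩
      change g' ≫ t ≫ Y.hom = X.hom
      rw [← Category.assoc, hg', Over.w y]
  rw [e1, hT, ← fac_iff_isIso, hj]
  constructor
  · intro E X' x h
    let m : X' ⟶ H ⊗ Y := lift h (x ≫ y)
    have hm : m.left ≫ f = x.left ≫ y.left := by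
      change (m ≫ snd H Y).left = (x ≫ y).left
      rw [lift_snd]
    let u : X'.left ⟶ pullback f y.left := pullback.lift m.left x.left hm
    have hu : u ≫ pullback.fst f y.left = m.left := pullback.lift_fst _ _ _
    apply Over.OverMorphism.ext
    change m.left ≫ a.act.left = (x ≫ y).left
    rw [← hu, Category.assoc, E, ← Category.assoc, hu, hm]
    rfl
  · intro hyp
    have hP : (pullback.fst f y.left ≫ (fst H Y).left) ≫ H.hom =
        pullback.snd f y.left ≫ X.hom := by
      rw [Category.assoc, Over.w (fst H Y), ← Over.w (snd H Y), ← Category.assoc,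
        pullback.condition, Category.assoc, Over.w y]
    let P : Over S := Over.mk (pullback.snd f y.left ≫ X.hom)
    let x : P ⟶ X := Over.homMk (pullback.snd f y.left) rfl
    let h : P ⟶ H := Over.homMk (pullback.fst f y.left ≫ (fst H Y).left) hP
    have hm₀ : pullback.fst f y.left ≫ (H ⊗ Y).hom = pullback.snd f y.left ≫ X.hom := by
      rw [← Over.w (snd H Y), ← Category.assoc, pullback.condition, Category.assoc, Over.w y]
    let m₀ : P ⟶ H ⊗ Y := Over.homMk (pullback.fst f y.left) hm₀
    have hlift : lift h (x ≫ y) = m₀ := by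
      apply CartesianMonoidalCategory.hom_ext
      · rw [lift_fst]
        apply Over.OverMorphism.ext
        rfl
      · rw [lift_snd]
        apply Over.OverMorphism.ext
        change pullback.snd f y.left ≫ y.left = pullback.fst f y.left ≫ f
        exact pullback.condition.symm
    have h1 := congrArg (fun m => m.left) (hyp P x h)
    rw [hlift] at h1
    change pullback.fst f y.left ≫ a.act.left = pullback.snd f y.left ≫ y.left at h1
    rw [h1, pullback.condition]

end Fixed

end Groth.Agent.Lib.Helper6.FixedLocus
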