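import Mathlib
import Groth.Agent.Lib.Helper6.FixedLocus
import Groth.Agent.Lib.Helper6.FreeOpens

/-!
# Fixed loci: essential freeness from local charts, and a general closedness criterion (helper6)
-/

set_option autoImplicit false
set_option linter.unusedSectionVars false
set_option linter.style.haveILetI false
universe u
open scoped TensorProduct
open CategoryTheory CategoryTheory.Limits AlgebraicGeometry Opposite

namespace Groth.Agent.Lib.Helper6.FixedLocus2

open Groth.Agent.Lib.Helper6.FixedLocus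

section EF

/-- the covering condition in the definition of essential freeness, for an affine total space. -/
theorem cover_of_affine_projective {S S' X : Scheme.{u}} (f : X ⟶ S) (q : S' ⟶ S)
    (haff : IsAffine (pullback f q))
    (hproj : letI := (pullback.snd f q).appTop.hom.toAlgebra
      Module.Projective Γ(S', ⊤) Γ(pullback f q, ⊤)) :
    ∀ x : ↥(pullback f q), ∃ V : (pullback f q).Opens, x ∈ V ∧ IsAffineOpen V ∧
      (letI := (V.ι ≫ pullback.snd f q).appTop.hom.toAlgebra
       Module.Projective Γ(S', ⊤) Γ(↑V, ⊤)) := by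
  intro x
  refine ⟨⊤, trivial, isAffineOpen_top _, ?_⟩
  letI a1 : Algebra Γ(S', ⊤) Γ(pullback f q, ⊤) := (pullback.snd f q).appTop.hom.toAlgebra
  letI a2 : Algebra Γ(S', ⊤) Γ(((⊤ : (pullback f q).Opens) : Scheme.{u}), ⊤) :=
    ((⊤ : (pullback f q).Opens).ι ≫ pullback.snd f q).appTop.hom.toAlgebra
  haveI := hproj
  haveI : IsIso (⊤ : (pullback f q).Opens).ι := (Scheme.topIso _).isIso_hom
  haveI : IsIso (⊤ : (pullback f q).Opens).ι.appTop :=
    inferInstanceAs (IsIso (Scheme.Γ.map (⊤ : (pullback f q).Opens).ι.op))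
  let β : Γ(pullback f q, ⊤) ≃+* Γ(((⊤ : (pullback f q).Opens) : Scheme.{u}), ⊤) :=
    (asIso (⊤ : (pullback f q).Opens).ι.appTop).commRingCatIsoToRingEquiv
  exact projective_of_ringEquiv_sq (RingEquiv.refl _) β (fun r => by
    change ((pullback.snd f q).appTop ≫ (⊤ : (pullback f q).Opens).ι.appTop).hom r =
      ((⊤ : (pullback f q).Opens).ι ≫ pullback.snd f q).appTop.hom r
    rw [← Scheme.Hom.comp_appTop])

/-- essential freeness from Zariski charts. -/
theorem essFree_of_charts {S X : Scheme.{u}} (f : X ⟶ S)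
    (h : ∀ s : S, ∃ W : S.Opens, s ∈ W ∧ IsAffineOpen W ∧ IsAffine (pullback f W.ι) ∧
      (letI := (pullback.snd f W.ι).appTop.hom.toAlgebra
       Module.Projective Γ((W : Scheme.{u}), ⊤) Γ(pullback f W.ι, ⊤))) :
    SGA3x.IsEssentiallyFree f := by
  intro s
  obtain ⟨W, hsW, hWaff, haff, hproj⟩ := h s
  haveI : IsAffine (W : Scheme.{u}) := hWaff
  refine ⟨W, hsW, hWaff, (W : Scheme.{u}), inferInstance, 𝟙 _, inferInstance, inferInstance, ?_⟩
  have key : ∀ (q : (W : Scheme.{u}) ⟶ S) (_ : q = W.ι),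
      ∀ x : ↥(pullback f q), ∃ V : (pullback f q).Opens, x ∈ V ∧ IsAffineOpen V ∧
        (letI := (V.ι ≫ pullback.snd f q).appTop.hom.toAlgebra
         Module.Projective Γ((W : Scheme.{u}), ⊤) Γ(↑V, ⊤)) := by
    intro q hq
    subst hq
    exact cover_of_affine_projective f W.ι haff hproj
  exact key (𝟙 _ ≫ W.ι) (Category.id_comp _)

theorem isIso_presheaf_map {X : Scheme.{u}} {V V' : X.Opens} (e : V = V') (m : op V ⟶ op V') :
    IsIso (X.presheaf.map m) := by
  subst e
  have : m = 𝟙 _ := Quiver.Hom.unop_inj (Subsingleton.elim _ _)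
  rw [this, CategoryTheory.Functor.map_id]
  infer_instance

/-- conversion of a projectivity statement on sections over `U` to the pullback chart. -/
theorem chart_of_app {S Z : Scheme.{u}} (g : Z ⟶ S) [IsAffineHom g] {U : S.Opens}
    (hU : IsAffineOpen U)
    (hproj : letI := (g.app U).hom.toAlgebra
      Module.Projective Γ(S, U) Γ(Z, g ⁻¹ᵁ U)) :
    IsAffine (pullback g U.ι) ∧
      (letI := (pullback.snd g U.ι).appTop.hom.toAlgebra
       Module.Projective Γ((U : Scheme.{u}), ⊤) Γ(pullback g U.ι, ⊤)) := by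
  haveI : IsAffine (U : Scheme.{u}) := hU
  haveI haff : IsAffine (pullback g U.ι) := isAffine_of_isAffineHom (pullback.snd g U.ι)
  refine ⟨haff, ?_⟩
  have H := IsPullback.of_hasPullback g U.ι
  have hUST : (⊤ : (U : Scheme.{u}).Opens) ≤ U.ι ⁻¹ᵁ U := by
    intro x _
    exact x.2
  have hUY : (⊤ : (pullback g U.ι).Opens) =
      pullback.fst g U.ι ⁻¹ᵁ (g ⁻¹ᵁ U) ⊓ pullback.snd g U.ι ⁻¹ᵁ ⊤ := by
    rw [← Scheme.Hom.comp_preimage, pullback.condition, Scheme.Hom.comp_preimage]
    have : U.ι ⁻¹ᵁ U = ⊤ := top_le_iff.mp hUST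
    rw [this]
    simp
  have hiso := isIso_pushoutSection_of_isAffineOpen H (US := U) (UT := ⊤) (UX := g ⁻¹ᵁ U)
    (hUST := hUST) (hUSX := le_rfl) hUY hU (isAffineOpen_top _) (hU.preimage g)
  have hpo := (isIso_pushoutSection_iff H (US := U) (UT := ⊤) (UX := g ⁻¹ᵁ U)
    (hUST := hUST) (hUSX := le_rfl) hUY).mp hiso
  have e1 : g.appLE U (g ⁻¹ᵁ U) le_rfl = g.app U := Scheme.Hom.appLE_eq_app _
  have e2 : (pullback.snd g U.ι).appLE ⊤ ⊤ (by simp) = (pullback.snd g U.ι).appTop := by
    change (pullback.snd g U.ι).app ⊤ ≫ (pullback g U.ι).presheaf.map (𝟙 _) = _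
    rw [CategoryTheory.Functor.map_id, Category.comp_id]
  -- the restriction `Γ(S, U) ⟶ Γ(U, ⊤)` is an isomorphism
  haveI hρ : IsIso (U.ι.appLE U ⊤ hUST) := by
    have h1 : U.ι ''ᵁ (⊤ : (U : Scheme.{u}).Opens) = U := U.ι_image_top
    have h2 : U.ι ⁻¹ᵁ U = ⊤ := top_le_iff.mp hUST
    have h3 : U.ι ''ᵁ U.ι ⁻¹ᵁ U = U := by rw [h2, h1]
    unfold Scheme.Hom.appLE
    rw [Scheme.Opens.ι_app, Scheme.Opens.toScheme_presheaf_map]
    refine @IsIso.comp_isIso _ _ _ _ _ _ _ ?_ ?_
    · exact isIso_presheaf_map h3.symm _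
    · exact isIso_presheaf_map (by rw [h2]) _
  haveI hl := hpo.isIso_inl_of_isIso
  rw [e1, e2] at hpo
  letI : Algebra Γ(S, U) Γ(Z, g ⁻¹ᵁ U) := (g.app U).hom.toAlgebra
  letI : Algebra Γ((U : Scheme.{u}), ⊤) Γ(pullback g U.ι, ⊤) :=
    (pullback.snd g U.ι).appTop.hom.toAlgebra
  haveI := hproj
  exact projective_of_ringEquiv_sq (asIso (U.ι.appLE U ⊤ hUST)).commRingCatIsoToRingEquiv
    (asIso ((pullback.fst g U.ι).appLE (g ⁻¹ᵁ U) ⊤ _)).commRingCatIsoToRingEquiv
    (fun r => congrArg (fun m => m.hom r) hpo.w)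

end EF


section Fixed
open MonoidalCategory CartesianMonoidalCategory MonObj
open Groth.Agent.Lib.Helper6.EssFreeLocal

variable {S : Scheme.{u}} (H Y : Over S) (act : H ⊗ Y ⟶ Y)

/-- the map `(act, pr₂) : H × Y ⟶ Y ×_S Y`. -/
noncomputable def dMap : (H ⊗ Y).left ⟶ pullback Y.hom Y.hom :=
  pullback.lift act.left (snd H Y).left (by rw [Over.w act, Over.w (snd H Y)])

/-- the equaliser of `act` and `pr₂`. -/
noncomputable def jMap : pullback (pullback.diagonal Y.hom) (dMap H Y act) ⟶ (H ⊗ Y).left :=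
  pullback.snd (pullback.diagonal Y.hom) (dMap H Y act)

theorem fac_jMap_iff {W : Scheme.{u}} (w : W ⟶ (H ⊗ Y).left) :
    Fac (jMap H Y act) w ↔ w ≫ act.left = w ≫ (snd H Y).left := by
  constructor
  · rintro ⟨l, rfl⟩
    have h1 : (l ≫ jMap H Y act) ≫ dMap H Y act =
        (l ≫ pullback.fst (pullback.diagonal Y.hom) (dMap H Y act)) ≫
          pullback.diagonal Y.hom := by
      rw [Category.assoc, Category.assoc, jMap, pullback.condition]
    have h2 := congrArg (fun m => m ≫ pullback.fst Y.hom Y.hom) h1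
    have h3 := congrArg (fun m => m ≫ pullback.snd Y.hom Y.hom) h1
    simp only [Category.assoc, pullback.diagonal_fst, pullback.diagonal_snd, Category.comp_id,
      dMap, pullback.lift_fst, pullback.lift_snd] at h2 h3
    exact h2.trans h3.symm
  · intro hw
    refine ⟨pullback.lift (w ≫ act.left) w ?_, pullback.lift_snd _ _ _⟩
    apply pullback.hom_ext
    · simp only [Category.assoc, pullback.diagonal_fst, Category.comp_id, dMap, pullback.lift_fst]
    · simp only [Category.assoc, pullback.diagonal_snd, Category.comp_id, dMap, pullback.lift_snd]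
      exact hw

theorem fixed_closed_of_act (hEF : SGA3x.IsEssentiallyFree H.hom)
    [IsClosedImmersion (jMap H Y act)] :
    ∃ (Z : Scheme.{u}) (t : Z ⟶ Y.left), IsClosedImmersion t ∧
      ∀ (X : Over S) (y : X ⟶ Y), (∃ g' : X.left ⟶ Z, g' ≫ t = y.left) ↔
        ∀ (X' : Over S) (x : X' ⟶ X) (h : X' ⟶ H), lift h (x ≫ y) ≫ act = x ≫ y := by
  let f : (H ⊗ Y).left ⟶ Y.left := (snd H Y).left
  have hEF' : SGA3x.IsEssentiallyFree f :=
    Groth.Agent.S5356.result.2.2.2 _ _ _ H.hom Y.hom hEF
  obtain ⟨T, t, htci, hT, -⟩ := Groth.Agent.S4101.result Y.left (H ⊗ Y).left _ f hEF'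
    (jMap H Y act)
  refine ⟨T, t, htci, ?_⟩
  intro X y
  rw [hT, ← fac_iff_isIso, fac_jMap_iff]
  constructor
  · intro E X' x h
    let m : X' ⟶ H ⊗ Y := lift h (x ≫ y)
    have hm : m.left ≫ f = x.left ≫ y.left := by
      change (m ≫ snd H Y).left = (x ≫ y).left
      rw [lift_snd]
    let u : X'.left ⟶ pullback f y.left := pullback.lift m.left x.left hm
    have hu : u ≫ pullback.fst f y.left = m.left := pullback.lift_fst _ _ _
    apply Over.OverMorphism.ext
    change m.left ≫ act.left = (x ≫ y).left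
    rw [← hu, Category.assoc, E, ← Category.assoc, hu, hm]
    rfl
  · intro hyp
    have hP : (pullback.fst f y.left ≫ (fst H Y).left) ≫ H.hom =
        pullback.snd f y.left ≫ X.hom := by
      rw [Category.assoc, Over.w (fst H Y), ← Over.w (snd H Y), ← Category.assoc,
        pullback.condition, Category.assoc, Over.w y]
    let P : Over S := Over.mk (pullback.snd f y.left ≫ X.hom)
    let x : P ⟶ X := Over.homMk (pullback.snd f y.left) rfl
    let h : P ⟶ H := Over.homMk (pullback.fst f y.left ≫ (fst H Y).left) hP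
    have hm₀ : pullback.fst f y.left ≫ (H ⊗ Y).hom = pullback.snd f y.left ≫ X.hom := by
      rw [← Over.w (snd H Y), ← Category.assoc, pullback.condition, Category.assoc, Over.w y]
    let m₀ : P ⟶ H ⊗ Y := Over.homMk (pullback.fst f y.left) hm₀
    have hlift : lift h (x ≫ y) = m₀ := by
      apply CartesianMonoidalCategory.hom_ext
      · rw [lift_fst]
        apply Over.OverMorphism.ext
        rfl
      · rw [lift_snd]
        apply Over.OverMorphism.ext
        change pullback.snd f y.left ≫ y.left = pullback.fst f y.left ≫ f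
        exact pullback.condition.symm
    have h1 := congrArg (fun m => m.left) (hyp P x h)
    rw [hlift] at h1
    change pullback.fst f y.left ≫ act.left = pullback.snd f y.left ≫ y.left at h1
    rw [h1, pullback.condition]

instance jMap_closed_of_separated [IsSeparated Y.hom] : IsClosedImmersion (jMap H Y act) := by
  unfold jMap
  infer_instance

/-- an action-like map of an infinitesimal pointed scheme: the equaliser is closed. -/
theorem jMap_closed_of_infinitesimal (e : 𝟙_ (Over S) ⟶ H) (he : (e ▷ Y) ≫ act = (λ_ Y).hom)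
    [Surjective e.left] : IsClosedImmersion (jMap H Y act) := by
  haveI : IsImmersion (jMap H Y act) := by
    unfold jMap
    infer_instance
  apply IsClosedImmersion.of_isPreimmersion
  have hsurj : Function.Surjective (jMap H Y act).base := by
    -- `(e ▷ Y).left` is surjective and factors through `jMap`
    have h1 : (e ▷ Y) ≫ act = (e ▷ Y) ≫ snd H Y := by
      rw [he, whiskerRight_snd]
      rfl
    have h2 : Fac (jMap H Y act) (e ▷ Y).left :=
      (fac_jMap_iff H Y act _).mpr (congrArg (fun m => m.left) h1)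
    obtain ⟨l, hl⟩ := h2
    have h3 : Function.Surjective (e ▷ Y).left.base := by
      have t : IsPullback (snd H Y).left (fst H Y).left Y.hom H.hom :=
        (IsPullback.of_hasPullback H.hom Y.hom).flip
      have s : IsPullback ((e ▷ Y).left ≫ (snd H Y).left) (fst (𝟙_ (Over S)) Y).left Y.hom
          (e.left ≫ H.hom) := by
        have e1 : (e ▷ Y).left ≫ (snd H Y).left = (snd (𝟙_ (Over S)) Y).left := by
          rw [← Over.comp_left, whiskerRight_snd]
        have e2 : e.left ≫ H.hom = 𝟙 S := Over.w e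
        rw [e1, e2]
        exact (IsPullback.of_hasPullback (𝟙 S) Y.hom).flip
      have p : (e ▷ Y).left ≫ (fst H Y).left = (fst (𝟙_ (Over S)) Y).left ≫ e.left := by
        rw [← Over.comp_left, whiskerRight_fst, Over.comp_left]
      have sq := IsPullback.of_right s p t
      have hs : Surjective (e ▷ Y).left :=
        MorphismProperty.of_isPullback (P := @Surjective) sq.flip inferInstance
      exact hs.surj
    intro p
    obtain ⟨p₀, hp₀⟩ := h3 p
    refine ⟨l.base p₀, ?_⟩
    rw [← hp₀, ← hl]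
    rfl
  rw [Set.range_eq_univ.mpr hsurj]
  exact isClosed_univ

end Fixed

end Groth.Agent.Lib.Helper6.FixedLocus2
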