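import Mathlib
import Groth.Prelude.Def_SGA3x
import Groth.Agent.S5356
import Groth.Agent.Lib.Helper6.FixedLocus2

set_option autoImplicit false
set_option linter.unusedSectionVars false
set_option linter.style.haveILetI false
universe u
open scoped TensorProduct
open CategoryTheory CategoryTheory.Limits AlgebraicGeometry Opposite

namespace Groth.Agent.Lib.Helper6.MultTypeClosed

open Groth.Agent.Lib.Helper6.FixedLocus Groth.Agent.Lib.Helper6.FixedLocus2

section Generic

/-- essential freeness from Zariski charts, cover form. -/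
theorem essFree_of_charts' {S X : Scheme.{u}} (f : X ⟶ S)
    (h : ∀ s : S, ∃ W : S.Opens, s ∈ W ∧ IsAffineOpen W ∧
      ∀ x : ↥(pullback f W.ι), ∃ V : (pullback f W.ι).Opens, x ∈ V ∧ IsAffineOpen V ∧
        (letI := (V.ι ≫ pullback.snd f W.ι).appTop.hom.toAlgebra
         Module.Projective Γ((W : Scheme.{u}), ⊤) Γ(↑V, ⊤))) :
    SGA3x.IsEssentiallyFree f := by
  intro s
  obtain ⟨W, hsW, hWaff, hcov⟩ := h s
  haveI : IsAffine (W : Scheme.{u}) := hWaff
  refine ⟨W, hsW, hWaff, (W : Scheme.{u}), inferInstance, 𝟙 _, inferInstance, inferInstance, ?_⟩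
  have key : ∀ (q : (W : Scheme.{u}) ⟶ S) (_ : q = W.ι),
      ∀ x : ↥(pullback f q), ∃ V : (pullback f q).Opens, x ∈ V ∧ IsAffineOpen V ∧
        (letI := (V.ι ≫ pullback.snd f q).appTop.hom.toAlgebra
         Module.Projective Γ((W : Scheme.{u}), ⊤) Γ(↑V, ⊤)) := by
    intro q hq
    subst hq
    exact hcov
  exact key (𝟙 _ ≫ W.ι) (Category.id_comp _)

/-- projectivity of global sections passes to the top open. -/
theorem top_proj {P B : Scheme.{u}} (q : P ⟶ B)
    (hproj : letI := q.appTop.hom.toAlgebra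
      Module.Projective Γ(B, ⊤) Γ(P, ⊤)) :
    (letI := ((⊤ : P.Opens).ι ≫ q).appTop.hom.toAlgebra
     Module.Projective Γ(B, ⊤) Γ(((⊤ : P.Opens) : Scheme.{u}), ⊤)) := by
  letI a1 : Algebra Γ(B, ⊤) Γ(P, ⊤) := q.appTop.hom.toAlgebra
  letI a2 : Algebra Γ(B, ⊤) Γ(((⊤ : P.Opens) : Scheme.{u}), ⊤) :=
    ((⊤ : P.Opens).ι ≫ q).appTop.hom.toAlgebra
  haveI := hproj
  haveI : IsIso (⊤ : P.Opens).ι := (Scheme.topIso _).isIso_hom
  haveI : IsIso (⊤ : P.Opens).ι.appTop :=
    inferInstanceAs (IsIso (Scheme.Γ.map (⊤ : P.Opens).ι.op))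
  let β : Γ(P, ⊤) ≃+* Γ(((⊤ : P.Opens) : Scheme.{u}), ⊤) :=
    (asIso (⊤ : P.Opens).ι.appTop).commRingCatIsoToRingEquiv
  exact projective_of_ringEquiv_sq (RingEquiv.refl _) β (fun r => by
    change (q.appTop ≫ (⊤ : P.Opens).ι.appTop).hom r = ((⊤ : P.Opens).ι ≫ q).appTop.hom r
    rw [← Scheme.Hom.comp_appTop])

/-- projectivity for a morphism of spectra. -/
theorem spec_proj {R B : Type u} [CommRing R] [CommRing B] [Algebra R B] [Module.Projective R B] :
    (letI := (Spec.map (CommRingCat.ofHom (algebraMap R B))).appTop.hom.toAlgebra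
     Module.Projective Γ(Spec (CommRingCat.of R), ⊤) Γ(Spec (CommRingCat.of B), ⊤)) := by
  letI := (Spec.map (CommRingCat.ofHom (algebraMap R B))).appTop.hom.toAlgebra
  exact projective_of_ringEquiv_sq
    (Scheme.ΓSpecIso (CommRingCat.of R)).symm.commRingCatIsoToRingEquiv
    (Scheme.ΓSpecIso (CommRingCat.of B)).symm.commRingCatIsoToRingEquiv (fun r => by
      have := Scheme.ΓSpecIso_inv_naturality (CommRingCat.ofHom (algebraMap R B))
      exact (congrArg (fun m => m.hom r) this))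

end Generic

end Groth.Agent.Lib.Helper6.MultTypeClosed
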