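import Mathlib
import Groth.Prelude.Def_SGA3x
import Groth.Agent.S5356
import Groth.Agent.Lib.Helper6.FixedLocus2
import Groth.Agent.Lib.Helper6.MT1

set_option autoImplicit false
set_option linter.unusedSectionVars false
set_option linter.style.haveILetI false
universe u
open scoped TensorProduct
open CategoryTheory CategoryTheory.Limits AlgebraicGeometry Opposite

namespace Groth.Agent.Lib.Helper6.MultTypeClosed

open Groth.Agent.Lib.Helper6.FixedLocus Groth.Agent.Lib.Helper6.FixedLocus2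

section MT
open MonoidalCategory CartesianMonoidalCategory MonObj

variable {S : Scheme.{u}}


/-- a chart of a locally diagonalisable group. -/
theorem chart_of_iso {S' : Scheme.{u}} (φ : S' ⟶ S) (H : Over S) (U A : S'.Opens) (hAU : A ≤ U)
    (hA : IsAffineOpen A) (M : Type) [AddCommGroup M]
    (e : Red.bc (U.ι ≫ φ) H ≅ Red.DS (U : Scheme.{u}) M) :
    ∀ x : ↥(pullback (pullback.snd H.hom φ) A.ι),
      ∃ V : (pullback (pullback.snd H.hom φ) A.ι).Opens, x ∈ V ∧ IsAffineOpen V ∧
        (letI := (V.ι ≫ pullback.snd (pullback.snd H.hom φ) A.ι).appTop.hom.toAlgebra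
         Module.Projective Γ((A : Scheme.{u}), ⊤) Γ(↑V, ⊤)) := by
  haveI : IsAffine (A : Scheme.{u}) := hA
  let h' := pullback.snd H.hom φ
  let ρ : (A : Scheme.{u}) ⟶ (U : Scheme.{u}) := S'.homOfLE hAU
  have hρ : ρ ≫ U.ι = A.ι := S'.homOfLE_ι hAU
  let R := ULift.{u} ℤ
  let D := Red.diag R M
  let term : (U : Scheme.{u}) ⟶ Spec (CommRingCat.of R) :=
    Limits.IsTerminal.from specULiftZIsTerminal _
  have sq1 : IsPullback (pullback.fst h' A.ι) (pullback.snd h' A.ι) h' A.ι :=
    IsPullback.of_hasPullback _ _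
  have sq2 : IsPullback (pullback.fst H.hom φ) h' H.hom φ := IsPullback.of_hasPullback _ _
  have sq12 := sq1.paste_horiz sq2
  have sq3 : IsPullback (pullback.fst H.hom (U.ι ≫ φ)) (pullback.snd H.hom (U.ι ≫ φ)) H.hom
      (U.ι ≫ φ) := IsPullback.of_hasPullback _ _
  have hl : (pullback.fst h' A.ι ≫ pullback.fst H.hom φ) ≫ H.hom =
      (pullback.snd h' A.ι ≫ ρ) ≫ U.ι ≫ φ := by
    rw [sq12.w, Category.assoc, ← Category.assoc ρ, hρ]
  let l : pullback h' A.ι ⟶ pullback H.hom (U.ι ≫ φ) := sq3.lift _ _ hl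
  have sqL : IsPullback l (pullback.snd h' A.ι) (pullback.snd H.hom (U.ι ≫ φ)) ρ := by
    refine IsPullback.of_right ?_ (sq3.lift_snd _ _ hl) sq3
    rw [sq3.lift_fst, ← Category.assoc ρ, hρ]
    exact sq12
  haveI : IsIso e.hom.left := inferInstanceAs (IsIso ((Over.forget _).map e.hom))
  have sqE : IsPullback e.hom.left (pullback.snd H.hom (U.ι ≫ φ))
      (pullback.snd D.hom term) (𝟙 _) :=
    IsPullback.of_horiz_isIso ⟨by
      rw [Category.comp_id]
      exact Over.w e.hom⟩
  have sq4 : IsPullback (pullback.fst D.hom term) (pullback.snd D.hom term) D.hom term :=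
    IsPullback.of_hasPullback _ _
  have HH := (sqL.paste_horiz sqE).paste_horiz sq4
  have hprojD : (letI := ((⊤ : D.left.Opens).ι ≫ D.hom).appTop.hom.toAlgebra
      Module.Projective Γ(Spec (CommRingCat.of R), ⊤) Γ(((⊤ : D.left.Opens) : Scheme.{u}), ⊤)) := by
    apply top_proj
    exact spec_proj (R := R) (B := MonoidAlgebra R (Multiplicative M))
  haveI : IsAffine D.left := by
    change IsAffine (Spec (CommRingCat.of (MonoidAlgebra R (Multiplicative M))))
    infer_instance
  obtain ⟨h1, h2⟩ := Groth.Agent.S5356.proj_preimage HH ⊤ (isAffineOpen_top _) hprojD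
  intro x
  exact ⟨((l ≫ e.hom.left) ≫ pullback.fst D.hom term) ⁻¹ᵁ ⊤, trivial, h1, h2⟩

end MT

end Groth.Agent.Lib.Helper6.MultTypeClosed
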