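import Mathlib
import Groth.Prelude.Def_SGA3x
import Groth.Agent.S5356
import Groth.Agent.Lib.Helper6.FixedLocus2
import Groth.Agent.Lib.Helper6.MT2

set_option autoImplicit false
set_option linter.unusedSectionVars false
set_option linter.style.haveILetI false
universe u
open scoped TensorProduct
open CategoryTheory CategoryTheory.Limits AlgebraicGeometry Opposite

namespace Groth.Agent.Lib.Helper6.MultTypeClosed

open Groth.Agent.Lib.Helper6.FixedLocus Groth.Agent.Lib.Helper6.FixedLocus2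

section MT
open MonoidalCategory CartesianMonoidalCategory MonObj

variable {S : Scheme.{u}}

/-- the local triviality hypothesis in `SGA3x.IsMultTypeFT`. -/
def LocDiag {S' : Scheme.{u}} (φ : S' ⟶ S) (H : Over S) [GrpObj H] : Prop :=
  ∀ s' : S', ∃ U : S'.Opens, s' ∈ U ∧ ∃ (M : Type) (_ : AddCommGroup M), AddGroup.FG M ∧
    Nonempty (Grp.mk (Red.bc (U.ι ≫ φ) H) ≅ Grp.mk (Red.DS (U : Scheme.{u}) M))

theorem essFree_of_locDiag {S' : Scheme.{u}} (φ : S' ⟶ S) (H : Over S) [GrpObj H]
    (hloc : LocDiag φ H) : SGA3x.IsEssentiallyFree (pullback.snd H.hom φ) := by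
  apply essFree_of_charts'
  intro s'
  obtain ⟨U, hs'U, M, inst, -, ⟨eG⟩⟩ := hloc s'
  obtain ⟨A, hA, hs'A, hAU⟩ := exists_isAffineOpen_mem_and_subset hs'U
  exact ⟨A, hs'A, hA, chart_of_iso φ H U A hAU hA M ((Grp.forget _).mapIso eG)⟩

set_option backward.isDefEq.respectTransparency false in
theorem quasiCompact_of_locDiag {S' : Scheme.{u}} (φ : S' ⟶ S) (H : Over S) [GrpObj H]
    (hloc : LocDiag φ H) : QuasiCompact (pullback.snd H.hom φ) := by
  choose U hsU M inst hFG heG using hloc
  have hU : iSup U = ⊤ := by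
    rw [eq_top_iff]
    intro x _
    exact TopologicalSpace.Opens.mem_iSup.mpr ⟨x, hsU x⟩
  rw [IsZariskiLocalAtTarget.iff_of_iSup_eq_top (P := @QuasiCompact) U hU]
  intro s'
  obtain ⟨eG⟩ := heG s'
  let e : Red.bc ((U s').ι ≫ φ) H ≅ Red.DS ((U s' : S'.Opens) : Scheme.{u}) (M s') :=
    (Grp.forget _).mapIso eG
  let h' := pullback.snd H.hom φ
  have sq1 : IsPullback (h' ⁻¹ᵁ U s').ι (h' ∣_ U s') h' (U s').ι :=
    (isPullback_morphismRestrict h' (U s')).flip
  have sq2 : IsPullback (pullback.fst H.hom φ) h' H.hom φ := IsPullback.of_hasPullback _ _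
  have sq12 := sq1.paste_horiz sq2
  have e1 : h' ∣_ U s' = sq12.isoPullback.hom ≫ pullback.snd H.hom ((U s').ι ≫ φ) :=
    (sq12.isoPullback_hom_snd).symm
  have e2 : pullback.snd H.hom ((U s').ι ≫ φ) = e.hom.left ≫ (Red.DS ((U s' : S'.Opens) : Scheme.{u}) (M s')).hom :=
    (Over.w e.hom).symm
  haveI : IsIso e.hom.left := inferInstanceAs (IsIso ((Over.forget _).map e.hom))
  haveI : IsAffineHom (Red.DS ((U s' : S'.Opens) : Scheme.{u}) (M s')).hom := by
    change IsAffineHom (pullback.snd (Red.diag (ULift.{u} ℤ) (M s')).hom _)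
    haveI : IsAffineHom (Red.diag (ULift.{u} ℤ) (M s')).hom := by
      change IsAffineHom (Spec.map _)
      infer_instance
    exact MorphismProperty.pullback_snd (P := @IsAffineHom) _ _ this
  change QuasiCompact (h' ∣_ U s')
  rw [e1, e2]
  infer_instance

end MT

end Groth.Agent.Lib.Helper6.MultTypeClosed
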