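import Mathlib
import Groth.Prelude.Def_SGA3x
import Groth.Agent.S5356
import Groth.Agent.Lib.Helper6.EssFreeGlue
import Groth.Agent.Lib.Helper6.MT3

set_option autoImplicit false
set_option linter.unusedSectionVars false
set_option linter.style.haveILetI false
universe u
open scoped TensorProduct
open CategoryTheory CategoryTheory.Limits AlgebraicGeometry Opposite

namespace Groth.Agent.Lib.Helper6.MultTypeClosed

open Groth.Agent.Lib.Helper6.EssFreeLocal Groth.Agent.Lib.Helper6.EssFreeDesc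
  Groth.Agent.Lib.Helper6.MorSGlue Groth.Agent.Lib.Helper6.EssFreeGlue

section Main
open Groth.Agent.Lib.Helper5.LocalRepB
variable {S Z Y : Scheme.{u}} (f : Z ⟶ S) (j : Y ⟶ Z) [IsClosedImmersion j]

/-- gluing local representing closed subschemes. -/
theorem main_of_local (P : Prop)
    (hloc : ∀ s : S, ∃ U : S.Opens, s ∈ U ∧ ∃ (TU : Scheme.{u}) (t : TU ⟶ (U : Scheme.{u})),
      IsRepOver f j U.ι t ∧ (P → LocallyOfFinitePresentation t)) :
    ∃ (T : Scheme.{u}) (t : T ⟶ S), IsClosedImmersion t ∧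
      (∀ (S' : Scheme.{u}) (g : S' ⟶ S), Fac t g ↔ Pr f j g) ∧
      (P → LocallyOfFinitePresentation t) := by
  choose U hsU TU t hrep hfp using hloc
  let B : Set S.Opens := {W | ∃ s, W ≤ U s}
  have hB : TopologicalSpace.Opens.IsBasis B := by
    rw [TopologicalSpace.Opens.isBasis_iff_nbhd]
    intro O x hx
    exact ⟨O ⊓ U x, ⟨x, inf_le_right⟩, ⟨hx, hsU x⟩, inf_le_left⟩
  have hW : ∀ W ∈ B, ∃ s, ∃ hW : W ≤ U s,
      IsRepOver f j W.ι (pullback.snd (t s) (S.homOfLE hW)) := by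
    rintro W ⟨s, hW⟩
    have h1 := (hrep s).restrict (S.homOfLE hW)
    rw [S.homOfLE_ι hW] at h1
    exact ⟨s, hW, h1⟩
  obtain ⟨V, hVci, ⟨rV⟩⟩ := exists_rep_of_basis_of_rep (PF f j) (PF_isSheaf f j)
    @IsClosedImmersion B hB (by
      intro W hWB
      obtain ⟨s, hW', h1⟩ := hW W hWB
      exact ⟨Over.mk (pullback.snd (t s) (S.homOfLE hW')), h1.1, ⟨repOfIsRepOver f j W _ h1⟩⟩)
  have hVrep : ∀ (T : Scheme.{u}) (y : T ⟶ S), Fac V.hom y ↔ Pr f j y := by
    intro T y
    refine Iff.trans ?_ (nonempty_PF_iff f j (Over.mk y))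
    constructor
    · rintro ⟨g', hg'⟩
      exact ⟨rV.homEquiv (Over.homMk g' hg')⟩
    · rintro ⟨l⟩
      exact ⟨(rV.homEquiv.symm l).left, Over.w (rV.homEquiv.symm l)⟩
  refine ⟨V.left, V.hom, hVci, hVrep, ?_⟩
  intro hP
  have hV' : IsRepOver f j (𝟙 S) V.hom :=
    ⟨hVci, fun T y => by rw [Category.comp_id]; exact hVrep T y⟩
  haveI : IsZariskiLocalAtTarget (@LocallyOfFinitePresentation : MorphismProperty Scheme.{u}) :=
    HasRingHomProperty.instIsZariskiLocalAtTarget (Q := RingHom.FinitePresentation) _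
  apply IsZariskiLocalAtTarget.of_openCover
    (P := (@LocallyOfFinitePresentation : MorphismProperty Scheme.{u})) (basisCover hB)
  rintro ⟨W, hWB⟩
  obtain ⟨s, hW', h1⟩ := hW W hWB
  have h2 := hV'.restrict W.ι
  rw [Category.comp_id] at h2
  obtain ⟨l, hl, hl'⟩ := h2.iso_of h1
  haveI := hfp s hP
  change LocallyOfFinitePresentation (pullback.snd V.hom W.ι)
  rw [← hl']
  infer_instance

end Main

section PrSq
variable {B B' Z Z'' Y : Scheme.{u}}

/-- `Pr` along an arbitrary cartesian square. -/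
theorem pr_of_isPullback {f : Z ⟶ B} {f'' : Z'' ⟶ B'} {θ : Z'' ⟶ Z} {b : B' ⟶ B}
    (sq : IsPullback θ f'' f b) (j : Y ⟶ Z) {T : Scheme.{u}} (x : T ⟶ B') :
    Pr f'' (pullback.snd j θ) x ↔ Pr f j (x ≫ b) := by
  unfold Pr
  rw [fac_pullback_iff]
  have sq1 : IsPullback (pullback.fst f'' x) (pullback.snd f'' x) f'' x :=
    IsPullback.of_hasPullback _ _
  have sq2 := sq1.paste_horiz sq
  rw [← fac_precomp_iso j _ sq2.isoPullback.hom, sq2.isoPullback_hom_fst]

end PrSq

end Groth.Agent.Lib.Helper6.MultTypeClosed
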