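import Mathlib
import Groth.Prelude.Def_SGA3x
import Groth.Agent.S5356
import Groth.Agent.Lib.Helper6.EssFreeGlue
import Groth.Agent.Lib.Helper6.MT4

set_option autoImplicit false
set_option linter.unusedSectionVars false
set_option linter.style.haveILetI false
universe u
open scoped TensorProduct
open CategoryTheory CategoryTheory.Limits AlgebraicGeometry Opposite

namespace Groth.Agent.Lib.Helper6.MultTypeClosed

open Groth.Agent.Lib.Helper6.EssFreeLocal Groth.Agent.Lib.Helper6.EssFreeDesc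
  Groth.Agent.Lib.Helper6.MorSGlue Groth.Agent.Lib.Helper6.EssFreeGlue

section Loc
open MonoidalCategory CartesianMonoidalCategory MonObj
variable {S : Scheme.{u}} (H G : Over S) [GrpObj H]

theorem isPullback_id_of_mono {A B C : Scheme.{u}} (ψ : A ⟶ B) (m : B ⟶ C) [Mono m] :
    IsPullback (𝟙 A) ψ (ψ ≫ m) m := by
  have s1 : IsPullback ψ (𝟙 A) (𝟙 B) ψ := IsPullback.of_vert_isIso ⟨by simp⟩
  have s2 : IsPullback (𝟙 B) (𝟙 B) m m := IsKernelPair.id_of_mono m
  have s3 := (s1.paste_horiz s2).flip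
  rwa [Category.comp_id] at s3

theorem rep_of_multType (hH : SGA3x.IsMultTypeFT H) {Y : Scheme.{u}} (j : Y ⟶ (H ⊗ G).left)
    [IsClosedImmersion j] :
    ∃ (T : Scheme.{u}) (t : T ⟶ G.left), IsClosedImmersion t ∧
      (∀ (S' : Scheme.{u}) (g : S' ⟶ G.left), Fac t g ↔ Pr (snd H G).left j g) ∧
      (LocallyOfFinitePresentation j → LocallyOfFinitePresentation t) := by
  obtain ⟨S', φ, hflat, hsurj, hqc, hloc⟩ := hH
  have hloc' : LocDiag φ H := hloc
  let f : (H ⊗ G).left ⟶ G.left := (snd H G).left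
  let h' := pullback.snd H.hom φ
  have hEF : SGA3x.IsEssentiallyFree h' := essFree_of_locDiag φ H hloc'
  haveI hQC : QuasiCompact h' := quasiCompact_of_locDiag φ H hloc'
  let r := pullback.snd G.hom φ
  let b := pullback.fst G.hom φ
  let f'' := pullback.snd h' r
  have hEF'' : SGA3x.IsEssentiallyFree f'' := Groth.Agent.S5356.result.2.2.2 _ _ _ h' r hEF
  have sqA : IsPullback (pullback.fst h' r) f'' h' r := IsPullback.of_hasPullback _ _
  have sqB : IsPullback (pullback.fst H.hom φ) h' H.hom φ := IsPullback.of_hasPullback _ _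
  have sqAB := sqA.paste_horiz sqB
  have hbr : b ≫ G.hom = r ≫ φ := pullback.condition
  have hθ : (pullback.fst h' r ≫ pullback.fst H.hom φ) ≫ H.hom = (f'' ≫ b) ≫ G.hom := by
    rw [sqAB.w, Category.assoc, hbr]
  let θ : pullback h' r ⟶ (H ⊗ G).left := pullback.lift (f := H.hom) (g := G.hom) _ _ hθ
  have hθ1 : θ ≫ (fst H G).left = pullback.fst h' r ≫ pullback.fst H.hom φ :=
    pullback.lift_fst (f := H.hom) (g := G.hom) _ _ hθ
  have hθ2 : θ ≫ f = f'' ≫ b := pullback.lift_snd (f := H.hom) (g := G.hom) _ _ hθ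
  have sqθ : IsPullback θ f'' f b := by
    refine IsPullback.of_right ?_ hθ2 (IsPullback.of_hasPullback H.hom G.hom)
    rw [hbr]
    have : θ ≫ pullback.fst H.hom G.hom = pullback.fst h' r ≫ pullback.fst H.hom φ := hθ1
    rw [this]
    exact sqAB
  let j'' := pullback.snd j θ
  haveI : IsClosedImmersion j'' := by dsimp only [j'']; infer_instance
  obtain ⟨T', t', ht'ci, ht', ht'fp⟩ := EssFreeGlue.main f'' j'' hEF''
  haveI := ht'ci
  have ht'' : ∀ (T : Scheme.{u}) (x : T ⟶ pullback G.hom φ), Fac t' x ↔ Pr f j (x ≫ b) := by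
    intro T x
    rw [← pr_of_isPullback sqθ j x]
    unfold Pr
    rw [fac_iff_isIso j'']
    exact ht' T x
  haveI : QuasiCompact f'' := by dsimp only [f'']; infer_instance
  apply main_of_local f j (LocallyOfFinitePresentation j)
  intro p
  obtain ⟨V, hV, hpV, -⟩ := exists_isAffineOpen_mem_and_subset (x := G.hom.base p)
    (U := ⊤) trivial
  obtain ⟨W, hWc, hWV⟩ := hqc V hV
  haveI : IsAffine (V : Scheme.{u}) := hV
  have hrange : Set.range (W.ι ≫ φ).base ⊆ Set.range V.ι.base := by
    rintro _ ⟨w, rfl⟩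
    have : φ.base w.1 ∈ (V : Set S) := by
      rw [← hWV]
      exact ⟨w.1, w.2, rfl⟩
    exact ⟨⟨_, this⟩, rfl⟩
  let ψ : (W : Scheme.{u}) ⟶ (V : Scheme.{u}) := IsOpenImmersion.lift V.ι (W.ι ≫ φ) hrange
  have hψ : ψ ≫ V.ι = W.ι ≫ φ := IsOpenImmersion.lift_fac _ _ _
  haveI : Flat ψ := by
    have sq := isPullback_id_of_mono ψ V.ι
    rw [hψ] at sq
    exact MorphismProperty.of_isPullback (P := @Flat) sq inferInstance
  haveI : Surjective ψ := by
    refine ⟨fun v => ?_⟩
    have hv : v.1 ∈ φ.base '' (W : Set S') := by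
      rw [hWV]
      exact v.2
    obtain ⟨w, hw, hwv⟩ := hv
    refine ⟨⟨w, hw⟩, ?_⟩
    apply V.ι.isOpenEmbedding.injective
    have := congrArg (fun m => m.base ⟨w, hw⟩) hψ
    exact this.trans hwv
  haveI : CompactSpace (W : Scheme.{u}) := isCompact_iff_compactSpace.mp hWc
  haveI : QuasiCompact ψ := inferInstance
  let U : G.left.Opens := G.hom ⁻¹ᵁ V
  let gV : (U : Scheme.{u}) ⟶ (V : Scheme.{u}) := G.hom ∣_ V
  let g := pullback.fst gV ψ
  haveI : Flat g := by dsimp only [g]; infer_instance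
  haveI : Surjective g := by dsimp only [g]; infer_instance
  haveI : QuasiCompact g := by dsimp only [g]; infer_instance
  let c : pullback gV ψ ⟶ pullback G.hom φ :=
    pullback.map gV ψ G.hom φ U.ι W.ι V.ι (morphismRestrict_ι G.hom V) hψ
  have hc : c ≫ b = g ≫ U.ι := pullback.lift_fst _ _ _
  let t'' := pullback.snd t' c
  haveI : IsClosedImmersion t'' := by dsimp only [t'']; infer_instance
  obtain ⟨TU, t, htci, htfp, ht⟩ := exists_closed_of_fpqc f j U.ι g t'' (fun T x => by
    rw [fac_pullback_iff, ht'', Category.assoc, hc])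
  refine ⟨U, hpV, TU, t, ⟨htci, ht⟩, fun hfp => htfp ?_⟩
  haveI := hfp
  haveI : LocallyOfFinitePresentation j'' := by dsimp only [j'']; infer_instance
  haveI := ht'fp inferInstance inferInstance
  dsimp only [t'']
  infer_instance

end Loc

end Groth.Agent.Lib.Helper6.MultTypeClosed
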