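import Mathlib
import Groth.Prelude.Def_SGA3x
import Groth.Agent.Lib.Helper6.MT5

set_option autoImplicit false
set_option linter.unusedSectionVars false
set_option linter.style.haveILetI false
universe u
open scoped TensorProduct
open CategoryTheory CategoryTheory.Limits AlgebraicGeometry Opposite

namespace Groth.Agent.Lib.Helper6.MultTypeClosed

open Groth.Agent.Lib.Helper6.EssFreeLocal Groth.Agent.Lib.Helper6.EssFreeDesc
  Groth.Agent.Lib.Helper6.MorSGlue Groth.Agent.Lib.Helper6.EssFreeGlue

section Pts
open MonoidalCategory CartesianMonoidalCategory MonObj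
variable {S : Scheme.{u}} (H G : Over S)

/-- `Pr` for the projection `H × G ⟶ G`, in terms of points. -/
theorem points_iff {Y : Scheme.{u}} (j : Y ⟶ (H ⊗ G).left) (X : Over S) (g : X ⟶ G) :
    Pr (snd H G).left j g.left ↔
      ∀ (X' : Over S) (x : X' ⟶ X) (h : X' ⟶ H), Fac j (lift h (x ≫ g)).left := by
  let f : (H ⊗ G).left ⟶ G.left := (snd H G).left
  constructor
  · rintro ⟨l, hl⟩ X' x h
    let m : X' ⟶ H ⊗ G := lift h (x ≫ g)
    have hm : m.left ≫ f = x.left ≫ g.left := by
      change (m ≫ snd H G).left = (x ≫ g).left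
      rw [lift_snd]
    let w : X'.left ⟶ pullback f g.left := pullback.lift m.left x.left hm
    have hw : w ≫ pullback.fst f g.left = m.left := pullback.lift_fst _ _ _
    exact ⟨w ≫ l, by rw [Category.assoc, hl, hw]⟩
  · intro hyp
    have hP : (pullback.fst f g.left ≫ (fst H G).left) ≫ H.hom =
        pullback.snd f g.left ≫ X.hom := by
      rw [Category.assoc, Over.w (fst H G), ← Over.w (snd H G), ← Category.assoc,
        pullback.condition, Category.assoc, Over.w g]
    let P : Over S := Over.mk (pullback.snd f g.left ≫ X.hom)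
    let x : P ⟶ X := Over.homMk (pullback.snd f g.left) rfl
    let h : P ⟶ H := Over.homMk (pullback.fst f g.left ≫ (fst H G).left) hP
    have hm₀ : pullback.fst f g.left ≫ (H ⊗ G).hom = pullback.snd f g.left ≫ X.hom := by
      rw [← Over.w (snd H G), ← Category.assoc, pullback.condition, Category.assoc, Over.w g]
    let m₀ : P ⟶ H ⊗ G := Over.homMk (pullback.fst f g.left) hm₀
    have hlift : lift h (x ≫ g) = m₀ := by
      apply CartesianMonoidalCategory.hom_ext
      · rw [lift_fst]
        apply Over.OverMorphism.ext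
        rfl
      · rw [lift_snd]
        apply Over.OverMorphism.ext
        change pullback.snd f g.left ≫ g.left = pullback.fst f g.left ≫ f
        exact pullback.condition.symm
    have h1 := hyp P x h
    rw [hlift] at h1
    exact h1

variable {A : Over S}

/-- the map `(m₁, m₂) : A ⟶ G ×_S G`. -/
noncomputable def pairMap (m₁ m₂ : A ⟶ G) : A.left ⟶ pullback G.hom G.hom :=
  pullback.lift m₁.left m₂.left (by rw [Over.w m₁, Over.w m₂])

/-- the equaliser of `m₁` and `m₂`. -/
noncomputable def eqMap (m₁ m₂ : A ⟶ G) :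
    pullback (pullback.diagonal G.hom) (pairMap G m₁ m₂) ⟶ A.left :=
  pullback.snd (pullback.diagonal G.hom) (pairMap G m₁ m₂)

theorem fac_eqMap_iff (m₁ m₂ : A ⟶ G) {W : Scheme.{u}} (w : W ⟶ A.left) :
    Fac (eqMap G m₁ m₂) w ↔ w ≫ m₁.left = w ≫ m₂.left := by
  constructor
  · rintro ⟨l, rfl⟩
    have h1 : (l ≫ eqMap G m₁ m₂) ≫ pairMap G m₁ m₂ =
        (l ≫ pullback.fst (pullback.diagonal G.hom) (pairMap G m₁ m₂)) ≫
          pullback.diagonal G.hom := by
      rw [Category.assoc, Category.assoc, eqMap, pullback.condition]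
    have h2 := congrArg (fun m => m ≫ pullback.fst G.hom G.hom) h1
    have h3 := congrArg (fun m => m ≫ pullback.snd G.hom G.hom) h1
    simp only [Category.assoc, pullback.diagonal_fst, pullback.diagonal_snd, Category.comp_id,
      pairMap, pullback.lift_fst, pullback.lift_snd] at h2 h3
    exact h2.trans h3.symm
  · intro hw
    refine ⟨pullback.lift (w ≫ m₁.left) w ?_, pullback.lift_snd _ _ _⟩
    apply pullback.hom_ext
    · simp only [Category.assoc, pullback.diagonal_fst, Category.comp_id, pairMap,
        pullback.lift_fst]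
    · simp only [Category.assoc, pullback.diagonal_snd, Category.comp_id, pairMap,
        pullback.lift_snd]
      exact hw

instance eqMap_closed [IsSeparated G.hom] (m₁ m₂ : A ⟶ G) :
    IsClosedImmersion (eqMap G m₁ m₂) := by
  unfold eqMap
  infer_instance

end Pts

end Groth.Agent.Lib.Helper6.MultTypeClosed
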