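import Mathlib
import Groth.Prelude.Def_SGA3x
import Groth.Agent.Lib.Helper6.MT6
import Groth.Agent.Lib.Helper6.FreeOpens
import Groth.Agent.Lib.Helper79.LfpOfComp

set_option autoImplicit false
set_option linter.unusedSectionVars false
set_option linter.style.haveILetI false
universe u
open scoped TensorProduct
open CategoryTheory CategoryTheory.Limits AlgebraicGeometry Opposite

namespace Groth.Agent.Lib.Helper6.MultTypeClosed

open Groth.Agent.Lib.Helper6.EssFreeLocal Groth.Agent.Lib.Helper6.EssFreeDesc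
  Groth.Agent.Lib.Helper6.MorSGlue Groth.Agent.Lib.Helper6.EssFreeGlue

section Gen
open MonoidalCategory CartesianMonoidalCategory MonObj
variable {S : Scheme.{u}} (H G : Over S)

/-- the representability statement used for centralizers and transporters. -/
def HasRep (P : Prop) : Prop :=
  ∀ {Y : Scheme.{u}} (j : Y ⟶ (H ⊗ G).left) [IsClosedImmersion j],
    ∃ (T : Scheme.{u}) (t : T ⟶ G.left), IsClosedImmersion t ∧
      (∀ (S' : Scheme.{u}) (g : S' ⟶ G.left), Fac t g ↔ Pr (snd H G).left j g) ∧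
      (P → LocallyOfFinitePresentation j → LocallyOfFinitePresentation t)

theorem hasRep_of_multType [GrpObj H] (hH : SGA3x.IsMultTypeFT H) : HasRep H G True := by
  intro Y j _
  obtain ⟨T, t, h1, h2, h3⟩ := rep_of_multType H G hH j
  exact ⟨T, t, h1, h2, fun _ => h3⟩

theorem hasRep_of_essFree (hEF : SGA3x.IsEssentiallyFree H.hom) :
    HasRep H G (QuasiCompact H.hom) := by
  intro Y j _
  let f : (H ⊗ G).left ⟶ G.left := (snd H G).left
  have hEF' : SGA3x.IsEssentiallyFree f := Groth.Agent.S5356.result.2.2.2 _ _ _ H.hom G.hom hEF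
  obtain ⟨T, t, htci, ht, htfp⟩ := EssFreeGlue.main f j hEF'
  refine ⟨T, t, htci, fun S' g => ?_, fun hqc hfp => htfp ?_ hfp⟩
  · unfold Pr
    rw [fac_iff_isIso j]
    exact ht S' g
  · haveI := hqc
    change QuasiCompact (pullback.snd H.hom G.hom)
    infer_instance

theorem essFree_of_finite_flat (F : Over S) [IsFinite F.hom] [Flat F.hom]
    [LocallyOfFinitePresentation F.hom] : SGA3x.IsEssentiallyFree F.hom := by
  apply Groth.Agent.Lib.Helper6.FixedLocus2.essFree_of_charts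
  intro s
  have hB := Groth.Agent.Lib.Helper6.MorSGlue.isBasis_freeOpens F.hom
  rw [TopologicalSpace.Opens.isBasis_iff_nbhd] at hB
  obtain ⟨W, ⟨hWaff, n, ⟨b⟩⟩, hsW, -⟩ := hB (U := ⊤) (x := s) trivial
  haveI : IsAffine (W : Scheme.{u}) := hWaff
  refine ⟨W, hsW, hWaff, isAffine_of_isAffineHom (pullback.snd F.hom (Scheme.Opens.ι W)), ?_⟩
  letI := (pullback.snd F.hom (Scheme.Opens.ι W)).appTop.hom.toAlgebra
  haveI : Module.Free Γ((W : Scheme.{u}), ⊤) Γ(pullback F.hom (Scheme.Opens.ι W), ⊤) :=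
    Module.Free.of_basis b
  infer_instance

variable {H G}
variable [GrpObj G]

/-- centralizer of a morphism `i : H ⟶ G`. -/
theorem centralizer_of_hasRep {P : Prop} (hrep : HasRep H G P) [IsSeparated G.hom] (i : H ⟶ G) :
    ∃ (C : Over S) (c : C ⟶ G), IsClosedImmersion c.left ∧
      ∀ (X : Over S) (g : X ⟶ G), (∃ z : X ⟶ C, z ≫ c = g) ↔
        ∀ (X' : Over S) (x : X' ⟶ X) (a : X' ⟶ H), (x ≫ g) * (a ≫ i) = (a ≫ i) * (x ≫ g) := by
  let m₁ : H ⊗ G ⟶ G := snd H G * (fst H G ≫ i)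
  let m₂ : H ⊗ G ⟶ G := (fst H G ≫ i) * snd H G
  obtain ⟨T, t, htci, ht, -⟩ := hrep (eqMap G m₁ m₂)
  refine ⟨Over.mk (t ≫ G.hom), Over.homMk t rfl, htci, ?_⟩
  intro X g
  have key : ∀ (X' : Over S) (x : X' ⟶ X) (a : X' ⟶ H),
      Fac (eqMap G m₁ m₂) (lift a (x ≫ g)).left ↔
      (x ≫ g) * (a ≫ i) = (a ≫ i) * (x ≫ g) := by
    intro X' x a
    rw [fac_eqMap_iff]
    have e1 : lift a (x ≫ g) ≫ m₁ = (x ≫ g) * (a ≫ i) := by
      rw [MonObj.comp_mul, lift_snd, lift_fst_assoc]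
    have e2 : lift a (x ≫ g) ≫ m₂ = (a ≫ i) * (x ≫ g) := by
      rw [MonObj.comp_mul, lift_snd, lift_fst_assoc]
    rw [← e1, ← e2]
    constructor
    · intro h
      exact Over.OverMorphism.ext h
    · intro h
      exact congrArg (fun m => m.left) h
  constructor
  · rintro ⟨z, hz⟩ X' x a
    rw [← key]
    have h1 : Fac t g.left := ⟨z.left, congrArg (fun m => m.left) hz⟩
    exact (points_iff H G _ X g).mp ((ht _ g.left).mp h1) X' x a
  · intro hyp
    have h1 := (ht _ g.left).mpr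
      ((points_iff H G _ X g).mpr (fun X' x a => (key X' x a).mpr (hyp X' x a)))
    obtain ⟨l, hl⟩ := h1
    refine ⟨Over.homMk l ?_, Over.OverMorphism.ext hl⟩
    change l ≫ t ≫ G.hom = X.hom
    rw [← Category.assoc, hl, Over.w g]

/-- transporter of `i : H ⟶ G` into a closed subscheme `y' : Y' ⟶ G`. -/
theorem transporter_of_hasRep {P : Prop} (hrep : HasRep H G P) (hP : P)
    [LocallyOfFinitePresentation G.hom] (i : H ⟶ G)
    {Y' : Over S} (y' : Y' ⟶ G) (hy' : IsClosedImmersion y'.left)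
    (hY'fp : LocallyOfFinitePresentation Y'.hom) :
    ∃ (C : Over S) (c : C ⟶ G), IsClosedImmersion c.left ∧ LocallyOfFinitePresentation C.hom ∧
      ∀ (X : Over S) (g : X ⟶ G), (∃ z : X ⟶ C, z ≫ c = g) ↔
        ∀ (X' : Over S) (x : X' ⟶ X) (h : X' ⟶ H),
          ∃ a' : X' ⟶ Y', (x ≫ g) * (h ≫ i) * (x ≫ g)⁻¹ = a' ≫ y' := by
  haveI := hy'
  let κ : H ⊗ G ⟶ G := snd H G * (fst H G ≫ i) * (snd H G)⁻¹
  let j := Limits.pullback.snd y'.left κ.left
  haveI : IsClosedImmersion j := by dsimp only [j]; infer_instance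
  have hy'fp : LocallyOfFinitePresentation y'.left := by
    apply Groth.Agent.Lib.Helper79.lfp_of_comp (g := G.hom) _ inferInstance
    rw [Over.w y']
    exact hY'fp
  haveI := hy'fp
  haveI : LocallyOfFinitePresentation j := by dsimp only [j]; infer_instance
  obtain ⟨T, t, htci, ht, htfp⟩ := hrep j
  haveI := htfp hP inferInstance
  refine ⟨Over.mk (t ≫ G.hom), Over.homMk t rfl, htci, ?_, ?_⟩
  · change LocallyOfFinitePresentation (t ≫ G.hom)
    infer_instance
  intro X g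
  have key : ∀ (X' : Over S) (x : X' ⟶ X) (h : X' ⟶ H),
      Fac j (lift h (x ≫ g)).left ↔
      ∃ a' : X' ⟶ Y', (x ≫ g) * (h ≫ i) * (x ≫ g)⁻¹ = a' ≫ y' := by
    intro X' x h
    have e1 : lift h (x ≫ g) ≫ κ = (x ≫ g) * (h ≫ i) * (x ≫ g)⁻¹ := by
      rw [MonObj.comp_mul, MonObj.comp_mul, GrpObj.comp_inv, lift_snd, lift_fst_assoc]
    rw [← e1]
    dsimp only [j]
    rw [fac_pullback_iff]
    constructor
    · rintro ⟨l, hl⟩
      refine ⟨Over.homMk l ?_, Over.OverMorphism.ext hl.symm⟩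
      rw [← Over.w y', ← Category.assoc, hl]
      exact Over.w (lift h (x ≫ g) ≫ κ)
    · rintro ⟨a', ha'⟩
      exact ⟨a'.left, (congrArg (fun m => m.left) ha').symm⟩
  constructor
  · rintro ⟨z, hz⟩ X' x h
    rw [← key]
    have h1 : Fac t g.left := ⟨z.left, congrArg (fun m => m.left) hz⟩
    exact (points_iff H G _ X g).mp ((ht _ g.left).mp h1) X' x h
  · intro hyp
    have h1 := (ht _ g.left).mpr
      ((points_iff H G _ X g).mpr (fun X' x h => (key X' x h).mpr (hyp X' x h)))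
    obtain ⟨l, hl⟩ := h1
    refine ⟨Over.homMk l ?_, Over.OverMorphism.ext hl⟩
    change l ≫ t ≫ G.hom = X.hom
    rw [← Category.assoc, hl, Over.w g]

end Gen

end Groth.Agent.Lib.Helper6.MultTypeClosed
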