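import Mathlib
import Groth.Prelude.Def_SGA3x
import Groth.Agent.S5356
import Groth.Agent.Lib.Helper6.MT7

/-! helper6: closed representability for groups of multiplicative type of arbitrary type
(variant of MT3/MT5/MT7 without finite generation of the character group). -/
set_option autoImplicit false
set_option linter.unusedSectionVars false
set_option linter.style.haveILetI false
universe u
open scoped TensorProduct
open CategoryTheory CategoryTheory.Limits AlgebraicGeometry Opposite

namespace Groth.Agent.Lib.Helper6.MultTypeClosed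

open Groth.Agent.Lib.Helper6.FixedLocus Groth.Agent.Lib.Helper6.FixedLocus2
open Groth.Agent.Lib.Helper6.EssFreeLocal Groth.Agent.Lib.Helper6.EssFreeDesc
  Groth.Agent.Lib.Helper6.MorSGlue Groth.Agent.Lib.Helper6.EssFreeGlue

section MT
open MonoidalCategory CartesianMonoidalCategory MonObj

variable {S : Scheme.{u}}

/-- the local triviality hypothesis in `SGA3x.IsMultTypeFT`. -/
def LocDiag' {S' : Scheme.{u}} (φ : S' ⟶ S) (H : Over S) [GrpObj H] : Prop :=
  ∀ s' : S', ∃ U : S'.Opens, s' ∈ U ∧ ∃ (M : Type) (_ : AddCommGroup M),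
    Nonempty (Grp.mk (Red.bc (U.ι ≫ φ) H) ≅ Grp.mk (Red.DS (U : Scheme.{u}) M))

theorem essFree_of_locDiag' {S' : Scheme.{u}} (φ : S' ⟶ S) (H : Over S) [GrpObj H]
    (hloc : LocDiag' φ H) : SGA3x.IsEssentiallyFree (pullback.snd H.hom φ) := by
  apply essFree_of_charts'
  intro s'
  obtain ⟨U, hs'U, M, inst, ⟨eG⟩⟩ := hloc s'
  obtain ⟨A, hA, hs'A, hAU⟩ := exists_isAffineOpen_mem_and_subset hs'U
  exact ⟨A, hs'A, hA, chart_of_iso φ H U A hAU hA M ((Grp.forget _).mapIso eG)⟩

set_option backward.isDefEq.respectTransparency false in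
theorem quasiCompact_of_locDiag' {S' : Scheme.{u}} (φ : S' ⟶ S) (H : Over S) [GrpObj H]
    (hloc : LocDiag' φ H) : QuasiCompact (pullback.snd H.hom φ) := by
  choose U hsU M inst heG using hloc
  have hU : iSup U = ⊤ := by
    rw [eq_top_iff]
    intro x _
    exact TopologicalSpace.Opens.mem_iSup.mpr ⟨x, hsU x⟩
  rw [IsZariskiLocalAtTarget.iff_of_iSup_eq_top (P := @QuasiCompact) U hU]
  intro s'
  obtain ⟨eG⟩ := heG s'
  let e : Red.bc ((U s').ι ≫ φ) H ≅ Red.DS ((U s' : S'.Opens) : Scheme.{u}) (M s') :=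
    (Grp.forget _).mapIso eG
  let h' := pullback.snd H.hom φ
  have sq1 : IsPullback (h' ⁻¹ᵁ U s').ι (h' ∣_ U s') h' (U s').ι :=
    (isPullback_morphismRestrict h' (U s')).flip
  have sq2 : IsPullback (pullback.fst H.hom φ) h' H.hom φ := IsPullback.of_hasPullback _ _
  have sq12 := sq1.paste_horiz sq2
  have e1 : h' ∣_ U s' = sq12.isoPullback.hom ≫ pullback.snd H.hom ((U s').ι ≫ φ) :=
    (sq12.isoPullback_hom_snd).symm
  have e2 : pullback.snd H.hom ((U s').ι ≫ φ) = e.hom.left ≫ (Red.DS ((U s' : S'.Opens) : Scheme.{u}) (M s')).hom :=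
    (Over.w e.hom).symm
  haveI : IsIso e.hom.left := inferInstanceAs (IsIso ((Over.forget _).map e.hom))
  haveI : IsAffineHom (Red.DS ((U s' : S'.Opens) : Scheme.{u}) (M s')).hom := by
    change IsAffineHom (pullback.snd (Red.diag (ULift.{u} ℤ) (M s')).hom _)
    haveI : IsAffineHom (Red.diag (ULift.{u} ℤ) (M s')).hom := by
      change IsAffineHom (Spec.map _)
      infer_instance
    exact MorphismProperty.pullback_snd (P := @IsAffineHom) _ _ this
  change QuasiCompact (h' ∣_ U s')
  rw [e1, e2]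
  infer_instance

end MT

section Loc
open MonoidalCategory CartesianMonoidalCategory MonObj
variable {S : Scheme.{u}} (H G : Over S) [GrpObj H]

theorem rep_of_multType' (hH : ∃ (S' : Scheme.{u}) (f : S' ⟶ S), Flat f ∧ Surjective f ∧
    (∀ V : S.Opens, IsAffineOpen V → ∃ W : S'.Opens, IsCompact (W : Set S') ∧ f.base '' (W : Set S') = (V : Set S)) ∧
    LocDiag' f H) {Y : Scheme.{u}} (j : Y ⟶ (H ⊗ G).left)
    [IsClosedImmersion j] :
    ∃ (T : Scheme.{u}) (t : T ⟶ G.left), IsClosedImmersion t ∧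
      (∀ (S' : Scheme.{u}) (g : S' ⟶ G.left), Fac t g ↔ Pr (snd H G).left j g) ∧
      (LocallyOfFinitePresentation j → LocallyOfFinitePresentation t) := by
  obtain ⟨S', φ, hflat, hsurj, hqc, hloc⟩ := hH
  have hloc' : LocDiag' φ H := hloc
  let f : (H ⊗ G).left ⟶ G.left := (snd H G).left
  let h' := pullback.snd H.hom φ
  have hEF : SGA3x.IsEssentiallyFree h' := essFree_of_locDiag' φ H hloc'
  haveI hQC : QuasiCompact h' := quasiCompact_of_locDiag' φ H hloc'
  let r := pullback.snd G.hom φ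
  let b := pullback.fst G.hom φ
  let f'' := pullback.snd h' r
  have hEF'' : SGA3x.IsEssentiallyFree f'' := Groth.Agent.S5356.result.2.2.2 _ _ _ h' r hEF
  have sqA : IsPullback (pullback.fst h' r) f'' h' r := IsPullback.of_hasPullback _ _
  have sqB : IsPullback (pullback.fst H.hom φ) h' H.hom φ := IsPullback.of_hasPullback _ _
  have sqAB := sqA.paste_horiz sqB
  have hbr : b ≫ G.hom = r ≫ φ := pullback.condition
  have hθ : (pullback.fst h' r ≫ pullback.fst H.hom φ) ≫ H.hom = (f'' ≫ b) ≫ G.hom := by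
    rw [sqAB.w, Category.assoc, hbr]
  let θ : pullback h' r ⟶ (H ⊗ G).left := pullback.lift (f := H.hom) (g := G.hom) _ _ hθ
  have hθ1 : θ ≫ (fst H G).left = pullback.fst h' r ≫ pullback.fst H.hom φ :=
    pullback.lift_fst (f := H.hom) (g := G.hom) _ _ hθ
  have hθ2 : θ ≫ f = f'' ≫ b := pullback.lift_snd (f := H.hom) (g := G.hom) _ _ hθ
  have sqθ : IsPullback θ f'' f b := by
    refine IsPullback.of_right ?_ hθ2 (IsPullback.of_hasPullback H.hom G.hom)
    rw [hbr]
    have : θ ≫ pullback.fst H.hom G.hom = pullback.fst h' r ≫ pullback.fst H.hom φ := hθ1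
    rw [this]
    exact sqAB
  let j'' := pullback.snd j θ
  haveI : IsClosedImmersion j'' := by dsimp only [j'']; infer_instance
  obtain ⟨T', t', ht'ci, ht', ht'fp⟩ := EssFreeGlue.main f'' j'' hEF''
  haveI := ht'ci
  have ht'' : ∀ (T : Scheme.{u}) (x : T ⟶ pullback G.hom φ), Fac t' x ↔ Pr f j (x ≫ b) := by
    intro T x
    rw [← pr_of_isPullback sqθ j x]
    unfold Pr
    rw [fac_iff_isIso j'']
    exact ht' T x
  haveI : QuasiCompact f'' := by dsimp only [f'']; infer_instance
  apply main_of_local f j (LocallyOfFinitePresentation j)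
  intro p
  obtain ⟨V, hV, hpV, -⟩ := exists_isAffineOpen_mem_and_subset (x := G.hom.base p)
    (U := ⊤) trivial
  obtain ⟨W, hWc, hWV⟩ := hqc V hV
  haveI : IsAffine (V : Scheme.{u}) := hV
  have hrange : Set.range (W.ι ≫ φ).base ⊆ Set.range V.ι.base := by
    rintro _ ⟨w, rfl⟩
    have : φ.base w.1 ∈ (V : Set S) := by
      rw [← hWV]
      exact ⟨w.1, w.2, rfl⟩
    exact ⟨⟨_, this⟩, rfl⟩
  let ψ : (W : Scheme.{u}) ⟶ (V : Scheme.{u}) := IsOpenImmersion.lift V.ι (W.ι ≫ φ) hrange
  have hψ : ψ ≫ V.ι = W.ι ≫ φ := IsOpenImmersion.lift_fac _ _ _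
  haveI : Flat ψ := by
    have sq := isPullback_id_of_mono ψ V.ι
    rw [hψ] at sq
    exact MorphismProperty.of_isPullback (P := @Flat) sq inferInstance
  haveI : Surjective ψ := by
    refine ⟨fun v => ?_⟩
    have hv : v.1 ∈ φ.base '' (W : Set S') := by
      rw [hWV]
      exact v.2
    obtain ⟨w, hw, hwv⟩ := hv
    refine ⟨⟨w, hw⟩, ?_⟩
    apply V.ι.isOpenEmbedding.injective
    have := congrArg (fun m => m.base ⟨w, hw⟩) hψ
    exact this.trans hwv
  haveI : CompactSpace (W : Scheme.{u}) := isCompact_iff_compactSpace.mp hWc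
  haveI : QuasiCompact ψ := inferInstance
  let U : G.left.Opens := G.hom ⁻¹ᵁ V
  let gV : (U : Scheme.{u}) ⟶ (V : Scheme.{u}) := G.hom ∣_ V
  let g := pullback.fst gV ψ
  haveI : Flat g := by dsimp only [g]; infer_instance
  haveI : Surjective g := by dsimp only [g]; infer_instance
  haveI : QuasiCompact g := by dsimp only [g]; infer_instance
  let c : pullback gV ψ ⟶ pullback G.hom φ :=
    pullback.map gV ψ G.hom φ U.ι W.ι V.ι (morphismRestrict_ι G.hom V) hψ
  have hc : c ≫ b = g ≫ U.ι := pullback.lift_fst _ _ _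
  let t'' := pullback.snd t' c
  haveI : IsClosedImmersion t'' := by dsimp only [t'']; infer_instance
  obtain ⟨TU, t, htci, htfp, ht⟩ := exists_closed_of_fpqc f j U.ι g t'' (fun T x => by
    rw [fac_pullback_iff, ht'', Category.assoc, hc])
  refine ⟨U, hpV, TU, t, ⟨htci, ht⟩, fun hfp => htfp ?_⟩
  haveI := hfp
  haveI : LocallyOfFinitePresentation j'' := by dsimp only [j'']; infer_instance
  haveI := ht'fp inferInstance inferInstance
  dsimp only [t'']
  infer_instance


theorem hasRep_of_multType' (hH : ∃ (S' : Scheme.{u}) (f : S' ⟶ S), Flat f ∧ Surjective f ∧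
    (∀ V : S.Opens, IsAffineOpen V → ∃ W : S'.Opens, IsCompact (W : Set S') ∧ f.base '' (W : Set S') = (V : Set S)) ∧
    LocDiag' f H) : HasRep H G True := by
  intro Y j _
  obtain ⟨T, t, h1, h2, h3⟩ := rep_of_multType' H G hH j
  exact ⟨T, t, h1, h2, fun _ => h3⟩

end Loc

end Groth.Agent.Lib.Helper6.MultTypeClosed
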