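import Mathlib
import Groth.Prelude.Def_SGA3x
import Groth.Agent.Lib.Helper6.MT8
import Groth.Agent.Lib.Helper6.CentGlobal
import Groth.Agent.Lib.Helper72.SubGrp

/-! helper6: the centralizer of a homomorphism from a group of multiplicative type (S19142). -/
set_option autoImplicit false
set_option linter.unusedSectionVars false
set_option linter.style.haveILetI false
universe u
open CategoryTheory CategoryTheory.Limits MonoidalCategory CartesianMonoidalCategory MonObj
  AlgebraicGeometry Opposite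

namespace Groth.Agent.Lib.Helper6.CentFinal

open Groth.Agent.Lib.Helper6.MultTypeClosed Groth.Agent.Lib.Helper6.EssFreeLocal

variable {S : Scheme.{u}} {H G : Over S} [GrpObj G]

/-- centralizer of a morphism `i : H ⟶ G`, with finite presentation. -/
theorem centralizer_of_hasRep_fp {P : Prop} (hrep : HasRep H G P) (hP : P) [IsSeparated G.hom]
    [LocallyOfFinitePresentation G.hom] (i : H ⟶ G) :
    ∃ (C : Over S) (c : C ⟶ G), IsClosedImmersion c.left ∧ LocallyOfFinitePresentation C.hom ∧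
      ∀ (X : Over S) (g : X ⟶ G), (∃ z : X ⟶ C, z ≫ c = g) ↔
        ∀ (X' : Over S) (x : X' ⟶ X) (a : X' ⟶ H), (x ≫ g) * (a ≫ i) = (a ≫ i) * (x ≫ g) := by
  let m₁ : H ⊗ G ⟶ G := snd H G * (fst H G ≫ i)
  let m₂ : H ⊗ G ⟶ G := (fst H G ≫ i) * snd H G
  have hdiag : LocallyOfFinitePresentation (Limits.pullback.diagonal G.hom) := by
    apply Groth.Agent.Lib.Helper79.lfp_of_comp (g := Limits.pullback.fst G.hom G.hom)
    · rw [Limits.pullback.diagonal_fst]
      infer_instance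
    · infer_instance
  have hjfp : LocallyOfFinitePresentation (eqMap G m₁ m₂) := by
    unfold eqMap
    infer_instance
  obtain ⟨T, t, htci, ht, htfp⟩ := hrep (eqMap G m₁ m₂)
  haveI := htfp hP hjfp
  refine ⟨Over.mk (t ≫ G.hom), Over.homMk t rfl, htci, ?_, ?_⟩
  · change LocallyOfFinitePresentation (t ≫ G.hom)
    infer_instance
  intro X g
  have key : ∀ (X' : Over S) (x : X' ⟶ X) (a : X' ⟶ H),
      Fac (eqMap G m₁ m₂) (lift a (x ≫ g)).left ↔
      (x ≫ g) * (a ≫ i) = (a ≫ i) * (x ≫ g) := by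
    intro X' x a
    rw [fac_eqMap_iff]
    have e1 : lift a (x ≫ g) ≫ m₁ = (x ≫ g) * (a ≫ i) := by
      rw [MonObj.comp_mul, lift_snd, lift_fst_assoc]
    have e2 : lift a (x ≫ g) ≫ m₂ = (a ≫ i) * (x ≫ g) := by
      rw [MonObj.comp_mul, lift_snd, lift_fst_assoc]
    rw [← e1, ← e2]
    constructor
    · intro h
      exact Over.OverMorphism.ext h
    · intro h
      exact congrArg (fun m => m.left) h
  constructor
  · rintro ⟨z, hz⟩ X' x a
    rw [← key]
    have h1 : Fac t g.left := ⟨z.left, congrArg (fun m => m.left) hz⟩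
    exact (points_iff H G _ X g).mp ((ht _ g.left).mp h1) X' x a
  · intro hyp
    have h1 := (ht _ g.left).mpr
      ((points_iff H G _ X g).mpr (fun X' x a => (key X' x a).mpr (hyp X' x a)))
    obtain ⟨l, hl⟩ := h1
    refine ⟨Over.homMk l ?_, Over.OverMorphism.ext hl⟩
    change l ≫ t ≫ G.hom = X.hom
    rw [← Category.assoc, hl, Over.w g]

/-- a representing object of the centralizer functor is a subgroup. -/
theorem subgroup_of_centralizer (i : H ⟶ G) (C : Over S) (c : C ⟶ G) [Mono c]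
    (hpts : ∀ (X : Over S) (g : X ⟶ G), (∃ z : X ⟶ C, z ≫ c = g) ↔
        ∀ (X' : Over S) (x : X' ⟶ X) (a : X' ⟶ H), (x ≫ g) * (a ≫ i) = (a ≫ i) * (x ≫ g)) :
    ∃ (inst : GrpObj C), @IsMonHom _ _ _ _ _ inst.toMonObj _ c := by
  have hc : ∀ (X' : Over S) (x : X' ⟶ C) (a : X' ⟶ H),
      Commute (x ≫ c) (a ≫ i) := fun X' x a => (hpts C c).mp ⟨𝟙 C, Category.id_comp c⟩ X' x a
  -- multiplication
  have hm : ∃ m : C ⊗ C ⟶ C, m ≫ c = (c ⊗ₘ c) ≫ μ := by
    have e : (c ⊗ₘ c) ≫ μ = (fst C C ≫ c) * (snd C C ≫ c) := by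
      rw [Hom.mul_def]
      congr 1
    rw [e]
    apply (hpts _ _).mpr
    intro X' x a
    rw [MonObj.comp_mul]
    have h1 : Commute (x ≫ fst C C ≫ c) (a ≫ i) := by
      rw [← Category.assoc]; exact hc X' _ a
    have h2 : Commute (x ≫ snd C C ≫ c) (a ≫ i) := by
      rw [← Category.assoc]; exact hc X' _ a
    exact (h1.mul_left h2)
  have ho : ∃ o : 𝟙_ (Over S) ⟶ C, o ≫ c = η := by
    apply (hpts _ _).mpr
    intro X' x a
    have e : x ≫ (η : 𝟙_ (Over S) ⟶ G) = 1 := by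
      rw [Hom.one_def]
      congr 1
      exact toUnit_unique _ _
    rw [e, _root_.one_mul, _root_.mul_one]
  have hv : ∃ v : C ⟶ C, v ≫ c = c ≫ ι := by
    rw [← Hom.inv_def]
    apply (hpts _ _).mpr
    intro X' x a
    rw [GrpObj.comp_inv]
    exact (hc X' x a).inv_left
  obtain ⟨m, hm⟩ := hm
  obtain ⟨o, ho⟩ := ho
  obtain ⟨v, hv⟩ := hv
  refine ⟨Groth.Agent.Lib.Helper72.grpObjOfMono c m hm o ho v hv, ?_⟩
  exact @IsMonHom.mk _ _ _ _ _ (_) _ _ ho hm

end Groth.Agent.Lib.Helper6.CentFinal
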