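import Mathlib.AlgebraicGeometry.Limits
import Mathlib.Topology.LocallyConstant.Basic
import Mathlib.AlgebraicGeometry.Gluing
import Mathlib.AlgebraicGeometry.Restrict
import Mathlib.AlgebraicGeometry.Cover.Open

set_option autoImplicit false
universe u
open CategoryTheory CategoryTheory.Limits AlgebraicGeometry TopologicalSpace

namespace Groth.Agent.Lib.Helper6.ConstPts

variable (S : Scheme.{u}) (M : Type u)

/-- the index of the copy containing a point of the constant scheme. -/
noncomputable def idx (c : ↥(∐ (fun _ : M => S))) : M := ((sigmaMk (fun _ : M => S)).symm c).1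

theorem idx_ι (m : M) (s : S) : idx S M (Sigma.ι (fun _ : M => S) m s) = m := by
  unfold idx
  rw [← sigmaMk_mk, Homeomorph.symm_apply_apply]

theorem isLocallyConstant_idx : IsLocallyConstant (idx S M) := by
  have h1 : IsLocallyConstant (Sigma.fst : (Σ _ : M, ↥S) → M) := by
    intro s
    rw [isOpen_sigma_iff]
    intro i
    by_cases hi : i ∈ s
    · convert isOpen_univ
      ext x
      simp [hi]
    · convert isOpen_empty
      ext x
      simp [hi]
  exact h1.comp_continuous (sigmaMk (fun _ : M => S)).symm.continuous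

theorem exists_of_idx_eq (c : ↥(∐ (fun _ : M => S))) :
    ∃ s : S, Sigma.ι (fun _ : M => S) (idx S M c) s = c := by
  refine ⟨((sigmaMk (fun _ : M => S)).symm c).2, ?_⟩
  unfold idx
  rw [← sigmaMk_mk]
  simp

variable {S M} {T : Scheme.{u}}

/-- the locally constant function attached to a morphism to the constant scheme. -/
noncomputable def toLC (f : T ⟶ ∐ (fun _ : M => S)) : LocallyConstant T M :=
  ⟨fun t => idx S M (f.base t), (isLocallyConstant_idx S M).comp_continuous f.continuous⟩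

/-- the fibres of a locally constant function as opens. -/
def fib (φ : LocallyConstant T M) (m : M) : T.Opens :=
  ⟨φ ⁻¹' {m}, φ.isLocallyConstant.isOpen_fiber m⟩

theorem mem_fib (φ : LocallyConstant T M) (m : M) (t : T) : t ∈ fib φ m ↔ φ t = m := Iff.rfl

theorem isOpenCover_fib (φ : LocallyConstant T M) : IsOpenCover (fib φ) := by
  rw [IsOpenCover, eq_top_iff]
  intro t _
  exact Opens.mem_iSup.mpr ⟨φ t, rfl⟩

variable (p : T ⟶ S)

theorem compat (φ : LocallyConstant T M) (m n : M) :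
    pullback.fst (fib φ m).ι (fib φ n).ι ≫ (fib φ m).ι ≫ p ≫ Sigma.ι (fun _ : M => S) m =
      pullback.snd (fib φ m).ι (fib φ n).ι ≫ (fib φ n).ι ≫ p ≫ Sigma.ι (fun _ : M => S) n := by
  by_cases h : m = n
  · subst h
    rw [pullback.condition_assoc]
  · have : IsEmpty ↥(pullback (fib φ m).ι (fib φ n).ι) := by
      constructor
      intro z
      apply h
      have h1 : φ ((fib φ m).ι (pullback.fst (fib φ m).ι (fib φ n).ι z)) = m :=
        (pullback.fst (fib φ m).ι (fib φ n).ι z).2
      have h2 : φ ((fib φ n).ι (pullback.snd (fib φ m).ι (fib φ n).ι z)) = n :=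
        (pullback.snd (fib φ m).ι (fib φ n).ι z).2
      rw [← Scheme.Hom.comp_apply, pullback.condition, Scheme.Hom.comp_apply, h2] at h1
      exact h1.symm
    exact isInitialOfIsEmpty.hom_ext _ _

/-- the morphism to the constant scheme attached to a locally constant function. -/
noncomputable def ofLC (φ : LocallyConstant T M) : T ⟶ ∐ (fun _ : M => S) :=
  (T.openCoverOfIsOpenCover (fib φ) (isOpenCover_fib φ)).glueMorphisms
    (fun m => (fib φ m).ι ≫ p ≫ Sigma.ι (fun _ : M => S) m) (fun m n => compat p φ m n)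

theorem ι_ofLC (φ : LocallyConstant T M) (m : M) :
    (fib φ m).ι ≫ ofLC p φ = (fib φ m).ι ≫ p ≫ Sigma.ι (fun _ : M => S) m :=
  Scheme.Cover.ι_glueMorphisms (T.openCoverOfIsOpenCover (fib φ) (isOpenCover_fib φ)) _ _ m

theorem ofLC_desc (φ : LocallyConstant T M) :
    ofLC p φ ≫ Sigma.desc (fun _ : M => 𝟙 S) = p := by
  apply Scheme.Cover.hom_ext (T.openCoverOfIsOpenCover (fib φ) (isOpenCover_fib φ))
  intro m
  change (fib φ m).ι ≫ ofLC p φ ≫ _ = (fib φ m).ι ≫ p
  rw [← Category.assoc, ι_ofLC, Category.assoc, Category.assoc, Sigma.ι_desc, Category.comp_id]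

theorem toLC_ofLC (φ : LocallyConstant T M) : toLC (ofLC p φ) = φ := by
  ext t
  change idx S M ((ofLC p φ).base t) = φ t
  have ht : t ∈ fib φ (φ t) := rfl
  have h1 : (ofLC p φ).base t = ((fib φ (φ t)).ι ≫ ofLC p φ).base ⟨t, ht⟩ := rfl
  rw [h1, ι_ofLC]
  exact idx_ι S M (φ t) _

theorem ofLC_toLC (f : T ⟶ ∐ (fun _ : M => S))
    (hf : f ≫ Sigma.desc (fun _ : M => 𝟙 S) = p) : ofLC p (toLC f) = f := by
  apply Scheme.Cover.hom_ext (T.openCoverOfIsOpenCover (fib (toLC f)) (isOpenCover_fib (toLC f)))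
  intro m
  change (fib (toLC f) m).ι ≫ ofLC p (toLC f) = (fib (toLC f) m).ι ≫ f
  rw [ι_ofLC]
  have hr : Set.range ((fib (toLC f) m).ι ≫ f).base ⊆
      Set.range (Sigma.ι (fun _ : M => S) m).base := by
    rintro _ ⟨t, rfl⟩
    have h1 : idx S M (f.base ((fib (toLC f) m).ι t)) = m := t.2
    obtain ⟨s, hs⟩ := exists_of_idx_eq S M (f.base ((fib (toLC f) m).ι t))
    rw [h1] at hs
    exact ⟨s, hs⟩
  obtain ⟨g, h2⟩ : ∃ g : (fib (toLC f) m).toScheme ⟶ S,
      g ≫ Sigma.ι (fun _ : M => S) m = (fib (toLC f) m).ι ≫ f :=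
    ⟨_, IsOpenImmersion.lift_fac (Sigma.ι (fun _ : M => S) m) ((fib (toLC f) m).ι ≫ f) hr⟩
  have h3 : g = (fib (toLC f) m).ι ≫ p := by
    calc g = g ≫ Sigma.ι (fun _ : M => S) m ≫ Sigma.desc (fun _ : M => 𝟙 S) := by
          rw [Sigma.ι_desc, Category.comp_id]
      _ = ((fib (toLC f) m).ι ≫ f) ≫ Sigma.desc (fun _ : M => 𝟙 S) := by
          rw [← Category.assoc, h2]
      _ = (fib (toLC f) m).ι ≫ p := by rw [Category.assoc, hf]
  rw [← h2, h3, Category.assoc]

end Groth.Agent.Lib.Helper6.ConstPts
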