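import Groth.Agent.Lib.Helper6.NilpNakayama
import Groth.Agent.S6000
import Mathlib

set_option autoImplicit false
universe u

namespace Groth.Agent.Lib.Helper6.Deform

open TensorProduct

section Basic

variable {B : Type*} [CommRing B] (J : Ideal B)

/-- If `Tor_1^B(B/J, C) = 0` (in the form: `J ⊗ C → B ⊗ C` injective) and `F : P → C` is
surjective, then `ker F ∩ J P ≤ J ker F`. -/
theorem ker_inf_smul_top_le {P C : Type*} [AddCommGroup P] [Module B P] [AddCommGroup C]
    [Module B C] (F : P →ₗ[B] C) (hF : Function.Surjective F)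
    (htor : Function.Injective (J.subtype.rTensor C)) :
    LinearMap.ker F ⊓ J • (⊤ : Submodule B P) ≤ J • LinearMap.ker F := by
  rintro x ⟨hxK, hxJ⟩
  rw [SetLike.mem_coe, ← Ideal.subtype_rTensor_range P J] at hxJ
  obtain ⟨t, rfl⟩ := hxJ
  have hnat : (TensorProduct.lid B C).toLinearMap ∘ₗ (J.subtype.rTensor C) ∘ₗ (F.lTensor J) =
      F ∘ₗ (TensorProduct.lid B P).toLinearMap ∘ₗ (J.subtype.rTensor P) := by
    ext j p
    simp
  have h1 : J.subtype.rTensor C (F.lTensor J t) = 0 := by
    apply (TensorProduct.lid B C).injective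
    have := LinearMap.congr_fun hnat t
    simp only [LinearMap.comp_apply, LinearEquiv.coe_coe] at this
    rw [this, map_zero]
    exact hxK
  have h2 : F.lTensor J t = 0 := htor (h1.trans (map_zero _).symm)
  obtain ⟨s, rfl⟩ := (lTensor_exact J (LinearMap.exact_subtype_ker_map F) hF t).mp h2
  clear hxK h1 h2
  induction s using TensorProduct.induction_on with
  | zero => simp
  | tmul j k =>
    simp only [LinearMap.lTensor_tmul, LinearMap.comp_apply, LinearMap.rTensor_tmul,
      Submodule.subtype_apply, LinearEquiv.coe_coe, TensorProduct.lid_tmul]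
    exact Submodule.smul_mem_smul j.2 k.2
  | add a b ha hb =>
    simp only [map_add]
    exact add_mem ha hb

/-- nilpotent Nakayama, relative form. -/
theorem le_of_le_sup_smul_of_isNilpotent {M : Type*} [AddCommGroup M] [Module B M]
    (hJ : IsNilpotent J) (N N' : Submodule B M) (h : N ≤ N' ⊔ J • N) : N ≤ N' := by
  obtain ⟨n, hn⟩ := hJ
  have key : ∀ m : ℕ, N ≤ N' ⊔ (J ^ m) • N := by
    intro m
    induction m with
    | zero => simp
    | succ m ih =>
      calc N ≤ N' ⊔ (J ^ m) • N := ih
        _ ≤ N' ⊔ (J ^ m) • (N' ⊔ J • N) := by gcongr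
        _ = N' ⊔ ((J ^ m) • N' ⊔ (J ^ m) • J • N) := by rw [Submodule.smul_sup]
        _ ≤ N' ⊔ (J ^ (m + 1)) • N := by
          rw [← sup_assoc]
          apply sup_le_sup
          · exact sup_le le_rfl Submodule.smul_le_right
          · rw [pow_succ, Submodule.mul_smul]
  have := key n
  rwa [hn, Ideal.zero_eq_bot, Submodule.bot_smul, sup_bot_eq] at this

end Basic

section BaseChange

variable {R S M N : Type*} [CommRing R] [CommRing S] [Algebra R S] [AddCommGroup M] [Module R M]
  [AddCommGroup N] [Module R N] [Module S N] [IsScalarTower R S N]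

/-- a surjection `f : M → N` onto an `S`-module with kernel `(ker (R → S)) M`, where `R → S` is
surjective, is a base change. -/
theorem isBaseChange_of_surjective (hS : Function.Surjective (algebraMap R S)) (f : M →ₗ[R] N)
    (hf : Function.Surjective f)
    (hker : LinearMap.ker f = RingHom.ker (algebraMap R S) • (⊤ : Submodule R M)) :
    IsBaseChange S f := by
  apply IsBaseChange.of_lift_unique
  intro Q _ _ _ _ g
  let _ : AddCommGroup Q := Module.addCommMonoidToAddCommGroup R
  have hle : LinearMap.ker f ≤ LinearMap.ker g := by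
    rw [hker, Submodule.smul_le]
    intro r hr m _
    rw [LinearMap.mem_ker, map_smul, ← algebraMap_smul S r (g m), (RingHom.mem_ker).mp hr,
      zero_smul]
  let g₁ : N →ₗ[R] Q := (LinearMap.ker f).liftQ g hle ∘ₗ (f.quotKerEquivOfSurjective hf).symm.toLinearMap
  have hg₁ : ∀ m, g₁ (f m) = g m := by
    intro m
    have : (f.quotKerEquivOfSurjective hf).symm (f m) = Submodule.Quotient.mk m := by
      rw [LinearEquiv.symm_apply_eq]
      rfl
    simp [g₁, this]
  refine ⟨LinearMap.extendScalarsOfSurjective hS g₁, ?_, ?_⟩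
  · ext m
    simp [hg₁]
  · intro g' hg'
    ext n
    obtain ⟨m, rfl⟩ := hf n
    have := LinearMap.congr_fun hg' m
    simp only [LinearMap.comp_apply, LinearMap.restrictScalars_apply] at this
    simp [this, hg₁]

theorem surjective_of_isBaseChange (hS : Function.Surjective (algebraMap R S)) {f : M →ₗ[R] N}
    (h : IsBaseChange S f) : Function.Surjective f := by
  intro y
  induction y using h.inductionOn with
  | zero => exact ⟨0, map_zero _⟩
  | tmul m => exact ⟨m, rfl⟩
  | smul s n hn =>
    obtain ⟨r, rfl⟩ := hS s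
    obtain ⟨m, rfl⟩ := hn
    exact ⟨r • m, by rw [map_smul, algebraMap_smul]⟩
  | add n₁ n₂ h₁ h₂ =>
    obtain ⟨m₁, rfl⟩ := h₁
    obtain ⟨m₂, rfl⟩ := h₂
    exact ⟨m₁ + m₂, map_add _ _ _⟩

theorem ker_eq_of_isBaseChange (hS : Function.Surjective (algebraMap R S)) {f : M →ₗ[R] N}
    (h : IsBaseChange S f) :
    LinearMap.ker f = RingHom.ker (algebraMap R S) • (⊤ : Submodule R M) := by
  apply le_antisymm
  · intro m hm
    rw [LinearMap.mem_ker] at hm
    have h1 : (1 : S) ⊗ₜ[R] m = 0 := by
      apply h.equiv.injective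
      rw [h.equiv_tmul, one_smul, hm, map_zero]
    have hI : (LinearMap.ker (Algebra.linearMap R S) : Ideal R) = RingHom.ker (algebraMap R S) := by
      ext x
      simp [RingHom.mem_ker]
    have hex := rTensor_exact M (LinearMap.exact_subtype_ker_map (Algebra.linearMap R S)) hS
    have h2 : (Algebra.linearMap R S).rTensor M ((1 : R) ⊗ₜ[R] m) = 0 := by
      rw [LinearMap.rTensor_tmul, Algebra.linearMap_apply, map_one, h1]
    obtain ⟨t, ht⟩ := (hex _).mp h2
    have h3 : m ∈ LinearMap.range ((TensorProduct.lid R M).toLinearMap ∘ₗ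
        ((LinearMap.ker (Algebra.linearMap R S) : Ideal R).subtype.rTensor M)) :=
      ⟨t, by rw [LinearMap.comp_apply, ht]; simp⟩
    rw [Ideal.subtype_rTensor_range, hI] at h3
    exact h3
  · rw [Submodule.smul_le]
    intro r hr m _
    rw [LinearMap.mem_ker, map_smul, ← algebraMap_smul S r (f m), (RingHom.mem_ker).mp hr,
      zero_smul]

end BaseChange

theorem flat_of_algHom {R S₁ S₂ M : Type*} [CommRing R] [CommRing S₁] [CommRing S₂]
    [Algebra R S₁] [Algebra R S₂] (φ : S₁ →ₐ[R] S₂) [AddCommGroup M] [Module R M]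
    [Module.Flat S₁ (S₁ ⊗[R] M)] : Module.Flat S₂ (S₂ ⊗[R] M) := by
  let _ := φ.toRingHom.toAlgebra
  have : IsScalarTower R S₁ S₂ := IsScalarTower.of_algebraMap_eq (fun r => (φ.commutes r).symm)
  have : Module.Flat S₂ (S₂ ⊗[S₁] (S₁ ⊗[R] M)) := inferInstance
  exact Module.Flat.of_linearEquiv (AlgebraTensorModule.cancelBaseChange R S₁ S₂ S₂ M).symm

/-- nilpotent Nakayama: a module vanishing after base change along a surjection with nilpotent
kernel vanishes. -/
theorem subsingleton_of_baseChange {R S M : Type*} [CommRing R] [CommRing S] [Algebra R S]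
    [AddCommGroup M] [Module R M] (hS : Function.Surjective (algebraMap R S))
    (hnil : IsNilpotent (RingHom.ker (algebraMap R S))) [Subsingleton (S ⊗[R] M)] :
    Subsingleton M := by
  have h1 := ker_eq_of_isBaseChange hS (TensorProduct.isBaseChange R M S)
  have h2 : LinearMap.ker (TensorProduct.mk R S M 1) = ⊤ := by
    rw [eq_top_iff]
    intro m _
    exact Subsingleton.elim _ _
  rw [h2] at h1
  have h3 := NilpNakayama.eq_top_of_sup_smul_top_of_isNilpotent _ hnil (⊥ : Submodule R M)
    (by rw [← h1]; simp)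
  rw [← Submodule.subsingleton_iff R]
  exact subsingleton_of_bot_eq_top h3

section Main

variable {B B₀ C C₀ : Type u} [CommRing B] [CommRing B₀] [CommRing C] [CommRing C₀]
  [Algebra B B₀] [Algebra B C] [Algebra B₀ C₀] [Algebra C C₀] [Algebra B C₀]
  [IsScalarTower B B₀ C₀] [IsScalarTower B C C₀]

theorem ker_toLinearMap :
    LinearMap.ker (IsScalarTower.toAlgHom B C C₀).toLinearMap =
      (RingHom.ker (algebraMap C C₀)).restrictScalars B := by
  ext c
  simp [RingHom.mem_ker]

/-- kernel data gives a pushout square. -/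
theorem isPushout_of_ker (hB : Function.Surjective (algebraMap B B₀))
    (hC : Function.Surjective (algebraMap C C₀))
    (hker : RingHom.ker (algebraMap C C₀) =
      (RingHom.ker (algebraMap B B₀)).map (algebraMap B C)) :
    Algebra.IsPushout B B₀ C C₀ := by
  constructor
  apply isBaseChange_of_surjective hB
  · exact hC
  · rw [ker_toLinearMap, hker, Ideal.smul_top_eq_map]

/-- pushout square with `B → B₀` surjective gives kernel data. -/
theorem surjective_of_isPushout [h : Algebra.IsPushout B B₀ C C₀]
    (hB : Function.Surjective (algebraMap B B₀)) : Function.Surjective (algebraMap C C₀) :=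
  surjective_of_isBaseChange hB h.out

theorem ker_eq_of_isPushout [h : Algebra.IsPushout B B₀ C C₀]
    (hB : Function.Surjective (algebraMap B B₀)) :
    RingHom.ker (algebraMap C C₀) = (RingHom.ker (algebraMap B B₀)).map (algebraMap B C) := by
  have := ker_eq_of_isBaseChange hB h.out
  rw [ker_toLinearMap, Ideal.smul_top_eq_map] at this
  exact Submodule.restrictScalars_injective B _ _ this

variable (hB : Function.Surjective (algebraMap B B₀))
  (hC : Function.Surjective (algebraMap C C₀))
  (hker : RingHom.ker (algebraMap C C₀) = (RingHom.ker (algebraMap B B₀)).map (algebraMap B C))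
  (hnil : IsNilpotent (RingHom.ker (algebraMap B B₀)))
  (htor : Function.Injective ((RingHom.ker (algebraMap B B₀)).subtype.rTensor C))

include hB hC hker hnil htor in
theorem flat [Module.Flat B₀ C₀] : Module.Flat B C := by
  have := isPushout_of_ker hB hC hker
  rw [Groth.Agent.S6000.result B _ hnil C]
  refine ⟨?_, htor⟩
  have h1 : Module.Flat B₀ (B₀ ⊗[B] C) :=
    Module.Flat.of_linearEquiv (Algebra.IsPushout.equiv B B₀ C C₀).toLinearEquiv
  let ψ₀ : B₀ →+* B ⧸ RingHom.ker (algebraMap B B₀) :=
    RingHom.liftOfSurjective (algebraMap B B₀) hB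
      ⟨Ideal.Quotient.mk _, by rw [Ideal.mk_ker]⟩
  let ψ : B₀ →ₐ[B] B ⧸ RingHom.ker (algebraMap B B₀) :=
    { ψ₀ with
      commutes' := fun b => by
        change ψ₀ (algebraMap B B₀ b) = _
        rw [RingHom.liftOfSurjective_comp_apply]
        rfl }
  exact flat_of_algHom ψ


omit [Algebra B₀ C₀] [Algebra B C₀] [IsScalarTower B B₀ C₀] [IsScalarTower B C C₀] in
include hker hnil in
/-- a `B`-linear map into `C` which is surjective modulo the kernel is surjective. -/
theorem surjective_of_surjective_mod {P : Type*} [AddCommGroup P] [Module B P] (F : P →ₗ[B] C)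
    (h : ∀ c : C, ∃ p : P, algebraMap C C₀ (F p) = algebraMap C C₀ c) : Function.Surjective F := by
  rw [← LinearMap.range_eq_top]
  apply NilpNakayama.eq_top_of_sup_smul_top_of_isNilpotent _ hnil
  rw [eq_top_iff]
  intro c _
  obtain ⟨p, hp⟩ := h c
  have h1 : c - F p ∈ RingHom.ker (algebraMap C C₀) := by
    rw [RingHom.mem_ker, map_sub, hp, sub_self]
  rw [hker] at h1
  have h2 : c - F p ∈ RingHom.ker (algebraMap B B₀) • (⊤ : Submodule B C) := by
    rw [Ideal.smul_top_eq_map]
    exact h1
  have : c = F p + (c - F p) := by abel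
  rw [this]
  exact Submodule.add_mem_sup (LinearMap.mem_range_self F p) h2

include hB hC hker hnil in
theorem exists_lift_presentation (n : ℕ) (f₀ : MvPolynomial (Fin n) B₀ →ₐ[B₀] C₀)
    (hf₀ : Function.Surjective f₀) :
    ∃ F : MvPolynomial (Fin n) B →ₐ[B] C, Function.Surjective F ∧
      ∀ p, algebraMap C C₀ (F p) = f₀ (MvPolynomial.map (algebraMap B B₀) p) := by
  choose c hc using fun i => hC (f₀ (MvPolynomial.X i))
  let F : MvPolynomial (Fin n) B →ₐ[B] C := MvPolynomial.aeval c
  have hcomm : ∀ p, algebraMap C C₀ (F p) = f₀ (MvPolynomial.map (algebraMap B B₀) p) := by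
    intro p
    have : (algebraMap C C₀).comp F.toRingHom =
        f₀.toRingHom.comp (MvPolynomial.map (algebraMap B B₀)) := by
      apply MvPolynomial.ringHom_ext
      · intro b
        simp only [RingHom.comp_apply, AlgHom.toRingHom_eq_coe, RingHom.coe_coe,
          MvPolynomial.map_C]
        rw [← MvPolynomial.algebraMap_eq, AlgHom.commutes, ← MvPolynomial.algebraMap_eq,
          AlgHom.commutes, ← IsScalarTower.algebraMap_apply, ← IsScalarTower.algebraMap_apply]
      · intro i
        simp only [RingHom.comp_apply, AlgHom.toRingHom_eq_coe, RingHom.coe_coe,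
          MvPolynomial.map_X]
        simp [F, hc]
    exact RingHom.congr_fun this p
  refine ⟨F, ?_, hcomm⟩
  have := surjective_of_surjective_mod hker hnil F.toLinearMap (fun c => by
    obtain ⟨p₀, hp₀⟩ := hf₀ (algebraMap C C₀ c)
    obtain ⟨p, rfl⟩ := MvPolynomial.map_surjective (algebraMap B B₀) hB p₀
    exact ⟨p, by rw [AlgHom.toLinearMap_apply, hcomm, hp₀]⟩)
  exact this

include hB hC hker hnil in
theorem finiteType [Algebra.FiniteType B₀ C₀] : Algebra.FiniteType B C := by
  obtain ⟨n, f₀, hf₀⟩ := Algebra.FiniteType.iff_quotient_mvPolynomial''.mp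
    (inferInstance : Algebra.FiniteType B₀ C₀)
  obtain ⟨F, hF, -⟩ := exists_lift_presentation hB hC hker hnil n f₀ hf₀
  exact Algebra.FiniteType.of_surjective F hF

include hB hC hker hnil htor in
theorem finitePresentation [Algebra.FinitePresentation B₀ C₀] :
    Algebra.FinitePresentation B C := by
  classical
  obtain ⟨n, f₀, hf₀⟩ := Algebra.FiniteType.iff_quotient_mvPolynomial''.mp
    (inferInstance : Algebra.FiniteType B₀ C₀)
  obtain ⟨F, hF, hcomm⟩ := exists_lift_presentation hB hC hker hnil n f₀ hf₀
  refine Algebra.FinitePresentation.of_surjective hF ?_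
  have hfg₀ := Algebra.FinitePresentation.ker_fG_of_surjective f₀ hf₀
  have hπs : Function.Surjective (MvPolynomial.map (σ := Fin n) (algebraMap B B₀)) :=
    MvPolynomial.map_surjective _ hB
  -- the kernel of `π` is `J P`
  have hkerπ : ∀ q : MvPolynomial (Fin n) B, MvPolynomial.map (algebraMap B B₀) q = 0 ↔
      q ∈ RingHom.ker (algebraMap B B₀) • (⊤ : Submodule B (MvPolynomial (Fin n) B)) := by
    intro q
    rw [← RingHom.mem_ker, MvPolynomial.ker_map, Ideal.smul_top_eq_map,
      MvPolynomial.algebraMap_eq]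
    rfl
  -- `K` maps onto `ker f₀`
  have hmapK : ∀ p₀ ∈ RingHom.ker f₀.toRingHom, ∃ k ∈ RingHom.ker F.toRingHom,
      MvPolynomial.map (algebraMap B B₀) k = p₀ := by
    intro p₀ hp₀
    obtain ⟨p, rfl⟩ := hπs p₀
    have h1 : F p ∈ RingHom.ker (algebraMap C C₀) := by
      rw [RingHom.mem_ker, hcomm]
      exact hp₀
    rw [hker] at h1
    have h2 : F.toLinearMap p ∈ RingHom.ker (algebraMap B B₀) • (⊤ : Submodule B C) := by
      rw [Ideal.smul_top_eq_map]
      exact h1
    have h3 : (⊤ : Submodule B C) = Submodule.map F.toLinearMap ⊤ := by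
      rw [Submodule.map_top]
      exact (LinearMap.range_eq_top.mpr hF).symm
    rw [h3, ← Submodule.map_smul''] at h2
    obtain ⟨q, hq, hqp⟩ := h2
    refine ⟨p - q, ?_, ?_⟩
    · rw [RingHom.mem_ker]
      change F (p - q) = 0
      rw [map_sub, sub_eq_zero]
      exact hqp.symm
    · rw [map_sub, (hkerπ q).mpr hq, sub_zero]
  obtain ⟨s₀, hs₀⟩ := hfg₀
  choose! lift hliftK hliftπ using hmapK
  set K' : Ideal (MvPolynomial (Fin n) B) := Ideal.span (lift '' (s₀ : Set _)) with hK'
  have hK'le : K' ≤ RingHom.ker F.toRingHom := by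
    rw [hK', Ideal.span_le]
    rintro _ ⟨x, hx, rfl⟩
    exact hliftK x (hs₀ ▸ Ideal.subset_span hx)
  have hK'map : ∀ p₀ ∈ RingHom.ker f₀.toRingHom, ∃ k' ∈ K',
      MvPolynomial.map (algebraMap B B₀) k' = p₀ := by
    intro p₀ hp₀
    rw [← hs₀] at hp₀
    have : Ideal.span (s₀ : Set _) ≤ K'.map (MvPolynomial.map (algebraMap B B₀)) := by
      rw [Ideal.span_le]
      intro x hx
      have := Ideal.mem_map_of_mem (MvPolynomial.map (algebraMap B B₀))
        (Ideal.subset_span (Set.mem_image_of_mem lift hx) : lift x ∈ K')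
      rwa [hliftπ x (hs₀ ▸ Ideal.subset_span hx)] at this
    exact (Ideal.mem_map_iff_of_surjective _ hπs).mp (this hp₀)
  have hle : (RingHom.ker F.toRingHom).restrictScalars B ≤ K'.restrictScalars B := by
    apply le_of_le_sup_smul_of_isNilpotent _ hnil
    intro k hk
    have hk' : k ∈ RingHom.ker F.toRingHom := hk
    have hk0 : f₀ (MvPolynomial.map (algebraMap B B₀) k) = 0 := by
      have hFk : F k = 0 := (RingHom.mem_ker).mp hk'
      rw [← hcomm, hFk, map_zero]
    obtain ⟨k', hk'K, hk'π⟩ := hK'map _ ((RingHom.mem_ker).mpr hk0)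
    have h1 : k - k' ∈ LinearMap.ker F.toLinearMap ⊓
        RingHom.ker (algebraMap B B₀) • (⊤ : Submodule B (MvPolynomial (Fin n) B)) := by
      refine ⟨?_, ?_⟩
      · rw [SetLike.mem_coe, LinearMap.mem_ker, map_sub, sub_eq_zero]
        exact ((RingHom.mem_ker).mp hk').trans ((RingHom.mem_ker).mp (hK'le hk'K)).symm
      · rw [SetLike.mem_coe, ← hkerπ, map_sub, hk'π, sub_self]
    have h2 := ker_inf_smul_top_le _ F.toLinearMap hF htor h1
    have h3 : LinearMap.ker F.toLinearMap = (RingHom.ker F.toRingHom).restrictScalars B := by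
      ext x
      simp [RingHom.mem_ker]
    rw [h3] at h2
    have : k = k' + (k - k') := by abel
    rw [this]
    exact Submodule.add_mem_sup hk'K h2
  have heq : RingHom.ker F.toRingHom = K' := le_antisymm hle hK'le
  rw [heq, hK']
  exact Submodule.fg_span (s₀.finite_toSet.image lift)

include hB hC hker hnil in
theorem formallyUnramified [Algebra.FormallyUnramified B₀ C₀] :
    Algebra.FormallyUnramified B C := by
  have := isPushout_of_ker hB hC hker
  rw [Algebra.formallyUnramified_iff]
  have : Subsingleton (B₀ ⊗[B] Ω[C⁄B]) :=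
    (KaehlerDifferential.tensorKaehlerEquivBase B B₀ C C₀).toEquiv.subsingleton
  exact subsingleton_of_baseChange hB hnil

include hB hC hker hnil htor in
theorem bijective (h : Function.Bijective (algebraMap B₀ C₀)) :
    Function.Bijective (algebraMap B C) := by
  constructor
  · -- injective
    rw [injective_iff_map_eq_zero]
    intro b hb
    have hsurj : Function.Surjective (Algebra.linearMap B C) :=
      surjective_of_surjective_mod hker hnil (Algebra.linearMap B C) (fun c => by
        obtain ⟨b₀, hb₀⟩ := h.2 (algebraMap C C₀ c)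
        obtain ⟨b, rfl⟩ := hB b₀
        refine ⟨b, ?_⟩
        rw [Algebra.linearMap_apply, ← hb₀, ← IsScalarTower.algebraMap_apply,
          ← IsScalarTower.algebraMap_apply])
    have hKJ : LinearMap.ker (Algebra.linearMap B C) ≤
        RingHom.ker (algebraMap B B₀) • (⊤ : Submodule B B) := by
      intro x hx
      rw [LinearMap.mem_ker, Algebra.linearMap_apply] at hx
      rw [Ideal.smul_top_eq_map, Submodule.restrictScalars_mem, Algebra.algebraMap_self,
        Ideal.map_id, RingHom.mem_ker]
      apply h.1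
      rw [map_zero, ← IsScalarTower.algebraMap_apply, IsScalarTower.algebraMap_apply B C C₀, hx,
        map_zero]
    have h1 := ker_inf_smul_top_le _ (Algebra.linearMap B C) hsurj htor
    rw [inf_eq_left.mpr hKJ] at h1
    have h2 := le_of_le_sup_smul_of_isNilpotent _ hnil
      (LinearMap.ker (Algebra.linearMap B C)) ⊥ (by rw [bot_sup_eq]; exact h1)
    exact (Submodule.mem_bot B).mp (h2 (by rwa [LinearMap.mem_ker, Algebra.linearMap_apply]))
  · exact surjective_of_surjective_mod hker hnil (Algebra.linearMap B C) (fun c => by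
      obtain ⟨b₀, hb₀⟩ := h.2 (algebraMap C C₀ c)
      obtain ⟨b, rfl⟩ := hB b₀
      refine ⟨b, ?_⟩
      rw [Algebra.linearMap_apply, ← hb₀, ← IsScalarTower.algebraMap_apply,
        ← IsScalarTower.algebraMap_apply])

include hB hC hker hnil htor in
theorem etale [Algebra.Etale B₀ C₀] : Algebra.Etale B C := by
  have := flat hB hC hker hnil htor
  have := finitePresentation hB hC hker hnil htor
  have := formallyUnramified hB hC hker hnil
  exact Algebra.Etale.of_formallyUnramified_of_flat

include hB hC hker hnil htor in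
theorem smooth [Algebra.Smooth B₀ C₀] : Algebra.Smooth B C := by
  have := flat hB hC hker hnil htor
  have := finitePresentation hB hC hker hnil htor
  have hP := isPushout_of_ker hB hC hker
  apply Algebra.Smooth.of_formallySmooth_fiber
  intro q _
  have hJq : RingHom.ker (algebraMap B B₀) ≤ RingHom.ker (algebraMap B q.ResidueField) := by
    intro x hx
    rw [RingHom.mem_ker, Ideal.algebraMap_residueField_eq_zero]
    obtain ⟨n, hn⟩ := hnil
    have := Ideal.pow_mem_pow hx n
    rw [hn] at this
    exact Ideal.IsPrime.mem_of_pow_mem ‹_› n (by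
      rw [(Ideal.mem_bot.mp this)]; exact zero_mem _)
  let ψ₀ : B₀ →+* q.ResidueField :=
    RingHom.liftOfSurjective (algebraMap B B₀) hB ⟨algebraMap B q.ResidueField, hJq⟩
  let _ : Algebra B₀ q.ResidueField := ψ₀.toAlgebra
  have : IsScalarTower B B₀ q.ResidueField := IsScalarTower.of_algebraMap_eq (fun b => by
    change _ = ψ₀ (algebraMap B B₀ b)
    rw [RingHom.liftOfSurjective_comp_apply])
  have h1 : Algebra.FormallySmooth q.ResidueField (q.ResidueField ⊗[B₀] C₀) := inferInstance
  let e1 : q.ResidueField ⊗[B₀] (B₀ ⊗[B] C) ≃ₐ[q.ResidueField] q.ResidueField ⊗[B₀] C₀ :=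
    Algebra.TensorProduct.congr AlgEquiv.refl (Algebra.IsPushout.equiv B B₀ C C₀)
  let e2 : q.ResidueField ⊗[B₀] (B₀ ⊗[B] C) ≃ₐ[q.ResidueField] q.ResidueField ⊗[B] C :=
    Algebra.TensorProduct.cancelBaseChange B B₀ q.ResidueField q.ResidueField C
  exact Algebra.FormallySmooth.of_equiv (e1.symm.trans e2)

end Main

end Groth.Agent.Lib.Helper6.Deform
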