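import Groth.Agent.Lib.Helper6.Deform
import Mathlib

set_option autoImplicit false
universe u

namespace Groth.Agent.Lib.Helper6.Deform

open TensorProduct

section TorBase

variable {R B M : Type*} [CommRing R] [CommRing B] [Algebra R B] [AddCommGroup M] [Module R M]
  [Module B M] [IsScalarTower R B M]

/-- the comparison map `I ⊗_R M → IB ⊗_B M`. -/
noncomputable def idealTensorMap (I : Ideal R) :
    I ⊗[R] M →+ (I.map (algebraMap R B) : Ideal B) ⊗[B] M :=
  TensorProduct.liftAddHom
    { toFun := fun i =>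
        { toFun := fun m => (⟨algebraMap R B i, Ideal.mem_map_of_mem _ i.2⟩ :
            (I.map (algebraMap R B) : Ideal B)) ⊗ₜ[B] m
          map_zero' := by simp
          map_add' := fun m m' => by rw [TensorProduct.tmul_add] }
      map_zero' := by
        ext m
        simp only [ZeroMemClass.coe_zero, map_zero, AddMonoidHom.coe_mk, ZeroHom.coe_mk,
          AddMonoidHom.zero_apply]
        rw [show (⟨0, _⟩ : (I.map (algebraMap R B) : Ideal B)) = 0 from rfl, TensorProduct.zero_tmul]
      map_add' := fun i i' => by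
        ext m
        simp only [AddMonoidHom.coe_mk, ZeroHom.coe_mk, AddMonoidHom.add_apply]
        rw [← TensorProduct.add_tmul]
        congr 1
        ext
        simp }
    (fun r i m => by
      simp only [AddMonoidHom.coe_mk, ZeroHom.coe_mk]
      rw [← algebraMap_smul B r m, ← TensorProduct.smul_tmul]
      congr 1
      ext
      simp [Algebra.smul_def])

@[simp]
theorem idealTensorMap_tmul (I : Ideal R) (i : I) (m : M) :
    idealTensorMap (B := B) I (i ⊗ₜ[R] m) =
      (⟨algebraMap R B i, Ideal.mem_map_of_mem _ i.2⟩ :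
        (I.map (algebraMap R B) : Ideal B)) ⊗ₜ[B] m := rfl

theorem idealTensorMap_surjective (I : Ideal R) :
    Function.Surjective (idealTensorMap (B := B) (M := M) I) := by
  intro x
  induction x using TensorProduct.induction_on with
  | zero => exact ⟨0, map_zero _⟩
  | add x y hx hy =>
    obtain ⟨a, rfl⟩ := hx
    obtain ⟨b, rfl⟩ := hy
    exact ⟨a + b, map_add _ _ _⟩
  | tmul j m =>
    obtain ⟨j, hj⟩ := j
    revert m
    refine Submodule.span_induction (p := fun j hj => ∀ m : M,
      ∃ a, idealTensorMap (B := B) I a = (⟨j, hj⟩ : (I.map (algebraMap R B) : Ideal B)) ⊗ₜ[B] m)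
      ?_ ?_ ?_ ?_ hj
    · rintro _ ⟨i, hi, rfl⟩ m
      exact ⟨(⟨i, hi⟩ : I) ⊗ₜ m, rfl⟩
    · intro m
      exact ⟨0, by rw [map_zero]; exact (TensorProduct.zero_tmul _ _).symm⟩
    · intro x y hx hy ihx ihy m
      obtain ⟨a, ha⟩ := ihx m
      obtain ⟨b, hb⟩ := ihy m
      refine ⟨a + b, ?_⟩
      rw [map_add, ha, hb, ← TensorProduct.add_tmul]
      rfl
    · intro b x hx ihx m
      obtain ⟨a, ha⟩ := ihx (b • m)
      refine ⟨a, ?_⟩
      rw [ha, ← TensorProduct.smul_tmul]
      rfl

theorem rTensor_injective_of_flat_base (I : Ideal R) [Module.Flat R M] (J : Ideal B)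
    (hJ : J = I.map (algebraMap R B)) : Function.Injective (J.subtype.rTensor M) := by
  subst hJ
  rw [injective_iff_map_eq_zero]
  intro x hx
  obtain ⟨y, rfl⟩ := idealTensorMap_surjective (B := B) (M := M) I x
  have key : ∀ y : I ⊗[R] M, TensorProduct.lid B M
      ((I.map (algebraMap R B)).subtype.rTensor M (idealTensorMap (B := B) I y)) =
      TensorProduct.lid R M (I.subtype.rTensor M y) := by
    intro y
    induction y using TensorProduct.induction_on with
    | zero => simp
    | add a b ha hb => simp only [map_add, ha, hb]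
    | tmul i m => simp
  have h1 : I.subtype.rTensor M y = 0 := by
    apply (TensorProduct.lid R M).injective
    rw [← key, hx, map_zero, map_zero]
  have h2 : y = 0 :=
    Module.Flat.rTensor_preserves_injective_linearMap I.subtype I.injective_subtype
      (h1.trans (map_zero _).symm)
  rw [h2, map_zero]

end TorBase

section Wrapper

variable {R R₀ B B₀ C C₀ : Type u} [CommRing R] [CommRing R₀] [CommRing B] [CommRing B₀]
  [CommRing C] [CommRing C₀]
  (φ : R →+* B) (ψ : B →+* C) (πR : R →+* R₀) (πB : B →+* B₀) (πC : C →+* C₀) (ψ₀ : B₀ →+* C₀)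

/-- generic wrapper: transfers a property of ring maps from `ψ₀ : B₀ → C₀` to `ψ : B → C` in a
nilpotent deformation situation over a base `R` over which `C` is flat. -/
theorem wrapper (Q : ∀ {A A' : Type u} [CommRing A] [CommRing A'], (A →+* A') → Prop)
    (hQ : ∀ {B B₀ C C₀ : Type u} [CommRing B] [CommRing B₀] [CommRing C] [CommRing C₀]
      [Algebra B B₀] [Algebra B C] [Algebra B₀ C₀] [Algebra C C₀] [Algebra B C₀]
      [IsScalarTower B B₀ C₀] [IsScalarTower B C C₀],
      Function.Surjective (algebraMap B B₀) → Function.Surjective (algebraMap C C₀) →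
      RingHom.ker (algebraMap C C₀) = (RingHom.ker (algebraMap B B₀)).map (algebraMap B C) →
      IsNilpotent (RingHom.ker (algebraMap B B₀)) →
      Function.Injective ((RingHom.ker (algebraMap B B₀)).subtype.rTensor C) →
      Q (algebraMap B₀ C₀) → Q (algebraMap B C))
    (hπB : Function.Surjective πB) (hπC : Function.Surjective πC)
    (hkB : RingHom.ker πB = (RingHom.ker πR).map φ)
    (hkC : RingHom.ker πC = (RingHom.ker πR).map (ψ.comp φ))
    (hcomm : ψ₀.comp πB = πC.comp ψ)
    (hnil : IsNilpotent (RingHom.ker πR))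
    (hflat : (ψ.comp φ).Flat) (h : Q ψ₀) : Q ψ := by
  algebraize [ψ, πB, πC, ψ₀, πC.comp ψ, φ, ψ.comp φ]
  have t1 : IsScalarTower B C C₀ := IsScalarTower.of_algebraMap_eq' rfl
  have t2 : IsScalarTower B B₀ C₀ := IsScalarTower.of_algebraMap_eq' hcomm.symm
  have t3 : IsScalarTower R B C := IsScalarTower.of_algebraMap_eq' rfl
  have hker : RingHom.ker (algebraMap C C₀) =
      (RingHom.ker (algebraMap B B₀)).map (algebraMap B C) := by
    change RingHom.ker πC = (RingHom.ker πB).map ψ
    rw [hkC, hkB, Ideal.map_map]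
  have hnil' : IsNilpotent (RingHom.ker (algebraMap B B₀)) := by
    change IsNilpotent (RingHom.ker πB)
    obtain ⟨n, hn⟩ := hnil
    exact ⟨n, by rw [hkB, ← Ideal.map_pow, hn, Ideal.zero_eq_bot, Ideal.map_bot,
      Ideal.zero_eq_bot]⟩
  have htor : Function.Injective ((RingHom.ker (algebraMap B B₀)).subtype.rTensor C) :=
    rTensor_injective_of_flat_base (R := R) (RingHom.ker πR) _ hkB
  exact hQ (B := B) (B₀ := B₀) (C := C) (C₀ := C₀) hπB hπC hker hnil' htor h


include φ πR in
theorem wrapper_flat (hπB : Function.Surjective πB) (hπC : Function.Surjective πC)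
    (hkB : RingHom.ker πB = (RingHom.ker πR).map φ)
    (hkC : RingHom.ker πC = (RingHom.ker πR).map (ψ.comp φ))
    (hcomm : ψ₀.comp πB = πC.comp ψ) (hnil : IsNilpotent (RingHom.ker πR))
    (hflat : (ψ.comp φ).Flat) (h : ψ₀.Flat) : ψ.Flat :=
  wrapper φ ψ πR πB πC ψ₀ (fun f => f.Flat)
    (fun hB hC hker hnil htor h => by
      rw [RingHom.flat_algebraMap_iff] at h ⊢
      exact flat hB hC hker hnil htor) hπB hπC hkB hkC hcomm hnil hflat h

include φ πR in
theorem wrapper_finitePresentation (hπB : Function.Surjective πB) (hπC : Function.Surjective πC)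
    (hkB : RingHom.ker πB = (RingHom.ker πR).map φ)
    (hkC : RingHom.ker πC = (RingHom.ker πR).map (ψ.comp φ))
    (hcomm : ψ₀.comp πB = πC.comp ψ) (hnil : IsNilpotent (RingHom.ker πR))
    (hflat : (ψ.comp φ).Flat) (h : ψ₀.FinitePresentation) : ψ.FinitePresentation :=
  wrapper φ ψ πR πB πC ψ₀ (fun f => f.FinitePresentation)
    (fun hB hC hker hnil htor h => by
      rw [RingHom.finitePresentation_algebraMap] at h ⊢
      exact finitePresentation hB hC hker hnil htor) hπB hπC hkB hkC hcomm hnil hflat h

include φ πR in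
theorem wrapper_smooth (hπB : Function.Surjective πB) (hπC : Function.Surjective πC)
    (hkB : RingHom.ker πB = (RingHom.ker πR).map φ)
    (hkC : RingHom.ker πC = (RingHom.ker πR).map (ψ.comp φ))
    (hcomm : ψ₀.comp πB = πC.comp ψ) (hnil : IsNilpotent (RingHom.ker πR))
    (hflat : (ψ.comp φ).Flat) (h : ψ₀.Smooth) : ψ.Smooth :=
  wrapper φ ψ πR πB πC ψ₀ (fun f => f.Smooth)
    (fun hB hC hker hnil htor h => by
      rw [RingHom.smooth_algebraMap] at h ⊢
      exact smooth hB hC hker hnil htor) hπB hπC hkB hkC hcomm hnil hflat h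

include φ πR in
theorem wrapper_etale (hπB : Function.Surjective πB) (hπC : Function.Surjective πC)
    (hkB : RingHom.ker πB = (RingHom.ker πR).map φ)
    (hkC : RingHom.ker πC = (RingHom.ker πR).map (ψ.comp φ))
    (hcomm : ψ₀.comp πB = πC.comp ψ) (hnil : IsNilpotent (RingHom.ker πR))
    (hflat : (ψ.comp φ).Flat) (h : ψ₀.Etale) : ψ.Etale :=
  wrapper φ ψ πR πB πC ψ₀ (fun f => f.Etale)
    (fun hB hC hker hnil htor h => by
      rw [RingHom.etale_algebraMap] at h ⊢
      exact etale hB hC hker hnil htor) hπB hπC hkB hkC hcomm hnil hflat h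

include φ πR in
theorem wrapper_bijective (hπB : Function.Surjective πB) (hπC : Function.Surjective πC)
    (hkB : RingHom.ker πB = (RingHom.ker πR).map φ)
    (hkC : RingHom.ker πC = (RingHom.ker πR).map (ψ.comp φ))
    (hcomm : ψ₀.comp πB = πC.comp ψ) (hnil : IsNilpotent (RingHom.ker πR))
    (hflat : (ψ.comp φ).Flat) (h : Function.Bijective ψ₀) : Function.Bijective ψ :=
  wrapper φ ψ πR πB πC ψ₀ (fun f => Function.Bijective f)
    (fun hB hC hker hnil htor h => bijective hB hC hker hnil htor h)
    hπB hπC hkB hkC hcomm hnil hflat h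

end Wrapper

end Groth.Agent.Lib.Helper6.Deform
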