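import Mathlib
import Groth.Agent.Lib.Helper20.FPApprox

set_option autoImplicit false
universe u
open CategoryTheory

/-!
# Factoring an element of a finitary functor through a finitely presented subalgebra

If `F : CommAlgCat A ⥤ Type` preserves filtered colimits, every `ξ ∈ F(Λ)` comes from some
`ξ₀ ∈ F(B)` with `B` a finitely presented `A`-algebra mapping to `Λ`.  This is obtained from
the presentation of `Λ` as a filtered colimit of finitely presented `A`-algebras given by
`Groth.Agent.Lib.Helper20.FPApprox`.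
-/

namespace Groth.Agent.Lib.Helper6.FPFactor

open Groth.Agent.Lib.Helper20.FPApprox

section

variable {A : Type u} [CommRing A] (Λ : Type u) [CommRing Λ] [Algebra A Λ]

/-- all presentations are good -/
abbrev allGood : Pres A Λ → Prop := fun _ => True

/-- the diagram of all finite presentations, valued in `CommAlgCat A` -/
noncomputable def diag : GoodPres (allGood (A := A) Λ) ⥤ CommAlgCat.{u} A where
  obj j := CommAlgCat.of A j.1.Alg
  map {j j'} g := CommAlgCat.ofHom (Pres.trans (j := j.1) (j' := j'.1) (leOfHom g))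
  map_id j := by
    ext x
    exact Pres.trans_refl (j := j.1) le_rfl x
  map_comp {j j' j''} g g' := by
    ext x
    exact (Pres.trans_trans (j := j.1) (j' := j'.1) (j'' := j''.1) (leOfHom g) (leOfHom g')
      (leOfHom (g ≫ g')) x).symm

/-- the cocone over `Λ` in `CommAlgCat A` -/
noncomputable def coconeAlg : Limits.Cocone (diag (A := A) Λ) where
  pt := CommAlgCat.of A Λ
  ι :=
    { app := fun j => CommAlgCat.ofHom j.1.leg
      naturality := fun j j' g => by
        ext x
        exact Pres.leg_trans (j := j.1) (j' := j'.1) (leOfHom g) x }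

theorem hcof : ∀ S₀ : Finset Λ, ∃ j : Pres A Λ, allGood (A := A) Λ j ∧ S₀ ⊆ j.S := fun S₀ =>
  ⟨⟨S₀, ⊥, Submodule.fg_bot, fun x hx => by
    rw [Ideal.mem_bot] at hx
    rw [hx, map_zero]⟩, trivial, Finset.Subset.refl _⟩

theorem hup : ∀ (j : Pres A Λ) (I' : Ideal (MvPolynomial j.S A)) (fg' : I'.FG)
    (le_ker' : ∀ x ∈ I', ev A Λ j.S x = 0), j.I ≤ I' → allGood (A := A) Λ j →
      allGood (A := A) Λ ⟨j.S, I', fg', le_ker'⟩ :=
  fun _ _ _ _ _ _ => trivial

theorem exists_isColimit_alg :
    ∃ (_ : IsDirected (GoodPres (allGood (A := A) Λ)) (· ≤ ·))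
      (_ : Nonempty (GoodPres (allGood (A := A) Λ))),
      Nonempty (Limits.IsColimit (coconeAlg (A := A) Λ)) := by
  obtain ⟨hd, hn, ⟨hc⟩⟩ := exists_isColimit (allGood (A := A) Λ) (hcof Λ) (hup Λ)
  refine ⟨hd, hn, ⟨?_⟩⟩
  let e := commAlgCatEquivUnder (CommRingCat.of A)
  have hc' : Limits.IsColimit (e.functor.mapCocone (coconeAlg (A := A) Λ)) := hc
  exact Limits.isColimitOfReflects e.functor hc'

end

theorem exists_fp_factor {A : Type u} [CommRing A] (Λ : Type u) [CommRing Λ] [Algebra A Λ]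
    (F : CommAlgCat.{u} A ⥤ Type u) [Limits.PreservesFilteredColimits F]
    (ξ : F.obj (CommAlgCat.of A Λ)) :
    ∃ (B : Type u) (_ : CommRing B) (_ : Algebra A B) (_ : Algebra.FinitePresentation A B)
      (ι : B →ₐ[A] Λ) (ξ₀ : F.obj (CommAlgCat.of A B)),
      F.map (CommAlgCat.ofHom ι) ξ₀ = ξ := by
  obtain ⟨hd, hn, ⟨hc⟩⟩ := exists_isColimit_alg (A := A) Λ
  have hc' : Limits.IsColimit (F.mapCocone (coconeAlg (A := A) Λ)) :=
    Limits.isColimitOfPreserves F hc
  obtain ⟨j, ξj, hξ⟩ := Limits.Types.jointly_surjective_of_isColimit hc' ξ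
  exact ⟨j.1.Alg, inferInstance, inferInstance, j.1.finitePresentation, j.1.leg, ξj, hξ⟩

end Groth.Agent.Lib.Helper6.FPFactor
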