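import Mathlib.RingTheory.Flat.Equalizer
import Mathlib.LinearAlgebra.TensorProduct.Prod
import Mathlib.RingTheory.RingHom.Flat

set_option autoImplicit false

open TensorProduct

/-! Copied from `Groth.Agent.Lib.Helper74.FibreSq` (helper74), to keep this development self-contained. -/
namespace Groth.Agent.Lib.Helper6.FibSq

universe u v w

theorem flat_of_exact {R : Type u} [CommRing R] {K N P : Type v}
    [AddCommGroup K] [AddCommGroup N] [AddCommGroup P] [Module R K] [Module R N] [Module R P]
    (g : K →ₗ[R] N) (f : N →ₗ[R] P) (hg : Function.Injective g) (hf : Function.Surjective f)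
    (H : Function.Exact g f) [Module.Flat R N] [Module.Flat R P] : Module.Flat R K := by
  rw [Module.Flat.iff_rTensor_preserves_injective_linearMap]
  intro X Y _ _ _ _ i hi
  have h1 : Function.Injective (g.lTensor X) :=
    LinearMap.lTensor_injective_of_exact_of_flat f hf g hg H X
  have h2 : Function.Injective (i.rTensor N) :=
    Module.Flat.rTensor_preserves_injective_linearMap i hi
  have h3 : (g.lTensor Y) ∘ₗ (i.rTensor K) = (i.rTensor N) ∘ₗ (g.lTensor X) := by
    ext; simp
  have h4 : Function.Injective ((g.lTensor Y) ∘ₗ (i.rTensor K)) := by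
    rw [h3]; exact h2.comp h1
  exact Function.Injective.of_comp (f := g.lTensor Y) (by rw [← LinearMap.coe_comp]; exact h4)

theorem flat_prod {R : Type u} [CommRing R] {M N : Type v}
    [AddCommGroup M] [AddCommGroup N] [Module R M] [Module R N]
    [Module.Flat R M] [Module.Flat R N] : Module.Flat R (M × N) := by
  rw [Module.Flat.iff_rTensor_preserves_injective_linearMap]
  intro X Y _ _ _ _ i hi
  have h1 : Function.Injective (i.rTensor M) :=
    Module.Flat.rTensor_preserves_injective_linearMap i hi
  have h2 : Function.Injective (i.rTensor N) :=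
    Module.Flat.rTensor_preserves_injective_linearMap i hi
  have h3 : (TensorProduct.prodRight R R Y M N).toLinearMap ∘ₗ (i.rTensor (M × N)) =
      (LinearMap.prodMap (i.rTensor M) (i.rTensor N)) ∘ₗ
        (TensorProduct.prodRight R R X M N).toLinearMap := by
    ext <;> simp
  have h4 : Function.Injective
      ((TensorProduct.prodRight R R Y M N).toLinearMap ∘ₗ (i.rTensor (M × N))) := by
    rw [h3]
    exact (Function.Injective.prodMap h1 h2).comp (TensorProduct.prodRight R R X M N).injective
  exact Function.Injective.of_comp (f := (TensorProduct.prodRight R R Y M N)) (by exact h4)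

section square

variable {R : Type u} [CommRing R] {B' B A' A : Type v}
  [AddCommGroup B'] [AddCommGroup B] [AddCommGroup A'] [AddCommGroup A]
  [Module R B'] [Module R B] [Module R A'] [Module R A]
  (p : B' →ₗ[R] B) (q : B' →ₗ[R] A') (s : B →ₗ[R] A) (t : A' →ₗ[R] A)

theorem sq_injective
    (hfib : ∀ (b : B) (a' : A'), s b = t a' → ∃! b' : B', p b' = b ∧ q b' = a')
    (hcomm : ∀ b', s (p b') = t (q b')) :
    Function.Injective (p.prod q) := by
  intro x y hxy
  have h1 : p x = p y := congrArg Prod.fst hxy
  have h2 : q x = q y := congrArg Prod.snd hxy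
  obtain ⟨_, _, hu⟩ := hfib (p y) (q y) (hcomm y)
  rw [hu x ⟨h1, h2⟩, hu y ⟨rfl, rfl⟩]

theorem sq_surjective (ht : Function.Surjective t) :
    Function.Surjective (s.coprod (-t)) := by
  intro a
  obtain ⟨a', rfl⟩ := ht a
  exact ⟨(0, -a'), by simp⟩

theorem sq_exact
    (hfib : ∀ (b : B) (a' : A'), s b = t a' → ∃! b' : B', p b' = b ∧ q b' = a')
    (hcomm : ∀ b', s (p b') = t (q b')) :
    Function.Exact (p.prod q) (s.coprod (-t)) := by
  intro x
  constructor
  · intro hx
    have : s x.1 = t x.2 := by
      have : s x.1 - t x.2 = 0 := by simpa [sub_eq_add_neg] using hx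
      exact sub_eq_zero.mp this
    obtain ⟨b', ⟨h1, h2⟩, _⟩ := hfib x.1 x.2 this
    exact ⟨b', Prod.ext h1 h2⟩
  · rintro ⟨b', rfl⟩
    simp [hcomm b']

theorem sq_flat
    (hfib : ∀ (b : B) (a' : A'), s b = t a' → ∃! b' : B', p b' = b ∧ q b' = a')
    (hcomm : ∀ b', s (p b') = t (q b')) (ht : Function.Surjective t)
    [Module.Flat R B] [Module.Flat R A'] [Module.Flat R A] : Module.Flat R B' := by
  have : Module.Flat R (B × A') := flat_prod
  exact flat_of_exact (p.prod q) (s.coprod (-t)) (sq_injective p q s t hfib hcomm)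
    (sq_surjective s t ht) (sq_exact p q s t hfib hcomm)

theorem sq_baseChange
    (hfib : ∀ (b : B) (a' : A'), s b = t a' → ∃! b' : B', p b' = b ∧ q b' = a')
    (hcomm : ∀ b', s (p b') = t (q b')) (ht : Function.Surjective t)
    [Module.Flat R A] (X : Type w) [AddCommGroup X] [Module R X]
    (x : X ⊗[R] B) (y : X ⊗[R] A') (hxy : s.lTensor X x = t.lTensor X y) :
    ∃! z : X ⊗[R] B', p.lTensor X z = x ∧ q.lTensor X z = y := by
  have hinj : Function.Injective ((p.prod q).lTensor X) :=
    LinearMap.lTensor_injective_of_exact_of_flat (s.coprod (-t)) (sq_surjective s t ht)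
      (p.prod q) (sq_injective p q s t hfib hcomm) (sq_exact p q s t hfib hcomm) X
  have hex : Function.Exact ((p.prod q).lTensor X) ((s.coprod (-t)).lTensor X) :=
    lTensor_exact X (sq_exact p q s t hfib hcomm) (sq_surjective s t ht)
  have hfst : ∀ z, (LinearMap.fst R B A').lTensor X ((p.prod q).lTensor X z) = p.lTensor X z := by
    intro z
    rw [← LinearMap.comp_apply, ← LinearMap.lTensor_comp]
    congr 2
  have hsnd : ∀ z, (LinearMap.snd R B A').lTensor X ((p.prod q).lTensor X z) = q.lTensor X z := by
    intro z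
    rw [← LinearMap.comp_apply, ← LinearMap.lTensor_comp]
    congr 2
  have hdecomp : ∀ w : X ⊗[R] (B × A'),
      w = (LinearMap.inl R B A').lTensor X ((LinearMap.fst R B A').lTensor X w) +
        (LinearMap.inr R B A').lTensor X ((LinearMap.snd R B A').lTensor X w) := by
    intro w
    rw [← LinearMap.comp_apply, ← LinearMap.comp_apply, ← LinearMap.lTensor_comp,
      ← LinearMap.lTensor_comp, ← LinearMap.add_apply, ← LinearMap.lTensor_add]
    have : LinearMap.inl R B A' ∘ₗ LinearMap.fst R B A' +
        LinearMap.inr R B A' ∘ₗ LinearMap.snd R B A' = LinearMap.id := by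
      ext <;> simp
    rw [this, LinearMap.lTensor_id, LinearMap.id_apply]
  set w : X ⊗[R] (B × A') := (LinearMap.inl R B A').lTensor X x + (LinearMap.inr R B A').lTensor X y
    with hw
  have hw0 : (s.coprod (-t)).lTensor X w = 0 := by
    rw [hw, map_add, ← LinearMap.comp_apply, ← LinearMap.comp_apply, ← LinearMap.lTensor_comp,
      ← LinearMap.lTensor_comp, LinearMap.coprod_inl, LinearMap.coprod_inr, LinearMap.lTensor_neg,
      LinearMap.neg_apply, hxy, add_neg_cancel]
  obtain ⟨z, hz⟩ := (hex w).mp hw0
  have hwf : (LinearMap.fst R B A').lTensor X w = x := by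
    rw [hw, map_add, ← LinearMap.comp_apply, ← LinearMap.comp_apply, ← LinearMap.lTensor_comp,
      ← LinearMap.lTensor_comp, LinearMap.fst_comp_inl, LinearMap.fst_comp_inr,
      LinearMap.lTensor_id, LinearMap.lTensor_zero, LinearMap.id_apply, LinearMap.zero_apply,
      add_zero]
  have hws : (LinearMap.snd R B A').lTensor X w = y := by
    rw [hw, map_add, ← LinearMap.comp_apply, ← LinearMap.comp_apply, ← LinearMap.lTensor_comp,
      ← LinearMap.lTensor_comp, LinearMap.snd_comp_inl, LinearMap.snd_comp_inr,
      LinearMap.lTensor_id, LinearMap.lTensor_zero, LinearMap.id_apply, LinearMap.zero_apply,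
      zero_add]
  refine ⟨z, ⟨?_, ?_⟩, ?_⟩
  · rw [← hfst, hz, hwf]
  · rw [← hsnd, hz, hws]
  · rintro z' ⟨h1, h2⟩
    apply hinj
    rw [hz, hdecomp ((p.prod q).lTensor X z'), hfst, hsnd, h1, h2]

end square

section ringHom

variable {R B' B A' A : Type u} [CommRing R] [CommRing B'] [CommRing B] [CommRing A'] [CommRing A]

/-- ring-hom form: `B' = B ×_A A'` with `B → A` surjective; if `B`, `A'`, `A` are flat over `R`
then so is `B'`. -/
theorem flat_of_fibre_ringHom (r : R →+* B') (p : B' →+* B) (a : B' →+* A') (s : B →+* A)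
    (t : A' →+* A) (hcomm : ∀ b', s (p b') = t (a b'))
    (hfib : ∀ (b : B) (a' : A'), s b = t a' → ∃! b' : B', p b' = b ∧ a b' = a')
    (hs : Function.Surjective s)
    (h1 : (p.comp r).Flat) (h2 : (a.comp r).Flat) (h3 : (s.comp (p.comp r)).Flat) : r.Flat := by
  letI := r.toAlgebra
  letI := (p.comp r).toAlgebra
  letI := (a.comp r).toAlgebra
  letI := (s.comp (p.comp r)).toAlgebra
  let pl : B' →ₗ[R] B :=
    { toFun := p, map_add' := map_add p, map_smul' := fun c x => by
        simp [Algebra.smul_def, RingHom.algebraMap_toAlgebra] }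
  let al : B' →ₗ[R] A' :=
    { toFun := a, map_add' := map_add a, map_smul' := fun c x => by
        simp [Algebra.smul_def, RingHom.algebraMap_toAlgebra] }
  let sl : B →ₗ[R] A :=
    { toFun := s, map_add' := map_add s, map_smul' := fun c x => by
        simp [Algebra.smul_def, RingHom.algebraMap_toAlgebra] }
  let tl : A' →ₗ[R] A :=
    { toFun := t, map_add' := map_add t, map_smul' := fun c x => by
        simp [Algebra.smul_def, RingHom.algebraMap_toAlgebra, hcomm] }
  haveI : Module.Flat R B := h1
  haveI : Module.Flat R A' := h2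
  haveI : Module.Flat R A := h3
  have hfib' : ∀ (a' : A') (b : B), tl a' = sl b → ∃! b' : B', al b' = a' ∧ pl b' = b := by
    intro a' b h
    obtain ⟨z, ⟨hz1, hz2⟩, hu⟩ := hfib b a' h.symm
    exact ⟨z, ⟨hz2, hz1⟩, fun z' hz' => hu z' ⟨hz'.2, hz'.1⟩⟩
  exact sq_flat al pl tl sl hfib' (fun b' => (hcomm b').symm) hs

end ringHom

end Groth.Agent.Lib.Helper6.FibSq
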