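import Mathlib

set_option autoImplicit false
universe w u
open AlgebraicGeometry CategoryTheory Limits

namespace Groth.Agent.Lib.Helper6.FpqcColim

/-- sheaf property of `Hom(-, T)` for an fpqc covering family given as `ofArrows`. -/
theorem isSheafFor_yoneda {W : Scheme.{u}} {I : Type w} (X : I → Scheme.{u}) (f : ∀ i, X i ⟶ W)
    (hF : Presieve.ofArrows X f ∈ Scheme.fpqcPrecoverage W) (T : Scheme.{u}) :
    Presieve.IsSheafFor (yoneda.obj T) (Presieve.ofArrows X f) := by
  have h1 : Presieve.IsSheaf Scheme.fpqcTopology (yoneda.obj T) :=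
    GrothendieckTopology.Subcanonical.isSheaf_of_isRepresentable _
  rw [Presieve.isSheafFor_iff_generate]
  exact h1 _ (Precoverage.generate_mem_toGrothendieck hF)

theorem exists_unique_glue {W : Scheme.{u}} {I : Type w} (X : I → Scheme.{u}) (f : ∀ i, X i ⟶ W)
    (hF : Presieve.ofArrows X f ∈ Scheme.fpqcPrecoverage W) (T : Scheme.{u})
    (φ : ∀ i, X i ⟶ T)
    (hφ : ∀ i j, pullback.fst (f i) (f j) ≫ φ i = pullback.snd (f i) (f j) ≫ φ j) :
    ∃! t : W ⟶ T, ∀ i, f i ≫ t = φ i := by
  have h := (Presieve.isSheafFor_arrows_iff_pullbacks (yoneda.obj T) f).mp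
    (isSheafFor_yoneda X f hF T) φ (fun i j => hφ i j)
  exact h

theorem hom_ext_of_cover {W : Scheme.{u}} {I : Type w} (X : I → Scheme.{u}) (f : ∀ i, X i ⟶ W)
    (hF : Presieve.ofArrows X f ∈ Scheme.fpqcPrecoverage W) {T : Scheme.{u}}
    (a b : W ⟶ T) (h : ∀ i, f i ≫ a = f i ≫ b) : a = b := by
  have hs := (isSheafFor_yoneda X f hF T).isSeparatedFor
  refine hs.ext ?_
  rintro Y g ⟨i⟩
  exact h i

variable {J : Type u} [SmallCategory J] (D : J ⥤ Scheme.{u}) (c : Cocone D)

/-- the base-changed diagram -/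
noncomputable abbrev bcD {V : Scheme.{u}} (p : V ⟶ c.pt) : J ⥤ Over V :=
  D.toOver c.pt (fun j => c.ι.app j) (fun g => c.w g) ⋙ Over.pullback p

/-- the cocone on the base-changed diagram induced by a cocone on `D`. -/
noncomputable def bcCocone {V : Scheme.{u}} (p : V ⟶ c.pt) (s : Cocone D) :
    Cocone (bcD D c p ⋙ Over.forget V) where
  pt := s.pt
  ι :=
    { app := fun j => pullback.fst (c.ι.app j) p ≫ s.ι.app j
      naturality := by
        intro j j' g
        simp only [Functor.comp_obj, Over.forget_obj, Functor.comp_map, Over.forget_map,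
          Functor.const_obj_obj, Functor.const_obj_map, Category.comp_id]
        change pullback.lift (pullback.fst (c.ι.app j) p ≫ D.map g) (pullback.snd (c.ι.app j) p) _ ≫
          pullback.fst (c.ι.app j') p ≫ s.ι.app j' = _
        rw [pullback.lift_fst_assoc, Category.assoc, s.w]
        rfl }

theorem existsUnique_desc {V : Scheme.{u}} (p : V ⟶ c.pt)
    (hcol : IsColimit ((Over.forgetCocone V).whisker (bcD D c p))) (s : Cocone D) :
    ∃! φ : V ⟶ s.pt, ∀ j, pullback.snd (c.ι.app j) p ≫ φ = pullback.fst (c.ι.app j) p ≫ s.ι.app j := by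
  refine ⟨hcol.desc (bcCocone D c p s), fun j => ?_, fun m hm => ?_⟩
  · exact hcol.fac (bcCocone D c p s) j
  · exact hcol.uniq (bcCocone D c p s) m fun j => hm j

end Groth.Agent.Lib.Helper6.FpqcColim
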