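import Mathlib
import Groth.Prelude.Def_HilbD
import Groth.Agent.Lib.Helper5.DescClosed
import Groth.Agent.Lib.Helper14.QuotStGeom
import Groth.Agent.S0084

set_option autoImplicit false
set_option linter.unusedSectionVars false
set_option linter.style.haveILetI false
universe u
open CategoryTheory CategoryTheory.Limits AlgebraicGeometry

namespace Groth.Agent.Lib.Helper6.HilbDesc

variable {X S : Scheme.{u}} (f : X ⟶ S)

/-- `HilbD.pull` is the pullback of ideal sheaves. -/
theorem pull_eq_comap {T T' : Over S} (g : T' ⟶ T) (I : (PicF.XT f T).IdealSheafData) :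
    HilbD.pull f g I = I.comap (PicF.XTmap f g) := by
  unfold HilbD.pull Scheme.IdealSheafData.comap
  have e1 : pullback.snd I.subschemeι (PicF.XTmap f g) =
      (pullbackSymmetry _ _).hom ≫ pullback.fst (PicF.XTmap f g) I.subschemeι := by
    simp
  rw [e1, Scheme.Hom.ker_comp_of_isIso]

variable (T : Over S) {T' : Scheme.{u}} (g : T' ⟶ T.left)

/-- the base-changed cover `X_{T'} ⟶ X_T`. -/
noncomputable abbrev G : PicF.XT f (HilbD.coverOver T g) ⟶ PicF.XT f T :=
  PicF.XTmap f (HilbD.coverHom T g)

theorem G_fst : G f T g ≫ pullback.fst f T.hom = pullback.fst f (g ≫ T.hom) := by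
  unfold G PicF.XTmap
  rw [pullback.lift_fst, Category.comp_id]
  rfl

theorem G_snd : G f T g ≫ pullback.snd f T.hom = pullback.snd f (g ≫ T.hom) ≫ g := by
  unfold G PicF.XTmap
  rw [pullback.lift_snd]
  rfl

theorem isPullback_G :
    IsPullback (G f T g) (PicF.XTproj f (HilbD.coverOver T g)) (PicF.XTproj f T) g := by
  refine IsPullback.of_right (h₁₂ := pullback.fst f T.hom) (h₂₂ := T.hom) (v₁₃ := f) ?_ ?_
    (IsPullback.of_hasPullback f T.hom)
  · rw [G_fst]
    exact IsPullback.of_hasPullback f (g ≫ T.hom)
  · exact G_snd f T g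

instance [Flat g] : Flat (G f T g) :=
  MorphismProperty.of_isPullback (P := @Flat) (isPullback_G f T g).flip inferInstance

instance [QuasiCompact g] : QuasiCompact (G f T g) :=
  MorphismProperty.of_isPullback (P := @QuasiCompact) (isPullback_G f T g).flip inferInstance

instance [Surjective g] : Surjective (G f T g) :=
  MorphismProperty.of_isPullback (P := @Surjective) (isPullback_G f T g).flip inferInstance

/-- comparison map from the double overlap of `G` to `X` over the double overlap of `g`. -/
noncomputable def θ : pullback (G f T g) (G f T g) ⟶ PicF.XT f (HilbD.overlapOver T g) :=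
  pullback.lift (pullback.fst (G f T g) (G f T g) ≫ pullback.fst f (g ≫ T.hom))
    (pullback.lift (pullback.fst (G f T g) (G f T g) ≫ pullback.snd f (g ≫ T.hom))
      (pullback.snd (G f T g) (G f T g) ≫ pullback.snd f (g ≫ T.hom))
      (by
        rw [Category.assoc, Category.assoc, ← G_snd f T g, pullback.condition_assoc]))
    (by
      rw [Category.assoc, pullback.condition]
      change _ = _ ≫ (pullback.fst g g ≫ g) ≫ T.hom
      simp only [Category.assoc, pullback.lift_fst_assoc])

theorem θ_fst : θ f T g ≫ PicF.XTmap f (HilbD.overlapFst T g) =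
    pullback.fst (G f T g) (G f T g) := by
  apply pullback.hom_ext
  · unfold θ PicF.XTmap
    rw [Category.assoc, pullback.lift_fst, pullback.lift_fst_assoc, Category.comp_id]
    rfl
  · unfold θ PicF.XTmap
    rw [Category.assoc, pullback.lift_snd, pullback.lift_snd_assoc]
    change pullback.lift _ _ _ ≫ pullback.fst g g = _
    rw [pullback.lift_fst]
    rfl

theorem θ_snd : θ f T g ≫ PicF.XTmap f (HilbD.overlapSnd T g) =
    pullback.snd (G f T g) (G f T g) := by
  apply pullback.hom_ext
  · unfold θ PicF.XTmap
    rw [Category.assoc, pullback.lift_fst, pullback.lift_fst_assoc, Category.comp_id,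
      ← G_fst f T g, pullback.condition_assoc, G_fst f T g]
    rfl
  · unfold θ PicF.XTmap
    rw [Category.assoc, pullback.lift_snd, pullback.lift_snd_assoc]
    change pullback.lift _ _ _ ≫ pullback.snd g g = _
    rw [pullback.lift_snd]
    rfl

/-- the overlap condition in the form needed for descent. -/
theorem overlap_comap (I' : (PicF.XT f (HilbD.coverOver T g)).IdealSheafData)
    (h : HilbD.pull f (HilbD.overlapFst T g) I' = HilbD.pull f (HilbD.overlapSnd T g) I') :
    I'.comap (pullback.fst (G f T g) (G f T g)) = I'.comap (pullback.snd (G f T g) (G f T g)) := by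
  rw [pull_eq_comap, pull_eq_comap] at h
  rw [← θ_fst, ← θ_snd, Scheme.IdealSheafData.comap_comp, Scheme.IdealSheafData.comap_comp, h]

/-- the big cartesian square for a pulled back closed subscheme. -/
theorem isPullback_sub (J : (PicF.XT f T).IdealSheafData) :
    IsPullback ((J.comapIso (G f T g)).hom ≫ pullback.snd (G f T g) J.subschemeι)
      ((J.comap (G f T g)).subschemeι ≫ PicF.XTproj f (HilbD.coverOver T g))
      (J.subschemeι ≫ PicF.XTproj f T) g := by
  have top : IsPullback ((J.comapIso (G f T g)).hom ≫ pullback.snd (G f T g) J.subschemeι)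
      (J.comap (G f T g)).subschemeι J.subschemeι (G f T g) := by
    refine (IsPullback.of_iso_pullback ⟨?_⟩ (J.comapIso (G f T g)) ?_ rfl).flip
    · rw [Category.assoc, ← pullback.condition, Scheme.IdealSheafData.comapIso_hom_fst_assoc]
    · exact Scheme.IdealSheafData.comapIso_hom_fst J (G f T g)
  exact top.paste_vert (isPullback_G f T g)

end Groth.Agent.Lib.Helper6.HilbDesc
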