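import Mathlib
import Groth.Prelude.Def_HilbD
import Groth.Agent.Lib.Helper6.HilbDesc
import Groth.Agent.Lib.Helper6.MT7

set_option autoImplicit false
set_option linter.unusedSectionVars false
set_option linter.style.haveILetI false
universe u
open CategoryTheory CategoryTheory.Limits AlgebraicGeometry

namespace Groth.Agent.Lib.Helper6.HilbIncl

open Groth.Agent.Lib.Helper6.EssFreeLocal Groth.Agent.Lib.Helper6.HilbDesc

variable {X S : Scheme.{u}} (f : X ⟶ S)

section Maps
variable {T T' T'' : Over S} (g : T' ⟶ T)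

@[reassoc]
theorem XTmap_fst : PicF.XTmap f g ≫ pullback.fst f T.hom = pullback.fst f T'.hom := by
  unfold PicF.XTmap
  rw [pullback.lift_fst, Category.comp_id]

@[reassoc]
theorem XTmap_snd : PicF.XTmap f g ≫ pullback.snd f T.hom = pullback.snd f T'.hom ≫ g.left := by
  unfold PicF.XTmap
  rw [pullback.lift_snd]

theorem XTmap_comp (h : T'' ⟶ T') : PicF.XTmap f (h ≫ g) = PicF.XTmap f h ≫ PicF.XTmap f g := by
  apply pullback.hom_ext
  · rw [Category.assoc, XTmap_fst, XTmap_fst, XTmap_fst]
  · rw [Category.assoc, XTmap_snd, XTmap_snd, XTmap_snd_assoc, Over.comp_left]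

theorem isPullback_XTmap :
    IsPullback (PicF.XTmap f g) (PicF.XTproj f T') (PicF.XTproj f T) g.left := by
  refine IsPullback.of_right (h₁₂ := pullback.fst f T.hom) (h₂₂ := T.hom) (v₁₃ := f) ?_ ?_
    (IsPullback.of_hasPullback f T.hom)
  · rw [XTmap_fst, Over.w g]
    exact IsPullback.of_hasPullback f T'.hom
  · exact XTmap_snd f g

/-- the big cartesian square for a pulled back closed subscheme. -/
theorem isPullback_sub (J : (PicF.XT f T).IdealSheafData) :
    IsPullback ((J.comapIso (PicF.XTmap f g)).hom ≫ pullback.snd (PicF.XTmap f g) J.subschemeι)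
      ((J.comap (PicF.XTmap f g)).subschemeι ≫ PicF.XTproj f T')
      (J.subschemeι ≫ PicF.XTproj f T) g.left := by
  have top : IsPullback
      ((J.comapIso (PicF.XTmap f g)).hom ≫ pullback.snd (PicF.XTmap f g) J.subschemeι)
      (J.comap (PicF.XTmap f g)).subschemeι J.subschemeι (PicF.XTmap f g) := by
    refine (IsPullback.of_iso_pullback ⟨?_⟩ (J.comapIso (PicF.XTmap f g)) ?_ rfl).flip
    · rw [Category.assoc, ← pullback.condition, Scheme.IdealSheafData.comapIso_hom_fst_assoc]
    · exact Scheme.IdealSheafData.comapIso_hom_fst J (PicF.XTmap f g)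
  exact top.paste_vert (isPullback_XTmap f g)

/-- functoriality of the Hilbert functor of points. -/
theorem finLocFree_pull (d : ℕ) (J : (PicF.XT f T).IdealSheafData)
    (hJ : Mor2.IsFinLocFreeOfDeg d (J.subschemeι ≫ PicF.XTproj f T)) :
    Mor2.IsFinLocFreeOfDeg d ((HilbD.pull f g J).subschemeι ≫ PicF.XTproj f T') := by
  rw [pull_eq_comap]
  obtain ⟨⟨hfin, hflat, hfp⟩, hrank⟩ := hJ
  have sq := isPullback_sub f g J
  refine ⟨⟨MorphismProperty.of_isPullback (P := @IsFinite) sq hfin,
    MorphismProperty.of_isPullback (P := @Flat) sq hflat,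
    MorphismProperty.of_isPullback (P := @LocallyOfFinitePresentation) sq hfp⟩, fun t => ?_⟩
  rw [Scheme.Hom.finrank_of_isPullback _ _ _ _ sq t]
  exact hrank _

end Maps

section Incl
variable (T : Over S) (I K : (PicF.XT f T).IdealSheafData)

/-- kernel of the map from the base-changed closed subscheme. -/
theorem ker_fst_comp {W : Over S} (w : W ⟶ T) :
    (pullback.fst (I.subschemeι ≫ PicF.XTproj f T) w.left ≫ I.subschemeι).ker =
      (I.comap (PicF.XTmap f w)).map (PicF.XTmap f w) := by
  set π := PicF.XTmap f w with hπ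
  have sqA : IsPullback (pullback.snd π I.subschemeι)
      (pullback.fst π I.subschemeι ≫ PicF.XTproj f W)
      (I.subschemeι ≫ PicF.XTproj f T) w.left :=
    (IsPullback.of_hasPullback π I.subschemeι).flip.paste_vert (isPullback_XTmap f w)
  have e1 : pullback.fst (I.subschemeι ≫ PicF.XTproj f T) w.left ≫ I.subschemeι =
      (sqA.isoPullback.inv ≫ (I.comapIso π).inv) ≫ (I.comap π).subschemeι ≫ π := by
    rw [Category.assoc, Scheme.IdealSheafData.comapIso_inv_subschemeι_assoc, pullback.condition,
      ← Category.assoc]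
    congr 1
    rw [Iso.eq_inv_comp]
    exact sqA.isoPullback_hom_fst
  rw [e1, Scheme.Hom.ker_comp_of_isIso]
  rfl

/-- the locus where the closed subscheme of `I` lies in that of `K` is closed, for `I` finite
locally free over the base. -/
theorem incl_locus (hfin : IsFinite (I.subschemeι ≫ PicF.XTproj f T))
    (hflat : Flat (I.subschemeι ≫ PicF.XTproj f T))
    (hfp : LocallyOfFinitePresentation (I.subschemeι ≫ PicF.XTproj f T)) :
    ∃ (E : Scheme.{u}) (t : E ⟶ T.left), IsClosedImmersion t ∧
      ∀ (W : Over S) (w : W ⟶ T), Fac t w.left ↔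
        K.comap (PicF.XTmap f w) ≤ I.comap (PicF.XTmap f w) := by
  let φ := I.subschemeι ≫ PicF.XTproj f T
  let j := pullback.fst I.subschemeι K.subschemeι
  haveI : IsClosedImmersion j := by dsimp only [j]; infer_instance
  have hEF : SGA3x.IsEssentiallyFree φ := by
    haveI : IsFinite (Over.mk φ).hom := hfin
    haveI : Flat (Over.mk φ).hom := hflat
    haveI : LocallyOfFinitePresentation (Over.mk φ).hom := hfp
    exact Groth.Agent.Lib.Helper6.MultTypeClosed.essFree_of_finite_flat (Over.mk φ)
  obtain ⟨E, t, htci, ht, -⟩ := Groth.Agent.Lib.Helper6.EssFreeGlue.main φ j hEF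
  refine ⟨E, t, htci, fun W w => ?_⟩
  change (∃ l, l ≫ t = w.left) ↔ _
  rw [ht W.left w.left, ← fac_iff_isIso j]
  have hj : j = (pullbackSymmetry _ _).hom ≫ pullback.snd K.subschemeι I.subschemeι := by
    simp [j]
  have h1 : Fac j (pullback.fst φ w.left) ↔
      Fac K.subschemeι (pullback.fst φ w.left ≫ I.subschemeι) := by
    rw [← fac_pullback_iff]
    constructor
    · rintro ⟨l, hl⟩
      exact ⟨l ≫ (pullbackSymmetry _ _).hom, by rw [Category.assoc, ← hj, hl]⟩
    · rintro ⟨l, hl⟩
      exact ⟨l ≫ (pullbackSymmetry _ _).inv, by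
        rw [hj, Category.assoc, Iso.inv_hom_id_assoc, hl]⟩
  rw [h1, ← Scheme.IdealSheafData.le_map_iff_comap_le, ← ker_fst_comp]
  constructor
  · rintro ⟨l, hl⟩
    rw [← hl]
    have := Scheme.Hom.le_ker_comp l K.subschemeι
    rwa [Scheme.IdealSheafData.ker_subschemeι] at this
  · intro h
    exact ⟨IsClosedImmersion.lift K.subschemeι _ (by rwa [Scheme.IdealSheafData.ker_subschemeι]),
      IsClosedImmersion.lift_fac _ _ _⟩

end Incl

end Groth.Agent.Lib.Helper6.HilbIncl
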