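import Mathlib
import Groth.Prelude.Def_HilbD
import Groth.Agent.Lib.Helper6.HilbIncl

set_option autoImplicit false
set_option linter.unusedSectionVars false
set_option linter.style.haveILetI false
universe u
open CategoryTheory CategoryTheory.Limits AlgebraicGeometry

namespace Groth.Agent.Lib.Helper6.HilbClosed

open Groth.Agent.Lib.Helper6.EssFreeLocal Groth.Agent.Lib.Helper6.HilbDesc
  Groth.Agent.Lib.Helper6.HilbIncl

section Ideals
variable {A B : Scheme.{u}} (ι : A ⟶ B) [IsClosedImmersion ι]

/-- for an ideal containing the kernel of a closed immersion, pull back then push forward is the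
identity. -/
theorem map_comap_of_le (J : B.IdealSheafData) (h : ι.ker ≤ J) : (J.comap ι).map ι = J := by
  have hfac : Fac ι J.subschemeι :=
    ⟨IsClosedImmersion.lift ι J.subschemeι (by rwa [Scheme.IdealSheafData.ker_subschemeι]),
      IsClosedImmersion.lift_fac _ _ _⟩
  haveI : IsIso (pullback.snd ι J.subschemeι) := (fac_iff_isIso ι J.subschemeι).mp hfac
  have e1 : (J.comap ι).subschemeι ≫ ι =
      ((J.comapIso ι).hom ≫ pullback.snd ι J.subschemeι) ≫ J.subschemeι := by
    rw [← Scheme.IdealSheafData.comapIso_hom_fst, Category.assoc, Category.assoc,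
      pullback.condition]
  change ((J.comap ι).subschemeι ≫ ι).ker = J
  rw [e1, Scheme.Hom.ker_comp_of_isIso, Scheme.IdealSheafData.ker_subschemeι]

/-- push forward then pull back along a closed immersion is the identity. -/
theorem comap_map (J' : A.IdealSheafData) : (J'.map ι).comap ι = J' := by
  have sq : IsPullback J'.subschemeι (𝟙 _) ι (J'.subschemeι ≫ ι) :=
    (Groth.Agent.Lib.Helper6.MultTypeClosed.isPullback_id_of_mono J'.subschemeι ι).flip
  have e1 : pullback.fst ι (J'.subschemeι ≫ ι) = sq.isoPullback.inv ≫ J'.subschemeι := by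
    rw [Iso.eq_inv_comp]
    exact sq.isoPullback_hom_fst
  change ((J'.subschemeι ≫ ι).ker).comap ι = J'
  rw [← Scheme.IdealSheafData.ker_fst_of_isClosedImmersion, e1, Scheme.Hom.ker_comp_of_isIso,
    Scheme.IdealSheafData.ker_subschemeι]

end Ideals

section Imm
variable {X Y S : Scheme.{u}} (i : X ⟶ Y) [IsClosedImmersion i] (g : Y ⟶ S)

/-- the base change `X_T ⟶ Y_T` of `i`. -/
noncomputable abbrev iT (T : Over S) : PicF.XT (i ≫ g) T ⟶ PicF.XT g T :=
  pullback.map (i ≫ g) T.hom g T.hom i (𝟙 _) (𝟙 S) (Category.comp_id _) (by simp)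

theorem push_eq_map (T : Over S) (I : (PicF.XT (i ≫ g) T).IdealSheafData) :
    HilbD.push i g T I = I.map (iT i g T) := rfl

@[reassoc]
theorem iT_fst (T : Over S) :
    iT i g T ≫ pullback.fst g T.hom = pullback.fst (i ≫ g) T.hom ≫ i := by
  unfold iT
  rw [pullback.lift_fst]

@[reassoc]
theorem iT_snd (T : Over S) :
    iT i g T ≫ pullback.snd g T.hom = pullback.snd (i ≫ g) T.hom := by
  unfold iT
  rw [pullback.lift_snd, Category.comp_id]

theorem isPullback_iT (T : Over S) :
    IsPullback (pullback.fst (i ≫ g) T.hom) (iT i g T) i (pullback.fst g T.hom) := by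
  refine (IsPullback.of_right (h₁₂ := pullback.snd g T.hom) (h₂₂ := g) (v₁₃ := T.hom) ?_ ?_
    (IsPullback.of_hasPullback g T.hom).flip).flip
  · rw [iT_snd]
    exact (IsPullback.of_hasPullback (i ≫ g) T.hom).flip
  · exact iT_fst i g T

instance (T : Over S) : IsClosedImmersion (iT i g T) :=
  MorphismProperty.of_isPullback (P := @IsClosedImmersion) (isPullback_iT i g T) inferInstance

/-- the ideal of `X_T` in `Y_T`. -/
noncomputable abbrev Kc (T : Over S) : (PicF.XT g T).IdealSheafData :=
  i.ker.comap (pullback.fst g T.hom)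

theorem ker_iT (T : Over S) : (iT i g T).ker = Kc i g T := by
  have sq := (isPullback_iT i g T).flip
  have e1 : iT i g T = sq.isoPullback.hom ≫ pullback.fst (pullback.fst g T.hom) i :=
    sq.isoPullback_hom_fst.symm
  rw [e1, Scheme.Hom.ker_comp_of_isIso, Scheme.IdealSheafData.ker_fst_of_isClosedImmersion]

theorem Kc_comap {T T' : Over S} (γ : T' ⟶ T) :
    (Kc i g T).comap (PicF.XTmap g γ) = Kc i g T' := by
  unfold Kc
  rw [← Scheme.IdealSheafData.comap_comp, XTmap_fst]

theorem iT_natural {T T' : Over S} (γ : T' ⟶ T) :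
    PicF.XTmap (i ≫ g) γ ≫ iT i g T = iT i g T' ≫ PicF.XTmap g γ := by
  apply pullback.hom_ext
  · rw [Category.assoc, Category.assoc, iT_fst, XTmap_fst_assoc, XTmap_fst, iT_fst]
  · rw [Category.assoc, Category.assoc, iT_snd, XTmap_snd, XTmap_snd, iT_snd_assoc]

theorem XTproj_iT (T : Over S) : iT i g T ≫ PicF.XTproj g T = PicF.XTproj (i ≫ g) T :=
  iT_snd i g T

end Imm

end Groth.Agent.Lib.Helper6.HilbClosed
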