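import Mathlib
import Groth.Prelude.Def_HilbD
import Groth.Agent.Lib.Helper6.HilbClosed

set_option autoImplicit false
set_option linter.unusedSectionVars false
set_option linter.style.haveILetI false
universe u
open CategoryTheory CategoryTheory.Limits AlgebraicGeometry

namespace Groth.Agent.Lib.Helper6.HilbClosed

open Groth.Agent.Lib.Helper6.EssFreeLocal Groth.Agent.Lib.Helper6.HilbDesc
  Groth.Agent.Lib.Helper6.HilbIncl

section Basic
variable {X S : Scheme.{u}} (f : X ⟶ S)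

theorem finLocFree_iso_comp {A B C : Scheme.{u}} (d : ℕ) (e : A ⟶ B) [IsIso e] (φ : B ⟶ C)
    (h : Mor2.IsFinLocFreeOfDeg d φ) : Mor2.IsFinLocFreeOfDeg d (e ≫ φ) := by
  obtain ⟨⟨hfin, hflat, hfp⟩, hrank⟩ := h
  haveI := hfin
  haveI := hflat
  haveI := hfp
  refine ⟨⟨inferInstance, inferInstance, inferInstance⟩, fun y => ?_⟩
  rw [Scheme.Hom.finrank_comp_left_of_isIso]
  exact hrank y

theorem XTmap_id (T : Over S) : PicF.XTmap f (𝟙 T) = 𝟙 _ := by
  apply pullback.hom_ext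
  · rw [XTmap_fst, Category.id_comp]
  · rw [XTmap_snd, Category.id_comp, Over.id_left, Category.comp_id]

theorem pull_id (T : Over S) (I : (PicF.XT f T).IdealSheafData) : HilbD.pull f (𝟙 T) I = I := by
  rw [pull_eq_comap, XTmap_id, Scheme.IdealSheafData.comap_id]

theorem pull_comp {T T' T'' : Over S} (a : T'' ⟶ T') (b : T' ⟶ T)
    (I : (PicF.XT f T).IdealSheafData) :
    HilbD.pull f (a ≫ b) I = HilbD.pull f a (HilbD.pull f b I) := by
  rw [pull_eq_comap, pull_eq_comap, pull_eq_comap, XTmap_comp, Scheme.IdealSheafData.comap_comp]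

end Basic

section Rep
variable {X Y S : Scheme.{u}} (i : X ⟶ Y) [IsClosedImmersion i] (g : Y ⟶ S) (d : ℕ)

theorem obj_comap (T : Over S) (J : (PicF.XT g T).IdealSheafData) (hle : Kc i g T ≤ J)
    (hJ : Mor2.IsFinLocFreeOfDeg d (J.subschemeι ≫ PicF.XTproj g T)) :
    Mor2.IsFinLocFreeOfDeg d ((J.comap (iT i g T)).subschemeι ≫ PicF.XTproj (i ≫ g) T) := by
  set ι := iT i g T with hι
  have hfac : Fac ι J.subschemeι :=
    ⟨IsClosedImmersion.lift ι J.subschemeι (by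
      rw [Scheme.IdealSheafData.ker_subschemeι, hι, ker_iT]; exact hle),
      IsClosedImmersion.lift_fac _ _ _⟩
  haveI : IsIso (pullback.snd ι J.subschemeι) := (fac_iff_isIso ι J.subschemeι).mp hfac
  have e1 : (J.comap ι).subschemeι ≫ PicF.XTproj (i ≫ g) T =
      ((J.comapIso ι).hom ≫ pullback.snd ι J.subschemeι) ≫ J.subschemeι ≫ PicF.XTproj g T := by
    rw [← XTproj_iT i g T, ← Scheme.IdealSheafData.comapIso_hom_fst, Category.assoc,
      Category.assoc, pullback.condition_assoc]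
  rw [e1]
  exact finLocFree_iso_comp d _ _ hJ

theorem obj_push (T : Over S) (W : (PicF.XT (i ≫ g) T).IdealSheafData)
    (hW : Mor2.IsFinLocFreeOfDeg d (W.subschemeι ≫ PicF.XTproj (i ≫ g) T)) :
    Mor2.IsFinLocFreeOfDeg d ((HilbD.push i g T W).subschemeι ≫ PicF.XTproj g T) := by
  rw [push_eq_map]
  set c := W.subschemeι ≫ iT i g T with hc
  haveI : IsClosedImmersion c := by rw [hc]; infer_instance
  haveI : IsIso c.toImage := inferInstance
  change Mor2.IsFinLocFreeOfDeg d (c.imageι ≫ PicF.XTproj g T)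
  have e1 : c.imageι ≫ PicF.XTproj g T =
      inv c.toImage ≫ W.subschemeι ≫ PicF.XTproj (i ≫ g) T := by
    rw [IsIso.eq_inv_comp, ← Category.assoc, c.toImage_imageι, hc, Category.assoc, XTproj_iT]
  rw [e1]
  exact finLocFree_iso_comp d _ _ hW

variable (H : Over S) (Z : HilbD.Obj g d H)
variable {E : Scheme.{u}} (t : E ⟶ H.left) [IsClosedImmersion t]

/-- the representing object and its universal family. -/
noncomputable abbrev H₀ : Over S := Over.mk (t ≫ H.hom)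

noncomputable abbrev t₀ : H₀ H t ⟶ H := Over.homMk t rfl

noncomputable abbrev Z₀ : (PicF.XT (i ≫ g) (H₀ H t)).IdealSheafData :=
  (HilbD.pull g (t₀ H t) Z.1).comap (iT i g (H₀ H t))

theorem pull_Z₀ {T : Over S} (γ₀ : T ⟶ H₀ H t) :
    HilbD.pull (i ≫ g) γ₀ (Z₀ i g d H Z t) =
      (HilbD.pull g (γ₀ ≫ t₀ H t) Z.1).comap (iT i g T) := by
  unfold Z₀
  rw [pull_eq_comap, ← Scheme.IdealSheafData.comap_comp, iT_natural,
    Scheme.IdealSheafData.comap_comp, ← pull_eq_comap, ← pull_comp]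

variable (ht : ∀ (W : Over S) (w : W ⟶ H), Fac t w.left ↔ Kc i g W ≤ HilbD.pull g w Z.1)

include ht in
theorem le_of_t₀ {T : Over S} (γ₀ : T ⟶ H₀ H t) :
    Kc i g T ≤ HilbD.pull g (γ₀ ≫ t₀ H t) Z.1 :=
  (ht T (γ₀ ≫ t₀ H t)).mp ⟨γ₀.left, rfl⟩

include ht in
theorem star {T : Over S} (γ₀ : T ⟶ H₀ H t) :
    HilbD.pull g (γ₀ ≫ t₀ H t) Z.1 =
      HilbD.push i g T (HilbD.pull (i ≫ g) γ₀ (Z₀ i g d H Z t)) := by
  rw [pull_Z₀, push_eq_map, map_comap_of_le]
  rw [ker_iT]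
  exact le_of_t₀ i g d H Z t ht γ₀

include ht in
theorem star2 {T : Over S} (γ : T ⟶ H) (W : (PicF.XT (i ≫ g) T).IdealSheafData)
    (h : HilbD.pull g γ Z.1 = HilbD.push i g T W) :
    ∃ γ₀ : T ⟶ H₀ H t, γ₀ ≫ t₀ H t = γ ∧ HilbD.pull (i ≫ g) γ₀ (Z₀ i g d H Z t) = W := by
  have hfac : Fac t γ.left := by
    rw [ht T γ, h, push_eq_map, ← ker_iT]
    exact Scheme.Hom.le_ker_comp _ _
  obtain ⟨l, hl⟩ := hfac
  have hw : l ≫ (H₀ H t).hom = T.hom := by
    change l ≫ t ≫ H.hom = T.hom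
    rw [← Category.assoc, hl, Over.w γ]
  refine ⟨Over.homMk l hw, Over.OverMorphism.ext hl, ?_⟩
  have e : (Over.homMk l hw : T ⟶ H₀ H t) ≫ t₀ H t = γ := Over.OverMorphism.ext hl
  rw [pull_Z₀, e, h, push_eq_map, comap_map]

instance mono_t₀ : Mono (t₀ H t) := by
  refine ⟨fun a b hab => ?_⟩
  apply Over.OverMorphism.ext
  have := congrArg (fun m => m.left) hab
  exact (cancel_mono t).mp this

include ht in
theorem universal (hZ : HilbD.IsUniversal g d H Z)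
    (hZ₀ : Mor2.IsFinLocFreeOfDeg d
      ((Z₀ i g d H Z t).subschemeι ≫ PicF.XTproj (i ≫ g) (H₀ H t))) :
    HilbD.IsUniversal (i ≫ g) d (H₀ H t) ⟨Z₀ i g d H Z t, hZ₀⟩ := by
  intro T W
  obtain ⟨γ, hγ, hγuniq⟩ := hZ T ⟨HilbD.push i g T W.1, obj_push i g d T W.1 W.2⟩
  obtain ⟨γ₀, hγ₀, hγ₀W⟩ := star2 i g d H Z t ht γ W.1 hγ
  refine ⟨γ₀, hγ₀W, fun γ₀' hγ₀' => ?_⟩
  have h1 : HilbD.pull g (γ₀' ≫ t₀ H t) Z.1 = HilbD.push i g T W.1 := by
    rw [star i g d H Z t ht γ₀']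
    exact congrArg _ hγ₀'
  have h2 : γ₀' ≫ t₀ H t = γ := hγuniq _ h1
  rw [← cancel_mono (t₀ H t), h2, hγ₀]

end Rep

end Groth.Agent.Lib.Helper6.HilbClosed
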