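import Mathlib
import Groth.Prelude.Def_Flatn
import Groth.Prelude.Def_Mor2
import Groth.Agent.Lib.Helper6.MorSGlue
import Groth.Agent.Lib.Helper6.FreeOpens
import Groth.Agent.Lib.Helper6.WeilRep
import Groth.Agent.Lib.Helper81.MorBase
import Groth.Agent.Lib.Helper25.WeilAlgFT
import Groth.Agent.Lib.Helper8.WeilAlgFP

/-! helper6: the scheme `Hom_S(X, Y)` for `X` finite locally free and `Y` affine over `S`, with
finiteness properties, in the cartesian monoidal language of `Over S` (S16770, S16790, S6064). -/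
set_option autoImplicit false
set_option linter.style.haveILetI false
set_option linter.unusedSectionVars false
universe u
open CategoryTheory Limits AlgebraicGeometry Opposite MonoidalCategory CartesianMonoidalCategory

namespace Groth.Agent.Lib.Helper6.HomSch

open Groth.Agent.Lib.Helper6.MorSGlue Groth.Agent.Lib.Helper6.WeilRep
    Groth.Agent.Lib.Helper81.MorBase Groth.Agent.Lib.Helper6.WeilAlg

section Local

variable {Z X S : Scheme.{u}} [IsAffine S] [IsAffine Z] [IsAffine X] (g : Z ⟶ S) (f : X ⟶ S)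
variable {n : ℕ} (b : letI := algT g; Module.Basis (Fin n) Γ(S, ⊤) Γ(Z, ⊤))

theorem wS_lfp (hf : LocallyOfFinitePresentation f) : LocallyOfFinitePresentation (wS g f b) := by
  letI := algT g; letI := algT f
  have h1 : (f.appTop).hom.FinitePresentation :=
    (HasRingHomProperty.iff_of_isAffine (P := @LocallyOfFinitePresentation)).mp hf
  haveI : Algebra.FinitePresentation Γ(S, ⊤) Γ(X, ⊤) := h1
  haveI := Groth.Agent.Lib.Helper8.WeilAlgFP.finitePresentation_WAlg b Γ(X, ⊤)
  have h2 : LocallyOfFinitePresentation (Spec.map (WBα g f b)) := by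
    rw [HasRingHomProperty.Spec_iff (P := @LocallyOfFinitePresentation)]
    change (algebraMap Γ(S, ⊤) (WAlg b Γ(X, ⊤))).FinitePresentation
    exact (RingHom.finitePresentation_algebraMap).mpr inferInstance
  unfold wS
  infer_instance

theorem wS_lft (hf : LocallyOfFiniteType f) : LocallyOfFiniteType (wS g f b) := by
  letI := algT g; letI := algT f
  have h1 : (f.appTop).hom.FiniteType :=
    (HasRingHomProperty.iff_of_isAffine (P := @LocallyOfFiniteType)).mp hf
  haveI : Algebra.FiniteType Γ(S, ⊤) Γ(X, ⊤) := h1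
  haveI := Groth.Agent.Lib.Helper25.WeilAlgFT.finiteType_WAlg b Γ(X, ⊤)
  have h2 : LocallyOfFiniteType (Spec.map (WBα g f b)) := by
    rw [HasRingHomProperty.Spec_iff (P := @LocallyOfFiniteType)]
    change (algebraMap Γ(S, ⊤) (WAlg b Γ(X, ⊤))).FiniteType
    exact (RingHom.finiteType_algebraMap).mpr inferInstance
  unfold wS
  infer_instance

end Local

set_option backward.isDefEq.respectTransparency false in
/-- representability of `Mor_S(Z, X)` by an affine `S`-scheme with an extra local property `Q`. -/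
theorem exists_rep_with {Z X S : Scheme.{u}} (g : Z ⟶ S) (f : X ⟶ S) (hg : Mor2.IsFinLocFree g)
    [IsAffineHom f] (Q : MorphismProperty Scheme.{u}) [IsZariskiLocalAtTarget Q]
    [Q.IsStableUnderBaseChange] (hf : Q f)
    (hloc : ∀ {Z' X' S' : Scheme.{u}} [IsAffine S'] [IsAffine Z'] [IsAffine X'] (g' : Z' ⟶ S')
      (f' : X' ⟶ S') {n : ℕ} (b : letI := algT g'; Module.Basis (Fin n) Γ(S', ⊤) Γ(Z', ⊤)),
      Q f' → Q (wS g' f' b)) :
    ∃ W : Over S, IsAffineHom W.hom ∧ Q W.hom ∧ Nonempty ((Flatn.morS g f).RepresentableBy W) := by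
  obtain ⟨h1, h2, h3⟩ := hg
  haveI : IsZariskiLocalAtTarget ((@IsAffineHom : MorphismProperty Scheme.{u}) ⊓ Q) :=
    MorphismProperty.IsLocalAtTarget.inf _ _
  have := exists_rep_of_basis_of_rep (Flatn.morS g f) (morS_isSheaf g f)
    ((@IsAffineHom : MorphismProperty Scheme.{u}) ⊓ Q)
    (freeOpens g) (isBasis_freeOpens g) ?_
  · obtain ⟨W, ⟨hW1, hW2⟩, hW3⟩ := this
    exact ⟨W, hW1, hW2, hW3⟩
  rintro W ⟨hW, n, ⟨b⟩⟩
  haveI : IsAffine (W : Scheme.{u}) := hW
  haveI : IsAffine (pullback g W.ι) := isAffine_of_isAffineHom (pullback.snd g W.ι)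
  haveI : IsAffine (pullback f W.ι) := isAffine_of_isAffineHom (pullback.snd f W.ι)
  refine ⟨Over.mk (wS (pullback.snd g W.ι) (pullback.snd f W.ι) b), ⟨?_, ?_⟩,
    ⟨(representableBy _ _ b).ofIso (natIso g f W.ι)⟩⟩
  · change IsAffineHom (wS (pullback.snd g W.ι) (pullback.snd f W.ι) b)
    haveI : IsAffine (Spec (WB (pullback.snd g W.ι) (pullback.snd f W.ι) b)) := inferInstance
    infer_instance
  · change Q (wS (pullback.snd g W.ι) (pullback.snd f W.ι) b)
    exact hloc _ _ b (Q.pullback_snd _ _ hf)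

section Tensor

variable {S : Scheme.{u}} (X Y : Over S)

/-- comparison of the two models of `X ×_S T`. -/
noncomputable def kap (T : Over S) :
    X ⊗ T ≅ (Over.map X.hom).obj ((Over.pullback X.hom).obj T) :=
  Over.isoMk (pullbackSymmetry X.hom T.hom) (by
    simp [pullback.condition])

theorem kap_nat {T W : Over S} (v : T ⟶ W) :
    (X ◁ v) ≫ (kap X W).hom =
      (kap X T).hom ≫ (Over.map X.hom).map ((Over.pullback X.hom).map v) := by
  apply Over.OverMorphism.ext
  simp only [kap, Over.comp_left, Over.isoMk_hom_left, Over.map_map_left]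
  change _ = (pullbackSymmetry X.hom T.hom).hom ≫
    pullback.lift (pullback.fst T.hom X.hom ≫ v.left) (pullback.snd T.hom X.hom) _
  apply pullback.hom_ext
  · rw [Category.assoc, Category.assoc, pullback.lift_fst]
    simp
  · rw [Category.assoc, Category.assoc, pullback.lift_snd]
    simp

theorem exists_tensor_rep (W : Over S) (rep : (Flatn.morS X.hom Y.hom).RepresentableBy W) :
    ∃ ev : X ⊗ W ⟶ Y, ∀ (T : Over S) (φ : X ⊗ T ⟶ Y), ∃! v : T ⟶ W, (X ◁ v) ≫ ev = φ := by
  let ξ : (Over.map X.hom).obj ((Over.pullback X.hom).obj W) ⟶ Over.mk Y.hom :=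
    rep.homEquiv (𝟙 W)
  let e : Over.mk Y.hom ≅ Y := Over.isoMk (Iso.refl _) (by simp)
  have hrep : ∀ {T : Over S} (v : T ⟶ W),
      rep.homEquiv v = (Over.map X.hom).map ((Over.pullback X.hom).map v) ≫ ξ := by
    intro T v
    have := rep.homEquiv_comp v (𝟙 W)
    rw [Category.comp_id] at this
    rw [this]
    rfl
  refine ⟨(kap X W).hom ≫ ξ ≫ e.hom, ?_⟩
  intro T φ
  have key : ∀ v : T ⟶ W, (X ◁ v) ≫ (kap X W).hom ≫ ξ ≫ e.hom =
      (kap X T).hom ≫ rep.homEquiv v ≫ e.hom := by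
    intro v
    rw [← Category.assoc, kap_nat, Category.assoc, hrep, Category.assoc]
  let ψ : (Flatn.morS X.hom Y.hom).obj (op T) := (kap X T).inv ≫ φ ≫ e.inv
  have hψ : (kap X T).hom ≫ ψ ≫ e.hom = φ := by
    simp [ψ]
  refine ⟨rep.homEquiv.symm ψ, ?_, ?_⟩
  · change (X ◁ _) ≫ (kap X W).hom ≫ ξ ≫ e.hom = φ
    rw [key, Equiv.apply_symm_apply]
    exact hψ
  · intro v hv
    change (X ◁ v) ≫ (kap X W).hom ≫ ξ ≫ e.hom = φ at hv
    rw [key] at hv
    rw [Equiv.eq_symm_apply]
    have h1 : rep.homEquiv v ≫ e.hom = ψ ≫ e.hom := by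
      rw [← cancel_epi (kap X T).hom, hv, hψ]
    exact (cancel_mono e.hom).mp h1

/-- the Hom scheme in tensor form with an extra property. -/
theorem exists_homSch_with (hX : Mor2.IsFinLocFree X.hom) [IsAffineHom Y.hom]
    (Q : MorphismProperty Scheme.{u}) [IsZariskiLocalAtTarget Q]
    [Q.IsStableUnderBaseChange] (hf : Q Y.hom)
    (hloc : ∀ {Z' X' S' : Scheme.{u}} [IsAffine S'] [IsAffine Z'] [IsAffine X'] (g' : Z' ⟶ S')
      (f' : X' ⟶ S') {n : ℕ} (b : letI := algT g'; Module.Basis (Fin n) Γ(S', ⊤) Γ(Z', ⊤)),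
      Q f' → Q (wS g' f' b)) :
    ∃ (M : Over S) (ev : X ⊗ M ⟶ Y), IsAffineHom M.hom ∧ Q M.hom ∧
      ∀ (T : Over S) (φ : X ⊗ T ⟶ Y), ∃! v : T ⟶ M, (X ◁ v) ≫ ev = φ := by
  obtain ⟨W, h1, h2, ⟨rep⟩⟩ := exists_rep_with X.hom Y.hom hX Q hf hloc
  obtain ⟨ev, hev⟩ := exists_tensor_rep X Y W rep
  exact ⟨W, ev, h1, h2, hev⟩

set_option backward.isDefEq.respectTransparency false in
/-- the Hom scheme, with all finiteness transfers. -/
theorem exists_homSch (hX : Mor2.IsFinLocFree X.hom) [IsAffineHom Y.hom] :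
    ∃ (M : Over S) (ev : X ⊗ M ⟶ Y), IsAffineHom M.hom ∧
      (LocallyOfFiniteType Y.hom → LocallyOfFiniteType M.hom) ∧
      (LocallyOfFinitePresentation Y.hom → LocallyOfFinitePresentation M.hom) ∧
      ∀ (T : Over S) (φ : X ⊗ T ⟶ Y), ∃! v : T ⟶ M, (X ◁ v) ≫ ev = φ := by
  by_cases hfp : LocallyOfFinitePresentation Y.hom
  · obtain ⟨M, ev, h1, h2, h3⟩ := exists_homSch_with X Y hX @LocallyOfFinitePresentation hfp
      (fun g' f' _ b hf' => wS_lfp g' f' b hf')
    haveI := h2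
    exact ⟨M, ev, h1, fun _ => inferInstance, fun _ => h2, h3⟩
  by_cases hft : LocallyOfFiniteType Y.hom
  · obtain ⟨M, ev, h1, h2, h3⟩ := exists_homSch_with X Y hX @LocallyOfFiniteType hft
      (fun g' f' _ b hf' => wS_lft g' f' b hf')
    exact ⟨M, ev, h1, fun _ => h2, fun h => absurd h hfp, h3⟩
  · obtain ⟨M, ev, h1, -, h3⟩ := exists_homSch_with X Y hX ⊤ trivial
      (fun g' f' _ b _ => trivial)
    exact ⟨M, ev, h1, fun h => absurd h hft, fun h => absurd h hfp, h3⟩

end Tensor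

end Groth.Agent.Lib.Helper6.HomSch
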