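import Mathlib
import Groth.Prelude.Def_AutFam
import Groth.Agent.Lib.Helper6.HomSch
import Groth.Agent.Lib.Helper79.LfpOfComp

/-! helper6: the scheme of group homomorphisms `Hom_{S-gr}(G, G')` for `G` finite locally free and
`G'` affine over `S` (S16790, S6064). -/
set_option autoImplicit false
set_option linter.style.haveILetI false
set_option linter.unusedSectionVars false
universe u
open CategoryTheory Limits AlgebraicGeometry Opposite MonoidalCategory CartesianMonoidalCategory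
  MonObj

namespace Groth.Agent.Lib.Helper6.HomGrp

set_option backward.isDefEq.respectTransparency false in
/-- the equalizer of two morphisms into an `S`-scheme locally of finite type is locally of finite
presentation over the source. -/
theorem lfp_equalizer_ι_left {S : Scheme.{u}} {X Y : Over S} [LocallyOfFiniteType Y.hom]
    (f g : X ⟶ Y) : LocallyOfFinitePresentation (equalizer.ι f g).left := by
  have hdiag : LocallyOfFinitePresentation (pullback.diagonal Y.hom) := by
    apply Groth.Agent.Lib.Helper79.lfp_of_comp (g := pullback.fst Y.hom Y.hom)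
    · rw [pullback.diagonal_fst]
      infer_instance
    · infer_instance
  refine MorphismProperty.of_isPullback
    ((Limits.isPullback_equalizer_prod f g).map (Over.forget _)).flip ?_
  rw [← MorphismProperty.cancel_right_of_respectsIso @LocallyOfFinitePresentation _
    (Over.prodLeftIsoPullback Y Y).hom]
  convert! hdiag
  ext1 <;> simp [← Over.comp_left]

variable {S : Scheme.{u}} (G G' : Over S) [GrpObj G] [GrpObj G']

theorem finLocFree_tensor (hG : Mor2.IsFinLocFree G.hom) : Mor2.IsFinLocFree (G ⊗ G).hom := by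
  obtain ⟨h1, h2, h3⟩ := hG
  have e : (G ⊗ G).hom = pullback.fst G.hom G.hom ≫ G.hom := rfl
  rw [e]
  exact ⟨inferInstance, inferInstance, inferInstance⟩

set_option backward.isDefEq.respectTransparency false in
/-- the scheme of group homomorphisms. -/
theorem exists_homGrp (hG : Mor2.IsFinLocFree G.hom) [IsAffineHom G'.hom] :
    ∃ (A : Over S) (υ : G ⊗ A ⟶ G'), AutFam.RepresentsHom G G' A υ ∧ IsAffineHom A.hom ∧
      (LocallyOfFiniteType G'.hom → LocallyOfFiniteType A.hom) ∧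
      (LocallyOfFinitePresentation G'.hom → LocallyOfFinitePresentation A.hom) := by
  obtain ⟨M, ev, hM1, hM2, hM3, hM⟩ := Groth.Agent.Lib.Helper6.HomSch.exists_homSch G G' hG
  obtain ⟨M₂, ev₂, hN1, hN2, hN3, hN⟩ :=
    Groth.Agent.Lib.Helper6.HomSch.exists_homSch (G ⊗ G) G' (finLocFree_tensor G hG)
  -- the two families over `M`
  let φ₁ : (G ⊗ G) ⊗ M ⟶ G' := lift (fst (G ⊗ G) M ≫ μ) (snd (G ⊗ G) M) ≫ ev
  let φ₂ : (G ⊗ G) ⊗ M ⟶ G' :=
    (lift (fst (G ⊗ G) M ≫ fst G G) (snd (G ⊗ G) M) ≫ ev) *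
      (lift (fst (G ⊗ G) M ≫ snd G G) (snd (G ⊗ G) M) ≫ ev)
  obtain ⟨c₁, hc₁, -⟩ := hN M φ₁
  obtain ⟨c₂, hc₂, -⟩ := hN M φ₂
  have hφ₁ : ∀ {X : Over S} (g₁ g₂ : X ⟶ G) (m : X ⟶ M),
      lift (lift g₁ g₂) m ≫ φ₁ = lift (g₁ * g₂) m ≫ ev := by
    intro X g₁ g₂ m
    dsimp only [φ₁]
    rw [← Category.assoc, comp_lift, ← Category.assoc, lift_fst, lift_snd, Hom.mul_def]
  have hφ₂ : ∀ {X : Over S} (g₁ g₂ : X ⟶ G) (m : X ⟶ M),
      lift (lift g₁ g₂) m ≫ φ₂ = (lift g₁ m ≫ ev) * (lift g₂ m ≫ ev) := by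
    intro X g₁ g₂ m
    dsimp only [φ₂]
    rw [MonObj.comp_mul, ← Category.assoc, ← Category.assoc, comp_lift, comp_lift,
      ← Category.assoc, ← Category.assoc, lift_fst, lift_snd, lift_fst, lift_snd]
  have hwhisk : ∀ {X T : Over S} (g : X ⟶ G ⊗ G) (m : X ⟶ T) {W : Over S} (v : T ⟶ W),
      lift g m ≫ ((G ⊗ G) ◁ v) = lift g (m ≫ v) := by
    intro X T g m W v
    apply CartesianMonoidalCategory.hom_ext
    · rw [Category.assoc, whiskerLeft_fst, lift_fst, lift_fst]
    · rw [Category.assoc, whiskerLeft_snd, ← Category.assoc, lift_snd, lift_snd]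
  have hwhisk' : ∀ {X T : Over S} (g : X ⟶ G) (m : X ⟶ T) {W : Over S} (v : T ⟶ W),
      lift g m ≫ (G ◁ v) = lift g (m ≫ v) := by
    intro X T g m W v
    apply CartesianMonoidalCategory.hom_ext
    · rw [Category.assoc, whiskerLeft_fst, lift_fst, lift_fst]
    · rw [Category.assoc, whiskerLeft_snd, ← Category.assoc, lift_snd, lift_snd]
  -- key: for a point `m` of `M`, equalizing `c₁, c₂` iff multiplicative
  have hkey : ∀ {X : Over S} (m : X ⟶ M), m ≫ c₁ = m ≫ c₂ ↔
      ∀ (X' : Over S) (x : X' ⟶ X) (g₁ g₂ : X' ⟶ G),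
        lift (g₁ * g₂) (x ≫ m) ≫ ev = (lift g₁ (x ≫ m) ≫ ev) * (lift g₂ (x ≫ m) ≫ ev) := by
    intro X m
    have e1 : ((G ⊗ G) ◁ (m ≫ c₁)) ≫ ev₂ = ((G ⊗ G) ◁ m) ≫ φ₁ := by
      rw [MonoidalCategory.whiskerLeft_comp, Category.assoc, hc₁]
    have e2 : ((G ⊗ G) ◁ (m ≫ c₂)) ≫ ev₂ = ((G ⊗ G) ◁ m) ≫ φ₂ := by
      rw [MonoidalCategory.whiskerLeft_comp, Category.assoc, hc₂]
    constructor
    · intro h X' x g₁ g₂
      have h3 : ((G ⊗ G) ◁ m) ≫ φ₁ = ((G ⊗ G) ◁ m) ≫ φ₂ := by rw [← e1, ← e2, h]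
      have h4 : (lift (lift g₁ g₂) x ≫ ((G ⊗ G) ◁ m)) ≫ φ₁ =
          (lift (lift g₁ g₂) x ≫ ((G ⊗ G) ◁ m)) ≫ φ₂ := by
        rw [Category.assoc, Category.assoc, h3]
      rw [hwhisk, hφ₁, hφ₂] at h4
      exact h4
    · intro h
      obtain ⟨w, -, hw⟩ := hN X (((G ⊗ G) ◁ m) ≫ φ₁)
      have h1 : m ≫ c₁ = w := hw _ e1
      have h2 : m ≫ c₂ = w := by
        apply hw
        rw [e2]
        -- equality of the two families, checked on the universal point
        have hp : ∀ (p : (G ⊗ G) ⊗ X ⟶ (G ⊗ G) ⊗ X), p = lift (lift (p ≫ fst _ _ ≫ fst G G)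
            (p ≫ fst _ _ ≫ snd G G)) (p ≫ snd _ _) := by
          intro p
          apply CartesianMonoidalCategory.hom_ext
          · rw [lift_fst]
            apply CartesianMonoidalCategory.hom_ext
            · rw [lift_fst, Category.assoc]
            · rw [lift_snd, Category.assoc]
          · rw [lift_snd]
        have h5 := h ((G ⊗ G) ⊗ X) (snd _ _) (fst _ _ ≫ fst G G) (fst _ _ ≫ snd G G)
        have h6 := hp (𝟙 _)
        simp only [Category.id_comp] at h6
        rw [← Category.id_comp (((G ⊗ G) ◁ m) ≫ φ₂), ← Category.id_comp (((G ⊗ G) ◁ m) ≫ φ₁)]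
        conv_lhs => rw [h6]
        conv_rhs => rw [h6]
        rw [← Category.assoc, ← Category.assoc, hwhisk, hφ₁, hφ₂]
        exact h5.symm
      rw [h1, h2]
  -- the equalizer
  haveI : IsSeparated M₂.hom := inferInstance
  let A : Over S := equalizer c₁ c₂
  let iA : A ⟶ M := equalizer.ι c₁ c₂
  have hιc : IsClosedImmersion iA.left := inferInstance
  have hA : A.hom = iA.left ≫ M.hom := (Over.w iA).symm
  let υ : G ⊗ A ⟶ G' := (G ◁ iA) ≫ ev
  have hιeq : iA ≫ c₁ = iA ≫ c₂ := equalizer.condition c₁ c₂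
  refine ⟨A, υ, ⟨?_, ?_⟩, ?_, ?_, ?_⟩
  · -- υ is a family of homomorphisms
    intro X g₁ g₂ t
    dsimp only [υ]
    rw [← Category.assoc, ← Category.assoc, ← Category.assoc, hwhisk', hwhisk', hwhisk']
    have h := (hkey (t ≫ iA)).mp (by rw [Category.assoc, Category.assoc, hιeq]) X (𝟙 X) g₁ g₂
    simpa only [Category.id_comp] using h
  · -- universal property
    intro T φ hφ
    obtain ⟨v, hv, hvu⟩ := hM T φ
    have hveq : v ≫ c₁ = v ≫ c₂ := by
      rw [hkey]
      intro X' x g₁ g₂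
      have e : ∀ g : X' ⟶ G, lift g (x ≫ v) ≫ ev = lift g x ≫ φ := by
        intro g
        rw [← hv, ← Category.assoc, hwhisk']
      rw [e, e, e]
      exact hφ X' g₁ g₂ x
    refine ⟨equalizer.lift v hveq, ?_, ?_⟩
    · change (G ◁ _) ≫ (G ◁ iA) ≫ ev = φ
      rw [← Category.assoc, ← MonoidalCategory.whiskerLeft_comp, equalizer.lift_ι, hv]
    · intro a ha
      change (G ◁ a) ≫ (G ◁ iA) ≫ ev = φ at ha
      rw [← Category.assoc, ← MonoidalCategory.whiskerLeft_comp] at ha
      have h1 : a ≫ iA = v := hvu _ ha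
      apply equalizer.hom_ext
      rw [equalizer.lift_ι]
      exact h1
  · rw [hA]
    infer_instance
  · intro h
    haveI := hM2 h
    rw [hA]
    infer_instance
  · intro h
    haveI := hM3 h
    haveI : LocallyOfFiniteType M₂.hom := by
      haveI := hN3 h
      infer_instance
    haveI : LocallyOfFinitePresentation iA.left := lfp_equalizer_ι_left c₁ c₂
    rw [hA]
    infer_instance

end Groth.Agent.Lib.Helper6.HomGrp
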