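import Groth.Prelude.Def_GSzMilK
import Mathlib

set_option autoImplicit false
universe u

namespace Groth.Agent.Lib.Helper6.MilK2

open MilK

variable {F : Type u} [Field F]

theorem symbol_mul_left (a a' b : Fˣ) :
    (symbol ![a * a', b] : K F 2) = symbol ![a, b] + symbol ![a', b] := by
  unfold symbol
  rw [← map_add]
  congr 1
  have h := (PiTensorProduct.tprod ℤ).map_update_add
    (fun i : Fin 2 => Additive.ofMul (![a, b] i)) 0 (Additive.ofMul a) (Additive.ofMul a')
  have e1 : Function.update (fun i : Fin 2 => Additive.ofMul (![a, b] i)) 0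
      (Additive.ofMul a + Additive.ofMul a') = fun i => Additive.ofMul (![a * a', b] i) := by
    funext i; fin_cases i <;> simp
  have e2 : Function.update (fun i : Fin 2 => Additive.ofMul (![a, b] i)) 0
      (Additive.ofMul a) = fun i => Additive.ofMul (![a, b] i) := by
    funext i; fin_cases i <;> simp
  have e3 : Function.update (fun i : Fin 2 => Additive.ofMul (![a, b] i)) 0
      (Additive.ofMul a') = fun i => Additive.ofMul (![a', b] i) := by
    funext i; fin_cases i <;> simp
  rw [e1, e2, e3] at h
  exact h

theorem symbol_mul_right (a b b' : Fˣ) :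
    (symbol ![a, b * b'] : K F 2) = symbol ![a, b] + symbol ![a, b'] := by
  unfold symbol
  rw [← map_add]
  congr 1
  have h := (PiTensorProduct.tprod ℤ).map_update_add
    (fun i : Fin 2 => Additive.ofMul (![a, b] i)) 1 (Additive.ofMul b) (Additive.ofMul b')
  have e1 : Function.update (fun i : Fin 2 => Additive.ofMul (![a, b] i)) 1
      (Additive.ofMul b + Additive.ofMul b') = fun i => Additive.ofMul (![a, b * b'] i) := by
    funext i; fin_cases i <;> simp
  have e2 : Function.update (fun i : Fin 2 => Additive.ofMul (![a, b] i)) 1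
      (Additive.ofMul b) = fun i => Additive.ofMul (![a, b] i) := by
    funext i; fin_cases i <;> simp
  have e3 : Function.update (fun i : Fin 2 => Additive.ofMul (![a, b] i)) 1
      (Additive.ofMul b') = fun i => Additive.ofMul (![a, b'] i) := by
    funext i; fin_cases i <;> simp
  rw [e1, e2, e3] at h
  exact h

theorem symbol_one_left (b : Fˣ) : (symbol ![1, b] : K F 2) = 0 := by
  have h := symbol_mul_left (1 : Fˣ) 1 b
  rw [mul_one] at h
  exact left_eq_add.mp h

theorem symbol_one_right (a : Fˣ) : (symbol ![a, 1] : K F 2) = 0 := by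
  have h := symbol_mul_right a (1 : Fˣ) 1
  rw [mul_one] at h
  exact left_eq_add.mp h

theorem symbol_inv_left (a b : Fˣ) : (symbol ![a⁻¹, b] : K F 2) = -symbol ![a, b] := by
  have h := symbol_mul_left a a⁻¹ b
  rw [mul_inv_cancel, symbol_one_left] at h
  exact eq_neg_of_add_eq_zero_right h.symm

theorem symbol_inv_right (a b : Fˣ) : (symbol ![a, b⁻¹] : K F 2) = -symbol ![a, b] := by
  have h := symbol_mul_right a b b⁻¹
  rw [mul_inv_cancel, symbol_one_right] at h
  exact eq_neg_of_add_eq_zero_right h.symm

theorem symbol_steinberg (a b : Fˣ) (h : (a : F) + (b : F) = 1) : (symbol ![a, b] : K F 2) = 0 :=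
  symbol_eq_zero_of_isSteinberg ![a, b] ⟨0, 1, by decide, by simpa using h⟩

theorem symbol_neg_self (x : Fˣ) : (symbol ![x, -x] : K F 2) = 0 := by
  by_cases hx : x = 1
  · subst hx; exact symbol_one_left _
  · have hx1 : (1 : F) - (x : F) ≠ 0 := by
      intro h
      apply hx
      ext
      simpa using (sub_eq_zero.mp h).symm
    have hx2 : (1 : F) - ((x⁻¹ : Fˣ) : F) ≠ 0 := by
      intro h
      apply hx
      have h' : ((x⁻¹ : Fˣ) : F) = 1 := (sub_eq_zero.mp h).symm
      have : x⁻¹ = 1 := by ext; simpa using h'
      simpa using this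
    let u : Fˣ := Units.mk0 _ hx1
    let w : Fˣ := Units.mk0 _ hx2
    have e : -x = u * w⁻¹ := by
      ext
      simp only [Units.val_neg, Units.val_mul, Units.val_inv_eq_inv_val, u, w, Units.val_mk0]
      have hxne : (x : F) ≠ 0 := x.ne_zero
      have hx2' : (1 : F) - (x : F)⁻¹ ≠ 0 := by
        simpa only [Units.val_inv_eq_inv_val] using hx2
      rw [eq_mul_inv_iff_mul_eq₀ hx2']
      field_simp
      ring
    rw [e, symbol_mul_right, symbol_inv_right]
    have h1 : (symbol ![x, u] : K F 2) = 0 := symbol_steinberg x u (by simp [u])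
    have h2 : (symbol ![x⁻¹, w] : K F 2) = 0 := symbol_steinberg x⁻¹ w (by simp [w])
    rw [symbol_inv_left] at h2
    rw [h1, neg_eq_zero.mp h2]
    simp

theorem symbol_antisymm (a b : Fˣ) : (symbol ![a, b] : K F 2) + symbol ![b, a] = 0 := by
  have h := symbol_neg_self (a * b)
  have e : -(a * b) = (-a) * b := by simp
  have e' : -(a * b) = a * (-b) := by simp
  rw [symbol_mul_left] at h
  conv at h => lhs; arg 1; rw [e, symbol_mul_right, symbol_neg_self]
  conv at h => lhs; arg 2; rw [e', symbol_mul_right, symbol_neg_self]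
  rw [zero_add, add_zero] at h
  exact h

end Groth.Agent.Lib.Helper6.MilK2
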