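import Mathlib
import Groth.Agent.Lib.Helper6.MorSOpen

/-!
# (AF) for separated locally quasi-finite morphisms (helper6)

`exists_affineOpen_of_finite_of_lqf`: finitely many points in one fibre of a separated, locally
quasi-finite morphism locally of finite type lie in a common affine open (Mathlib's Zariski main
theorem `IsOpenImmersion f.toNormalization` + prime avoidance).
`isRepresentable_of_lqf`: `Mor_S(Z, X)` is representable for `Z/S` finite locally free and such `X/S`.
-/

set_option autoImplicit false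
set_option linter.style.haveILetI false
universe u
open CategoryTheory CategoryTheory.Limits AlgebraicGeometry Opposite

namespace Groth.Agent.Lib.Helper6.MorSOpen

variable {S X : Scheme.{u}}

/-- Finitely many points in one fibre of a separated, locally quasi-finite morphism locally of
finite type lie in a common affine open (Zariski's main theorem + prime avoidance). -/
theorem exists_affineOpen_of_finite_of_lqf (f : X ⟶ S) [IsSeparated f] [LocallyQuasiFinite f]
    [LocallyOfFiniteType f] (s : S) (F : Set X) (hF : F.Finite) (hFs : ∀ x ∈ F, f x = s) :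
    ∃ U : X.Opens, IsAffineOpen U ∧ F ⊆ U := by
  classical
  obtain ⟨_, ⟨(W : S.Opens), hW : IsAffineOpen W, rfl⟩, hsW, -⟩ :=
    (S.isBasis_affineOpens).exists_subset_of_mem_open (Set.mem_univ s) isOpen_univ
  have hex : ∀ x : F, ∃ V : X.Opens, IsAffineOpen V ∧ x.1 ∈ V ∧ V ≤ f ⁻¹ᵁ W := by
    intro x
    have hx : x.1 ∈ f ⁻¹ᵁ W := by
      change f x.1 ∈ W
      rw [hFs x.1 x.2]; exact hsW
    obtain ⟨_, ⟨(V : X.Opens), hV : IsAffineOpen V, rfl⟩, hxV, hVW⟩ :=
      (X.isBasis_affineOpens).exists_subset_of_mem_open hx (f ⁻¹ᵁ W).2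
    exact ⟨V, hV, hxV, hVW⟩
  choose V hV hxV hVW using hex
  haveI : Finite F := hF
  let X' : X.Opens := ⨆ x : F, V x
  have hX'W : X' ≤ f ⁻¹ᵁ W := iSup_le hVW
  have hcomp : IsCompact (X' : Set X) := by
    have : (X' : Set X) = ⋃ x : F, (V x : Set X) := by
      simp [X']
    rw [this]
    exact isCompact_iUnion fun x => (hV x).isCompact
  haveI : CompactSpace (X' : Scheme.{u}) := isCompact_iff_compactSpace.mp hcomp
  haveI : IsAffine (W : Scheme.{u}) := hW
  let f' : (X' : Scheme.{u}) ⟶ (W : Scheme.{u}) := f.resLE W X' hX'W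
  haveI : QuasiCompact f' := inferInstance
  let N := f'.normalization
  haveI : IsAffine N := isAffine_of_isAffineHom f'.fromNormalization
  let j : (X' : Scheme.{u}) ⟶ N := f'.toNormalization
  haveI : IsOpenImmersion j := inferInstance
  have hxX' : ∀ x : F, x.1 ∈ X' := fun x =>
    (le_iSup (fun x : F => V x) x) (hxV x)
  let FN : Set N := Set.range fun x : F => j ⟨x.1, hxX' x⟩
  have hFN : FN.Finite := Set.finite_range _
  obtain ⟨UN, hUN, hFUN, -, hUNj⟩ := exists_affineOpen_of_finite (isAffineOpen_top N)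
    j.opensRange FN hFN (fun _ _ => trivial) (by
      rintro _ ⟨x, rfl⟩
      exact ⟨_, rfl⟩)
  refine ⟨X'.ι ''ᵁ (j ⁻¹ᵁ UN),
    (hUN.preimage_of_isOpenImmersion j hUNj).image_of_isOpenImmersion X'.ι, ?_⟩
  intro x hx
  refine ⟨⟨x, hxX' ⟨x, hx⟩⟩, ?_, rfl⟩
  exact hFUN ⟨⟨x, hx⟩, rfl⟩

theorem isRepresentable_of_lqf {Z : Scheme.{u}} (g : Z ⟶ S) (f : X ⟶ S) (hg : Mor2.IsFinLocFree g)
    [IsSeparated f] [LocallyQuasiFinite f] [LocallyOfFiniteType f] :
    (Flatn.morS g f).IsRepresentable := by
  apply isRepresentable_of_AF g f hg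
  intro s d x hx
  obtain ⟨U, hU, hFU⟩ := exists_affineOpen_of_finite_of_lqf f s (Set.range x)
    (Set.finite_range x) (by rintro _ ⟨k, rfl⟩; exact hx k)
  exact ⟨U, hU, fun k => hFU ⟨k, rfl⟩⟩

end Groth.Agent.Lib.Helper6.MorSOpen
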