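import Mathlib

set_option autoImplicit false
universe u
open TensorProduct

/-!
# Integral extensions do not raise the Krull dimension; `dim (A ⊗[k] E) ≤ dim A` for `E` finite
-/

namespace Groth.Agent.Lib.Helper6.MovDT

/-- An integral algebra has Krull dimension at most that of the base (incomparability). -/
theorem ringKrullDim_le_of_isIntegral (A B : Type*) [CommRing A] [CommRing B] [Algebra A B]
    [Algebra.IsIntegral A B] : ringKrullDim B ≤ ringKrullDim A := by
  refine Order.krullDim_le_of_strictMono (PrimeSpectrum.comap (algebraMap A B)) ?_
  intro p q hpq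
  have h : p.asIdeal < q.asIdeal := hpq
  have := Ideal.IsIntegral.comap_lt_comap (R := A) (A := B) h
  exact this

theorem ringKrullDim_tensor_le {k : Type u} [Field k] (A E : Type u) [CommRing A] [Algebra k A]
    [CommRing E] [Algebra k E] [Module.Finite k E] :
    ringKrullDim (A ⊗[k] E) ≤ ringKrullDim A := by
  have : Algebra.IsIntegral k E := Algebra.IsIntegral.of_finite k E
  exact ringKrullDim_le_of_isIntegral A (A ⊗[k] E)

end Groth.Agent.Lib.Helper6.MovDT
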