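import Mathlib

set_option autoImplicit false
set_option linter.unusedSectionVars false

namespace Groth.Agent.Lib.Helper6.PiSwap

open PiTensorProduct
open scoped TensorProduct

variable {k : Type*} [CommRing k] {A : Type*} [CommRing A] [Algebra k A]
  {ι : Type*} [Fintype ι] [DecidableEq ι]

theorem reindex_mul (σ : Equiv.Perm ι) (x y : ⨂[k] _ : ι, A) :
    reindex k (fun _ : ι => A) σ (x * y) =
      reindex k (fun _ : ι => A) σ x * reindex k (fun _ : ι => A) σ y := by
  induction x using PiTensorProduct.induction_on with
  | smul_tprod r f =>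
    induction y using PiTensorProduct.induction_on with
    | smul_tprod r' g =>
      rw [smul_tprod_mul_smul_tprod, map_smul, map_smul, map_smul, reindex_tprod, reindex_tprod,
        reindex_tprod, smul_tprod_mul_smul_tprod]
      rfl
    | add y1 y2 h1 h2 => rw [mul_add, map_add, map_add, mul_add, h1, h2]
  | add x1 x2 h1 h2 => rw [add_mul, map_add, map_add, add_mul, h1, h2]

theorem reindex_one (σ : Equiv.Perm ι) :
    reindex k (fun _ : ι => A) σ (1 : ⨂[k] _ : ι, A) = 1 := by
  rw [one_def, reindex_tprod]
  rfl

theorem reindex_single (σ : Equiv.Perm ι) (l : ι) (a : A) :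
    reindex k (fun _ : ι => A) σ (singleAlgHom (R := k) (A := fun _ : ι => A) l a) =
      singleAlgHom (R := k) (A := fun _ : ι => A) (σ l) a := by
  rw [singleAlgHom_apply, singleAlgHom_apply, reindex_tprod]
  congr 1
  funext m
  simp only [MonoidHom.mulSingle_apply, Pi.mulSingle_apply]
  by_cases h : m = σ l
  · subst h; simp
  · have : σ.symm m ≠ l := by
      intro h'; apply h; rw [← h']; simp
    simp [h, this]

theorem tprod_eq_prod_single (f : ι → A) :
    tprod k f = ∏ l, singleAlgHom (R := k) (A := fun _ : ι => A) l (f l) := by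
  simp only [singleAlgHom_apply]
  rw [← tprod_prod]
  congr 1
  exact (Finset.univ_prod_mulSingle f).symm

variable (k A) in
def diagIdeal (i j : ι) : Ideal (⨂[k] _ : ι, A) :=
  Ideal.span (Set.range fun a : A =>
    singleAlgHom (R := k) (A := fun _ : ι => A) i a -
    singleAlgHom (R := k) (A := fun _ : ι => A) j a)

theorem gen_mem (i j : ι) (a : A) :
    singleAlgHom (R := k) (A := fun _ : ι => A) i a -
      singleAlgHom (R := k) (A := fun _ : ι => A) j a ∈ diagIdeal k A i j :=
  Ideal.subset_span ⟨a, rfl⟩

theorem swap_sub_mem (i j : ι) (c : ⨂[k] _ : ι, A) :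
    reindex k (fun _ : ι => A) (Equiv.swap i j) c - c ∈ diagIdeal k A i j := by
  induction c using PiTensorProduct.induction_on with
  | smul_tprod r f =>
    rw [map_smul, ← smul_sub]
    apply Submodule.smul_of_tower_mem
    rw [tprod_eq_prod_single]
    apply Finset.prod_induction _
      (fun c => reindex k (fun _ : ι => A) (Equiv.swap i j) c - c ∈ diagIdeal k A i j)
    · intro a b ha hb
      have e : reindex k (fun _ : ι => A) (Equiv.swap i j) (a * b) - a * b =
          (reindex k (fun _ : ι => A) (Equiv.swap i j) a - a) *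
            reindex k (fun _ : ι => A) (Equiv.swap i j) b +
          a * (reindex k (fun _ : ι => A) (Equiv.swap i j) b - b) := by
        rw [reindex_mul]; ring
      rw [e]
      exact add_mem (Ideal.mul_mem_right _ _ ha) (Ideal.mul_mem_left _ _ hb)
    · rw [reindex_one, sub_self]; exact zero_mem _
    · intro l _
      rw [reindex_single]
      by_cases hi : l = i
      · subst hi
        rw [Equiv.swap_apply_left, ← neg_sub]
        exact neg_mem (gen_mem l j (f l))
      · by_cases hj : l = j
        · subst hj
          rw [Equiv.swap_apply_right]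
          exact gen_mem i l (f l)
        · rw [Equiv.swap_apply_of_ne_of_ne hi hj, sub_self]
          exact zero_mem _
  | add x y hx hy =>
    have e : reindex k (fun _ : ι => A) (Equiv.swap i j) (x + y) - (x + y) =
        (reindex k (fun _ : ι => A) (Equiv.swap i j) x - x) +
        (reindex k (fun _ : ι => A) (Equiv.swap i j) y - y) := by
      rw [map_add]; ring
    rw [e]
    exact add_mem hx hy

theorem swap_mem (i j : ι) {g : ⨂[k] _ : ι, A} (hg : g ∈ diagIdeal k A i j) :
    reindex k (fun _ : ι => A) (Equiv.swap i j) g ∈ diagIdeal k A i j := by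
  have := add_mem (swap_sub_mem i j g) hg
  rwa [sub_add_cancel] at this

theorem swap_add_mem_sq (i j : ι) {g : ⨂[k] _ : ι, A} (hg : g ∈ diagIdeal k A i j) :
    reindex k (fun _ : ι => A) (Equiv.swap i j) g + g ∈ (diagIdeal k A i j) ^ 2 := by
  induction hg using Submodule.span_induction with
  | mem x hx =>
    obtain ⟨a, rfl⟩ := hx
    rw [map_sub, reindex_single, reindex_single, Equiv.swap_apply_left, Equiv.swap_apply_right]
    have : singleAlgHom (R := k) (A := fun _ : ι => A) j a -
        singleAlgHom (R := k) (A := fun _ : ι => A) i a +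
        (singleAlgHom (R := k) (A := fun _ : ι => A) i a -
        singleAlgHom (R := k) (A := fun _ : ι => A) j a) = 0 := by ring
    rw [this]
    exact zero_mem _
  | zero => rw [map_zero, add_zero]; exact zero_mem _
  | add x y _ _ hx hy =>
    have e : reindex k (fun _ : ι => A) (Equiv.swap i j) (x + y) + (x + y) =
        (reindex k (fun _ : ι => A) (Equiv.swap i j) x + x) +
        (reindex k (fun _ : ι => A) (Equiv.swap i j) y + y) := by
      rw [map_add]; ring
    rw [e]
    exact add_mem hx hy
  | smul c x hx' hx =>
    have e : reindex k (fun _ : ι => A) (Equiv.swap i j) (c • x) + c • x =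
        (reindex k (fun _ : ι => A) (Equiv.swap i j) c - c) *
          reindex k (fun _ : ι => A) (Equiv.swap i j) x +
        c * (reindex k (fun _ : ι => A) (Equiv.swap i j) x + x) := by
      rw [smul_eq_mul, reindex_mul]; ring
    rw [e]
    refine add_mem ?_ (Ideal.mul_mem_left _ _ hx)
    rw [pow_two]
    exact Ideal.mul_mem_mul (swap_sub_mem i j c) (swap_mem i j hx')

theorem swap_sub_sign_mem (i j : ι) : ∀ (s : ℕ) {x : ⨂[k] _ : ι, A},
    x ∈ (diagIdeal k A i j) ^ s →
    reindex k (fun _ : ι => A) (Equiv.swap i j) x - (-1) ^ s * x ∈ (diagIdeal k A i j) ^ (s + 1) := by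
  intro s
  induction s with
  | zero =>
    intro x _
    rw [pow_zero, one_mul, zero_add, pow_one]
    exact swap_sub_mem i j x
  | succ s ih =>
    intro x hx
    rw [pow_succ] at hx
    refine Submodule.mul_induction_on hx ?_ ?_
    · intro y hy g hg
      have e : reindex k (fun _ : ι => A) (Equiv.swap i j) (y * g) - (-1) ^ (s + 1) * (y * g) =
          (reindex k (fun _ : ι => A) (Equiv.swap i j) y - (-1) ^ s * y) *
            reindex k (fun _ : ι => A) (Equiv.swap i j) g +
          (-1) ^ s * y * (reindex k (fun _ : ι => A) (Equiv.swap i j) g + g) := by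
        rw [reindex_mul]; ring
      rw [e]
      apply add_mem
      · rw [pow_succ _ (s + 1)]
        exact Ideal.mul_mem_mul (ih hy) (swap_mem i j hg)
      · have h2 : (diagIdeal k A i j) ^ (s + 1 + 1) =
            (diagIdeal k A i j) ^ s * (diagIdeal k A i j) ^ 2 := by
          rw [← pow_add]
        rw [h2]
        exact Ideal.mul_mem_mul (Ideal.mul_mem_left _ _ hy) (swap_add_mem_sq i j hg)
    · intro x y hx hy
      have e : reindex k (fun _ : ι => A) (Equiv.swap i j) (x + y) - (-1) ^ (s + 1) * (x + y) =
          (reindex k (fun _ : ι => A) (Equiv.swap i j) x - (-1) ^ (s + 1) * x) +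
          (reindex k (fun _ : ι => A) (Equiv.swap i j) y - (-1) ^ (s + 1) * y) := by
        rw [map_add]; ring
      rw [e]
      exact add_mem hx hy

theorem mem_pow_succ_of_odd_of_fixed [Invertible (2 : k)] (i j : ι) {s : ℕ} (hs : Odd s)
    {x : ⨂[k] _ : ι, A} (hx : x ∈ (diagIdeal k A i j) ^ s)
    (hfix : reindex k (fun _ : ι => A) (Equiv.swap i j) x = x) :
    x ∈ (diagIdeal k A i j) ^ (s + 1) := by
  have h := swap_sub_sign_mem i j s hx
  rw [hfix, hs.neg_one_pow] at h
  have e : x = (⅟(2 : k)) • (x - -1 * x) := by
    have : x - -1 * x = (2 : k) • x := by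
      rw [two_smul]; ring
    rw [this, smul_smul, invOf_mul_self, one_smul]
  rw [e]
  exact Submodule.smul_of_tower_mem _ _ h

end Groth.Agent.Lib.Helper6.PiSwap
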