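
import Groth.Agent.Lib.Helper6.AffUniv

set_option autoImplicit false
universe u
open AlgebraicGeometry CategoryTheory Limits TopologicalSpace Opposite

namespace Groth.Agent.Lib.Helper6.Pinch

open Scheme

variable {X Y Z W : Scheme.{u}} (i : Z ⟶ X) (j : Z ⟶ Y) (a : X ⟶ W) (b : Y ⟶ W)

/-- jointly surjective on points. -/
def JointlySurj : Prop := ∀ w : W, (∃ x : X, a x = w) ∨ (∃ y : Y, b y = w)

/-- jointly injective on sections over every open. -/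
def JointlyInj : Prop :=
  ∀ (O : W.Opens) (s : Γ(W, O)), a.app O s = 0 → b.app O s = 0 → s = 0

theorem jointlyInj_of_basis (𝓑 : Set W.Opens) (h𝓑 : Opens.IsBasis 𝓑)
    (h : ∀ O ∈ 𝓑, ∀ s : Γ(W, O), a.app O s = 0 → b.app O s = 0 → s = 0) : JointlyInj a b := by
  intro O s hsa hsb
  refine W.IsSheaf.section_ext fun x hx ↦ ?_
  obtain ⟨V, hV, hxV, hVO⟩ := Opens.isBasis_iff_nbhd.mp h𝓑 hx
  refine ⟨V, hVO, hxV, ?_⟩
  rw [map_zero]
  apply h V hV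
  · rw [← ConcreteCategory.comp_apply, a.naturality]
    simp [hsa]
  · rw [← ConcreteCategory.comp_apply, b.naturality]
    simp [hsb]

theorem JointlyInj.eq {a : X ⟶ W} {b : Y ⟶ W} (hI : JointlyInj a b) (O : W.Opens) (s t : Γ(W, O))
    (h1 : a.app O s = a.app O t) (h2 : b.app O s = b.app O t) : s = t := by
  rw [← sub_eq_zero]
  apply hI O
  · rw [map_sub, h1, sub_self]
  · rw [map_sub, h2, sub_self]

theorem appLE_congr' {P Q : Scheme.{u}} {f g : P ⟶ Q} (h : f = g) (U : Q.Opens) (V : P.Opens)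
    (e₁ : V ≤ f ⁻¹ᵁ U) (e₂ : V ≤ g ⁻¹ᵁ U) : f.appLE U V e₁ = g.appLE U V e₂ := by
  subst h; rfl

theorem JointlyInj.restrict {a : X ⟶ W} {b : Y ⟶ W} (hI : JointlyInj a b) (V : W.Opens) :
    JointlyInj (a ∣_ V) (b ∣_ V) := by
  intro O s h1 h2
  apply hI (V.ι ''ᵁ O) s
  · rw [morphismRestrict_app] at h1
    have hinj := (ConcreteCategory.bijective_of_isIso
      (X.presheaf.map (eqToHom (image_morphismRestrict_preimage a V O)).op)).injective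
    apply hinj
    rw [map_zero]
    exact h1
  · rw [morphismRestrict_app] at h2
    have hinj := (ConcreteCategory.bijective_of_isIso
      (Y.presheaf.map (eqToHom (image_morphismRestrict_preimage b V O)).op)).injective
    apply hinj
    rw [map_zero]
    exact h2

theorem JointlySurj.restrict {a : X ⟶ W} {b : Y ⟶ W} (hS : JointlySurj a b) (V : W.Opens) :
    JointlySurj (a ∣_ V) (b ∣_ V) := by
  intro v
  rcases hS v.1 with ⟨x, hx⟩ | ⟨y, hy⟩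
  · left
    have hxV : x ∈ a ⁻¹ᵁ V := by
      change a x ∈ V
      rw [hx]; exact v.2
    exact ⟨⟨x, hxV⟩, Subtype.ext (by rw [morphismRestrict_base_coe]; exact hx)⟩
  · right
    have hyV : y ∈ b ⁻¹ᵁ V := by
      change b y ∈ V
      rw [hy]; exact v.2
    exact ⟨⟨y, hyV⟩, Subtype.ext (by rw [morphismRestrict_base_coe]; exact hy)⟩

/-- global uniqueness. -/
theorem hom_ext {a : X ⟶ W} {b : Y ⟶ W} (hS : JointlySurj a b) (hI : JointlyInj a b)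
    {T : Scheme.{u}} (c c' : W ⟶ T) (ha : a ≫ c = a ≫ c') (hb : b ≫ c = b ≫ c') : c = c' := by
  have hpt : ∀ w : W, c w = c' w := by
    intro w
    rcases hS w with ⟨x, hx⟩ | ⟨y, hy⟩
    · rw [← hx, ← Scheme.Hom.comp_apply, ← Scheme.Hom.comp_apply, ha]
    · rw [← hy, ← Scheme.Hom.comp_apply, ← Scheme.Hom.comp_apply, hb]
  apply Scheme.hom_ext_of_forall
  intro w
  obtain ⟨_, ⟨U, hU, rfl⟩, hwU, -⟩ :=
    T.isBasis_affineOpens.exists_subset_of_mem_open (Set.mem_univ (c w)) isOpen_univ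
  have hO' : c ⁻¹ᵁ U ≤ c' ⁻¹ᵁ U := fun z hz => by
    change c' z ∈ U
    rw [← hpt z]; exact hz
  refine ⟨c ⁻¹ᵁ U, hwU, ?_⟩
  rw [AffUniv.ι_comp_eq c hU (c ⁻¹ᵁ U) le_rfl, AffUniv.ι_comp_eq c' hU (c ⁻¹ᵁ U) hO']
  suffices key : c.appLE U (c ⁻¹ᵁ U) le_rfl = c'.appLE U (c ⁻¹ᵁ U) hO' by rw [key]
  ext r
  apply hI.eq (c ⁻¹ᵁ U)
  · have h1 : a.app (c ⁻¹ᵁ U) (c.appLE U (c ⁻¹ᵁ U) le_rfl r) =
        (a ≫ c).appLE U (a ⁻¹ᵁ c ⁻¹ᵁ U) le_rfl r := by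
      rw [Scheme.Hom.app_eq_appLE, ← CommRingCat.comp_apply, Scheme.Hom.appLE_comp_appLE]
    have h2 : a.app (c ⁻¹ᵁ U) (c'.appLE U (c ⁻¹ᵁ U) hO' r) =
        (a ≫ c').appLE U (a ⁻¹ᵁ c ⁻¹ᵁ U) (fun z hz => hO' hz) r := by
      rw [Scheme.Hom.app_eq_appLE, ← CommRingCat.comp_apply, Scheme.Hom.appLE_comp_appLE]
    rw [h1, h2, appLE_congr' ha]
  · have h1 : b.app (c ⁻¹ᵁ U) (c.appLE U (c ⁻¹ᵁ U) le_rfl r) =
        (b ≫ c).appLE U (b ⁻¹ᵁ c ⁻¹ᵁ U) le_rfl r := by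
      rw [Scheme.Hom.app_eq_appLE, ← CommRingCat.comp_apply, Scheme.Hom.appLE_comp_appLE]
    have h2 : b.app (c ⁻¹ᵁ U) (c'.appLE U (c ⁻¹ᵁ U) hO' r) =
        (b ≫ c').appLE U (b ⁻¹ᵁ c ⁻¹ᵁ U) (fun z hz => hO' hz) r := by
      rw [Scheme.Hom.app_eq_appLE, ← CommRingCat.comp_apply, Scheme.Hom.appLE_comp_appLE]
    rw [h1, h2, appLE_congr' hb]

/-- local uniqueness. -/
theorem hom_ext_local {a : X ⟶ W} {b : Y ⟶ W} (hS : JointlySurj a b) (hI : JointlyInj a b)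
    {T : Scheme.{u}} (V : W.Opens) (c c' : V.toScheme ⟶ T)
    (ha : (a ∣_ V) ≫ c = (a ∣_ V) ≫ c') (hb : (b ∣_ V) ≫ c = (b ∣_ V) ≫ c') : c = c' :=
  hom_ext (hS.restrict V) (hI.restrict V) c c' ha hb

/-- the pushout-of-sections condition at an open `V` (existence part). -/
def GoodAt (comm : i ≫ a = j ≫ b) (V : W.Opens) : Prop :=
  ∀ (s : Γ(X, a ⁻¹ᵁ V)) (t : Γ(Y, b ⁻¹ᵁ V)),
    i.appLE (a ⁻¹ᵁ V) ((i ≫ a) ⁻¹ᵁ V) le_rfl s =
      j.appLE (b ⁻¹ᵁ V) ((i ≫ a) ⁻¹ᵁ V) (by rw [comm]; exact le_rfl) t →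
    ∃ r : Γ(W, V), a.app V r = s ∧ b.app V r = t

theorem exists_piece (comm : i ≫ a = j ≫ b) (hI : JointlyInj a b) (V : W.Opens)
    (hV : GoodAt i j a b comm V) {T : Scheme.{u}} (a' : X ⟶ T) (b' : Y ⟶ T)
    (h' : i ≫ a' = j ≫ b') (U : T.Opens) (hU : IsAffineOpen U)
    (h₁ : a ⁻¹ᵁ V ≤ a' ⁻¹ᵁ U) (h₂ : b ⁻¹ᵁ V ≤ b' ⁻¹ᵁ U) :
    ∃ c : V.toScheme ⟶ T, (a ∣_ V) ≫ c = (a ⁻¹ᵁ V).ι ≫ a' ∧
      (b ∣_ V) ≫ c = (b ⁻¹ᵁ V).ι ≫ b' := by
  have hex : ∀ r : Γ(T, U), ∃ r' : Γ(W, V), a.app V r' = a'.appLE U (a ⁻¹ᵁ V) h₁ r ∧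
      b.app V r' = b'.appLE U (b ⁻¹ᵁ V) h₂ r := by
    intro r
    apply hV
    rw [← CommRingCat.comp_apply, ← CommRingCat.comp_apply, Scheme.Hom.appLE_comp_appLE,
      Scheme.Hom.appLE_comp_appLE, appLE_congr' h']
  choose ρ hρa hρb using hex
  let ρ' : Γ(T, U) →+* Γ(W, V) :=
    { toFun := ρ
      map_one' := by
        apply hI.eq V
        · rw [hρa, map_one, map_one]
        · rw [hρb, map_one, map_one]
      map_mul' := fun x y => by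
        apply hI.eq V
        · rw [hρa, map_mul, map_mul, hρa, hρa]
        · rw [hρb, map_mul, map_mul, hρb, hρb]
      map_zero' := by
        apply hI.eq V
        · rw [hρa, map_zero, map_zero]
        · rw [hρb, map_zero, map_zero]
      map_add' := fun x y => by
        apply hI.eq V
        · rw [hρa, map_add, map_add, hρa, hρa]
        · rw [hρb, map_add, map_add, hρb, hρb] }
  have e1 : CommRingCat.ofHom ρ' ≫ a.appLE V (a ⁻¹ᵁ V) le_rfl = a'.appLE U (a ⁻¹ᵁ V) h₁ := by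
    ext r
    rw [← Scheme.Hom.app_eq_appLE]
    exact hρa r
  have e2 : CommRingCat.ofHom ρ' ≫ b.appLE V (b ⁻¹ᵁ V) le_rfl = b'.appLE U (b ⁻¹ᵁ V) h₂ := by
    ext r
    rw [← Scheme.Hom.app_eq_appLE]
    exact hρb r
  refine ⟨V.toSpecΓ ≫ Spec.map (CommRingCat.ofHom ρ') ≫ hU.fromSpec, ?_, ?_⟩
  · rw [AffUniv.ι_comp_eq a' hU (a ⁻¹ᵁ V) h₁, ← e1, Spec.map_comp_assoc,
      Scheme.Opens.toSpecΓ_SpecMap_appLE_assoc, Scheme.Hom.resLE_eq_morphismRestrict]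
  · rw [AffUniv.ι_comp_eq b' hU (b ⁻¹ᵁ V) h₂, ← e2, Spec.map_comp_assoc,
      Scheme.Opens.toSpecΓ_SpecMap_appLE_assoc, Scheme.Hom.resLE_eq_morphismRestrict]

set_option backward.isDefEq.respectTransparency false in
/-- gluing local descents. -/
theorem exists_desc {a : X ⟶ W} {b : Y ⟶ W} (hS : JointlySurj a b) (hI : JointlyInj a b)
    {T : Scheme.{u}} (a' : X ⟶ T) (b' : Y ⟶ T)
    (hloc : ∀ w : W, ∃ (V : W.Opens) (c : V.toScheme ⟶ T), w ∈ V ∧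
      (a ∣_ V) ≫ c = (a ⁻¹ᵁ V).ι ≫ a' ∧ (b ∣_ V) ≫ c = (b ⁻¹ᵁ V).ι ≫ b') :
    ∃ c : W ⟶ T, a ≫ c = a' ∧ b ≫ c = b' := by
  choose V c hwV hca hcb using hloc
  have hcov : IsOpenCover V := by
    rw [IsOpenCover, eq_top_iff]
    intro w _
    exact Opens.mem_iSup.mpr ⟨w, hwV w⟩
  have hca' : ∀ (w : W) (A : X.Opens) (e : A ≤ a ⁻¹ᵁ V w),
      a.resLE (V w) A e ≫ c w = A.ι ≫ a' := by
    intro w A e
    rw [← Scheme.Hom.map_resLE a le_rfl e, Category.assoc, Scheme.Hom.resLE_eq_morphismRestrict,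
      hca w, Scheme.homOfLE_ι_assoc]
  have hcb' : ∀ (w : W) (B : Y.Opens) (e : B ≤ b ⁻¹ᵁ V w),
      b.resLE (V w) B e ≫ c w = B.ι ≫ b' := by
    intro w B e
    rw [← Scheme.Hom.map_resLE b le_rfl e, Category.assoc, Scheme.Hom.resLE_eq_morphismRestrict,
      hcb w, Scheme.homOfLE_ι_assoc]
  have hl : ∀ w₁ w₂ : W, W.homOfLE (inf_le_left : V w₁ ⊓ V w₂ ≤ V w₁) ≫ c w₁ =
      W.homOfLE (inf_le_right : V w₁ ⊓ V w₂ ≤ V w₂) ≫ c w₂ := by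
    intro w₁ w₂
    apply hom_ext_local hS hI (V w₁ ⊓ V w₂)
    · rw [← Scheme.Hom.resLE_eq_morphismRestrict, Scheme.Hom.resLE_map_assoc,
        Scheme.Hom.resLE_map_assoc, hca', hca']
    · rw [← Scheme.Hom.resLE_eq_morphismRestrict, Scheme.Hom.resLE_map_assoc,
        Scheme.Hom.resLE_map_assoc, hcb', hcb']
  let 𝒲 := W.openCoverOfIsOpenCover V hcov
  let F : W ⟶ T := 𝒲.glueMorphisms (fun w ↦ c w) (fun w₁ w₂ ↦ by
      rw [← cancel_epi (isPullback_opens_inf (V w₁) (V w₂)).isoPullback.hom]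
      exact ((IsPullback.isoPullback_hom_fst_assoc (isPullback_opens_inf (V w₁) (V w₂))
        (c w₁)).trans (hl w₁ w₂)).trans (IsPullback.isoPullback_hom_snd_assoc
          (isPullback_opens_inf (V w₁) (V w₂)) (c w₂)).symm)
  have hF (w : W) : (V w).ι ≫ F = c w := Scheme.Cover.ι_glueMorphisms ..
  refine ⟨F, ?_, ?_⟩
  · apply Scheme.hom_ext_of_forall
    intro x
    refine ⟨a ⁻¹ᵁ V (a x), hwV (a x), ?_⟩
    rw [← Scheme.Hom.resLE_comp_ι_assoc a (le_refl (a ⁻¹ᵁ V (a x))), hF, hca']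
  · apply Scheme.hom_ext_of_forall
    intro y
    refine ⟨b ⁻¹ᵁ V (b y), hwV (b y), ?_⟩
    rw [← Scheme.Hom.resLE_comp_ι_assoc b (le_refl (b ⁻¹ᵁ V (b y))), hF, hcb']

/-- the local-to-global criterion for pushouts of schemes. -/
theorem isPushout (comm : i ≫ a = j ≫ b) (hS : JointlySurj a b) (hI : JointlyInj a b)
    (hL : ∀ {T : Scheme.{u}} (a' : X ⟶ T) (b' : Y ⟶ T), i ≫ a' = j ≫ b' → ∀ w : W,
      ∃ (V : W.Opens) (U : T.Opens), w ∈ V ∧ GoodAt i j a b comm V ∧ IsAffineOpen U ∧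
        a ⁻¹ᵁ V ≤ a' ⁻¹ᵁ U ∧ b ⁻¹ᵁ V ≤ b' ⁻¹ᵁ U) : IsPushout i j a b := by
  refine ⟨⟨comm⟩, ⟨PushoutCocone.IsColimit.mk _ (fun s => ?_) (fun s => ?_) (fun s => ?_)
    (fun s m h₁ h₂ => ?_)⟩⟩
  all_goals
    have hex : ∃ c : W ⟶ s.pt, a ≫ c = s.inl ∧ b ≫ c = s.inr := by
      apply exists_desc hS hI
      intro w
      obtain ⟨V, U, hwV, hV, hU, h₁, h₂⟩ := hL s.inl s.inr s.condition w
      obtain ⟨c, hc1, hc2⟩ := exists_piece i j a b comm hI V hV s.inl s.inr s.condition U hU h₁ h₂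
      exact ⟨V, c, hwV, hc1, hc2⟩
  · exact hex.choose
  · exact hex.choose_spec.1
  · exact hex.choose_spec.2
  · exact hom_ext hS hI _ _ (h₁.trans hex.choose_spec.1.symm) (h₂.trans hex.choose_spec.2.symm)

end Groth.Agent.Lib.Helper6.Pinch
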