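import Mathlib

set_option autoImplicit false

namespace Groth.Agent.Lib.Helper6.PinchAlg

/-- `l : R → R'` behaves like the localization away from `f`. -/
structure IsAwayHom {R R' : Type*} [CommRing R] [CommRing R'] (l : R →+* R') (f : R) : Prop where
  unit : IsUnit (l f)
  surj : ∀ x' : R', ∃ (x : R) (n : ℕ), x' * l f ^ n = l x
  ker : ∀ x : R, l x = 0 → ∃ n : ℕ, f ^ n * x = 0

theorem IsAwayHom.of_isLocalization {R R' : Type*} [CommRing R] [CommRing R'] [Algebra R R']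
    (f : R) [IsLocalization.Away f R'] : IsAwayHom (algebraMap R R') f where
  unit := IsLocalization.Away.algebraMap_isUnit f
  surj x' := by
    obtain ⟨n, a, h⟩ := IsLocalization.Away.surj f x'
    exact ⟨a, n, h⟩
  ker x hx := by
    have h0 : algebraMap R R' x = algebraMap R R' 0 := by rw [hx, map_zero]
    obtain ⟨n, hn⟩ := IsLocalization.Away.exists_of_eq f h0
    exact ⟨n, by rw [hn, mul_zero]⟩

section fibre

variable {C B A' A : Type*} [CommRing C] [CommRing B] [CommRing A'] [CommRing A]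
  (f₁ : C →+* B) (f₂ : C →+* A') (q : B →+* A) (p : A' →+* A)
  (comm : ∀ c, q (f₁ c) = p (f₂ c))
  (hPB : ∀ b a', q b = p a' → ∃ c, f₁ c = b ∧ f₂ c = a')
  (hINJ : ∀ c, f₁ c = 0 → f₂ c = 0 → c = 0)

section away

variable {C' B' A'' A''' : Type*} [CommRing C'] [CommRing B'] [CommRing A''] [CommRing A''']
  (lC : C →+* C') (lB : B →+* B') (lA' : A' →+* A'') (lA : A →+* A''')
  (f : C) (hC : IsAwayHom lC f) (hB : IsAwayHom lB (f₁ f)) (hA' : IsAwayHom lA' (f₂ f))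
  (hA : IsAwayHom lA (q (f₁ f)))
  (f₁' : C' →+* B') (f₂' : C' →+* A'') (q' : B' →+* A''') (p' : A'' →+* A''')
  (h₁ : ∀ c, f₁' (lC c) = lB (f₁ c)) (h₂ : ∀ c, f₂' (lC c) = lA' (f₂ c))
  (hq : ∀ b, q' (lB b) = lA (q b)) (hp : ∀ a', p' (lA' a') = lA (p a'))

include hINJ hC hB hA' h₁ h₂ in
theorem inj_away (s : C') (hs₁ : f₁' s = 0) (hs₂ : f₂' s = 0) : s = 0 := by
  obtain ⟨c, n, hc⟩ := hC.surj s
  have e1 : lB (f₁ c) = 0 := by rw [← h₁, ← hc, map_mul, hs₁, zero_mul]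
  have e2 : lA' (f₂ c) = 0 := by rw [← h₂, ← hc, map_mul, hs₂, zero_mul]
  obtain ⟨m, hm⟩ := hB.ker _ e1
  obtain ⟨m', hm'⟩ := hA'.ker _ e2
  have hc0 : f ^ (m + m') * c = 0 := by
    apply hINJ
    · rw [map_mul, map_pow, pow_add, mul_comm (f₁ f ^ m), mul_assoc, hm, mul_zero]
    · rw [map_mul, map_pow, pow_add, mul_assoc, hm', mul_zero]
  have h3 : lC f ^ (m + m') * lC c = 0 := by rw [← map_pow, ← map_mul, hc0, map_zero]
  have h4 : lC c = 0 := ((hC.unit.pow (m + m')).mul_right_eq_zero).mp h3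
  rw [h4] at hc
  exact ((hC.unit.pow n).mul_left_eq_zero).mp hc

include comm hPB hC hB hA' hA h₁ h₂ hq hp in
theorem pb_away (s' : B') (t' : A'') (hst : q' s' = p' t') :
    ∃ r : C', f₁' r = s' ∧ f₂' r = t' := by
  obtain ⟨b, n, hb⟩ := hB.surj s'
  obtain ⟨a', n', ha'⟩ := hA'.surj t'
  -- common exponent
  have hb₁ : s' * lB (f₁ f) ^ (n + n') = lB (b * f₁ f ^ n') := by
    rw [pow_add, ← mul_assoc, hb, map_mul, map_pow]
  have ha₁ : t' * lA' (f₂ f) ^ (n + n') = lA' (a' * f₂ f ^ n) := by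
    rw [pow_add, mul_comm (lA' (f₂ f) ^ n), ← mul_assoc, ha', map_mul, map_pow]
  have hqp : q (f₁ f) = p (f₂ f) := comm f
  have e3 : lA (q (b * f₁ f ^ n') - p (a' * f₂ f ^ n)) = 0 := by
    rw [map_sub, ← hq, ← hp, ← hb₁, ← ha₁, map_mul, map_mul, map_pow, map_pow, hq, hp, hst, hqp,
      sub_self]
  obtain ⟨m, hm⟩ := hA.ker _ e3
  have e4 : q (f₁ f ^ m * (b * f₁ f ^ n')) = p (f₂ f ^ m * (a' * f₂ f ^ n)) := by
    rw [map_mul, map_mul p, map_pow, map_pow p, ← hqp, ← sub_eq_zero, ← mul_sub]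
    exact hm
  obtain ⟨c, hc₁, hc₂⟩ := hPB _ _ e4
  obtain ⟨u, hu⟩ := hC.unit.pow (n + n' + m)
  refine ⟨lC c * ↑u⁻¹, ?_, ?_⟩
  · have hunit : IsUnit (lB (f₁ f) ^ (n + n' + m)) := hB.unit.pow _
    apply hunit.mul_right_cancel
    have e5 : f₁' (lC c * ↑u⁻¹) * lB (f₁ f) ^ (n + n' + m) = f₁' (lC c) := by
      have e6 : lB (f₁ f) ^ (n + n' + m) = f₁' (↑u) := by rw [hu, map_pow, h₁]
      rw [e6, ← map_mul, mul_assoc, Units.inv_mul, mul_one]
    rw [e5, h₁, hc₁, map_mul, map_pow, ← hb₁, pow_add _ (n + n') m]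
    ring
  · have hunit : IsUnit (lA' (f₂ f) ^ (n + n' + m)) := hA'.unit.pow _
    apply hunit.mul_right_cancel
    have e5 : f₂' (lC c * ↑u⁻¹) * lA' (f₂ f) ^ (n + n' + m) = f₂' (lC c) := by
      have e6 : lA' (f₂ f) ^ (n + n' + m) = f₂' (↑u) := by rw [hu, map_pow, h₂]
      rw [e6, ← map_mul, mul_assoc, Units.inv_mul, mul_one]
    rw [e5, h₂, hc₂, map_mul, map_pow, ← ha₁, pow_add _ (n + n') m]
    ring

end away

include hPB in
theorem f₁_surjective (hp : Function.Surjective p) : Function.Surjective f₁ := by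
  intro b
  obtain ⟨a', ha'⟩ := hp (q b)
  obtain ⟨c, hc, -⟩ := hPB b a' ha'.symm
  exact ⟨c, hc⟩

include hINJ in
theorem eq_of_eq (c c' : C) (h1 : f₁ c = f₁ c') (h2 : f₂ c = f₂ c') : c = c' := by
  rw [← sub_eq_zero]
  apply hINJ
  · rw [map_sub, h1, sub_self]
  · rw [map_sub, h2, sub_self]

include comm hPB hINJ in
theorem prime_dichotomy (hp : Function.Surjective p) (P : Ideal C) [hP : P.IsPrime] :
    (∃ Q : Ideal B, Q.IsPrime ∧ Q.comap f₁ = P) ∨
    (∃ e : C, f₁ e = 0 ∧ e ∉ P ∧ ∃ Q' : Ideal A', Q'.IsPrime ∧ Q'.comap f₂ = P) := by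
  have hf₁ := f₁_surjective f₁ f₂ q p hPB hp
  by_cases h : RingHom.ker f₁ ≤ P
  · left
    refine ⟨P.map f₁, Ideal.map_isPrime_of_surjective hf₁ h, ?_⟩
    rw [Ideal.comap_map_of_surjective f₁ hf₁, sup_eq_left]
    exact h
  · right
    obtain ⟨e, he, heP⟩ := SetLike.not_le_iff_exists.mp h
    have he0 : f₁ e = 0 := he
    refine ⟨e, he0, heP, ?_⟩
    rw [← Ideal.comap_map_eq_self_iff_of_isPrime]
    apply le_antisymm _ Ideal.le_comap_map
    have key : ∀ y ∈ P.map f₂, ∃ n ∈ P, f₁ n = 0 ∧ f₂ n = f₂ e * y := by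
      intro y hy
      induction hy using Submodule.span_induction with
      | mem y hy =>
        obtain ⟨p₀, hp₀, rfl⟩ := hy
        exact ⟨e * p₀, P.mul_mem_left e hp₀, by rw [map_mul, he0, zero_mul], by rw [map_mul]⟩
      | zero => exact ⟨0, P.zero_mem, map_zero _, by rw [map_zero, mul_zero]⟩
      | add y z _ _ hy hz =>
        obtain ⟨n₁, hn₁, h1, h2⟩ := hy
        obtain ⟨n₂, hn₂, h3, h4⟩ := hz
        exact ⟨n₁ + n₂, P.add_mem hn₁ hn₂, by rw [map_add, h1, h3, add_zero],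
          by rw [map_add, h2, h4, mul_add]⟩
      | smul x y _ hy =>
        obtain ⟨n, hn, h1, h2⟩ := hy
        have hpe : p (f₂ e) = 0 := by rw [← comm, he0, map_zero]
        obtain ⟨m, hm1, hm2⟩ := hPB 0 (x * f₂ n) (by rw [map_zero, map_mul, ← comm, h1, map_zero, mul_zero])
        obtain ⟨τ, hτ1, hτ2⟩ := hPB 0 (f₂ e * x) (by rw [map_zero, map_mul, hpe, zero_mul])
        have hem : e * m = τ * n := by
          apply eq_of_eq f₁ f₂ hINJ
          · rw [map_mul, map_mul, he0, hτ1, zero_mul, zero_mul]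
          · rw [map_mul, map_mul, hm2, hτ2, h2]
            ring
        have hmP : m ∈ P := by
          have : e * m ∈ P := by rw [hem]; exact P.mul_mem_left τ hn
          exact (hP.mem_or_mem this).resolve_left heP
        refine ⟨m, hmP, hm1, ?_⟩
        rw [hm2, h2, smul_eq_mul]
        ring
    intro c hc
    obtain ⟨n, hn, h1, h2⟩ := key (f₂ c) hc
    have : n = e * c := by
      apply eq_of_eq f₁ f₂ hINJ
      · rw [h1, map_mul, he0, zero_mul]
      · rw [h2, map_mul]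
    rw [this] at hn
    exact (hP.mem_or_mem hn).resolve_left heP

end fibre

end Groth.Agent.Lib.Helper6.PinchAlg
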