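import Groth.Agent.Lib.Helper6.Pinch
import Groth.Agent.Lib.Helper6.PinchAlg


set_option autoImplicit false
universe u
open AlgebraicGeometry CategoryTheory Limits TopologicalSpace Opposite

namespace Groth.Agent.Lib.Helper6.PinchAff

open Scheme

section dict

variable {P : Scheme.{u}} [IsAffine P]

/-- the prime ideal of a point of an affine scheme. -/
noncomputable def pr (x : P) : PrimeSpectrum Γ(P, ⊤) := P.isoSpec.hom x

theorem mem_basicOpen_iff (x : P) (s : Γ(P, ⊤)) : x ∈ P.basicOpen s ↔ s ∉ (pr x).asIdeal := by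
  rw [← Scheme.map_PrimeSpectrum_basicOpen_of_affine P s]
  rfl

theorem pr_surjective : Function.Surjective (pr (P := P)) := by
  intro Q
  refine ⟨P.isoSpec.inv Q, ?_⟩
  unfold pr
  rw [← Scheme.Hom.comp_apply, Iso.inv_hom_id]
  rfl

theorem pr_injective : Function.Injective (pr (P := P)) := by
  intro x y h
  unfold pr at h
  have := congrArg (fun z => P.isoSpec.inv z) h
  simp only [← Scheme.Hom.comp_apply, Iso.hom_inv_id] at this
  exact this

theorem pr_map {P Q : Scheme.{u}} [IsAffine P] [IsAffine Q] (f : P ⟶ Q) (x : P) :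
    pr (f x) = PrimeSpectrum.comap f.appTop.hom (pr x) := by
  unfold pr
  rw [← Scheme.Hom.comp_apply, ← Scheme.isoSpec_hom_naturality, Scheme.Hom.comp_apply]
  rfl

theorem exists_basicOpen_le (O : P.Opens) (x : P) (hx : x ∈ O) :
    ∃ s : Γ(P, ⊤), x ∈ P.basicOpen s ∧ P.basicOpen s ≤ O := by
  obtain ⟨_, ⟨s, rfl⟩, h1, h2⟩ := Opens.isBasis_iff_nbhd.mp (isBasis_basicOpen P) hx
  exact ⟨s, h1, h2⟩

end dict

/-- restriction of global sections. -/
noncomputable def res (P : Scheme.{u}) (O : P.Opens) : Γ(P, ⊤) →+* Γ(P, O) :=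
  (P.presheaf.map (homOfLE le_top).op).hom

theorem isAwayHom_res (P : Scheme.{u}) [IsAffine P] (s : Γ(P, ⊤)) (O : P.Opens)
    (e : O = P.basicOpen s) : PinchAlg.IsAwayHom (res P O) s := by
  let _ : Algebra Γ(P, ⊤) Γ(P, O) := (res P O).toAlgebra
  have : IsLocalization.Away s Γ(P, O) :=
    (isAffineOpen_top P).isLocalization_of_eq_basicOpen s (homOfLE le_top) e
  exact PinchAlg.IsAwayHom.of_isLocalization s

theorem res_app {P Q : Scheme.{u}} (f : P ⟶ Q) (V : Q.Opens) (c : Γ(Q, ⊤)) :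
    f.app V (res Q V c) = res P (f ⁻¹ᵁ V) (f.appTop c) := by
  have := ConcreteCategory.congr_hom (f.naturality (homOfLE (le_top : V ≤ ⊤)).op) c
  exact this

theorem res_appLE {P Q : Scheme.{u}} (f : P ⟶ Q) (V : Q.Opens) (O : P.Opens) (e : O ≤ f ⁻¹ᵁ V)
    (c : Γ(Q, ⊤)) : f.appLE V O e (res Q V c) = res P O (f.appTop c) := by
  rw [Scheme.Hom.appLE, CommRingCat.comp_apply, res_app]
  unfold res
  rw [← CommRingCat.comp_apply, ← CommRingCat.comp_apply, ← Functor.map_comp]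
  rfl

section main

variable {X Y Z W : Scheme.{u}} [IsAffine X] [IsAffine Y] [IsAffine Z] [IsAffine W]
  (i : Z ⟶ X) (j : Z ⟶ Y) (a : X ⟶ W) (b : Y ⟶ W) (comm : i ≫ a = j ≫ b)
  (hsurj : Function.Surjective i.appTop)
  (hPB : ∀ (y : Γ(Y, ⊤)) (x : Γ(X, ⊤)), j.appTop y = i.appTop x →
    ∃ c : Γ(W, ⊤), b.appTop c = y ∧ a.appTop c = x)
  (hINJ : ∀ c : Γ(W, ⊤), b.appTop c = 0 → a.appTop c = 0 → c = 0)

include comm in
theorem comm_appTop (c : Γ(W, ⊤)) : j.appTop (b.appTop c) = i.appTop (a.appTop c) := by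
  rw [← CommRingCat.comp_apply, ← CommRingCat.comp_apply, ← Scheme.Hom.comp_appTop,
    ← Scheme.Hom.comp_appTop, comm]

include comm hPB in
theorem goodAt_basicOpen (r : Γ(W, ⊤)) : Pinch.GoodAt i j a b comm (W.basicOpen r) := by
  intro s t hst
  have hA : PinchAlg.IsAwayHom (res Z ((i ≫ a) ⁻¹ᵁ W.basicOpen r)) (j.appTop (b.appTop r)) := by
    apply isAwayHom_res
    rw [Scheme.preimage_basicOpen, comm_appTop i j a b comm r]
    rfl
  obtain ⟨r', h1, h2⟩ := PinchAlg.pb_away (C := Γ(W, ⊤)) (B := Γ(Y, ⊤)) (A' := Γ(X, ⊤))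
    (A := Γ(Z, ⊤)) b.appTop.hom a.appTop.hom j.appTop.hom i.appTop.hom
    (comm_appTop i j a b comm) hPB
    (res W (W.basicOpen r)) (res Y (b ⁻¹ᵁ W.basicOpen r)) (res X (a ⁻¹ᵁ W.basicOpen r))
    (res Z ((i ≫ a) ⁻¹ᵁ W.basicOpen r)) r
    (isAwayHom_res W r _ rfl)
    (isAwayHom_res Y (b.appTop r) _ (Scheme.preimage_basicOpen b r))
    (isAwayHom_res X (a.appTop r) _ (Scheme.preimage_basicOpen a r))
    hA
    (b.app (W.basicOpen r)).hom (a.app (W.basicOpen r)).hom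
    (j.appLE (b ⁻¹ᵁ W.basicOpen r) ((i ≫ a) ⁻¹ᵁ W.basicOpen r) (by rw [comm]; exact le_rfl)).hom
    (i.appLE (a ⁻¹ᵁ W.basicOpen r) ((i ≫ a) ⁻¹ᵁ W.basicOpen r) le_rfl).hom
    (fun c => res_app b _ c) (fun c => res_app a _ c)
    (fun y => res_appLE j _ _ _ y) (fun x => res_appLE i _ _ _ x) t s hst.symm
  exact ⟨r', h2, h1⟩

include hINJ in
theorem inj_basicOpen (r : Γ(W, ⊤)) (s : Γ(W, W.basicOpen r))
    (h1 : a.app (W.basicOpen r) s = 0) (h2 : b.app (W.basicOpen r) s = 0) : s = 0 :=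
  PinchAlg.inj_away (C := Γ(W, ⊤)) (B := Γ(Y, ⊤)) (A' := Γ(X, ⊤))
    b.appTop.hom a.appTop.hom hINJ
    (res W (W.basicOpen r)) (res Y (b ⁻¹ᵁ W.basicOpen r)) (res X (a ⁻¹ᵁ W.basicOpen r)) r
    (isAwayHom_res W r _ rfl)
    (isAwayHom_res Y (b.appTop r) _ (Scheme.preimage_basicOpen b r))
    (isAwayHom_res X (a.appTop r) _ (Scheme.preimage_basicOpen a r))
    (b.app (W.basicOpen r)).hom (a.app (W.basicOpen r)).hom
    (fun c => res_app b _ c) (fun c => res_app a _ c) s h2 h1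

include hINJ in
theorem jointlyInj : Pinch.JointlyInj a b := by
  apply Pinch.jointlyInj_of_basis a b _ (isBasis_basicOpen W)
  rintro _ ⟨r, rfl⟩ s h1 h2
  exact inj_basicOpen a b hINJ r s h1 h2

include comm hsurj hPB hINJ in
theorem jointlySurj : Pinch.JointlySurj a b := by
  intro w
  have := (pr w).isPrime
  rcases PinchAlg.prime_dichotomy (C := Γ(W, ⊤)) (B := Γ(Y, ⊤)) (A' := Γ(X, ⊤))
    (A := Γ(Z, ⊤)) b.appTop.hom a.appTop.hom j.appTop.hom i.appTop.hom
    (comm_appTop i j a b comm) hPB hINJ hsurj (pr w).asIdeal with ⟨Q, hQ, hQP⟩ | ⟨e, -, -, Q', hQ', hQP⟩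
  · right
    obtain ⟨y, hy⟩ := pr_surjective (P := Y) ⟨Q, hQ⟩
    refine ⟨y, pr_injective ?_⟩
    rw [pr_map, hy]
    exact PrimeSpectrum.ext hQP
  · left
    obtain ⟨x, hx⟩ := pr_surjective (P := X) ⟨Q', hQ'⟩
    refine ⟨x, pr_injective ?_⟩
    rw [pr_map, hx]
    exact PrimeSpectrum.ext hQP

include comm hsurj hPB hINJ in
theorem exists_local {T : Scheme.{u}} (a' : X ⟶ T) (b' : Y ⟶ T) (h' : i ≫ a' = j ≫ b') (w : W) :
    ∃ (V : W.Opens) (U : T.Opens), w ∈ V ∧ Pinch.GoodAt i j a b comm V ∧ IsAffineOpen U ∧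
      a ⁻¹ᵁ V ≤ a' ⁻¹ᵁ U ∧ b ⁻¹ᵁ V ≤ b' ⁻¹ᵁ U := by
  have := (pr w).isPrime
  rcases PinchAlg.prime_dichotomy (C := Γ(W, ⊤)) (B := Γ(Y, ⊤)) (A' := Γ(X, ⊤))
    (A := Γ(Z, ⊤)) b.appTop.hom a.appTop.hom j.appTop.hom i.appTop.hom
    (comm_appTop i j a b comm) hPB hINJ hsurj (pr w).asIdeal with
    ⟨Q, hQ, hQP⟩ | ⟨e, he0, heP, Q', hQ', hQP⟩
  · -- w = b y
    obtain ⟨y, hy⟩ := pr_surjective (P := Y) ⟨Q, hQ⟩
    have hby : b y = w := by
      apply pr_injective
      rw [pr_map, hy]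
      exact PrimeSpectrum.ext hQP
    obtain ⟨_, ⟨U, hU, rfl⟩, hyU, -⟩ :=
      T.isBasis_affineOpens.exists_subset_of_mem_open (Set.mem_univ (b' y)) isOpen_univ
    obtain ⟨g, hyg, hgU⟩ := exists_basicOpen_le (b' ⁻¹ᵁ U) y hyU
    let K : Ideal Γ(X, ⊤) := ⨅ x : {x : X // x ∉ a' ⁻¹ᵁ U}, (pr x.1).asIdeal
    have hKmem : ∀ s : Γ(X, ⊤), X.basicOpen s ≤ a' ⁻¹ᵁ U → s ∈ K := by
      intro s hs
      rw [Ideal.mem_iInf]
      rintro ⟨x, hx⟩
      by_contra hsx
      exact hx (hs ((mem_basicOpen_iff x s).mpr hsx))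
    have hrad : j.appTop g ∈ (K.map i.appTop.hom).radical := by
      rw [Ideal.radical_eq_sInf, Ideal.mem_sInf]
      rintro 𝔮 ⟨hle, hprime⟩
      obtain ⟨z, hz⟩ := pr_surjective (P := Z) ⟨𝔮, hprime⟩
      by_contra hg
      have hz1 : z ∈ Z.basicOpen (j.appTop g) := by
        rw [mem_basicOpen_iff, hz]
        exact hg
      have hz2 : j z ∈ Y.basicOpen g := by
        have : z ∈ j ⁻¹ᵁ Y.basicOpen g := by
          rw [Scheme.preimage_basicOpen]
          exact hz1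
        exact this
      have hz3 : b' (j z) ∈ U := hgU hz2
      have hz4 : a' (i z) ∈ U := by
        rw [← Scheme.Hom.comp_apply, h', Scheme.Hom.comp_apply]
        exact hz3
      obtain ⟨s, hs1, hs2⟩ := exists_basicOpen_le (a' ⁻¹ᵁ U) (i z) hz4
      have hs3 : i.appTop s ∈ 𝔮 := hle (Ideal.mem_map_of_mem _ (hKmem s hs2))
      have hs4 : s ∉ (pr (i z)).asIdeal := (mem_basicOpen_iff _ _).mp hs1
      rw [pr_map, hz] at hs4
      exact hs4 hs3
    obtain ⟨n, hn⟩ := hrad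
    have hn1 : j.appTop (g ^ (n + 1)) ∈ K.map i.appTop.hom := by
      rw [map_pow, pow_succ]
      exact Ideal.mul_mem_right _ _ hn
    obtain ⟨k, hkK, hk⟩ := (Ideal.mem_map_iff_of_surjective i.appTop.hom hsurj).mp hn1
    obtain ⟨r, hr1, hr2⟩ := hPB (g ^ (n + 1)) k hk.symm
    have hbV : b ⁻¹ᵁ W.basicOpen r = Y.basicOpen g := by
      rw [Scheme.preimage_basicOpen]
      change Y.basicOpen (b.appTop r) = _
      rw [hr1, Scheme.basicOpen_pow _ _ (Nat.succ_pos n)]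
    have haV : a ⁻¹ᵁ W.basicOpen r = X.basicOpen k := by
      rw [Scheme.preimage_basicOpen]
      change X.basicOpen (a.appTop r) = _
      rw [hr2]
    refine ⟨W.basicOpen r, U, ?_, goodAt_basicOpen i j a b comm hPB r, hU, ?_, ?_⟩
    · rw [← hby]
      change y ∈ b ⁻¹ᵁ W.basicOpen r
      rw [hbV]
      exact hyg
    · rw [haV]
      intro x hx
      by_contra hxU
      have hk1 : k ∈ (pr x).asIdeal := (Ideal.mem_iInf.mp hkK) ⟨x, hxU⟩
      exact ((mem_basicOpen_iff x k).mp hx) hk1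
    · rw [hbV]
      exact hgU
  · -- w = a x, off the image of b
    obtain ⟨x, hx⟩ := pr_surjective (P := X) ⟨Q', hQ'⟩
    have hax : a x = w := by
      apply pr_injective
      rw [pr_map, hx]
      exact PrimeSpectrum.ext hQP
    have hxe : x ∈ X.basicOpen (a.appTop e) := by
      have h1 : w ∈ W.basicOpen e := (mem_basicOpen_iff w e).mpr heP
      have h2 : x ∈ a ⁻¹ᵁ W.basicOpen e := by
        change a x ∈ W.basicOpen e
        rw [hax]; exact h1
      rw [Scheme.preimage_basicOpen] at h2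
      exact h2
    obtain ⟨_, ⟨U, hU, rfl⟩, hxU, -⟩ :=
      T.isBasis_affineOpens.exists_subset_of_mem_open (Set.mem_univ (a' x)) isOpen_univ
    obtain ⟨k', hxk', hk'U⟩ := exists_basicOpen_le (a' ⁻¹ᵁ U) x hxU
    have hie : i.appTop (a.appTop e) = 0 := by
      rw [← comm_appTop i j a b comm e]
      change j.appTop (b.appTop e) = 0
      have : b.appTop e = 0 := he0
      rw [this, map_zero]
    obtain ⟨r, hr1, hr2⟩ := hPB 0 (a.appTop e * k') (by rw [map_zero, map_mul, hie, zero_mul])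
    have hbV : b ⁻¹ᵁ W.basicOpen r = ⊥ := by
      rw [Scheme.preimage_basicOpen]
      change Y.basicOpen (b.appTop r) = _
      rw [hr1, Scheme.basicOpen_zero]
    have haV : a ⁻¹ᵁ W.basicOpen r = X.basicOpen (a.appTop e) ⊓ X.basicOpen k' := by
      rw [Scheme.preimage_basicOpen]
      change X.basicOpen (a.appTop r) = _
      rw [hr2, Scheme.basicOpen_mul]
    refine ⟨W.basicOpen r, U, ?_, goodAt_basicOpen i j a b comm hPB r, hU, ?_, ?_⟩
    · rw [← hax]
      change x ∈ a ⁻¹ᵁ W.basicOpen r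
      rw [haV]
      exact ⟨hxe, hxk'⟩
    · rw [haV]
      exact inf_le_right.trans hk'U
    · rw [hbV]
      exact bot_le

include comm hsurj hPB hINJ in
/-- the affine pinching theorem: a square of affine schemes which is a fibre product on global
sections, one of the maps on sections being surjective, is a pushout of schemes. -/
theorem isPushout : IsPushout i j a b :=
  Pinch.isPushout i j a b comm (jointlySurj i j a b comm hsurj hPB hINJ) (jointlyInj a b hINJ)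
    (fun a' b' h' w => exists_local i j a b comm hsurj hPB hINJ a' b' h' w)

end main

end Groth.Agent.Lib.Helper6.PinchAff
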