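import Groth.Agent.Lib.Helper6.Pinch


set_option autoImplicit false
universe u
open AlgebraicGeometry CategoryTheory Limits TopologicalSpace Opposite

namespace Groth.Agent.Lib.Helper6.PinchClosed

open Scheme

section alg

variable {R RW RX RY RZ : Type*} [CommRing R] [CommRing RW] [CommRing RX] [CommRing RY]
  [CommRing RZ] (I J : Ideal R)
  (lW : R →+* RW) (lX : R →+* RX) (lY : R →+* RY) (lZ : R →+* RZ)
  (hW : ∀ r, lW r = 0 ↔ r ∈ I ⊓ J) (hX : ∀ r, lX r = 0 ↔ r ∈ I) (hY : ∀ r, lY r = 0 ↔ r ∈ J)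
  (hZ : ∀ r, lZ r = 0 ↔ r ∈ I ⊔ J)
  (sW : Function.Surjective lW) (sX : Function.Surjective lX) (sY : Function.Surjective lY)
  (α : RW →+* RX) (β : RW →+* RY) (ι : RX →+* RZ) (κ : RY →+* RZ)
  (hα : ∀ r, α (lW r) = lX r) (hβ : ∀ r, β (lW r) = lY r)
  (hι : ∀ r, ι (lX r) = lZ r) (hκ : ∀ r, κ (lY r) = lZ r)

include hW hX hY sW hα hβ in
theorem quot_inj (r : RW) (h1 : α r = 0) (h2 : β r = 0) : r = 0 := by
  obtain ⟨r', rfl⟩ := sW r
  rw [hα, hX] at h1
  rw [hβ, hY] at h2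
  exact (hW r').mpr ⟨h1, h2⟩

include hX hY hZ sX sY hα hβ hι hκ in
theorem quot_pb (s : RX) (t : RY) (hst : ι s = κ t) : ∃ r : RW, α r = s ∧ β r = t := by
  obtain ⟨s', rfl⟩ := sX s
  obtain ⟨t', rfl⟩ := sY t
  rw [hι, hκ, ← sub_eq_zero, ← map_sub, hZ] at hst
  obtain ⟨x, hx, y, hy, hxy⟩ := Submodule.mem_sup.mp hst
  refine ⟨lW (s' - x), ?_, ?_⟩
  · rw [hα, map_sub, (hX x).mpr hx, sub_zero]
  · have e : s' - x = t' + y := by
      have : s' - t' = x + y := hxy.symm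
      linear_combination this
    rw [hβ, e, map_add, (hY y).mpr hy, add_zero]

end alg

/-- the topological local factorization lemma. -/
theorem exists_open_nhd {X Y Z W T : Type*} [TopologicalSpace X] [TopologicalSpace Y]
    [TopologicalSpace W] [TopologicalSpace T] (i : Z → X) (j : Z → Y) (a : X → W) (b : Y → W)
    (ha : IsClosedMap a) (hb : IsClosedMap b) (hainj : Function.Injective a)
    (H : ∀ x y, a x = b y → ∃ z, i z = x ∧ j z = y)
    (a' : X → T) (b' : Y → T) (ha' : Continuous a') (hb' : Continuous b')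
    (h' : ∀ z, a' (i z) = b' (j z)) (x : X) (U : Set T) (hU : IsOpen U) (hx : a' x ∈ U) :
    ∃ V₀ : Set W, IsOpen V₀ ∧ a x ∈ V₀ ∧ a ⁻¹' V₀ ⊆ a' ⁻¹' U ∧ b ⁻¹' V₀ ⊆ b' ⁻¹' U := by
  refine ⟨(a '' (a' ⁻¹' U)ᶜ ∪ b '' (b' ⁻¹' U)ᶜ)ᶜ, ?_, ?_, ?_, ?_⟩
  · rw [isOpen_compl_iff]
    exact (ha _ (hU.preimage ha').isClosed_compl).union (hb _ (hU.preimage hb').isClosed_compl)
  · rintro (⟨x₂, hx₂, hax⟩ | ⟨y, hy, hby⟩)
    · rw [hainj hax] at hx₂
      exact hx₂ hx
    · obtain ⟨z, hz1, hz2⟩ := H x y hby.symm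
      apply hy
      change b' y ∈ U
      rw [← hz2, ← h', hz1]
      exact hx
  · intro x' hx'
    by_contra hcon
    exact hx' (Or.inl ⟨x', hcon, rfl⟩)
  · intro y' hy'
    by_contra hcon
    exact hy' (Or.inr ⟨y', hcon, rfl⟩)

section subscheme

variable {S : Scheme.{u}}

theorem appLE_surjective (M : S.IdealSheafData) (U : S.affineOpens) (O : M.subscheme.Opens)
    (h : O = M.subschemeι ⁻¹ᵁ U.1) :
    Function.Surjective (M.subschemeι.appLE U.1 O (le_of_eq h)) := by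
  subst h
  rw [Scheme.Hom.appLE_eq_app]
  exact M.subschemeι_app_surjective U

theorem appLE_eq_zero_iff (M : S.IdealSheafData) (U : S.affineOpens) (O : M.subscheme.Opens)
    (h : O = M.subschemeι ⁻¹ᵁ U.1) (r : Γ(S, U.1)) :
    M.subschemeι.appLE U.1 O (le_of_eq h) r = 0 ↔ r ∈ M.ideal U := by
  subst h
  rw [Scheme.Hom.appLE_eq_app, ← M.ker_subschemeι_app U, RingHom.mem_ker]

theorem isBasis (M : S.IdealSheafData) :
    Opens.IsBasis {V : M.subscheme.Opens | ∃ U : S.affineOpens, V = M.subschemeι ⁻¹ᵁ U.1} := by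
  rw [Opens.isBasis_iff_nbhd]
  intro V w hw
  obtain ⟨V', hV'o, hV'⟩ := M.subschemeι.isEmbedding.isInducing.isOpen_iff.mp V.isOpen
  have hw' : M.subschemeι w ∈ V' := by
    have : w ∈ M.subschemeι ⁻¹' V' := by rw [hV']; exact hw
    exact this
  obtain ⟨_, ⟨U, hU, rfl⟩, hwU, hUV'⟩ :=
    S.isBasis_affineOpens.exists_subset_of_mem_open hw' hV'o
  refine ⟨M.subschemeι ⁻¹ᵁ U, ⟨⟨U, hU⟩, rfl⟩, hwU, ?_⟩
  intro z hz
  have : z ∈ M.subschemeι ⁻¹' V' := hUV' hz
  rw [hV'] at this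
  exact this

variable (I J : S.IdealSheafData)

theorem comm : IdealSheafData.inclusion (le_sup_left : I ≤ I ⊔ J) ≫
    IdealSheafData.inclusion (inf_le_left : I ⊓ J ≤ I) =
    IdealSheafData.inclusion (le_sup_right : J ≤ I ⊔ J) ≫
    IdealSheafData.inclusion (inf_le_right : I ⊓ J ≤ J) := by
  rw [IdealSheafData.inclusion_comp, IdealSheafData.inclusion_comp]

theorem support_inf_le : (I ⊓ J).support ≤ I.support ⊔ J.support := by
  rw [← IdealSheafData.support_mul]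
  apply IdealSheafData.support_antitone
  intro U
  exact Ideal.mul_le_inf

theorem jointlySurj : Pinch.JointlySurj (IdealSheafData.inclusion (inf_le_left : I ⊓ J ≤ I))
    (IdealSheafData.inclusion (inf_le_right : I ⊓ J ≤ J)) := by
  intro w
  have hw : (I ⊓ J).subschemeι w ∈ (I ⊓ J).support := by
    rw [← SetLike.mem_coe, ← IdealSheafData.range_subschemeι]
    exact ⟨w, rfl⟩
  have hw' : (I ⊓ J).subschemeι w ∈ (I.support : Set S) ∪ J.support := support_inf_le I J hw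
  rcases hw' with h | h
  · left
    rw [← IdealSheafData.range_subschemeι] at h
    obtain ⟨x, hx⟩ := h
    refine ⟨x, (I ⊓ J).subschemeι.isEmbedding.injective ?_⟩
    rw [← Scheme.Hom.comp_apply, IdealSheafData.inclusion_subschemeι, hx]
  · right
    rw [← IdealSheafData.range_subschemeι] at h
    obtain ⟨y, hy⟩ := h
    refine ⟨y, (I ⊓ J).subschemeι.isEmbedding.injective ?_⟩
    rw [← Scheme.Hom.comp_apply, IdealSheafData.inclusion_subschemeι, hy]

theorem exists_of_eq (x : I.subscheme) (y : J.subscheme)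
    (h : IdealSheafData.inclusion (inf_le_left : I ⊓ J ≤ I) x =
      IdealSheafData.inclusion (inf_le_right : I ⊓ J ≤ J) y) :
    ∃ z : (I ⊔ J).subscheme, IdealSheafData.inclusion (le_sup_left : I ≤ I ⊔ J) z = x ∧
      IdealSheafData.inclusion (le_sup_right : J ≤ I ⊔ J) z = y := by
  have h1 : I.subschemeι x = J.subschemeι y := by
    rw [← IdealSheafData.inclusion_subschemeι (inf_le_left : I ⊓ J ≤ I),
      ← IdealSheafData.inclusion_subschemeι (inf_le_right : I ⊓ J ≤ J), Scheme.Hom.comp_apply,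
      Scheme.Hom.comp_apply, h]
  have hx : I.subschemeι x ∈ (I ⊔ J).support := by
    rw [IdealSheafData.support_sup]
    refine ⟨?_, ?_⟩
    · rw [← IdealSheafData.range_subschemeι]
      exact ⟨x, rfl⟩
    · rw [h1, ← IdealSheafData.range_subschemeι]
      exact ⟨y, rfl⟩
  rw [← SetLike.mem_coe, ← IdealSheafData.range_subschemeι] at hx
  obtain ⟨z, hz⟩ := hx
  refine ⟨z, I.subschemeι.isEmbedding.injective ?_, J.subschemeι.isEmbedding.injective ?_⟩
  · rw [← Scheme.Hom.comp_apply, IdealSheafData.inclusion_subschemeι, hz]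
  · rw [← Scheme.Hom.comp_apply, IdealSheafData.inclusion_subschemeι, hz, h1]

section sections

variable (U : S.affineOpens)

theorem preimage_a : IdealSheafData.inclusion (inf_le_left : I ⊓ J ≤ I) ⁻¹ᵁ
    ((I ⊓ J).subschemeι ⁻¹ᵁ U.1) = I.subschemeι ⁻¹ᵁ U.1 := by
  rw [← Scheme.Hom.comp_preimage, IdealSheafData.inclusion_subschemeι]

theorem preimage_b : IdealSheafData.inclusion (inf_le_right : I ⊓ J ≤ J) ⁻¹ᵁ
    ((I ⊓ J).subschemeι ⁻¹ᵁ U.1) = J.subschemeι ⁻¹ᵁ U.1 := by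
  rw [← Scheme.Hom.comp_preimage, IdealSheafData.inclusion_subschemeι]

theorem preimage_ia : (IdealSheafData.inclusion (le_sup_left : I ≤ I ⊔ J) ≫
    IdealSheafData.inclusion (inf_le_left : I ⊓ J ≤ I)) ⁻¹ᵁ
    ((I ⊓ J).subschemeι ⁻¹ᵁ U.1) = (I ⊔ J).subschemeι ⁻¹ᵁ U.1 := by
  rw [← Scheme.Hom.comp_preimage, Category.assoc, IdealSheafData.inclusion_subschemeι,
    IdealSheafData.inclusion_subschemeι]

theorem hα (r : Γ(S, U.1)) :
    (IdealSheafData.inclusion (inf_le_left : I ⊓ J ≤ I)).app ((I ⊓ J).subschemeι ⁻¹ᵁ U.1)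
      ((I ⊓ J).subschemeι.appLE U.1 ((I ⊓ J).subschemeι ⁻¹ᵁ U.1) le_rfl r) =
    I.subschemeι.appLE U.1 _ (le_of_eq (preimage_a I J U)) r := by
  rw [Scheme.Hom.app_eq_appLE, ← CommRingCat.comp_apply, Scheme.Hom.appLE_comp_appLE,
    Pinch.appLE_congr' (IdealSheafData.inclusion_subschemeι _)]

theorem hβ (r : Γ(S, U.1)) :
    (IdealSheafData.inclusion (inf_le_right : I ⊓ J ≤ J)).app ((I ⊓ J).subschemeι ⁻¹ᵁ U.1)
      ((I ⊓ J).subschemeι.appLE U.1 ((I ⊓ J).subschemeι ⁻¹ᵁ U.1) le_rfl r) =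
    J.subschemeι.appLE U.1 _ (le_of_eq (preimage_b I J U)) r := by
  rw [Scheme.Hom.app_eq_appLE, ← CommRingCat.comp_apply, Scheme.Hom.appLE_comp_appLE,
    Pinch.appLE_congr' (IdealSheafData.inclusion_subschemeι _)]

theorem hι (r : Γ(S, U.1)) :
    (IdealSheafData.inclusion (le_sup_left : I ≤ I ⊔ J)).appLE _
      ((IdealSheafData.inclusion (le_sup_left : I ≤ I ⊔ J) ≫
        IdealSheafData.inclusion (inf_le_left : I ⊓ J ≤ I)) ⁻¹ᵁ ((I ⊓ J).subschemeι ⁻¹ᵁ U.1)) le_rfl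
      (I.subschemeι.appLE U.1 _ (le_of_eq (preimage_a I J U)) r) =
    (I ⊔ J).subschemeι.appLE U.1 _ (le_of_eq (preimage_ia I J U)) r := by
  rw [← CommRingCat.comp_apply, Scheme.Hom.appLE_comp_appLE,
    Pinch.appLE_congr' (IdealSheafData.inclusion_subschemeι _)]

theorem hκ (r : Γ(S, U.1)) :
    (IdealSheafData.inclusion (le_sup_right : J ≤ I ⊔ J)).appLE _
      ((IdealSheafData.inclusion (le_sup_left : I ≤ I ⊔ J) ≫
        IdealSheafData.inclusion (inf_le_left : I ⊓ J ≤ I)) ⁻¹ᵁ ((I ⊓ J).subschemeι ⁻¹ᵁ U.1))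
      (by rw [comm]; exact le_rfl)
      (J.subschemeι.appLE U.1 _ (le_of_eq (preimage_b I J U)) r) =
    (I ⊔ J).subschemeι.appLE U.1 _ (le_of_eq (preimage_ia I J U)) r := by
  rw [← CommRingCat.comp_apply, Scheme.Hom.appLE_comp_appLE,
    Pinch.appLE_congr' (IdealSheafData.inclusion_subschemeι _)]

theorem goodAt : Pinch.GoodAt (IdealSheafData.inclusion (le_sup_left : I ≤ I ⊔ J))
    (IdealSheafData.inclusion (le_sup_right : J ≤ I ⊔ J))
    (IdealSheafData.inclusion (inf_le_left : I ⊓ J ≤ I))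
    (IdealSheafData.inclusion (inf_le_right : I ⊓ J ≤ J)) (comm I J)
    ((I ⊓ J).subschemeι ⁻¹ᵁ U.1) := by
  intro s t hst
  exact quot_pb (I.ideal U) (J.ideal U)
    ((I ⊓ J).subschemeι.appLE U.1 ((I ⊓ J).subschemeι ⁻¹ᵁ U.1) le_rfl).hom
    (I.subschemeι.appLE U.1 _ (le_of_eq (preimage_a I J U))).hom
    (J.subschemeι.appLE U.1 _ (le_of_eq (preimage_b I J U))).hom
    ((I ⊔ J).subschemeι.appLE U.1 _ (le_of_eq (preimage_ia I J U))).hom
    (fun r => appLE_eq_zero_iff I U _ (preimage_a I J U) r)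
    (fun r => appLE_eq_zero_iff J U _ (preimage_b I J U) r)
    (fun r => appLE_eq_zero_iff (I ⊔ J) U _ (preimage_ia I J U) r)
    (appLE_surjective I U _ (preimage_a I J U)) (appLE_surjective J U _ (preimage_b I J U))
    ((IdealSheafData.inclusion (inf_le_left : I ⊓ J ≤ I)).app ((I ⊓ J).subschemeι ⁻¹ᵁ U.1)).hom
    ((IdealSheafData.inclusion (inf_le_right : I ⊓ J ≤ J)).app ((I ⊓ J).subschemeι ⁻¹ᵁ U.1)).hom
    ((IdealSheafData.inclusion (le_sup_left : I ≤ I ⊔ J)).appLE _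
      ((IdealSheafData.inclusion (le_sup_left : I ≤ I ⊔ J) ≫
        IdealSheafData.inclusion (inf_le_left : I ⊓ J ≤ I)) ⁻¹ᵁ ((I ⊓ J).subschemeι ⁻¹ᵁ U.1))
      le_rfl).hom
    ((IdealSheafData.inclusion (le_sup_right : J ≤ I ⊔ J)).appLE _
      ((IdealSheafData.inclusion (le_sup_left : I ≤ I ⊔ J) ≫
        IdealSheafData.inclusion (inf_le_left : I ⊓ J ≤ I)) ⁻¹ᵁ ((I ⊓ J).subschemeι ⁻¹ᵁ U.1))
      (by rw [comm]; exact le_rfl)).hom
    (hα I J U) (hβ I J U) (hι I J U) (hκ I J U) s t hst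

theorem inj_at (s : Γ((I ⊓ J).subscheme, (I ⊓ J).subschemeι ⁻¹ᵁ U.1))
    (h1 : (IdealSheafData.inclusion (inf_le_left : I ⊓ J ≤ I)).app _ s = 0)
    (h2 : (IdealSheafData.inclusion (inf_le_right : I ⊓ J ≤ J)).app _ s = 0) : s = 0 :=
  quot_inj (I.ideal U) (J.ideal U)
    ((I ⊓ J).subschemeι.appLE U.1 ((I ⊓ J).subschemeι ⁻¹ᵁ U.1) le_rfl).hom
    (I.subschemeι.appLE U.1 _ (le_of_eq (preimage_a I J U))).hom
    (J.subschemeι.appLE U.1 _ (le_of_eq (preimage_b I J U))).hom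
    (fun r => appLE_eq_zero_iff (I ⊓ J) U _ rfl r)
    (fun r => appLE_eq_zero_iff I U _ (preimage_a I J U) r)
    (fun r => appLE_eq_zero_iff J U _ (preimage_b I J U) r)
    (appLE_surjective (I ⊓ J) U _ rfl)
    ((IdealSheafData.inclusion (inf_le_left : I ⊓ J ≤ I)).app ((I ⊓ J).subschemeι ⁻¹ᵁ U.1)).hom
    ((IdealSheafData.inclusion (inf_le_right : I ⊓ J ≤ J)).app ((I ⊓ J).subschemeι ⁻¹ᵁ U.1)).hom
    (hα I J U) (hβ I J U) s h1 h2

end sections

theorem jointlyInj : Pinch.JointlyInj (IdealSheafData.inclusion (inf_le_left : I ⊓ J ≤ I))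
    (IdealSheafData.inclusion (inf_le_right : I ⊓ J ≤ J)) := by
  apply Pinch.jointlyInj_of_basis _ _ _ (isBasis (I ⊓ J))
  rintro _ ⟨U, rfl⟩ s h1 h2
  exact inj_at I J U s h1 h2

instance instIsClosedImmersionInclusion {I J : S.IdealSheafData} (h : I ≤ J) :
    IsClosedImmersion (IdealSheafData.inclusion h) := by
  have : IsClosedImmersion (IdealSheafData.inclusion h ≫ I.subschemeι) := by
    rw [IdealSheafData.inclusion_subschemeι]
    infer_instance
  exact IsClosedImmersion.of_comp_isClosedImmersion (IdealSheafData.inclusion h) I.subschemeι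

theorem exists_local {T : Scheme.{u}} (a' : I.subscheme ⟶ T) (b' : J.subscheme ⟶ T)
    (h' : IdealSheafData.inclusion (le_sup_left : I ≤ I ⊔ J) ≫ a' =
      IdealSheafData.inclusion (le_sup_right : J ≤ I ⊔ J) ≫ b') (w : (I ⊓ J).subscheme) :
    ∃ (V : (I ⊓ J).subscheme.Opens) (UT : T.Opens), w ∈ V ∧
      Pinch.GoodAt (IdealSheafData.inclusion (le_sup_left : I ≤ I ⊔ J))
        (IdealSheafData.inclusion (le_sup_right : J ≤ I ⊔ J))
        (IdealSheafData.inclusion (inf_le_left : I ⊓ J ≤ I))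
        (IdealSheafData.inclusion (inf_le_right : I ⊓ J ≤ J)) (comm I J) V ∧ IsAffineOpen UT ∧
      IdealSheafData.inclusion (inf_le_left : I ⊓ J ≤ I) ⁻¹ᵁ V ≤ a' ⁻¹ᵁ UT ∧
      IdealSheafData.inclusion (inf_le_right : I ⊓ J ≤ J) ⁻¹ᵁ V ≤ b' ⁻¹ᵁ UT := by
  have hz : ∀ z : (I ⊔ J).subscheme,
      a' (IdealSheafData.inclusion (le_sup_left : I ≤ I ⊔ J) z) =
        b' (IdealSheafData.inclusion (le_sup_right : J ≤ I ⊔ J) z) := by
    intro z
    rw [← Scheme.Hom.comp_apply, h', Scheme.Hom.comp_apply]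
  -- a common statement: an open nhd `V₀` of `w` with the two inclusions
  have key : ∃ (UT : T.Opens) (V₀ : Set (I ⊓ J).subscheme), IsAffineOpen UT ∧ IsOpen V₀ ∧ w ∈ V₀ ∧
      (IdealSheafData.inclusion (inf_le_left : I ⊓ J ≤ I)) ⁻¹' V₀ ⊆ a' ⁻¹' UT ∧
      (IdealSheafData.inclusion (inf_le_right : I ⊓ J ≤ J)) ⁻¹' V₀ ⊆ b' ⁻¹' UT := by
    rcases jointlySurj I J w with ⟨x, hx⟩ | ⟨y, hy⟩
    · obtain ⟨_, ⟨UT, hUT, rfl⟩, hxU, -⟩ :=
        T.isBasis_affineOpens.exists_subset_of_mem_open (Set.mem_univ (a' x)) isOpen_univ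
      obtain ⟨V₀, hV₀, h1, h2, h3⟩ := exists_open_nhd
        (IdealSheafData.inclusion (le_sup_left : I ≤ I ⊔ J))
        (IdealSheafData.inclusion (le_sup_right : J ≤ I ⊔ J))
        (IdealSheafData.inclusion (inf_le_left : I ⊓ J ≤ I))
        (IdealSheafData.inclusion (inf_le_right : I ⊓ J ≤ J))
        (IdealSheafData.inclusion (inf_le_left : I ⊓ J ≤ I)).isClosedEmbedding.isClosedMap
        (IdealSheafData.inclusion (inf_le_right : I ⊓ J ≤ J)).isClosedEmbedding.isClosedMap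
        (IdealSheafData.inclusion (inf_le_left : I ⊓ J ≤ I)).isClosedEmbedding.injective
        (exists_of_eq I J) a' b' a'.continuous b'.continuous hz x UT UT.isOpen hxU
      exact ⟨UT, V₀, hUT, hV₀, hx ▸ h1, h2, h3⟩
    · obtain ⟨_, ⟨UT, hUT, rfl⟩, hyU, -⟩ :=
        T.isBasis_affineOpens.exists_subset_of_mem_open (Set.mem_univ (b' y)) isOpen_univ
      obtain ⟨V₀, hV₀, h1, h2, h3⟩ := exists_open_nhd
        (IdealSheafData.inclusion (le_sup_right : J ≤ I ⊔ J))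
        (IdealSheafData.inclusion (le_sup_left : I ≤ I ⊔ J))
        (IdealSheafData.inclusion (inf_le_right : I ⊓ J ≤ J))
        (IdealSheafData.inclusion (inf_le_left : I ⊓ J ≤ I))
        (IdealSheafData.inclusion (inf_le_right : I ⊓ J ≤ J)).isClosedEmbedding.isClosedMap
        (IdealSheafData.inclusion (inf_le_left : I ⊓ J ≤ I)).isClosedEmbedding.isClosedMap
        (IdealSheafData.inclusion (inf_le_right : I ⊓ J ≤ J)).isClosedEmbedding.injective
        (fun y x hyx => by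
          obtain ⟨z, hz1, hz2⟩ := exists_of_eq I J x y hyx.symm
          exact ⟨z, hz2, hz1⟩)
        b' a' b'.continuous a'.continuous (fun z => (hz z).symm) y UT UT.isOpen hyU
      exact ⟨UT, V₀, hUT, hV₀, hy ▸ h1, h3, h2⟩
  obtain ⟨UT, V₀, hUT, hV₀, hwV₀, hA, hB⟩ := key
  obtain ⟨_, ⟨U, rfl⟩, hwV, hVV₀⟩ := Opens.isBasis_iff_nbhd.mp (isBasis (I ⊓ J))
    (U := ⟨V₀, hV₀⟩) hwV₀
  refine ⟨_, UT, hwV, goodAt I J U, hUT, ?_, ?_⟩
  · intro x hx
    exact hA (hVV₀ hx)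
  · intro y hy
    exact hB (hVV₀ hy)

/-- the union of two closed subschemes is the pushout along their intersection. -/
theorem isPushout : IsPushout (IdealSheafData.inclusion (le_sup_left : I ≤ I ⊔ J))
    (IdealSheafData.inclusion (le_sup_right : J ≤ I ⊔ J))
    (IdealSheafData.inclusion (inf_le_left : I ⊓ J ≤ I))
    (IdealSheafData.inclusion (inf_le_right : I ⊓ J ≤ J)) :=
  Pinch.isPushout _ _ _ _ (comm I J) (jointlySurj I J) (jointlyInj I J)
    (fun a' b' h' w => exists_local I J a' b' h' w)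

end subscheme

end Groth.Agent.Lib.Helper6.PinchClosed
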