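import Groth.Agent.Lib.Helper6.PinchAff

set_option autoImplicit false
universe u
open AlgebraicGeometry CategoryTheory Limits TopologicalSpace Opposite

namespace Groth.Agent.Lib.Helper6.PinchAff

open Scheme

theorem mem_pr_map {P Q : Scheme.{u}} [IsAffine P] [IsAffine Q] (f : P ⟶ Q) (x : P)
    (s : Γ(Q, ⊤)) : s ∈ (pr (f x)).asIdeal ↔ f.appTop s ∈ (pr x).asIdeal := by
  rw [pr_map]
  rfl

section main2

variable {X Y Z W : Scheme.{u}} [IsAffine X] [IsAffine Y] [IsAffine Z] [IsAffine W]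
  (i : Z ⟶ X) (j : Z ⟶ Y) (a : X ⟶ W) (b : Y ⟶ W) (comm : i ≫ a = j ≫ b)
  (hsurj : Function.Surjective i.appTop)
  (hPB : ∀ (y : Γ(Y, ⊤)) (x : Γ(X, ⊤)), j.appTop y = i.appTop x →
    ∃ c : Γ(W, ⊤), b.appTop c = y ∧ a.appTop c = x)
  (hINJ : ∀ c : Γ(W, ⊤), b.appTop c = 0 → a.appTop c = 0 → c = 0)

include hsurj hPB in
theorem b_appTop_surjective : Function.Surjective b.appTop :=
  PinchAlg.f₁_surjective (C := Γ(W, ⊤)) (B := Γ(Y, ⊤)) (A' := Γ(X, ⊤))
    (A := Γ(Z, ⊤)) b.appTop.hom a.appTop.hom j.appTop.hom i.appTop.hom hPB hsurj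

include hsurj hPB in
theorem isClosedImmersion_b : IsClosedImmersion b :=
  IsClosedImmersion.of_surjective_of_isAffine b (b_appTop_surjective i j a b hsurj hPB)

include hsurj in
theorem isClosedImmersion_i : IsClosedImmersion i :=
  IsClosedImmersion.of_surjective_of_isAffine i hsurj

include hsurj hPB in
theorem b_injective : Function.Injective b :=
  (isClosedImmersion_b i j a b hsurj hPB).isClosedEmbedding.injective

include hsurj in
theorem mem_range_i (x : X) (h : ∀ e : Γ(X, ⊤), i.appTop e = 0 → e ∈ (pr x).asIdeal) :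
    ∃ z : Z, i z = x := by
  have hP := (pr x).isPrime
  have hker : RingHom.ker i.appTop.hom ≤ (pr x).asIdeal := fun e he => h e he
  have hQ : ((pr x).asIdeal.map i.appTop.hom).IsPrime :=
    Ideal.map_isPrime_of_surjective hsurj hker
  obtain ⟨z, hz⟩ := pr_surjective (P := Z) ⟨_, hQ⟩
  refine ⟨z, pr_injective ?_⟩
  rw [pr_map, hz]
  apply PrimeSpectrum.ext
  change ((pr x).asIdeal.map i.appTop.hom).comap i.appTop.hom = _
  rw [Ideal.comap_map_of_surjective _ hsurj, sup_eq_left]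
  exact hker

include comm hsurj hPB in
/-- (P1) -/
theorem exists_of_a_eq_b (x : X) (y : Y) (h : a x = b y) : ∃ z : Z, i z = x ∧ j z = y := by
  obtain ⟨z, hz⟩ := mem_range_i i hsurj x (by
    intro e he
    obtain ⟨c, hc1, hc2⟩ := hPB 0 e (by rw [map_zero, he])
    have h1 : c ∈ (pr (b y)).asIdeal := by
      rw [mem_pr_map, hc1]
      exact zero_mem _
    rw [← h, mem_pr_map, hc2] at h1
    exact h1)
  refine ⟨z, hz, ?_⟩
  apply b_injective i j a b hsurj hPB
  rw [← h, ← hz, ← Scheme.Hom.comp_apply, ← Scheme.Hom.comp_apply, comm]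

include comm hsurj hPB in
/-- (P3) -/
theorem a_eq_a (x x' : X) (h : a x = a x') :
    x = x' ∨ ∃ z z' : Z, i z = x ∧ i z' = x' ∧ j z = j z' := by
  by_cases hx : ∃ z : Z, i z = x
  · right
    obtain ⟨z, hz⟩ := hx
    have h1 : a x' = b (j z) := by
      rw [← h, ← hz, ← Scheme.Hom.comp_apply, ← Scheme.Hom.comp_apply, comm]
    obtain ⟨z', hz'1, hz'2⟩ := exists_of_a_eq_b i j a b comm hsurj hPB x' (j z) h1
    exact ⟨z, z', hz, hz'1, hz'2.symm⟩
  · left
    have hex : ∃ e : Γ(X, ⊤), i.appTop e = 0 ∧ e ∉ (pr x).asIdeal := by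
      by_contra hcon
      push Not at hcon
      exact hx (mem_range_i i hsurj x hcon)
    obtain ⟨e, he0, hex⟩ := hex
    have key : ∀ s : Γ(X, ⊤), e * s ∈ (pr x).asIdeal ↔ e * s ∈ (pr x').asIdeal := by
      intro s
      obtain ⟨c, hc1, hc2⟩ := hPB 0 (e * s) (by rw [map_zero, map_mul, he0, zero_mul])
      rw [← hc2, ← mem_pr_map, ← mem_pr_map, h]
    have hex' : e ∉ (pr x').asIdeal := by
      have := key 1
      rw [mul_one] at this
      rwa [← this]
    apply pr_injective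
    apply PrimeSpectrum.ext
    ext s
    have hP := (pr x).isPrime
    have hP' := (pr x').isPrime
    constructor
    · intro hs
      have h1 : e * s ∈ (pr x').asIdeal := (key s).mp (Ideal.mul_mem_left _ _ hs)
      exact (hP'.mem_or_mem h1).resolve_left hex'
    · intro hs
      have h1 : e * s ∈ (pr x).asIdeal := (key s).mpr (Ideal.mul_mem_left _ _ hs)
      exact (hP.mem_or_mem h1).resolve_left hex

include comm hsurj hPB hINJ in
theorem exists_basic (OX : X.Opens) (OY : Y.Opens) (hO : i ⁻¹ᵁ OX = j ⁻¹ᵁ OY) (w : W)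
    (hw : (∃ x ∈ OX, a x = w) ∨ (∃ y ∈ OY, b y = w)) :
    ∃ r : Γ(W, ⊤), w ∈ W.basicOpen r ∧ a ⁻¹ᵁ W.basicOpen r ≤ OX ∧
      b ⁻¹ᵁ W.basicOpen r ≤ OY := by
  have := (pr w).isPrime
  have hiff : ∀ z : Z, i z ∈ OX ↔ j z ∈ OY := by
    intro z
    change z ∈ i ⁻¹ᵁ OX ↔ z ∈ j ⁻¹ᵁ OY
    rw [hO]
  rcases PinchAlg.prime_dichotomy (C := Γ(W, ⊤)) (B := Γ(Y, ⊤)) (A' := Γ(X, ⊤))
    (A := Γ(Z, ⊤)) b.appTop.hom a.appTop.hom j.appTop.hom i.appTop.hom
    (comm_appTop i j a b comm) hPB hINJ hsurj (pr w).asIdeal with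
    ⟨Q, hQ, hQP⟩ | ⟨e, he0, heP, Q', hQ', hQP⟩
  · -- w = b y
    obtain ⟨y, hy⟩ := pr_surjective (P := Y) ⟨Q, hQ⟩
    have hby : b y = w := by
      apply pr_injective
      rw [pr_map, hy]
      exact PrimeSpectrum.ext hQP
    have hyO : y ∈ OY := by
      rcases hw with ⟨x, hx, hxw⟩ | ⟨y', hy', hyw⟩
      · obtain ⟨z, hz1, hz2⟩ := exists_of_a_eq_b i j a b comm hsurj hPB x y (hxw.trans hby.symm)
        rw [← hz2, ← hiff, hz1]
        exact hx
      · have : y' = y := b_injective i j a b hsurj hPB (hyw.trans hby.symm)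
        rw [← this]; exact hy'
    obtain ⟨g, hyg, hgU⟩ := exists_basicOpen_le OY y hyO
    let K : Ideal Γ(X, ⊤) := ⨅ x : {x : X // x ∉ OX}, (pr x.1).asIdeal
    have hKmem : ∀ s : Γ(X, ⊤), X.basicOpen s ≤ OX → s ∈ K := by
      intro s hs
      rw [Ideal.mem_iInf]
      rintro ⟨x, hx⟩
      by_contra hsx
      exact hx (hs ((mem_basicOpen_iff x s).mpr hsx))
    have hrad : j.appTop g ∈ (K.map i.appTop.hom).radical := by
      rw [Ideal.radical_eq_sInf, Ideal.mem_sInf]
      rintro 𝔮 ⟨hle, hprime⟩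
      obtain ⟨z, hz⟩ := pr_surjective (P := Z) ⟨𝔮, hprime⟩
      by_contra hg
      have hz1 : z ∈ Z.basicOpen (j.appTop g) := by
        rw [mem_basicOpen_iff, hz]
        exact hg
      have hz2 : j z ∈ Y.basicOpen g := by
        have : z ∈ j ⁻¹ᵁ Y.basicOpen g := by
          rw [Scheme.preimage_basicOpen]
          exact hz1
        exact this
      have hz3 : j z ∈ OY := hgU hz2
      have hz4 : i z ∈ OX := (hiff z).mpr hz3
      obtain ⟨s, hs1, hs2⟩ := exists_basicOpen_le OX (i z) hz4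
      have hs3 : i.appTop s ∈ 𝔮 := hle (Ideal.mem_map_of_mem _ (hKmem s hs2))
      have hs4 : s ∉ (pr (i z)).asIdeal := (mem_basicOpen_iff _ _).mp hs1
      rw [pr_map, hz] at hs4
      exact hs4 hs3
    obtain ⟨n, hn⟩ := hrad
    have hn1 : j.appTop (g ^ (n + 1)) ∈ K.map i.appTop.hom := by
      rw [map_pow, pow_succ]
      exact Ideal.mul_mem_right _ _ hn
    obtain ⟨k, hkK, hk⟩ := (Ideal.mem_map_iff_of_surjective i.appTop.hom hsurj).mp hn1
    obtain ⟨r, hr1, hr2⟩ := hPB (g ^ (n + 1)) k hk.symm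
    have hbV : b ⁻¹ᵁ W.basicOpen r = Y.basicOpen g := by
      rw [Scheme.preimage_basicOpen]
      change Y.basicOpen (b.appTop r) = _
      rw [hr1, Scheme.basicOpen_pow _ _ (Nat.succ_pos n)]
    have haV : a ⁻¹ᵁ W.basicOpen r = X.basicOpen k := by
      rw [Scheme.preimage_basicOpen]
      change X.basicOpen (a.appTop r) = _
      rw [hr2]
    refine ⟨r, ?_, ?_, ?_⟩
    · rw [← hby]
      change y ∈ b ⁻¹ᵁ W.basicOpen r
      rw [hbV]
      exact hyg
    · rw [haV]
      intro x hx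
      by_contra hxU
      have hk1 : k ∈ (pr x).asIdeal := (Ideal.mem_iInf.mp hkK) ⟨x, hxU⟩
      exact ((mem_basicOpen_iff x k).mp hx) hk1
    · rw [hbV]
      exact hgU
  · -- w = a x, off the image of b
    obtain ⟨x, hx⟩ := pr_surjective (P := X) ⟨Q', hQ'⟩
    have hax : a x = w := by
      apply pr_injective
      rw [pr_map, hx]
      exact PrimeSpectrum.ext hQP
    have hnotb : ∀ y : Y, b y ≠ w := by
      intro y hyw
      apply heP
      rw [← hyw, mem_pr_map]
      have : b.appTop e = 0 := he0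
      rw [this]
      exact zero_mem _
    have hxO : x ∈ OX := by
      rcases hw with ⟨x', hx', hxw⟩ | ⟨y', hy', hyw⟩
      · rcases a_eq_a i j a b comm hsurj hPB x x' (hax.trans hxw.symm) with h | ⟨z, z', hz, -, -⟩
        · rw [h]; exact hx'
        · exfalso
          apply hnotb (j z)
          rw [← hax, ← hz, ← Scheme.Hom.comp_apply, ← Scheme.Hom.comp_apply, comm]
      · exact absurd hyw (hnotb y')
    have hxe : x ∈ X.basicOpen (a.appTop e) := by
      have h1 : w ∈ W.basicOpen e := (mem_basicOpen_iff w e).mpr heP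
      have h2 : x ∈ a ⁻¹ᵁ W.basicOpen e := by
        change a x ∈ W.basicOpen e
        rw [hax]; exact h1
      rw [Scheme.preimage_basicOpen] at h2
      exact h2
    obtain ⟨k', hxk', hk'U⟩ := exists_basicOpen_le OX x hxO
    have hie : i.appTop (a.appTop e) = 0 := by
      rw [← comm_appTop i j a b comm e]
      have : b.appTop e = 0 := he0
      rw [this, map_zero]
    obtain ⟨r, hr1, hr2⟩ := hPB 0 (a.appTop e * k') (by rw [map_zero, map_mul, hie, zero_mul])
    have hbV : b ⁻¹ᵁ W.basicOpen r = ⊥ := by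
      rw [Scheme.preimage_basicOpen]
      change Y.basicOpen (b.appTop r) = _
      rw [hr1, Scheme.basicOpen_zero]
    have haV : a ⁻¹ᵁ W.basicOpen r = X.basicOpen (a.appTop e) ⊓ X.basicOpen k' := by
      rw [Scheme.preimage_basicOpen]
      change X.basicOpen (a.appTop r) = _
      rw [hr2, Scheme.basicOpen_mul]
    refine ⟨r, ?_, ?_, ?_⟩
    · rw [← hax]
      change x ∈ a ⁻¹ᵁ W.basicOpen r
      rw [haV]
      exact ⟨hxe, hxk'⟩
    · rw [haV]
      exact inf_le_right.trans hk'U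
    · rw [hbV]
      exact bot_le

include comm hsurj hPB in
/-- the affine pinching square is cartesian. -/
theorem isPullback : IsPullback i j a b := by
  have hi := isClosedImmersion_i i hsurj
  have hb := isClosedImmersion_b i j a b hsurj hPB
  have hlift : ∀ s : PullbackCone a b, ∃ h : s.pt ⟶ Z, h ≫ i = s.fst ∧ h ≫ j = s.snd := by
    intro s
    have hker : RingHom.ker i.appTop.hom ≤ RingHom.ker s.fst.appTop.hom := by
      intro e he
      have he0 : i.appTop e = 0 := he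
      obtain ⟨c, hc1, hc2⟩ := hPB 0 e (by rw [map_zero, he0])
      change s.fst.appTop e = 0
      rw [← hc2, ← CommRingCat.comp_apply, ← Scheme.Hom.comp_appTop, s.condition,
        Scheme.Hom.comp_appTop, CommRingCat.comp_apply, hc1, map_zero]
    let w : Γ(Z, ⊤) →+* Γ(s.pt, ⊤) :=
      RingHom.liftOfSurjective i.appTop.hom hsurj ⟨s.fst.appTop.hom, hker⟩
    have hw : ∀ e : Γ(X, ⊤), w (i.appTop e) = s.fst.appTop e := fun e =>
      RingHom.liftOfRightInverse_comp_apply _ _ _ _ e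
    let h : s.pt ⟶ Z := s.pt.toSpecΓ ≫ Spec.map (CommRingCat.ofHom w) ≫ Z.isoSpec.inv
    have hwi : i.appTop ≫ CommRingCat.ofHom w = s.fst.appTop := by
      ext e
      exact hw e
    have h1 : h ≫ i = s.fst := by
      simp only [h, Category.assoc]
      rw [← Scheme.isoSpec_inv_naturality, ← Spec.map_comp_assoc, hwi,
        ← Scheme.toSpecΓ_naturality_assoc, Scheme.toSpecΓ_isoSpec_inv, Category.comp_id]
    refine ⟨h, h1, ?_⟩
    rw [← cancel_mono b, Category.assoc, ← comm, ← Category.assoc, h1, s.condition]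
  refine ⟨⟨comm⟩, ⟨PullbackCone.IsLimit.mk _ (fun s => (hlift s).choose)
    (fun s => (hlift s).choose_spec.1) (fun s => (hlift s).choose_spec.2)
    (fun s m h₁ h₂ => ?_)⟩⟩
  rw [← cancel_mono i, h₁, (hlift s).choose_spec.1]

end main2

end Groth.Agent.Lib.Helper6.PinchAff
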