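import Groth.Agent.Lib.Helper6.AffPush

set_option autoImplicit false
universe u

open CategoryTheory Limits CommRingCat
open scoped Pointwise

/-!
# Fibre products of rings and base change (helper6)

For a map of cospans of rings `(A → C ← R) → (A' → C' ← R')` with `A → C` surjective and both
squares `C' = A' ⊗_A C`, `C' = R' ⊗_R C` cocartesian, the fibre product rings `P = A ×_C R`,
`P' = A' ×_C' R'` satisfy `P' ⊗_P R = R'` (`isPushout_p2`), `P' ⊗_P A = A'` (`isPushout_p1`) and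
`P → P'` is of finite type when `A → A'` and `R → R'` are (`finiteType_μ`).
-/

namespace Groth.Agent.Lib.Helper6.PushAlg

open Groth.Agent.Lib.Helper6.PinchAlg


section QP

variable {A B C D : Type u} [CommRing A] [CommRing B] [CommRing C] [CommRing D]
  (f : A →+* B) (g : A →+* C) (g' : B →+* D) (f' : C →+* D)

/-- A commutative square of rings with `f`, `f'` surjective and `ker f' ≤ (ker f) C` is a pushout. -/
theorem isPushout_of_surjective (hcomm : g'.comp f = f'.comp g) (hf : Function.Surjective f)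
    (hf' : Function.Surjective f') (hker : RingHom.ker f' ≤ Ideal.map g (RingHom.ker f)) :
    IsPushout (ofHom f) (ofHom g) (ofHom g') (ofHom f') := by
  have hw : ofHom f ≫ ofHom g' = ofHom g ≫ ofHom f' := by
    rw [← ofHom_comp, ← ofHom_comp, hcomm]
  refine ⟨⟨hw⟩, ⟨PushoutCocone.IsColimit.mk _ (fun s => ?_) (fun s => ?_) (fun s => ?_)
    (fun s m h1 h2 => ?_)⟩⟩
  · have hk : RingHom.ker f' ≤ RingHom.ker s.inr.hom := by
      refine hker.trans ?_
      rw [Ideal.map_le_iff_le_comap]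
      intro a ha
      rw [Ideal.mem_comap, RingHom.mem_ker]
      have := congrArg (fun t => t.hom a) s.condition
      simp only [hom_comp, RingHom.coe_comp, Function.comp_apply, hom_ofHom] at this
      rw [← this, (RingHom.mem_ker).mp ha, map_zero]
    exact ofHom (f'.liftOfSurjective hf' ⟨s.inr.hom, hk⟩)
  · ext b
    obtain ⟨a, rfl⟩ := hf b
    have h0 : g' (f a) = f' (g a) := congrArg (fun t => t a) hcomm
    simp only [hom_comp, RingHom.coe_comp, Function.comp_apply, hom_ofHom]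
    rw [h0, RingHom.liftOfSurjective_comp_apply]
    have := congrArg (fun t => t.hom a) s.condition
    simp only [hom_comp, RingHom.coe_comp, Function.comp_apply, hom_ofHom] at this
    exact this.symm
  · ext c
    simp only [hom_comp, RingHom.coe_comp, Function.comp_apply, hom_ofHom]
    rw [RingHom.liftOfSurjective_comp_apply]
  · ext d
    obtain ⟨c, rfl⟩ := hf' d
    simp only [hom_ofHom]
    rw [RingHom.liftOfSurjective_comp_apply]
    have := congrArg (fun t => t.hom c) h2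
    simpa using this

/-- In a pushout square of rings with `f` surjective, `f'` is surjective with kernel `(ker f) C`. -/
theorem surjective_and_ker_le_of_isPushout
    (h : IsPushout (ofHom f) (ofHom g) (ofHom g') (ofHom f')) (hf : Function.Surjective f) :
    Function.Surjective f' ∧ RingHom.ker f' ≤ Ideal.map g (RingHom.ker f) := by
  let J : Ideal C := Ideal.map g (RingHom.ker f)
  let f₀ : C →+* C ⧸ J := Ideal.Quotient.mk J
  have hk : RingHom.ker f ≤ RingHom.ker (f₀.comp g) := by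
    intro a ha
    rw [RingHom.mem_ker, RingHom.comp_apply, Ideal.Quotient.eq_zero_iff_mem]
    exact Ideal.mem_map_of_mem g ha
  let g₀ : B →+* C ⧸ J := f.liftOfSurjective hf ⟨f₀.comp g, hk⟩
  have hcomm : g₀.comp f = f₀.comp g := RingHom.liftOfSurjective_comp f hf ⟨f₀.comp g, hk⟩
  have h₀ : IsPushout (ofHom f) (ofHom g) (ofHom g₀) (ofHom f₀) :=
    isPushout_of_surjective f g g₀ f₀ hcomm hf Ideal.Quotient.mk_surjective (by
      rw [Ideal.mk_ker])
  let e := h.isoIsPushout _ _ h₀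
  have he : ofHom f' ≫ e.hom = ofHom f₀ := h.inr_isoIsPushout_hom _ _ h₀
  have he' : ∀ c, e.hom (f' c) = f₀ c := fun c => congrArg (fun t => t.hom c) he
  have hinj : Function.Injective e.hom :=
    (ConcreteCategory.bijective_of_isIso e.hom).1
  have hsur : Function.Surjective e.inv :=
    (ConcreteCategory.bijective_of_isIso e.inv).2
  constructor
  · intro d
    obtain ⟨c, hc⟩ := Ideal.Quotient.mk_surjective (I := J) (e.hom d)
    refine ⟨c, hinj ?_⟩
    rw [he', hc]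
  · intro c hc
    rw [RingHom.mem_ker] at hc
    have : f₀ c = 0 := by rw [← he', hc, map_zero]
    exact Ideal.Quotient.eq_zero_iff_mem.mp this

end QP




section Fib

variable {A R C A' R' C' : Type u} [CommRing A] [CommRing R] [CommRing C]
  [CommRing A'] [CommRing R'] [CommRing C']
  (φ : A →+* C) (ψ : R →+* C) (φ' : A' →+* C') (ψ' : R' →+* C')
  (α : A →+* A') (ρ : R →+* R') (γ : C →+* C')
  (hφ : ∀ a, φ' (α a) = γ (φ a)) (hψ : ∀ r, ψ' (ρ r) = γ (ψ r))

/-- first projection of the fibre product ring. -/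
def p1 : fib φ ψ →+* A := (RingHom.fst A R).comp (fib φ ψ).subtype

/-- second projection of the fibre product ring. -/
def p2 : fib φ ψ →+* R := (RingHom.snd A R).comp (fib φ ψ).subtype

theorem p_comm (x : fib φ ψ) : φ (p1 φ ψ x) = ψ (p2 φ ψ x) := x.2

/-- constructor. -/
def mk (a : A) (r : R) (h : φ a = ψ r) : fib φ ψ := ⟨(a, r), h⟩

@[simp] theorem p1_mk (a : A) (r : R) (h : φ a = ψ r) : p1 φ ψ (mk φ ψ a r h) = a := rfl
@[simp] theorem p2_mk (a : A) (r : R) (h : φ a = ψ r) : p2 φ ψ (mk φ ψ a r h) = r := rfl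

theorem fib_ext {x y : fib φ ψ} (h1 : p1 φ ψ x = p1 φ ψ y) (h2 : p2 φ ψ x = p2 φ ψ y) : x = y :=
  Subtype.ext (Prod.ext h1 h2)

theorem p2_surjective (hs : Function.Surjective φ) : Function.Surjective (p2 φ ψ) := by
  intro r
  obtain ⟨a, ha⟩ := hs (ψ r)
  exact ⟨mk φ ψ a r ha, rfl⟩

/-- the element `(e, 0)` for `e` in the kernel. -/
def zl (e : A) (he : φ e = 0) : fib φ ψ := mk φ ψ e 0 (by rw [he, map_zero])

@[simp] theorem p1_zl (e : A) (he : φ e = 0) : p1 φ ψ (zl φ ψ e he) = e := rfl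
@[simp] theorem p2_zl (e : A) (he : φ e = 0) : p2 φ ψ (zl φ ψ e he) = 0 := rfl

/-- the induced map. -/
abbrev μ : fib φ ψ →+* fib φ' ψ' := fibMap φ ψ φ' ψ' α ρ γ hφ hψ

@[simp] theorem p1_μ (x : fib φ ψ) : p1 φ' ψ' (μ φ ψ φ' ψ' α ρ γ hφ hψ x) = α (p1 φ ψ x) := rfl
@[simp] theorem p2_μ (x : fib φ ψ) : p2 φ' ψ' (μ φ ψ φ' ψ' α ρ γ hφ hψ x) = ρ (p2 φ ψ x) := rfl

/-- products `α a * p1' q` with `q ∈ Q`. -/
def GSet (Q : Subring (fib φ' ψ')) : Set A' :=
  {z | ∃ a : A, ∃ q ∈ Q, z = α a * p1 φ' ψ' q}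

/-- products `μ x * q` with `p2 x = 0`, `q ∈ Q`. -/
def HSet (Q : Subring (fib φ' ψ')) : Set (fib φ' ψ') :=
  {z | ∃ x : fib φ ψ, p2 φ ψ x = 0 ∧ ∃ q ∈ Q, z = μ φ ψ φ' ψ' α ρ γ hφ hψ x * q}

theorem mem_addClosure_GSet (Q : Subring (fib φ' ψ')) (x : A')
    (hx : x ∈ Subring.closure (Set.range α ∪ p1 φ' ψ' '' (Q : Set (fib φ' ψ')))) :
    x ∈ AddSubgroup.closure (GSet φ' ψ' α Q) := by
  rw [Subring.mem_closure_iff] at hx
  refine AddSubgroup.closure_mono ?_ hx
  intro z hz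
  induction hz using Submonoid.closure_induction with
  | mem z hz =>
    rcases hz with ⟨a, rfl⟩ | ⟨q, hq, rfl⟩
    · exact ⟨a, 1, Q.one_mem, by simp⟩
    · exact ⟨1, q, hq, by simp⟩
  | one => exact ⟨1, 1, Q.one_mem, by simp⟩
  | mul z w _ _ hz hw =>
    obtain ⟨a, q, hq, rfl⟩ := hz
    obtain ⟨b, r, hr, rfl⟩ := hw
    exact ⟨a * b, q * r, Q.mul_mem hq hr, by simp only [map_mul]; ring⟩

include hφ in
theorem keyK (Q : Subring (fib φ' ψ')) (a' : A')
    (ha' : a' ∈ AddSubgroup.closure (GSet φ' ψ' α Q)) :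
    ∀ (e : A), φ e = 0 → ∀ y : fib φ' ψ', p1 φ' ψ' y = α e * a' → p2 φ' ψ' y = 0 →
      y ∈ AddSubgroup.closure (HSet φ ψ φ' ψ' α ρ γ hφ hψ Q) := by
  induction ha' using AddSubgroup.closure_induction with
  | mem z hz =>
    obtain ⟨a, q, hq, rfl⟩ := hz
    intro e he y h1 h2
    have hea : φ (e * a) = 0 := by rw [map_mul, he, zero_mul]
    have : y = μ φ ψ φ' ψ' α ρ γ hφ hψ (zl φ ψ (e * a) hea) * q := by
      apply fib_ext
      · rw [h1, map_mul, p1_μ, p1_zl, map_mul]; ring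
      · rw [h2, map_mul, p2_μ, p2_zl, map_zero, zero_mul]
    rw [this]
    exact AddSubgroup.subset_closure ⟨_, p2_zl φ ψ _ hea, q, hq, rfl⟩
  | zero =>
    intro e he y h1 h2
    have : y = 0 := by
      apply fib_ext
      · rw [h1, mul_zero, map_zero]
      · rw [h2, map_zero]
    rw [this]; exact zero_mem _
  | add z w _ _ hz hw =>
    intro e he y h1 h2
    have hk : ∀ t : A', φ' (α e * t) = 0 := fun t => by rw [map_mul, hφ, he, map_zero, zero_mul]
    have : y = zl φ' ψ' (α e * z) (hk z) + zl φ' ψ' (α e * w) (hk w) := by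
      apply fib_ext
      · rw [h1, map_add, p1_zl, p1_zl]; ring
      · rw [h2, map_add, p2_zl, p2_zl, add_zero]
    rw [this]
    exact add_mem (hz e he _ (p1_zl _ _ _ _) (p2_zl _ _ _ _)) (hw e he _ (p1_zl _ _ _ _) (p2_zl _ _ _ _))
  | neg z _ hz =>
    intro e he y h1 h2
    have := hz e he (-y) (by rw [map_neg, h1]; ring) (by rw [map_neg, h2, neg_zero])
    simpa using neg_mem this

include hφ in
theorem keyK' (Q : Subring (fib φ' ψ'))
    (hQ : ∀ a' : A', a' ∈ AddSubgroup.closure (GSet φ' ψ' α Q))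
    (hker : RingHom.ker φ' ≤ Ideal.map α (RingHom.ker φ)) (t : A') (ht : φ' t = 0) :
    ∀ y : fib φ' ψ', p1 φ' ψ' y = t → p2 φ' ψ' y = 0 →
      y ∈ AddSubgroup.closure (HSet φ ψ φ' ψ' α ρ γ hφ hψ Q) := by
  have hmapker : Ideal.map α (RingHom.ker φ) ≤ RingHom.ker φ' := by
    rw [Ideal.map_le_iff_le_comap]
    intro a ha
    rw [Ideal.mem_comap, RingHom.mem_ker, hφ, (RingHom.mem_ker).mp ha, map_zero]
  have ht' : t ∈ Ideal.map α (RingHom.ker φ) := hker ((RingHom.mem_ker).mpr ht)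
  have ht'' : t ∈ (Submodule.span A' (α '' (RingHom.ker φ : Set A))).toAddSubmonoid := ht'
  rw [Submodule.span_eq_closure] at ht''
  have hcl : ∀ z : A', z ∈ AddSubmonoid.closure
      ((Set.univ : Set A') • (α '' (RingHom.ker φ : Set A))) → φ' z = 0 := by
    intro z hz
    have : z ∈ Ideal.map α (RingHom.ker φ) := by
      change z ∈ (Submodule.span A' (α '' (RingHom.ker φ : Set A))).toAddSubmonoid
      rw [Submodule.span_eq_closure]; exact hz
    exact (RingHom.mem_ker).mp (hmapker this)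
  clear ht ht'
  induction ht'' using AddSubmonoid.closure_induction with
  | mem z hz =>
    obtain ⟨a', -, w, ⟨e, he, rfl⟩, rfl⟩ := hz
    intro y h1 h2
    exact keyK φ ψ φ' ψ' α ρ γ hφ hψ Q a' (hQ a') e ((RingHom.mem_ker).mp he) y
      (by rw [h1]; change a' * α e = α e * a'; ring) h2
  | zero =>
    intro y h1 h2
    have : y = 0 := by
      apply fib_ext
      · rw [h1, map_zero]
      · rw [h2, map_zero]
    rw [this]; exact zero_mem _
  | add z w hz hw ihz ihw =>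
    intro y h1 h2
    have hz' : φ' z = 0 := hcl z hz
    have hw' : φ' w = 0 := hcl w hw
    have : y = zl φ' ψ' z hz' + zl φ' ψ' w hw' := by
      apply fib_ext
      · rw [h1, map_add, p1_zl, p1_zl]
      · rw [h2, map_add, p2_zl, p2_zl, add_zero]
    rw [this]
    exact add_mem (ihz _ (p1_zl _ _ _ _) (p2_zl _ _ _ _)) (ihw _ (p1_zl _ _ _ _) (p2_zl _ _ _ _))

end Fib




section Fib

variable {A R C A' R' C' : Type u} [CommRing A] [CommRing R] [CommRing C]
  [CommRing A'] [CommRing R'] [CommRing C']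
  (φ : A →+* C) (ψ : R →+* C) (φ' : A' →+* C') (ψ' : R' →+* C')
  (α : A →+* A') (ρ : R →+* R') (γ : C →+* C')
  (hφ : ∀ a, φ' (α a) = γ (φ a)) (hψ : ∀ r, ψ' (ρ r) = γ (ψ r))
  (hS3 : IsPushout (ofHom φ) (ofHom α) (ofHom γ) (ofHom φ'))
  (hS2 : IsPushout (ofHom ψ) (ofHom ρ) (ofHom γ) (ofHom ψ'))
  (hφs : Function.Surjective φ)

include hS3 hφs in
theorem surjective_φ' : Function.Surjective φ' :=
  (surjective_and_ker_le_of_isPushout φ α γ φ' hS3 hφs).1

include hS3 hφs in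
theorem ker_φ'_le : RingHom.ker φ' ≤ Ideal.map α (RingHom.ker φ) :=
  (surjective_and_ker_le_of_isPushout φ α γ φ' hS3 hφs).2

include hφ hS2 hφs in
theorem exists_mem_closure (Q : Subring (fib φ' ψ')) (hQ2 : ∀ r' : R', ∃ q ∈ Q, p2 φ' ψ' q = r')
    (a' : A') :
    ∃ s ∈ Subring.closure (Set.range α ∪ p1 φ' ψ' '' (Q : Set (fib φ' ψ'))), φ' s = φ' a' := by
  set S := Subring.closure (Set.range α ∪ p1 φ' ψ' '' (Q : Set (fib φ' ψ'))) with hS
  have htop : Subring.closure (Set.range (ofHom γ) ∪ Set.range (ofHom ψ')) = ⊤ :=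
    closure_range_union_range_eq_top_of_isPushout hS2
  have hle : Subring.closure (Set.range (ofHom γ) ∪ Set.range (ofHom ψ')) ≤ S.map φ' := by
    rw [Subring.closure_le]
    rintro z (⟨c, rfl⟩ | ⟨r', rfl⟩)
    · obtain ⟨a, rfl⟩ := hφs c
      exact ⟨α a, Subring.subset_closure (Or.inl ⟨a, rfl⟩), hφ a⟩
    · obtain ⟨q, hq, rfl⟩ := hQ2 r'
      exact ⟨p1 φ' ψ' q, Subring.subset_closure (Or.inr ⟨q, hq, rfl⟩), p_comm φ' ψ' q⟩
  have : φ' a' ∈ S.map φ' := hle (htop ▸ Subring.mem_top _)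
  obtain ⟨s, hs, hs'⟩ := this
  exact ⟨s, hs, hs'⟩

include hφ hS2 hS3 hφs in
theorem mem_closure_top (a' : A') :
    a' ∈ Subring.closure (Set.range α ∪ p1 φ' ψ' '' ((⊤ : Subring (fib φ' ψ')) : Set (fib φ' ψ'))) := by
  have hφ's := surjective_φ' φ φ' α γ hS3 hφs
  obtain ⟨s, hs, hs'⟩ := exists_mem_closure φ ψ φ' ψ' α ρ γ hφ hS2 hφs ⊤ (fun r' => by
    obtain ⟨q, hq⟩ := p2_surjective φ' ψ' hφ's r'
    exact ⟨q, Subring.mem_top _, hq⟩) a'
  have ht : φ' (a' - s) = 0 := by rw [map_sub, hs', sub_self]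
  have : a' = s + p1 φ' ψ' (zl φ' ψ' (a' - s) ht) := by rw [p1_zl]; ring
  rw [this]
  exact Subring.add_mem _ hs (Subring.subset_closure (Or.inr ⟨_, Subring.mem_top _, rfl⟩))

include hφ hS2 hS3 hφs in
theorem mem_addClosure_top (a' : A') :
    a' ∈ AddSubgroup.closure (GSet φ' ψ' α ⊤) :=
  mem_addClosure_GSet φ' ψ' α ⊤ a' (mem_closure_top φ ψ φ' ψ' α ρ γ hφ hS3 hS2 hφs a')

include hS3 hS2 hφs in
/-- the `R`-side square of fibre product rings is a pushout. -/
theorem isPushout_p2 :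
    IsPushout (ofHom (p2 φ ψ)) (ofHom (μ φ ψ φ' ψ' α ρ γ hφ hψ)) (ofHom ρ) (ofHom (p2 φ' ψ')) := by
  have hφ's := surjective_φ' φ φ' α γ hS3 hφs
  refine isPushout_of_surjective _ _ _ _ (by ext x; rfl) (p2_surjective φ ψ hφs)
    (p2_surjective φ' ψ' hφ's) ?_
  intro y hy
  rw [RingHom.mem_ker] at hy
  have ht : φ' (p1 φ' ψ' y) = 0 := by rw [p_comm, hy, map_zero]
  have := keyK' φ ψ φ' ψ' α ρ γ hφ hψ ⊤ (mem_addClosure_top φ ψ φ' ψ' α ρ γ hφ hS3 hS2 hφs)
    (ker_φ'_le φ φ' α γ hS3 hφs) _ ht y rfl hy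
  refine (AddSubgroup.closure_le (K := (Ideal.map (μ φ ψ φ' ψ' α ρ γ hφ hψ)
    (RingHom.ker (p2 φ ψ))).toAddSubgroup)).mpr ?_ this
  rintro z ⟨x, hx, q, -, rfl⟩
  exact Ideal.mul_mem_right _ _ (Ideal.mem_map_of_mem _ ((RingHom.mem_ker).mpr hx))

end Fib




theorem ker_le_of_isPushout' {A B C D : CommRingCat.{u}} {f : A ⟶ B} {g : A ⟶ C} {g' : B ⟶ D}
    {f' : C ⟶ D} (h : IsPushout f g g' f') (hf : Function.Surjective f.hom) :
    Function.Surjective f'.hom ∧ RingHom.ker f'.hom ≤ Ideal.map g.hom (RingHom.ker f.hom) :=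
  surjective_and_ker_le_of_isPushout f.hom g.hom g'.hom f'.hom (by simpa using h) hf

theorem mem_addClosure_mul {A B T : Type*} [CommRing A] [CommRing B] [CommRing T]
    (u : A →+* T) (v : B →+* T) (x : T)
    (hx : x ∈ Subring.closure (Set.range u ∪ Set.range v)) :
    x ∈ AddSubgroup.closure {z | ∃ a b, z = u a * v b} := by
  rw [Subring.mem_closure_iff] at hx
  refine AddSubgroup.closure_mono ?_ hx
  intro z hz
  induction hz using Submonoid.closure_induction with
  | mem z hz =>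
    rcases hz with ⟨a, rfl⟩ | ⟨q, rfl⟩
    · exact ⟨a, 1, by simp⟩
    · exact ⟨1, q, by simp⟩
  | one => exact ⟨1, 1, by simp⟩
  | mul z w _ _ hz hw =>
    obtain ⟨a, q, rfl⟩ := hz
    obtain ⟨b, r, rfl⟩ := hw
    exact ⟨a * b, q * r, by simp only [map_mul]; ring⟩

section Fib

variable {A R C A' R' C' : Type u} [CommRing A] [CommRing R] [CommRing C]
  [CommRing A'] [CommRing R'] [CommRing C']
  (φ : A →+* C) (ψ : R →+* C) (φ' : A' →+* C') (ψ' : R' →+* C')
  (α : A →+* A') (ρ : R →+* R') (γ : C →+* C')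
  (hφ : ∀ a, φ' (α a) = γ (φ a)) (hψ : ∀ r, ψ' (ρ r) = γ (ψ r))
  (hS3 : IsPushout (ofHom φ) (ofHom α) (ofHom γ) (ofHom φ'))
  (hS2 : IsPushout (ofHom ψ) (ofHom ρ) (ofHom γ) (ofHom ψ'))
  (hφs : Function.Surjective φ)

include hS3 hS2 hφs in
/-- the `A`-side square of fibre product rings is a pushout. -/
theorem isPushout_p1 :
    IsPushout (ofHom (p1 φ ψ)) (ofHom (μ φ ψ φ' ψ' α ρ γ hφ hψ)) (ofHom α) (ofHom (p1 φ' ψ')) := by
  let T : CommRingCat.{u} := pushout (ofHom (p1 φ ψ)) (ofHom (μ φ ψ φ' ψ' α ρ γ hφ hψ))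
  let inl : of A ⟶ T := pushout.inl _ _
  let inr : of (fib φ' ψ') ⟶ T := pushout.inr _ _
  have hT : IsPushout (ofHom (p1 φ ψ)) (ofHom (μ φ ψ φ' ψ' α ρ γ hφ hψ)) inl inr :=
    IsPushout.of_hasPushout _ _
  have hw : ofHom (p1 φ ψ) ≫ ofHom α = ofHom (μ φ ψ φ' ψ' α ρ γ hφ hψ) ≫ ofHom (p1 φ' ψ') := by
    ext x; rfl
  let m : T ⟶ of A' := pushout.desc (ofHom α) (ofHom (p1 φ' ψ')) hw
  have hm1 : inl ≫ m = ofHom α := pushout.inl_desc _ _ _
  have hm2 : inr ≫ m = ofHom (p1 φ' ψ') := pushout.inr_desc _ _ _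
  have hm1' : ∀ a, m (inl a) = α a := fun a => congrArg (fun t => t.hom a) hm1
  have hm2' : ∀ q, m (inr q) = p1 φ' ψ' q := fun q => congrArg (fun t => t.hom q) hm2
  have hcond : ∀ z : fib φ ψ, inl (p1 φ ψ z) = inr (μ φ ψ φ' ψ' α ρ γ hφ hψ z) := fun z =>
    congrArg (fun t => t.hom z) hT.w
  suffices IsIso m from
    hT.of_iso (Iso.refl _) (Iso.refl _) (Iso.refl _) (asIso m) (by simp) (by simp)
      (by simpa using hm1) (by simpa using hm2)
  rw [ConcreteCategory.isIso_iff_bijective]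
  constructor
  · -- injectivity
    rw [injective_iff_map_eq_zero]
    intro x hx
    let T₀ : CommRingCat.{u} := pushout (ofHom φ) inl
    let c0 : of C ⟶ T₀ := pushout.inl _ _
    let t0 : T ⟶ T₀ := pushout.inr _ _
    have hT₀ : IsPushout (ofHom φ) inl c0 t0 := IsPushout.of_hasPushout _ _
    have hpaste1 := hT.paste_horiz hT₀
    have hpaste2 := (isPushout_p2 φ ψ φ' ψ' α ρ γ hφ hψ hS3 hS2 hφs).paste_horiz hS2
    have heq : ofHom (p1 φ ψ) ≫ ofHom φ = ofHom (p2 φ ψ) ≫ ofHom ψ := by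
      ext z; exact p_comm φ ψ z
    rw [heq] at hpaste1
    let ε := hpaste1.isoIsPushout _ _ hpaste2
    have hε1 : c0 ≫ ε.hom = ofHom γ := hpaste1.inl_isoIsPushout_hom _ _ hpaste2
    have hε2 : (inr ≫ t0) ≫ ε.hom = ofHom (p2 φ' ψ') ≫ ofHom ψ' :=
      hpaste1.inr_isoIsPushout_hom _ _ hpaste2
    have hkey : t0 ≫ ε.hom = m ≫ ofHom φ' := by
      apply hT.hom_ext
      · rw [← Category.assoc, ← hT₀.w, Category.assoc, hε1, ← Category.assoc, hm1, hS3.w]
      · rw [← Category.assoc, hε2, ← Category.assoc, hm2]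
        ext y; exact (p_comm φ' ψ' y).symm
    have h1 : ε.hom (t0 x) = 0 := by
      have := congrArg (fun t => t.hom x) hkey
      simp only [hom_comp, RingHom.coe_comp, Function.comp_apply, hom_ofHom] at this
      rw [this, hx, map_zero]
    have hεinj : Function.Injective ε.hom := (ConcreteCategory.bijective_of_isIso ε.hom).1
    have h2 : t0 x = 0 := hεinj (by rw [h1, map_zero])
    have h3 : x ∈ Ideal.map inl.hom (RingHom.ker φ) :=
      (ker_le_of_isPushout' hT₀ hφs).2 ((RingHom.mem_ker).mpr h2)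
    -- elements of `aT` come from `ker p2'`
    have hgen : ∀ t : T, ∀ e : A, φ e = 0 → ∃ y : fib φ' ψ', p2 φ' ψ' y = 0 ∧ inr y = t * inl e := by
      intro t
      have ht : t ∈ AddSubgroup.closure {z | ∃ a b, z = inl.hom a * inr.hom b} := by
        apply mem_addClosure_mul
        have := closure_range_union_range_eq_top_of_isPushout hT
        rw [this]; exact Subring.mem_top _
      induction ht using AddSubgroup.closure_induction with
      | mem z hz =>
        obtain ⟨a, q, rfl⟩ := hz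
        intro e he
        have hea : φ (e * a) = 0 := by rw [map_mul, he, zero_mul]
        refine ⟨μ φ ψ φ' ψ' α ρ γ hφ hψ (zl φ ψ (e * a) hea) * q, ?_, ?_⟩
        · rw [map_mul, p2_μ, p2_zl, map_zero, zero_mul]
        · rw [map_mul, ← hcond, p1_zl, map_mul]
          change inl e * inl a * inr q = inl a * inr q * inl e
          ring
      | zero => intro e he; exact ⟨0, map_zero _, by rw [map_zero, zero_mul]⟩
      | add z w _ _ hz hw =>
        intro e he
        obtain ⟨y₁, h11, h12⟩ := hz e he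
        obtain ⟨y₂, h21, h22⟩ := hw e he
        exact ⟨y₁ + y₂, by rw [map_add, h11, h21, add_zero], by rw [map_add, h12, h22]; ring⟩
      | neg z _ hz =>
        intro e he
        obtain ⟨y₁, h11, h12⟩ := hz e he
        exact ⟨-y₁, by rw [map_neg, h11, neg_zero], by rw [map_neg, h12]; ring⟩
    have haT : ∀ x : T, x ∈ AddSubmonoid.closure
        ((Set.univ : Set T) • (inl.hom '' (RingHom.ker φ : Set A))) →
        ∃ y : fib φ' ψ', p2 φ' ψ' y = 0 ∧ inr y = x := by
      intro x hx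
      induction hx using AddSubmonoid.closure_induction with
      | mem z hz =>
        obtain ⟨t, -, w, ⟨e, he, rfl⟩, rfl⟩ := hz
        exact hgen t e ((RingHom.mem_ker).mp he)
      | zero => exact ⟨0, map_zero _, map_zero _⟩
      | add z w hz hw ihz ihw =>
        obtain ⟨y₁, h11, h12⟩ := ihz
        obtain ⟨y₂, h21, h22⟩ := ihw
        exact ⟨y₁ + y₂, by rw [map_add, h11, h21, add_zero], by rw [map_add, h12, h22]⟩
    have h3' : x ∈ (Submodule.span T (inl.hom '' (RingHom.ker φ : Set A))).toAddSubmonoid := h3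
    rw [Submodule.span_eq_closure] at h3'
    obtain ⟨y, hy1, hy2⟩ := haT x h3'
    have hy0 : y = 0 := by
      apply fib_ext
      · rw [← hm2', hy2, hx, map_zero]
      · rw [hy1, map_zero]
    rw [← hy2, hy0, map_zero]
  · -- surjectivity
    intro a'
    have h := mem_closure_top φ ψ φ' ψ' α ρ γ hφ hS3 hS2 hφs a'
    have hle : Subring.closure (Set.range α ∪ p1 φ' ψ' '' ((⊤ : Subring (fib φ' ψ')) : Set (fib φ' ψ')))
        ≤ m.hom.range := by
      rw [Subring.closure_le]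
      rintro z (⟨a, rfl⟩ | ⟨q, -, rfl⟩)
      · exact ⟨inl a, hm1' a⟩
      · exact ⟨inr q, hm2' q⟩
    exact hle h

end Fib




theorem exists_finset_closure_of_finiteType {A B : Type*} [CommRing A] [CommRing B] (f : A →+* B)
    (hf : f.FiniteType) : ∃ s : Finset B, Subring.closure (Set.range f ∪ ↑s) = ⊤ := by
  let _ := f.toAlgebra
  obtain ⟨s, hs⟩ := (show Algebra.FiniteType A B from hf).out
  refine ⟨s, ?_⟩
  have := Algebra.adjoin_eq_ring_closure (R := A) (s : Set B)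
  rw [hs] at this
  exact this.symm

theorem finiteType_of_closure_eq_top {A B : Type*} [CommRing A] [CommRing B] (f : A →+* B)
    (s : Finset B) (hs : Subring.closure (Set.range f ∪ ↑s) = ⊤) : f.FiniteType := by
  let _ := f.toAlgebra
  change Algebra.FiniteType A B
  refine ⟨⟨s, ?_⟩⟩
  apply Subalgebra.toSubring_injective
  rw [Algebra.adjoin_eq_ring_closure]
  exact hs

section Fib

variable {A R C A' R' C' : Type u} [CommRing A] [CommRing R] [CommRing C]
  [CommRing A'] [CommRing R'] [CommRing C']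
  (φ : A →+* C) (ψ : R →+* C) (φ' : A' →+* C') (ψ' : R' →+* C')
  (α : A →+* A') (ρ : R →+* R') (γ : C →+* C')
  (hφ : ∀ a, φ' (α a) = γ (φ a)) (hψ : ∀ r, ψ' (ρ r) = γ (ψ r))
  (hS3 : IsPushout (ofHom φ) (ofHom α) (ofHom γ) (ofHom φ'))
  (hS2 : IsPushout (ofHom ψ) (ofHom ρ) (ofHom γ) (ofHom ψ'))
  (hφs : Function.Surjective φ)

include hS3 hS2 hφs in
/-- the induced map of fibre product rings is of finite type. -/
theorem finiteType_μ (hα : α.FiniteType) (hρ : ρ.FiniteType) :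
    (μ φ ψ φ' ψ' α ρ γ hφ hψ).FiniteType := by
  classical
  have hφ's := surjective_φ' φ φ' α γ hS3 hφs
  have hp2s := p2_surjective φ ψ hφs
  have hp2's := p2_surjective φ' ψ' hφ's
  obtain ⟨sR, hsR⟩ := exists_finset_closure_of_finiteType ρ hρ
  obtain ⟨sA, hsA⟩ := exists_finset_closure_of_finiteType α hα
  -- Step 1
  let lift : R' → fib φ' ψ' := Function.surjInv hp2's
  have hlift : ∀ r', p2 φ' ψ' (lift r') = r' := Function.surjInv_eq hp2's
  let G₁ : Finset (fib φ' ψ') := sR.image lift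
  let P₁ : Subring (fib φ' ψ') :=
    Subring.closure (Set.range (μ φ ψ φ' ψ' α ρ γ hφ hψ) ∪ ↑G₁)
  have hP₁ : ∀ r' : R', ∃ q ∈ P₁, p2 φ' ψ' q = r' := by
    have hle : Subring.closure (Set.range ρ ∪ ↑sR) ≤ P₁.map (p2 φ' ψ') := by
      rw [Subring.closure_le]
      rintro z (⟨r, rfl⟩ | hz)
      · obtain ⟨x, rfl⟩ := hp2s r
        exact ⟨μ φ ψ φ' ψ' α ρ γ hφ hψ x, Subring.subset_closure (Or.inl ⟨x, rfl⟩), rfl⟩
      · exact ⟨lift z, Subring.subset_closure (Or.inr (Finset.mem_coe.mpr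
          (Finset.mem_image_of_mem _ hz))), hlift z⟩
    intro r'
    have : r' ∈ P₁.map (p2 φ' ψ') := hle (hsR ▸ Subring.mem_top _)
    obtain ⟨q, hq, hq'⟩ := this
    exact ⟨q, hq, hq'⟩
  -- Step 2
  have hex := exists_mem_closure φ ψ φ' ψ' α ρ γ hφ hS2 hφs P₁ hP₁
  choose sfun hsfun1 hsfun2 using hex
  have htk : ∀ a' : A', φ' (a' - sfun a') = 0 := fun a' => by rw [map_sub, hsfun2, sub_self]
  let tfun : A' → fib φ' ψ' := fun a' => zl φ' ψ' (a' - sfun a') (htk a')
  let G₂ : Finset (fib φ' ψ') := sA.image tfun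
  let G : Finset (fib φ' ψ') := G₁ ∪ G₂
  let P₂ : Subring (fib φ' ψ') :=
    Subring.closure (Set.range (μ φ ψ φ' ψ' α ρ γ hφ hψ) ∪ ↑G)
  have hP12 : P₁ ≤ P₂ := by
    apply Subring.closure_mono
    apply Set.union_subset_union_right
    intro z hz
    exact Finset.mem_coe.mpr (Finset.mem_union_left _ (Finset.mem_coe.mp hz))
  have hμP₂ : ∀ x, μ φ ψ φ' ψ' α ρ γ hφ hψ x ∈ P₂ := fun x =>
    Subring.subset_closure (Or.inl ⟨x, rfl⟩)
  -- Step 3
  have hS₂ : ∀ a' : A', a' ∈ Subring.closure (Set.range α ∪ p1 φ' ψ' '' (P₂ : Set (fib φ' ψ'))) := by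
    have hle : Subring.closure (Set.range α ∪ ↑sA) ≤
        Subring.closure (Set.range α ∪ p1 φ' ψ' '' (P₂ : Set (fib φ' ψ'))) := by
      rw [Subring.closure_le]
      rintro z (⟨a, rfl⟩ | hz)
      · exact Subring.subset_closure (Or.inl ⟨a, rfl⟩)
      · have h1 : sfun z ∈ Subring.closure (Set.range α ∪ p1 φ' ψ' '' (P₂ : Set (fib φ' ψ'))) := by
          refine Subring.closure_mono ?_ (hsfun1 z)
          apply Set.union_subset_union_right
          exact Set.image_mono hP12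
        have h2 : p1 φ' ψ' (tfun z) ∈
            Subring.closure (Set.range α ∪ p1 φ' ψ' '' (P₂ : Set (fib φ' ψ'))) := by
          refine Subring.subset_closure (Or.inr ⟨tfun z, ?_, rfl⟩)
          exact Subring.subset_closure (Or.inr (Finset.mem_coe.mpr (Finset.mem_union_right _
            (Finset.mem_image_of_mem _ hz))))
        have : z = sfun z + p1 φ' ψ' (tfun z) := by
          change z = sfun z + (z - sfun z); ring
        rw [this]
        exact Subring.add_mem _ h1 h2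
    intro a'
    exact hle (hsA ▸ Subring.mem_top _)
  have hQ : ∀ a' : A', a' ∈ AddSubgroup.closure (GSet φ' ψ' α P₂) := fun a' =>
    mem_addClosure_GSet φ' ψ' α P₂ a' (hS₂ a')
  -- Step 4
  have hker : ∀ y : fib φ' ψ', p2 φ' ψ' y = 0 → y ∈ P₂ := by
    intro y hy
    have ht : φ' (p1 φ' ψ' y) = 0 := by rw [p_comm, hy, map_zero]
    have := keyK' φ ψ φ' ψ' α ρ γ hφ hψ P₂ hQ (ker_φ'_le φ φ' α γ hS3 hφs) _ ht y rfl hy
    refine (AddSubgroup.closure_le (K := P₂.toAddSubgroup)).mpr ?_ this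
    rintro z ⟨x, -, q, hq, rfl⟩
    exact P₂.mul_mem (hμP₂ x) hq
  -- Step 5
  refine finiteType_of_closure_eq_top _ G ?_
  rw [eq_top_iff]
  intro p' _
  obtain ⟨q, hq, hq'⟩ := hP₁ (p2 φ' ψ' p')
  have h1 : p' - q ∈ P₂ := hker _ (by rw [map_sub, hq', sub_self])
  have : p' = (p' - q) + q := by ring
  rw [this]
  exact P₂.add_mem h1 (hP12 hq)

end Fib

end Groth.Agent.Lib.Helper6.PushAlg
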