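import Groth.Agent.Lib.Helper6.AdaptedPair

set_option autoImplicit false
universe u

open AlgebraicGeometry CategoryTheory Limits TopologicalSpace

/-!
# Quasi-affine avoidance (helper6)

`exists_basicOpen`: a fibre of an integral morphism of affine schemes mapping to a quasi-affine
scheme lies in an affine basic open.  `exists_affine_fibre`: for a map of spans with `X' → X`
separated and locally quasi-finite, fibres of `j'` lie in affine opens of `X'`.
-/

namespace Groth.Agent.Lib.Helper6.QAff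

open Groth.Agent.Lib.Helper6.PinchAff Groth.Agent.Lib.Helper6.AdaptedPair



/-- Quasi-affine avoidance: a fibre of an integral morphism of affine schemes mapping into a
quasi-affine scheme lies in an affine basic open. -/
theorem exists_basicOpen {Q O V : Scheme.{u}} [Q.IsQuasiAffine] [IsAffine O] [IsAffine V]
    (m : O ⟶ Q) (φ : O ⟶ V) [IsIntegralHom φ] (y : V) :
    ∃ r : Γ(Q, ⊤), IsAffineOpen (Q.basicOpen r) ∧ ∀ z : O, φ z = y → m z ∈ Q.basicOpen r := by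
  let tq : Q → PrimeSpectrum Γ(Q, ⊤) := fun x => Q.toSpecΓ x
  let K : Ideal Γ(Q, ⊤) := PrimeSpectrum.vanishingIdeal (Set.range tq)ᶜ
  have hopen : IsOpen (Set.range tq) := Q.toSpecΓ.isOpenEmbedding.isOpen_range
  have hzl : PrimeSpectrum.zeroLocus (K : Set Γ(Q, ⊤)) = (Set.range tq)ᶜ := by
    rw [PrimeSpectrum.zeroLocus_vanishingIdeal_eq_closure]
    exact hopen.isClosed_compl.closure_eq
  have hnat : ∀ z : O, tq (m z) = PrimeSpectrum.comap m.appTop.hom (pr z) := by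
    intro z
    have h1 : O.toSpecΓ ≫ Spec.map m.appTop = m ≫ Q.toSpecΓ := (Scheme.toSpecΓ_naturality m).symm
    have h2 := congrArg (fun t : O ⟶ Spec Γ(Q, ⊤) => t z) h1
    simp only [Scheme.Hom.comp_apply] at h2
    change Q.toSpecΓ (m z) = _
    rw [← h2]
    rfl
  have hK : K.map m.appTop.hom = ⊤ := by
    by_contra hne
    obtain ⟨M, hM, hle⟩ := Ideal.exists_le_maximal _ hne
    obtain ⟨z, hz⟩ := pr_surjective (P := O) ⟨M, hM.isPrime⟩
    have h1 : tq (m z) ∈ PrimeSpectrum.zeroLocus (K : Set Γ(Q, ⊤)) := by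
      rw [PrimeSpectrum.mem_zeroLocus, hnat, hz]
      intro k hk
      exact hle (Ideal.mem_map_of_mem _ hk)
    rw [hzl] at h1
    exact h1 ⟨m z, rfl⟩
  have hint : φ.appTop.hom.IsIntegral := IsIntegralHom.isIntegral_app φ ⊤ (isAffineOpen_top _)
  have := (pr y).isPrime
  obtain ⟨r, hrK, hr⟩ := FibreAvoid.exists_mem_forall_notMem φ.appTop.hom hint (pr y).asIdeal
    m.appTop.hom K hK
  refine ⟨r, ?_, ?_⟩
  · have hsub : (PrimeSpectrum.basicOpen r : Set (PrimeSpectrum Γ(Q, ⊤))) ⊆ Set.range tq := by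
      intro 𝔮 h𝔮
      by_contra hn
      exact h𝔮 ((PrimeSpectrum.mem_vanishingIdeal _ _).mp hrK 𝔮 hn)
    rw [← Scheme.Hom.isAffineOpen_iff_of_isOpenImmersion Q.toSpecΓ]
    convert! IsAffineOpen.Spec_basicOpen r
    rw [← Scheme.toSpecΓ_preimage_basicOpen]
    exact SetLike.coe_injective (Set.image_preimage_eq_of_subset hsub)
  · intro z hz
    have h1 : m.appTop r ∉ (pr z).asIdeal := by
      apply hr (pr z).asIdeal (pr z).isPrime
      rw [← hz, pr_map]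
      rfl
    have h2 : z ∈ O.basicOpen (m.appTop r) := (mem_basicOpen_iff z _).mpr h1
    have h3 : m ⁻¹ᵁ Q.basicOpen r = O.basicOpen (m.appTop r) := Scheme.preimage_basicOpen m r
    rw [← h3] at h2
    exact h2




/-- a compact subset of an open set of a scheme is contained in a compact open subset of it. -/
theorem exists_compact_open_between {X : Scheme.{u}} (T : Set X) (hT : IsCompact T) (O : X.Opens)
    (hTO : T ⊆ (O : Set X)) :
    ∃ Q : X.Opens, IsCompact (Q : Set X) ∧ T ⊆ (Q : Set X) ∧ Q ≤ O := by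
  classical
  have hex : ∀ x : T, ∃ W : X.affineOpens, x.1 ∈ W.1 ∧ W.1 ≤ O := by
    intro x
    obtain ⟨_, ⟨W, hW, rfl⟩, hxW, hWO⟩ :=
      X.isBasis_affineOpens.exists_subset_of_mem_open (hTO x.2) O.isOpen
    exact ⟨⟨W, hW⟩, hxW, hWO⟩
  choose W hxW hWO using hex
  obtain ⟨t, ht⟩ := hT.elim_finite_subcover (fun x : T => ((W x).1 : Set X))
    (fun x => (W x).1.isOpen) (fun x hx => Set.mem_iUnion.mpr ⟨⟨x, hx⟩, hxW ⟨x, hx⟩⟩)
  refine ⟨⨆ x ∈ t, (W x).1, ?_, ?_, ?_⟩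
  · have : ((⨆ x ∈ t, (W x).1 : X.Opens) : Set X) = ⋃ x ∈ t, ((W x).1 : Set X) := by
      simp
    rw [this]
    exact t.isCompact_biUnion fun x _ => (W x).2.isCompact
  · intro x hx
    have := ht hx
    simpa using this
  · exact iSup₂_le fun x _ => hWO x

variable {X Y Z X' Y' Z' : Scheme.{u}}

/-- quasi-compact opens of a scheme separated and locally quasi-finite over an affine scheme are
quasi-affine. -/
theorem isQuasiAffine_of_lqf (f : X' ⟶ X) [IsSeparated f] [LocallyQuasiFinite f]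
    [LocallyOfFiniteType f] (U : X.Opens) (hU : IsAffineOpen U) (Q : X'.Opens)
    (hQ : IsCompact (Q : Set X')) (hQU : Q ≤ f ⁻¹ᵁ U) : (Q : Scheme.{u}).IsQuasiAffine := by
  have : IsAffine (U : Scheme.{u}) := hU
  have : CompactSpace (Q : Scheme.{u}) := isCompact_iff_compactSpace.mp hQ
  let fQ : (Q : Scheme.{u}) ⟶ U := f.resLE U Q hQU
  have hfQ : fQ ≫ U.ι = Q.ι ≫ f := Scheme.Hom.resLE_comp_ι _ _
  have h1 : IsSeparated (fQ ≫ U.ι) := by rw [hfQ]; infer_instance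
  have h2 : LocallyOfFiniteType (fQ ≫ U.ι) := by rw [hfQ]; infer_instance
  have h3 : LocallyQuasiFinite (fQ ≫ U.ι) := by rw [hfQ]; infer_instance
  have : IsSeparated fQ := IsSeparated.of_comp fQ U.ι
  have : LocallyOfFiniteType fQ := locallyOfFiniteType_of_comp fQ U.ι
  have : LocallyQuasiFinite fQ := LocallyQuasiFinite.of_comp fQ U.ι
  have : QuasiCompact fQ := (HasAffineProperty.iff_of_isAffine (P := @QuasiCompact)).mpr inferInstance
  have : IsAffine fQ.normalization := isAffine_of_isAffineHom fQ.fromNormalization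
  exact Scheme.IsQuasiAffine.of_isImmersion fQ.toNormalization




variable {X Y Z X' Y' Z' : Scheme.{u}}

/-- the fibres of `j'` lie in affine opens of `X'` over a given affine open of `X`. -/
theorem exists_affine_fibre (i : Z ⟶ X) (j : Z ⟶ Y) (i' : Z' ⟶ X') (j' : Z' ⟶ Y')
    [IsIntegralHom j'] (f : X' ⟶ X) (g : Y' ⟶ Y) (h : Z' ⟶ Z) (hi : i' ≫ f = h ≫ i)
    (hj : j' ≫ g = h ≫ j) [IsSeparated f] [LocallyQuasiFinite f] [LocallyOfFiniteType f]
    (U : X.Opens) (hU : IsAffineOpen U) (y' : Y')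
    (hfib : j ⁻¹' {g y'} ⊆ (i ⁻¹ᵁ U : Set Z)) :
    ∃ U' : X'.Opens, IsAffineOpen U' ∧ U' ≤ f ⁻¹ᵁ U ∧ j' ⁻¹' {y'} ⊆ (i' ⁻¹ᵁ U' : Set Z') := by
  have hT : IsCompact (j' ⁻¹' {y'}) := j'.isCompact_preimage_singleton y'
  have hTU : i' '' (j' ⁻¹' {y'}) ⊆ ((f ⁻¹ᵁ U : X'.Opens) : Set X') := by
    rintro _ ⟨z, hz, rfl⟩
    change f (i' z) ∈ U
    rw [← Scheme.Hom.comp_apply, hi, Scheme.Hom.comp_apply]
    apply hfib
    change j (h z) = g y'
    rw [← Scheme.Hom.comp_apply, ← hj, Scheme.Hom.comp_apply, hz]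
  obtain ⟨Q, hQc, hTQ, hQU⟩ := exists_compact_open_between _ (hT.image i'.continuous) _ hTU
  have := isQuasiAffine_of_lqf f U hU Q hQc hQU
  have hcl : IsClosedMap j' := j'.isClosedMap
  have hTQ' : j' ⁻¹' {y'} ⊆ ((i' ⁻¹ᵁ Q : Z'.Opens) : Set Z') := fun z hz => hTQ ⟨z, hz, rfl⟩
  have hy1 : y' ∈ pushOpen j' hcl (i' ⁻¹ᵁ Q) := mem_pushOpen j' hcl _ y' hTQ'
  obtain ⟨_, ⟨V', hV', rfl⟩, hyV', hV'sub⟩ :=
    Y'.isBasis_affineOpens.exists_subset_of_mem_open hy1 (pushOpen j' hcl (i' ⁻¹ᵁ Q)).isOpen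
  have hV'le : V' ≤ pushOpen j' hcl (i' ⁻¹ᵁ Q) := hV'sub
  let O' : Z'.Opens := j' ⁻¹ᵁ V'
  have hO'Q : O' ≤ i' ⁻¹ᵁ Q := (j'.preimage_mono hV'le).trans (preimage_pushOpen_le j' hcl _)
  have : IsAffine (V' : Scheme.{u}) := hV'
  have : IsAffine (O' : Scheme.{u}) := hV'.preimage j'
  let m : (O' : Scheme.{u}) ⟶ Q := i'.resLE Q O' hO'Q
  let φ : (O' : Scheme.{u}) ⟶ V' := j'.resLE V' O' le_rfl
  have hφ : IsIntegralHom φ := by
    have : φ = j' ∣_ V' := Scheme.Hom.resLE_eq_morphismRestrict j'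
    rw [this]
    infer_instance
  have hm_apply : ∀ z : O', (m z).1 = i' z.1 := fun z =>
    congrArg (fun t : (O' : Scheme.{u}) ⟶ X' => t z) (Scheme.Hom.resLE_comp_ι i' hO'Q)
  have hφ_apply : ∀ z : O', (φ z).1 = j' z.1 := fun z =>
    congrArg (fun t : (O' : Scheme.{u}) ⟶ Y' => t z) (Scheme.Hom.resLE_comp_ι j' (le_refl O'))
  obtain ⟨r, hr1, hr2⟩ := exists_basicOpen m φ ⟨y', hyV'⟩
  refine ⟨Q.ι ''ᵁ (Q : Scheme.{u}).basicOpen r, hr1.image_of_isOpenImmersion Q.ι,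
    (Scheme.Opens.ι_image_le _ _).trans hQU, ?_⟩
  intro z hz
  have hzO : z ∈ O' := by
    change j' z ∈ V'
    rw [hz]; exact hyV'
  have h1 := hr2 ⟨z, hzO⟩ (Subtype.ext ((hφ_apply ⟨z, hzO⟩).trans hz))
  exact ⟨m ⟨z, hzO⟩, h1, hm_apply ⟨z, hzO⟩⟩

end Groth.Agent.Lib.Helper6.QAff
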