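import Groth.Agent.Lib.Helper6.PushGlueProps
import Groth.Agent.Lib.Helper6.PushAlg
import Groth.Agent.Lib.Helper6.QAff

set_option autoImplicit false
universe u

open AlgebraicGeometry CategoryTheory Limits TopologicalSpace

/-!
# Functoriality of pushouts along closed immersions and integral morphisms (helper6)

Stacks 0ECK-type statement: for a cartesian map of spans `(X' ← Z' → Y') → (X ← Z → Y)` with
`X' → X`, `Y' → Y` separated and locally quasi-finite, the induced map `k` of pushouts is locally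
of finite type (`locallyOfFiniteType_k`), separated (`isSeparated_k`), locally quasi-finite
(`locallyQuasiFinite_k`) and the comparison squares are cartesian (`isPullback_inlX_k`,
`isPullback_inrY_k`).  General tools: `isPullback_of_openCover`, `isSeparated_of_cover`,
`isDiscrete_of_isClosedMap`.
-/

namespace Groth.Agent.Lib.Helper6.PushFunct

open Groth.Agent.Lib.Helper6.PushGlue Groth.Agent.Lib.Helper6


/-- A commutative square of schemes is cartesian if it is so over an open cover of the corner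
`Y`. -/
theorem isPullback_of_openCover {P X Y S : Scheme.{u}} (fst : P ⟶ X) (snd : P ⟶ Y) (f : X ⟶ S)
    (g : Y ⟶ S) (w : fst ≫ f = snd ≫ g) (𝒰 : Y.OpenCover) (Pt : 𝒰.I₀ → Scheme.{u})
    (it : ∀ t, Pt t ⟶ P) (st : ∀ t, Pt t ⟶ 𝒰.X t)
    (h1 : ∀ t, IsPullback (it t) (st t) snd (𝒰.f t))
    (h2 : ∀ t, IsPullback (it t ≫ fst) (st t) f (𝒰.f t ≫ g)) : IsPullback fst snd f g := by
  let c : P ⟶ pullback f g := pullback.lift fst snd w
  have hc1 : c ≫ pullback.fst f g = fst := pullback.lift_fst _ _ _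
  have hc2 : c ≫ pullback.snd f g = snd := pullback.lift_snd _ _ _
  suffices IsIso c from IsPullback.of_iso_pullback ⟨w⟩ (asIso c) hc1 hc2
  let 𝒱 : (pullback f g).OpenCover := 𝒰.pullback₁ (pullback.snd f g)
  change MorphismProperty.isomorphisms Scheme.{u} c
  rw [IsZariskiLocalAtTarget.iff_of_openCover (P := MorphismProperty.isomorphisms Scheme.{u}) 𝒱]
  intro t
  change IsIso (pullback.snd c (pullback.fst (pullback.snd f g) (𝒰.f t)))
  -- the comparison map on the piece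
  let γ : Pt t ⟶ pullback (pullback.snd f g) (𝒰.f t) :=
    pullback.lift (it t ≫ c) (st t) (by rw [Category.assoc, hc2, (h1 t).w])
  have hγ1 : γ ≫ pullback.fst (pullback.snd f g) (𝒰.f t) = it t ≫ c := pullback.lift_fst _ _ _
  have hγ2 : γ ≫ pullback.snd (pullback.snd f g) (𝒰.f t) = st t := pullback.lift_snd _ _ _
  -- the piece of the pullback is a pullback of `f` and `𝒰.f t ≫ g`
  have hbig : IsPullback (pullback.fst (pullback.snd f g) (𝒰.f t) ≫ pullback.fst f g)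
      (pullback.snd (pullback.snd f g) (𝒰.f t)) f (𝒰.f t ≫ g) :=
    (IsPullback.of_hasPullback (pullback.snd f g) (𝒰.f t)).paste_horiz
      (IsPullback.of_hasPullback f g)
  have hγiso : IsIso γ := by
    have e : γ = ((h2 t).isoIsPullback _ _ hbig).hom := by
      apply hbig.hom_ext
      · rw [IsPullback.isoIsPullback_hom_fst, ← Category.assoc, hγ1, Category.assoc, hc1]
      · rw [IsPullback.isoIsPullback_hom_snd, hγ2]
    rw [e]; infer_instance
  have hsq : IsPullback (it t) γ c (pullback.fst (pullback.snd f g) (𝒰.f t)) := by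
    refine IsPullback.of_bot ?_ hγ1.symm (IsPullback.of_hasPullback (pullback.snd f g) (𝒰.f t))
    rw [hγ2, hc2]
    exact h1 t
  have : pullback.snd c (pullback.fst (pullback.snd f g) (𝒰.f t)) = hsq.isoPullback.inv ≫ γ := by
    rw [Iso.eq_inv_comp, IsPullback.isoPullback_hom_snd]
  rw [this]
  infer_instance



/-- The target of a jointly surjective pair of universally closed morphisms from schemes
separated over `W` is separated over `W`. -/
theorem isSeparated_of_cover {X₁ X₂ W' W : Scheme.{u}} (π₁ : X₁ ⟶ W') (π₂ : X₂ ⟶ W') (k : W' ⟶ W)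
    [UniversallyClosed π₁] [UniversallyClosed π₂]
    (hsurj : ∀ w' : W', (∃ x, π₁ x = w') ∨ (∃ x, π₂ x = w'))
    [IsSeparated (π₁ ≫ k)] [IsSeparated (π₂ ≫ k)] : IsSeparated k := by
  have key : ∀ {X₀ : Scheme.{u}} (π : X₀ ⟶ W') [UniversallyClosed π] [IsSeparated (π ≫ k)],
      ∃ T : Set ↑(pullback k k), IsClosed T ∧ (∀ x : X₀, pullback.diagonal k (π x) ∈ T) ∧
        T ⊆ Set.range (pullback.diagonal k) := by
    intro X₀ π _ _
    let mp : pullback (π ≫ k) (π ≫ k) ⟶ pullback k k :=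
      pullback.map (π ≫ k) (π ≫ k) k k π π (𝟙 W) ((Category.comp_id _).trans rfl)
        ((Category.comp_id _).trans rfl)
    have hmp : UniversallyClosed mp :=
      MorphismProperty.pullbackMap (P := @UniversallyClosed) (f' := k) (g' := k)
        (inferInstance : UniversallyClosed π) (inferInstance : UniversallyClosed π) rfl rfl
    have hcomm : pullback.diagonal (π ≫ k) ≫ mp = π ≫ pullback.diagonal k := by
      apply pullback.hom_ext
      · simp only [mp, Category.assoc, pullback.lift_fst, pullback.diagonal_fst,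
          pullback.diagonal_fst_assoc, Category.comp_id]
      · simp only [mp, Category.assoc, pullback.lift_snd, pullback.diagonal_snd,
          pullback.diagonal_snd_assoc, Category.comp_id]
    refine ⟨mp '' Set.range (pullback.diagonal (π ≫ k)), ?_, ?_, ?_⟩
    · exact mp.isClosedMap _ (pullback.diagonal (π ≫ k)).isClosedEmbedding.isClosed_range
    · intro x
      refine ⟨pullback.diagonal (π ≫ k) x, ⟨x, rfl⟩, ?_⟩
      rw [← Scheme.Hom.comp_apply, hcomm, Scheme.Hom.comp_apply]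
    · rintro _ ⟨_, ⟨x, rfl⟩, rfl⟩
      refine ⟨π x, ?_⟩
      rw [← Scheme.Hom.comp_apply, ← hcomm, Scheme.Hom.comp_apply]
  obtain ⟨T₁, hT₁c, hT₁a, hT₁b⟩ := key π₁
  obtain ⟨T₂, hT₂c, hT₂a, hT₂b⟩ := key π₂
  have hrange : Set.range (pullback.diagonal k) = T₁ ∪ T₂ := by
    apply subset_antisymm
    · rintro _ ⟨w', rfl⟩
      rcases hsurj w' with ⟨x, rfl⟩ | ⟨x, rfl⟩
      · exact Or.inl (hT₁a x)
      · exact Or.inr (hT₂a x)
    · exact Set.union_subset hT₁b hT₂b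
  have : IsClosedImmersion (pullback.diagonal k) :=
    IsClosedImmersion.of_isPreimmersion _ (hrange ▸ hT₁c.union hT₂c)
  exact ⟨this⟩

/-- A set is discrete if its preimage under a closed map covering it is discrete. -/
theorem isDiscrete_of_isClosedMap {A B : Type*} [TopologicalSpace A] [TopologicalSpace B]
    (g : A → B) (hg : IsClosedMap g) (T : Set B) (hT : T ⊆ Set.range g)
    (hd : IsDiscrete (g ⁻¹' T)) : IsDiscrete T := by
  rw [isDiscrete_iff_forall_mem_exists_isClosed] at hd ⊢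
  intro T₁ hT₁
  obtain ⟨C, hC, hCS⟩ := hd (g ⁻¹' T₁) (Set.preimage_mono hT₁)
  refine ⟨g '' C, hg C hC, ?_⟩
  apply subset_antisymm
  · rintro _ ⟨⟨c, hc, rfl⟩, ht⟩
    have : c ∈ C ∩ g ⁻¹' T := ⟨hc, ht⟩
    rw [hCS] at this
    exact this
  · intro t ht
    obtain ⟨s, rfl⟩ := hT (hT₁ ht)
    have : s ∈ C ∩ g ⁻¹' T := by rw [hCS]; exact ht
    exact ⟨⟨s, this.1, rfl⟩, hT₁ ht⟩




variable {X Y Z X' Y' Z' : Scheme.{u}} {i : Z ⟶ X} {j : Z ⟶ Y} {i' : Z' ⟶ X'} {j' : Z' ⟶ Y'}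
  {f : X' ⟶ X} {g : Y' ⟶ Y} {h : Z' ⟶ Z}

section local_

variable (p' : Pair i' j') (p : Pair i j) (hU : p'.U ≤ f ⁻¹ᵁ p.U) (hV : p'.V ≤ g ⁻¹ᵁ p.V)
  (hi : i' ≫ f = h ≫ i) (hj : j' ≫ g = h ≫ j)

include hU hi in
theorem W_le : p'.W ≤ h ⁻¹ᵁ p.W := by
  intro z hz
  change i (h z) ∈ p.U
  rw [← Scheme.Hom.comp_apply, ← hi, Scheme.Hom.comp_apply]
  exact hU hz

/-- restriction of `f`. -/
noncomputable def fU : (p'.U : Scheme.{u}) ⟶ p.U := f.resLE p.U p'.U hU

/-- restriction of `g`. -/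
noncomputable def gV : (p'.V : Scheme.{u}) ⟶ p.V := g.resLE p.V p'.V hV

/-- restriction of `h`. -/
noncomputable def hW : (p'.W : Scheme.{u}) ⟶ p.W := h.resLE p.W p'.W (W_le p' p hU hi)

theorem fU_ι : fU p' p hU ≫ p.U.ι = p'.U.ι ≫ f := Scheme.Hom.resLE_comp_ι _ _

theorem gV_ι : gV p' p hV ≫ p.V.ι = p'.V.ι ≫ g := Scheme.Hom.resLE_comp_ι _ _

theorem hW_ι : hW p' p hU hi ≫ p.W.ι = p'.W.ι ≫ h := Scheme.Hom.resLE_comp_ι _ _

theorem comm_i : p'.iR ≫ fU p' p hU = hW p' p hU hi ≫ p.iR := by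
  rw [← cancel_mono p.U.ι, Category.assoc, Category.assoc, fU_ι, p.iR_ι, ← Category.assoc,
    p'.iR_ι, ← Category.assoc, hW_ι, Category.assoc, Category.assoc, hi]

include hj in
theorem comm_j : p'.jR ≫ gV p' p hV = hW p' p hU hi ≫ p.jR := by
  rw [← cancel_mono p.V.ι, Category.assoc, Category.assoc, gV_ι, p.jR_ι, ← Category.assoc,
    p'.jR_ι, ← Category.assoc, hW_ι, Category.assoc, Category.assoc, hj]

/-- the induced map of local pinchings. -/
noncomputable def κ : p'.P ⟶ p.P :=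
  AffPush.map p.iR p.jR p'.iR p'.jR (fU p' p hU) (gV p' p hV) (hW p' p hU hi)
    (comm_i p' p hU hi) (comm_j p' p hU hV hi hj)

theorem a_κ : p'.a ≫ κ p' p hU hV hi hj = fU p' p hU ≫ p.a := AffPush.inl_map ..

theorem b_κ : p'.b ≫ κ p' p hU hV hi hj = gV p' p hV ≫ p.b := AffPush.inr_map ..

end local_




variable {X Y Z X' Y' Z' : Scheme.{u}} {i : Z ⟶ X} {j : Z ⟶ Y} {i' : Z' ⟶ X'} {j' : Z' ⟶ Y'}
  {f : X' ⟶ X} {g : Y' ⟶ Y} {h : Z' ⟶ Z}

section cart

variable (p' : Pair i' j') (p : Pair i j) (hU : p'.U ≤ f ⁻¹ᵁ p.U) (hV : p'.V ≤ g ⁻¹ᵁ p.V)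
  (hX : IsPullback h i' i f) (hY : IsPullback h j' j g)

theorem isPullback_iR : IsPullback (hW p' p hU hX.w.symm) p'.iR p.iR (fU p' p hU) := by
  refine Scheme.Hom.isPullback_resLE hX hU le_rfl ?_
  apply le_antisymm
  · exact le_inf (W_le p' p hU hX.w.symm) le_rfl
  · exact inf_le_right

include hY in
theorem isPullback_jR : IsPullback (hW p' p hU hX.w.symm) p'.jR p.jR (gV p' p hV) := by
  refine Scheme.Hom.isPullback_resLE hY hV (le_of_eq p.h) ?_
  apply le_antisymm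
  · exact le_inf (W_le p' p hU hX.w.symm) (le_of_eq p'.h)
  · exact inf_le_right.trans (le_of_eq p'.h.symm)

variable [IsClosedImmersion i] [IsClosedImmersion i']

omit [IsClosedImmersion i'] in
theorem isPushout_iR : IsPushout (CommRingCat.ofHom p.iR.appTop.hom)
    (CommRingCat.ofHom (fU p' p hU).appTop.hom)
    (CommRingCat.ofHom (hW p' p hU hX.w.symm).appTop.hom) (CommRingCat.ofHom p'.iR.appTop.hom) :=
  isPushout_appTop_of_isPullback (isPullback_iR p' p hU hX)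

omit [IsClosedImmersion i'] in
include hY in
theorem isPushout_jR : IsPushout (CommRingCat.ofHom p.jR.appTop.hom)
    (CommRingCat.ofHom (gV p' p hV).appTop.hom)
    (CommRingCat.ofHom (hW p' p hU hX.w.symm).appTop.hom) (CommRingCat.ofHom p'.jR.appTop.hom) :=
  isPushout_appTop_of_isPullback (isPullback_jR p' p hU hV hX hY)

end cart




variable {X Y Z X' Y' Z' : Scheme.{u}} {i : Z ⟶ X} {j : Z ⟶ Y} {i' : Z' ⟶ X'} {j' : Z' ⟶ Y'}
  {f : X' ⟶ X} {g : Y' ⟶ Y} {h : Z' ⟶ Z}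

section cart

variable (p' : Pair i' j') (p : Pair i j) (hU : p'.U ≤ f ⁻¹ᵁ p.U) (hV : p'.V ≤ g ⁻¹ᵁ p.V)
  (hX : IsPullback h i' i f) (hY : IsPullback h j' j g)
  [IsClosedImmersion i] [IsClosedImmersion i']

/-- transport a cartesian square of spectra along the affine isomorphisms. -/
theorem isPullback_of_Spec {U' U : Scheme.{u}} [IsAffine U'] [IsAffine U] {R R' : CommRingCat.{u}}
    (fU : U' ⟶ U) (q : R ⟶ Γ(U, ⊤)) (q' : R' ⟶ Γ(U', ⊤)) (m : R ⟶ R')
    (H : IsPushout q m fU.appTop q') :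
    IsPullback fU (U'.toSpecΓ ≫ Spec.map q') (U.toSpecΓ ≫ Spec.map q) (Spec.map m) := by
  have h0 := isPullback_SpecMap_of_isPushout _ _ _ _ H
  refine h0.of_iso (asIso U'.toSpecΓ).symm (asIso U.toSpecΓ).symm (Iso.refl _) (Iso.refl _)
    ?_ ?_ ?_ ?_
  · simp only [Iso.symm_hom, asIso_inv, IsIso.eq_inv_comp, ← Category.assoc, IsIso.comp_inv_eq]
    exact (Scheme.toSpecΓ_naturality fU).symm
  · simp
  · simp
  · simp

omit [IsClosedImmersion i'] in
include hY in
theorem isPullback_a :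
    IsPullback (fU p' p hU) p'.a p.a (κ p' p hU hV hX.w.symm hY.w.symm) := by
  have hsurj : Function.Surjective p.iR.appTop.hom := p.hsurj
  exact isPullback_of_Spec (fU p' p hU) _ _ _
    (PushAlg.isPushout_p1 p.iR.appTop.hom p.jR.appTop.hom p'.iR.appTop.hom p'.jR.appTop.hom
      (fU p' p hU).appTop.hom (gV p' p hV).appTop.hom (hW p' p hU hX.w.symm).appTop.hom
      (AffPush.appTop_comm p.iR p'.iR (fU p' p hU) (hW p' p hU hX.w.symm) (comm_i p' p hU hX.w.symm))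
      (AffPush.appTop_comm p.jR p'.jR (gV p' p hV) (hW p' p hU hX.w.symm)
        (comm_j p' p hU hV hX.w.symm hY.w.symm))
      (isPushout_iR p' p hU hX) (isPushout_jR p' p hU hV hX hY) hsurj)

omit [IsClosedImmersion i'] in
include hY in
theorem isPullback_b :
    IsPullback (gV p' p hV) p'.b p.b (κ p' p hU hV hX.w.symm hY.w.symm) := by
  have hsurj : Function.Surjective p.iR.appTop.hom := p.hsurj
  exact isPullback_of_Spec (gV p' p hV) _ _ _
    (PushAlg.isPushout_p2 p.iR.appTop.hom p.jR.appTop.hom p'.iR.appTop.hom p'.jR.appTop.hom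
      (fU p' p hU).appTop.hom (gV p' p hV).appTop.hom (hW p' p hU hX.w.symm).appTop.hom
      (AffPush.appTop_comm p.iR p'.iR (fU p' p hU) (hW p' p hU hX.w.symm) (comm_i p' p hU hX.w.symm))
      (AffPush.appTop_comm p.jR p'.jR (gV p' p hV) (hW p' p hU hX.w.symm)
        (comm_j p' p hU hV hX.w.symm hY.w.symm))
      (isPushout_iR p' p hU hX) (isPushout_jR p' p hU hV hX hY) hsurj)

omit [IsClosedImmersion i'] in
include hY in
theorem locallyOfFiniteType_κ [LocallyOfFiniteType f] [LocallyOfFiniteType g] :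
    LocallyOfFiniteType (κ p' p hU hV hX.w.symm hY.w.symm) := by
  have hsurj : Function.Surjective p.iR.appTop.hom := p.hsurj
  have h1 : LocallyOfFiniteType (fU p' p hU) := by unfold fU; infer_instance
  have h2 : LocallyOfFiniteType (gV p' p hV) := by unfold gV; infer_instance
  have h1' : (fU p' p hU).appTop.hom.FiniteType :=
    HasRingHomProperty.appTop (P := @LocallyOfFiniteType) _ h1
  have h2' : (gV p' p hV).appTop.hom.FiniteType :=
    HasRingHomProperty.appTop (P := @LocallyOfFiniteType) _ h2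
  have := PushAlg.finiteType_μ p.iR.appTop.hom p.jR.appTop.hom p'.iR.appTop.hom p'.jR.appTop.hom
      (fU p' p hU).appTop.hom (gV p' p hV).appTop.hom (hW p' p hU hX.w.symm).appTop.hom
      (AffPush.appTop_comm p.iR p'.iR (fU p' p hU) (hW p' p hU hX.w.symm) (comm_i p' p hU hX.w.symm))
      (AffPush.appTop_comm p.jR p'.jR (gV p' p hV) (hW p' p hU hX.w.symm)
        (comm_j p' p hU hV hX.w.symm hY.w.symm))
      (isPushout_iR p' p hU hX) (isPushout_jR p' p hU hV hX hY) hsurj h1' h2'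
  exact (HasRingHomProperty.Spec_iff (P := @LocallyOfFiniteType)).mpr this

end cart




variable {X Y Z X' Y' Z' : Scheme.{u}}

section refine

variable {i : Z ⟶ X} {j : Z ⟶ Y} [IsClosedImmersion i]

/-- refinement of a pair inside compatible opens. -/
theorem exists_basic_sub' (p : Pair i j) (OX : X.Opens) (OY : Y.Opens)
    (hOXY : i ⁻¹ᵁ OX = j ⁻¹ᵁ OY) (w : p.P)
    (hw : (∃ x : p.U, x.1 ∈ OX ∧ p.a x = w) ∨ (∃ y : p.V, y.1 ∈ OY ∧ p.b y = w)) :
    ∃ l : Pair i j, l.U ≤ p.U ∧ l.V ≤ p.V ∧ l.U ≤ OX ∧ l.V ≤ OY ∧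
      (∀ x : p.U, p.a x = w → x.1 ∈ l.U) ∧ (∀ y : p.V, p.b y = w → y.1 ∈ l.V) := by
  have hO : p.iR ⁻¹ᵁ (p.U.ι ⁻¹ᵁ OX) = p.jR ⁻¹ᵁ (p.V.ι ⁻¹ᵁ OY) := by
    change (p.iR ≫ p.U.ι) ⁻¹ᵁ OX = (p.jR ≫ p.V.ι) ⁻¹ᵁ OY
    rw [p.iR_ι, p.jR_ι]
    change p.W.ι ⁻¹ᵁ (i ⁻¹ᵁ OX) = p.W.ι ⁻¹ᵁ (j ⁻¹ᵁ OY)
    rw [hOXY]
  obtain ⟨r, hwr, hra, hrb⟩ := PinchAff.exists_basic p.iR p.jR p.a p.b p.comm p.hsurj p.hPB
    p.hINJ (p.U.ι ⁻¹ᵁ OX) (p.V.ι ⁻¹ᵁ OY) hO w (by
      rcases hw with ⟨x, hx, hxw⟩ | ⟨y, hy, hyw⟩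
      · exact Or.inl ⟨x, hx, hxw⟩
      · exact Or.inr ⟨y, hy, hyw⟩)
  refine ⟨Pair.basic p r, (Pair.isBasic_basic p r).1, (Pair.isBasic_basic p r).2.1, ?_, ?_, ?_, ?_⟩
  · intro x hx
    obtain ⟨hx1, hx2⟩ := (Pair.mem_image_a p r x).mp hx
    exact hra (show (⟨x, hx1⟩ : p.U) ∈ p.a ⁻¹ᵁ p.P.basicOpen r from hx2)
  · intro y hy
    obtain ⟨hy1, hy2⟩ := (Pair.mem_image_b p r y).mp hy
    exact hrb (show (⟨y, hy1⟩ : p.V) ∈ p.b ⁻¹ᵁ p.P.basicOpen r from hy2)
  · intro x hx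
    exact (Pair.mem_image_a p r x.1).mpr ⟨x.2, by rw [hx]; exact hwr⟩
  · intro y hy
    exact (Pair.mem_image_b p r y.1).mpr ⟨y.2, by rw [hy]; exact hwr⟩

end refine

section global

variable (i : Z ⟶ X) (j : Z ⟶ Y) (i' : Z' ⟶ X') (j' : Z' ⟶ Y') (f : X' ⟶ X) (g : Y' ⟶ Y)
  (h : Z' ⟶ Z) [IsClosedImmersion i] [IsClosedImmersion i']
  (hX : IsPullback h i' i f) (hY : IsPullback h j' j g)
  (hcov : ∀ y : Y, ∃ p : Pair i j, y ∈ p.V) (hcov' : ∀ y' : Y', ∃ p' : Pair i' j', y' ∈ p'.V)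

/-- the induced morphism of pushouts. -/
noncomputable def k : glued i' j' ⟶ glued i j :=
  (isPushout i' j' hcov').desc (f ≫ inlX i j hcov) (g ≫ inrY i j hcov) (by
    rw [← Category.assoc, ← hX.w, Category.assoc, comm i j hcov, ← Category.assoc, hY.w,
      Category.assoc])

theorem inlX_k : inlX i' j' hcov' ≫ k i j i' j' f g h hX hY hcov hcov' = f ≫ inlX i j hcov :=
  IsPushout.inl_desc ..

theorem inrY_k : inrY i' j' hcov' ≫ k i j i' j' f g h hX hY hcov hcov' = g ≫ inrY i j hcov :=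
  IsPushout.inr_desc ..

theorem ι_k (p' : Pair i' j') (p : Pair i j) (hU : p'.U ≤ f ⁻¹ᵁ p.U) (hV : p'.V ≤ g ⁻¹ᵁ p.V) :
    ι i' j' p' ≫ k i j i' j' f g h hX hY hcov hcov' =
      κ p' p hU hV hX.w.symm hY.w.symm ≫ ι i j p := by
  apply p'.isPushout.hom_ext
  · rw [← Category.assoc, ← ι_inlX i' j' hcov', Category.assoc, inlX_k, ← Category.assoc,
      ← Category.assoc p'.a, a_κ,
      Category.assoc (fU p' p hU), ← ι_inlX i j hcov, ← Category.assoc (fU p' p hU), fU_ι,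
      Category.assoc]
  · rw [← Category.assoc, ← ι_inrY i' j' hcov', Category.assoc, inrY_k, ← Category.assoc,
      ← Category.assoc p'.b, b_κ,
      Category.assoc (gV p' p hV), ← ι_inrY i j hcov, ← Category.assoc (gV p' p hV), gV_ι,
      Category.assoc]

/-- compatible pairs of charts. -/
structure Idx where
  p' : Pair i' j'
  p : Pair i j
  hU : p'.U ≤ f ⁻¹ᵁ p.U
  hV : p'.V ≤ g ⁻¹ᵁ p.V

include hX hY hcov hcov' in
theorem exists_idx (w' : glued i' j') :
    ∃ (t : Idx i j i' j' f g) (y : t.p'.P), ι i' j' t.p' y = w' := by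
  have hO : ∀ p : Pair i j, i' ⁻¹ᵁ (f ⁻¹ᵁ p.U) = j' ⁻¹ᵁ (g ⁻¹ᵁ p.V) := by
    intro p
    change (i' ≫ f) ⁻¹ᵁ p.U = (j' ≫ g) ⁻¹ᵁ p.V
    rw [← hX.w, ← hY.w]
    change h ⁻¹ᵁ (i ⁻¹ᵁ p.U) = h ⁻¹ᵁ (j ⁻¹ᵁ p.V)
    rw [p.h]
  rcases jointlySurj i' j' hcov' w' with ⟨x', rfl⟩ | ⟨y', rfl⟩
  · obtain ⟨p, hp⟩ := exists_pair_X i j hcov (f x')
    obtain ⟨p'₀, hp'₀⟩ := exists_pair_X i' j' hcov' x'
    obtain ⟨l, -, -, hlU, hlV, hlx, -⟩ := exists_basic_sub' p'₀ (f ⁻¹ᵁ p.U) (g ⁻¹ᵁ p.V) (hO p)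
      (p'₀.a ⟨x', hp'₀⟩) (Or.inl ⟨⟨x', hp'₀⟩, hp, rfl⟩)
    have hx'l : x' ∈ l.U := hlx ⟨x', hp'₀⟩ rfl
    exact ⟨⟨l, p, hlU, hlV⟩, l.a ⟨x', hx'l⟩, (inlX_apply i' j' hcov' l ⟨x', hx'l⟩).symm⟩
  · obtain ⟨p, hp⟩ := hcov (g y')
    obtain ⟨p'₀, hp'₀⟩ := hcov' y'
    obtain ⟨l, -, -, hlU, hlV, -, hly⟩ := exists_basic_sub' p'₀ (f ⁻¹ᵁ p.U) (g ⁻¹ᵁ p.V) (hO p)
      (p'₀.b ⟨y', hp'₀⟩) (Or.inr ⟨⟨y', hp'₀⟩, hp, rfl⟩)
    have hy'l : y' ∈ l.V := hly ⟨y', hp'₀⟩ rfl
    exact ⟨⟨l, p, hlU, hlV⟩, l.b ⟨y', hy'l⟩, (inrY_apply i' j' hcov' l ⟨y', hy'l⟩).symm⟩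

/-- the cover of the pushout by compatible charts. -/
noncomputable def cover : (glued i' j').OpenCover :=
  Scheme.Cover.mkOfCovers (Idx i j i' j' f g) (fun t => t.p'.P) (fun t => ι i' j' t.p')
    (fun w' => by
      obtain ⟨t, y, hy⟩ := exists_idx i j i' j' f g h hX hY hcov hcov' w'
      exact ⟨t, y, hy⟩)

end global




variable {X Y Z X' Y' Z' : Scheme.{u}}

theorem exists_of_isPullback {P A B S : Scheme.{u}} {fst : P ⟶ A} {snd : P ⟶ B} {f : A ⟶ S}
    {g : B ⟶ S} (H : IsPullback fst snd f g) (x : A) (y : B) (hxy : f x = g y) :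
    ∃ z : P, fst z = x ∧ snd z = y := by
  obtain ⟨z₀, h1, h2⟩ := Scheme.Pullback.exists_preimage_pullback x y hxy
  refine ⟨H.isoPullback.inv z₀, ?_, ?_⟩
  · rw [← Scheme.Hom.comp_apply, H.isoPullback_inv_fst, h1]
  · rw [← Scheme.Hom.comp_apply, H.isoPullback_inv_snd, h2]

section global

variable (i : Z ⟶ X) (j : Z ⟶ Y) (i' : Z' ⟶ X') (j' : Z' ⟶ Y') (f : X' ⟶ X) (g : Y' ⟶ Y)
  (h : Z' ⟶ Z) [IsClosedImmersion i] [IsClosedImmersion i']
  (hX : IsPullback h i' i f) (hY : IsPullback h j' j g)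
  (hcov : ∀ y : Y, ∃ p : Pair i j, y ∈ p.V) (hcov' : ∀ y' : Y', ∃ p' : Pair i' j', y' ∈ p'.V)

theorem locallyOfFiniteType_k [LocallyOfFiniteType f] [LocallyOfFiniteType g] :
    LocallyOfFiniteType (k i j i' j' f g h hX hY hcov hcov') := by
  refine IsZariskiLocalAtSource.of_openCover (P := @LocallyOfFiniteType)
    (cover i j i' j' f g h hX hY hcov hcov') fun t => ?_
  change LocallyOfFiniteType (ι i' j' t.p' ≫ k i j i' j' f g h hX hY hcov hcov')
  rw [ι_k i j i' j' f g h hX hY hcov hcov' t.p' t.p t.hU t.hV]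
  have := locallyOfFiniteType_κ t.p' t.p t.hU t.hV hX hY
  infer_instance

theorem isPullback_inlX_k :
    IsPullback f (inlX i' j' hcov') (inlX i j hcov) (k i j i' j' f g h hX hY hcov hcov') := by
  refine isPullback_of_openCover f (inlX i' j' hcov') (inlX i j hcov) _
    (inlX_k i j i' j' f g h hX hY hcov hcov').symm (cover i j i' j' f g h hX hY hcov hcov')
    (fun t => t.p'.U) (fun t => t.p'.U.ι) (fun t => t.p'.a) (fun t => ?_) (fun t => ?_)
  · exact isPullback_inlX i' j' hcov' t.p'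
  · change IsPullback (t.p'.U.ι ≫ f) t.p'.a (inlX i j hcov)
      (ι i' j' t.p' ≫ k i j i' j' f g h hX hY hcov hcov')
    rw [ι_k i j i' j' f g h hX hY hcov hcov' t.p' t.p t.hU t.hV, ← fU_ι t.p' t.p t.hU]
    exact (isPullback_a t.p' t.p t.hU t.hV hX hY).paste_horiz (isPullback_inlX i j hcov t.p)

theorem isPullback_inrY_k :
    IsPullback g (inrY i' j' hcov') (inrY i j hcov) (k i j i' j' f g h hX hY hcov hcov') := by
  refine isPullback_of_openCover g (inrY i' j' hcov') (inrY i j hcov) _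
    (inrY_k i j i' j' f g h hX hY hcov hcov').symm (cover i j i' j' f g h hX hY hcov hcov')
    (fun t => t.p'.V) (fun t => t.p'.V.ι) (fun t => t.p'.b) (fun t => ?_) (fun t => ?_)
  · exact isPullback_inrY i' j' hcov' t.p'
  · change IsPullback (t.p'.V.ι ≫ g) t.p'.b (inrY i j hcov)
      (ι i' j' t.p' ≫ k i j i' j' f g h hX hY hcov hcov')
    rw [ι_k i j i' j' f g h hX hY hcov hcov' t.p' t.p t.hU t.hV, ← gV_ι t.p' t.p t.hV]
    exact (isPullback_b t.p' t.p t.hU t.hV hX hY).paste_horiz (isPullback_inrY i j hcov t.p)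

theorem isSeparated_k [IsIntegralHom j] [IsIntegralHom j'] [IsSeparated f] [IsSeparated g] :
    IsSeparated (k i j i' j' f g h hX hY hcov hcov') := by
  have h1 : IsIntegralHom (inlX i' j' hcov') := isIntegralHom_inlX i' j' hcov'
  have h2 : IsIntegralHom (inlX i j hcov) := isIntegralHom_inlX i j hcov
  have h3 : IsSeparated (inlX i' j' hcov' ≫ k i j i' j' f g h hX hY hcov hcov') := by
    rw [inlX_k]; infer_instance
  have h4 : IsSeparated (inrY i' j' hcov' ≫ k i j i' j' f g h hX hY hcov hcov') := by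
    rw [inrY_k]; infer_instance
  exact isSeparated_of_cover (inlX i' j' hcov') (inrY i' j' hcov') _ (jointlySurj i' j' hcov')

end global




variable {X Y Z X' Y' Z' : Scheme.{u}}

section inj

variable (i : Z ⟶ X) (j : Z ⟶ Y) [IsClosedImmersion i]
  (hcov : ∀ y : Y, ∃ p : Pair i j, y ∈ p.V)

/-- `X → X ⊔_Z Y` is injective over the complement of `Y`. -/
theorem inlX_eq_inlX (x x₂ : X) (hx : inlX i j hcov x₂ = inlX i j hcov x)
    (hw : inlX i j hcov x ∉ Set.range (inrY i j hcov)) : x₂ = x := by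
  obtain ⟨p, hp⟩ := exists_pair_X i j hcov x
  have hx₂ : x₂ ∈ p.U := by
    rw [← inlX_preimage i j hcov p]
    change inlX i j hcov x₂ ∈ (ι i j p).opensRange
    rw [hx]
    exact ⟨p.a ⟨x, hp⟩, (inlX_apply i j hcov p ⟨x, hp⟩).symm⟩
  have h1 : p.a ⟨x₂, hx₂⟩ = p.a ⟨x, hp⟩ := by
    apply (ι i j p).isOpenEmbedding.injective
    rw [← inlX_apply i j hcov p ⟨x₂, hx₂⟩, ← inlX_apply i j hcov p ⟨x, hp⟩]
    exact hx
  rcases PinchAff.a_eq_a p.iR p.jR p.a p.b p.comm p.hsurj p.hPB _ _ h1 with h2 | ⟨z, z', -, hz', -⟩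
  · exact congrArg Subtype.val h2
  · exfalso
    apply hw
    refine ⟨j z'.1, ?_⟩
    have : i z'.1 = x := by
      have := congrArg Subtype.val hz'
      rwa [p.iR_apply] at this
    rw [← this, ← Scheme.Hom.comp_apply, ← Scheme.Hom.comp_apply, comm i j hcov]

end inj

section global

variable (i : Z ⟶ X) (j : Z ⟶ Y) (i' : Z' ⟶ X') (j' : Z' ⟶ Y') (f : X' ⟶ X) (g : Y' ⟶ Y)
  (h : Z' ⟶ Z) [IsClosedImmersion i] [IsClosedImmersion i']
  (hX : IsPullback h i' i f) (hY : IsPullback h j' j g)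
  (hcov : ∀ y : Y, ∃ p : Pair i j, y ∈ p.V) (hcov' : ∀ y' : Y', ∃ p' : Pair i' j', y' ∈ p'.V)

theorem isDiscrete_fibre_k [IsIntegralHom j'] [LocallyQuasiFinite f] [LocallyQuasiFinite g]
    (w : glued i j) :
    _root_.IsDiscrete (k i j i' j' f g h hX hY hcov hcov' ⁻¹' {w}) := by
  by_cases hw : w ∈ Set.range (inrY i j hcov)
  · obtain ⟨y, rfl⟩ := hw
    have hinj : Function.Injective (inrY i j hcov) :=
      (inrY i j hcov).isClosedEmbedding.injective
    have heq : k i j i' j' f g h hX hY hcov hcov' ⁻¹' {inrY i j hcov y} =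
        inrY i' j' hcov' '' (g ⁻¹' {y}) := by
      apply subset_antisymm
      · intro w' hw'
        have hw'' : k i j i' j' f g h hX hY hcov hcov' w' = inrY i j hcov y := hw'
        rcases jointlySurj i' j' hcov' w' with ⟨x', rfl⟩ | ⟨y', rfl⟩
        · rw [← Scheme.Hom.comp_apply, inlX_k, Scheme.Hom.comp_apply] at hw''
          obtain ⟨z, hz1, hz2⟩ := exists_of_isPullback (PushGlue.isPullback i j hcov) _ _ hw''
          obtain ⟨z', hz'1, hz'2⟩ := exists_of_isPullback hX z x' hz1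
          refine ⟨j' z', ?_, ?_⟩
          · change g (j' z') = y
            rw [← Scheme.Hom.comp_apply, ← hY.w, Scheme.Hom.comp_apply, hz'1, hz2]
          · rw [← hz'2, ← Scheme.Hom.comp_apply, ← Scheme.Hom.comp_apply, comm i' j' hcov']
        · rw [← Scheme.Hom.comp_apply, inrY_k, Scheme.Hom.comp_apply] at hw''
          exact ⟨y', hinj hw'', rfl⟩
      · rintro _ ⟨y', hy', rfl⟩
        change k i j i' j' f g h hX hY hcov hcov' (inrY i' j' hcov' y') = inrY i j hcov y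
        rw [← Scheme.Hom.comp_apply, inrY_k, Scheme.Hom.comp_apply]
        exact congrArg _ hy'
    rw [heq]
    exact (g.isDiscrete_preimage_singleton y).image
      (inrY i' j' hcov').isClosedEmbedding.isEmbedding.toIsInducing
  · obtain ⟨x, rfl⟩ : ∃ x, inlX i j hcov x = w := by
      rcases jointlySurj i j hcov w with ⟨x, hx⟩ | ⟨y, hy⟩
      · exact ⟨x, hx⟩
      · exact absurd ⟨y, hy⟩ hw
    have h1 : IsIntegralHom (inlX i' j' hcov') := isIntegralHom_inlX i' j' hcov'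
    apply isDiscrete_of_isClosedMap (inlX i' j' hcov') (inlX i' j' hcov').isClosedMap
    · intro w' hw'
      have hw'' : k i j i' j' f g h hX hY hcov hcov' w' = inlX i j hcov x := hw'
      rcases jointlySurj i' j' hcov' w' with ⟨x', rfl⟩ | ⟨y', rfl⟩
      · exact ⟨x', rfl⟩
      · exfalso
        apply hw
        rw [← Scheme.Hom.comp_apply, inrY_k, Scheme.Hom.comp_apply] at hw''
        exact ⟨_, hw''⟩
    · have heq : inlX i' j' hcov' ⁻¹' (k i j i' j' f g h hX hY hcov hcov' ⁻¹' {inlX i j hcov x}) =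
          f ⁻¹' {x} := by
        ext x'
        simp only [Set.mem_preimage, Set.mem_singleton_iff]
        rw [← Scheme.Hom.comp_apply, inlX_k, Scheme.Hom.comp_apply]
        constructor
        · intro hx'
          exact inlX_eq_inlX i j hcov x (f x') hx' hw
        · intro hx'
          rw [hx']
      rw [heq]
      exact f.isDiscrete_preimage_singleton x

theorem locallyQuasiFinite_k [IsIntegralHom j'] [LocallyQuasiFinite f] [LocallyQuasiFinite g]
    [LocallyOfFiniteType f] [LocallyOfFiniteType g] :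
    LocallyQuasiFinite (k i j i' j' f g h hX hY hcov hcov') := by
  have := locallyOfFiniteType_k i j i' j' f g h hX hY hcov hcov'
  rw [locallyQuasiFinite_iff_isDiscrete_preimage_singleton]
  exact isDiscrete_fibre_k i j i' j' f g h hX hY hcov hcov'

end global

end Groth.Agent.Lib.Helper6.PushFunct
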