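import Groth.Agent.Lib.Helper6.AffPush

set_option autoImplicit false
universe u
open AlgebraicGeometry CategoryTheory Limits TopologicalSpace Opposite

namespace Groth.Agent.Lib.Helper6.PushGlue

open Scheme

variable {X Y Z : Scheme.{u}} (i : Z ⟶ X) (j : Z ⟶ Y)

/-- adapted affine pairs. -/
structure Pair where
  U : X.Opens
  V : Y.Opens
  hU : IsAffineOpen U
  hV : IsAffineOpen V
  h : i ⁻¹ᵁ U = j ⁻¹ᵁ V

namespace Pair

variable {i j}

/-- the common preimage. -/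
def W (p : Pair i j) : Z.Opens := i ⁻¹ᵁ p.U

theorem W_eq (p : Pair i j) : p.W = j ⁻¹ᵁ p.V := p.h

theorem mem_W_iff (p : Pair i j) (z : Z) : z ∈ p.W ↔ i z ∈ p.U := Iff.rfl

theorem mem_W_iff' (p : Pair i j) (z : Z) : z ∈ p.W ↔ j z ∈ p.V := by
  rw [W_eq]; rfl

/-- restricted `i`. -/
noncomputable def iR (p : Pair i j) : (p.W : Scheme.{u}) ⟶ p.U := i.resLE p.U p.W le_rfl

/-- restricted `j`. -/
noncomputable def jR (p : Pair i j) : (p.W : Scheme.{u}) ⟶ p.V :=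
  j.resLE p.V p.W (le_of_eq p.h)

theorem iR_ι (p : Pair i j) : p.iR ≫ p.U.ι = p.W.ι ≫ i := Scheme.Hom.resLE_comp_ι _ _

theorem jR_ι (p : Pair i j) : p.jR ≫ p.V.ι = p.W.ι ≫ j := Scheme.Hom.resLE_comp_ι _ _

theorem iR_apply (p : Pair i j) (z : p.W) : (p.iR z).1 = i z.1 := by
  have := congrArg (fun f : (p.W : Scheme.{u}) ⟶ X => f z) p.iR_ι
  exact this

theorem jR_apply (p : Pair i j) (z : p.W) : (p.jR z).1 = j z.1 := by
  have := congrArg (fun f : (p.W : Scheme.{u}) ⟶ Y => f z) p.jR_ι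
  exact this

instance (p : Pair i j) : IsAffine (p.U : Scheme.{u}) := p.hU

instance (p : Pair i j) : IsAffine (p.V : Scheme.{u}) := p.hV

instance [IsAffineHom i] (p : Pair i j) : IsAffine (p.W : Scheme.{u}) := p.hU.preimage i

/-- the local pinching. -/
noncomputable abbrev P (p : Pair i j) : Scheme.{u} := AffPush.pt p.iR p.jR

/-- the local left leg. -/
noncomputable def a (p : Pair i j) : (p.U : Scheme.{u}) ⟶ p.P := AffPush.inl p.iR p.jR

/-- the local right leg. -/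
noncomputable def b (p : Pair i j) : (p.V : Scheme.{u}) ⟶ p.P := AffPush.inr p.iR p.jR

theorem comm (p : Pair i j) : p.iR ≫ p.a = p.jR ≫ p.b := AffPush.comm _ _

instance [IsClosedImmersion i] (p : Pair i j) : IsClosedImmersion p.iR := by
  unfold iR
  have : i.resLE p.U p.W le_rfl = i ∣_ p.U := Scheme.Hom.resLE_eq_morphismRestrict i
  rw [this]
  exact IsZariskiLocalAtTarget.restrict (P := @IsClosedImmersion) inferInstance p.U

theorem hsurj [IsClosedImmersion i] (p : Pair i j) : Function.Surjective p.iR.appTop :=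
  (IsClosedImmersion.isAffine_surjective_of_isAffine p.iR).2

theorem hPB (p : Pair i j) (y : Γ(p.V, ⊤)) (x : Γ(p.U, ⊤)) (h : p.jR.appTop y = p.iR.appTop x) :
    ∃ c : Γ(p.P, ⊤), p.b.appTop c = y ∧ p.a.appTop c = x := AffPush.hPB _ _ y x h

theorem hINJ (p : Pair i j) (c : Γ(p.P, ⊤)) (h1 : p.b.appTop c = 0) (h2 : p.a.appTop c = 0) :
    c = 0 := AffPush.hINJ _ _ c h1 h2

theorem isPushout [IsClosedImmersion i] (p : Pair i j) : IsPushout p.iR p.jR p.a p.b :=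
  PinchAff.isPushout _ _ _ _ p.comm p.hsurj p.hPB p.hINJ

theorem isPullback [IsClosedImmersion i] (p : Pair i j) : IsPullback p.iR p.jR p.a p.b :=
  PinchAff.isPullback _ _ _ _ p.comm p.hsurj p.hPB

theorem jointlySurj [IsClosedImmersion i] (p : Pair i j) : Pinch.JointlySurj p.a p.b :=
  PinchAff.jointlySurj _ _ _ _ p.comm p.hsurj p.hPB p.hINJ

instance [IsClosedImmersion i] (p : Pair i j) : IsClosedImmersion p.b :=
  PinchAff.isClosedImmersion_b _ _ _ _ p.hsurj p.hPB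

section trans

variable (p q : Pair i j) (hU : p.U ≤ q.U) (hV : p.V ≤ q.V)

include hU in
theorem W_le : p.W ≤ q.W := fun _ hz => hU hz

theorem trans_hi : p.iR ≫ X.homOfLE hU = Z.homOfLE (W_le p q hU) ≫ q.iR := by
  unfold iR
  rw [Scheme.Hom.resLE_map, Scheme.Hom.map_resLE]

theorem trans_hj : p.jR ≫ Y.homOfLE hV = Z.homOfLE (W_le p q hU) ≫ q.jR := by
  unfold jR
  rw [Scheme.Hom.resLE_map, Scheme.Hom.map_resLE]

/-- transition maps. -/
noncomputable def trans : p.P ⟶ q.P :=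
  AffPush.map q.iR q.jR p.iR p.jR (X.homOfLE hU) (Y.homOfLE hV) (Z.homOfLE (W_le p q hU))
    (trans_hi p q hU) (trans_hj p q hU hV)

theorem a_trans : p.a ≫ trans p q hU hV = X.homOfLE hU ≫ q.a := AffPush.inl_map ..

theorem b_trans : p.b ≫ trans p q hU hV = Y.homOfLE hV ≫ q.b := AffPush.inr_map ..

end trans

theorem trans_refl (p : Pair i j) : trans p p le_rfl le_rfl = 𝟙 _ :=
  AffPush.map_eq_id _ _ _ _ (X.homOfLE_rfl _) (Y.homOfLE_rfl _) (Z.homOfLE_rfl _)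

theorem trans_trans (p q r : Pair i j) (hU : p.U ≤ q.U) (hV : p.V ≤ q.V) (hU' : q.U ≤ r.U)
    (hV' : q.V ≤ r.V) :
    trans p q hU hV ≫ trans q r hU' hV' = trans p r (hU.trans hU') (hV.trans hV') :=
  AffPush.map_comp_eq _ _ _ _ _ _ _ _ _ _ _ _ _ _ _ _ _ _ _ _ _ (X.homOfLE_homOfLE _ _)
    (Y.homOfLE_homOfLE _ _) (Z.homOfLE_homOfLE _ _)

/-- the refined order: componentwise inclusion with open-immersion transition. -/
def Le (p q : Pair i j) : Prop :=
  p.U ≤ q.U ∧ p.V ≤ q.V ∧ ∀ (hU : p.U ≤ q.U) (hV : p.V ≤ q.V), IsOpenImmersion (trans p q hU hV)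

instance : Preorder (Pair i j) where
  le := Le
  le_refl p := ⟨le_rfl, le_rfl, fun _ _ => by
    rw [trans_refl]
    infer_instance⟩
  le_trans p q r h1 h2 := ⟨h1.1.trans h2.1, h1.2.1.trans h2.2.1, fun _ _ => by
    rw [← trans_trans p q r h1.1 h1.2.1 h2.1 h2.2.1]
    have := h1.2.2 h1.1 h1.2.1
    have := h2.2.2 h2.1 h2.2.1
    infer_instance⟩

theorem le_def (p q : Pair i j) : p ≤ q ↔ Le p q := Iff.rfl

section basic

variable [IsClosedImmersion i]

theorem a_iR_apply (p : Pair i j) (z : p.W) : p.a (p.iR z) = p.b (p.jR z) := by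
  rw [← Scheme.Hom.comp_apply, ← Scheme.Hom.comp_apply, p.comm]

theorem mem_image_a (p : Pair i j) (r : Γ(p.P, ⊤)) (x : X) :
    x ∈ p.U.ι ''ᵁ (p.U : Scheme.{u}).basicOpen (p.a.appTop r) ↔
      ∃ hx : x ∈ p.U, p.a ⟨x, hx⟩ ∈ p.P.basicOpen r := by
  have e : (p.U : Scheme.{u}).basicOpen (p.a.appTop r) = p.a ⁻¹ᵁ p.P.basicOpen r :=
    (Scheme.preimage_basicOpen p.a r).symm
  rw [e]
  constructor
  · rintro ⟨x', hx', rfl⟩
    exact ⟨x'.2, hx'⟩
  · rintro ⟨hx, h⟩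
    exact ⟨⟨x, hx⟩, h, rfl⟩

theorem mem_image_b (p : Pair i j) (r : Γ(p.P, ⊤)) (y : Y) :
    y ∈ p.V.ι ''ᵁ (p.V : Scheme.{u}).basicOpen (p.b.appTop r) ↔
      ∃ hy : y ∈ p.V, p.b ⟨y, hy⟩ ∈ p.P.basicOpen r := by
  have e : (p.V : Scheme.{u}).basicOpen (p.b.appTop r) = p.b ⁻¹ᵁ p.P.basicOpen r :=
    (Scheme.preimage_basicOpen p.b r).symm
  rw [e]
  constructor
  · rintro ⟨y', hy', rfl⟩
    exact ⟨y'.2, hy'⟩
  · rintro ⟨hy, h⟩
    exact ⟨⟨y, hy⟩, h, rfl⟩

/-- the basic sub-pair cut out by a global section of the local pinching. -/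
noncomputable def basic (p : Pair i j) (r : Γ(p.P, ⊤)) : Pair i j where
  U := p.U.ι ''ᵁ (p.U : Scheme.{u}).basicOpen (p.a.appTop r)
  V := p.V.ι ''ᵁ (p.V : Scheme.{u}).basicOpen (p.b.appTop r)
  hU := ((isAffineOpen_top (p.U : Scheme.{u})).basicOpen (p.a.appTop r)).image_of_isOpenImmersion
    p.U.ι
  hV := ((isAffineOpen_top (p.V : Scheme.{u})).basicOpen (p.b.appTop r)).image_of_isOpenImmersion
    p.V.ι
  h := by
    ext z
    change i z ∈ p.U.ι ''ᵁ (p.U : Scheme.{u}).basicOpen (p.a.appTop r) ↔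
      j z ∈ p.V.ι ''ᵁ (p.V : Scheme.{u}).basicOpen (p.b.appTop r)
    rw [mem_image_a, mem_image_b]
    constructor
    · rintro ⟨hx, h⟩
      have hz : z ∈ p.W := hx
      have e1 : (⟨i z, hx⟩ : p.U) = p.iR ⟨z, hz⟩ := Subtype.ext (p.iR_apply ⟨z, hz⟩).symm
      have hy : j z ∈ p.V := (p.mem_W_iff' z).mp hz
      have e2 : (⟨j z, hy⟩ : p.V) = p.jR ⟨z, hz⟩ := Subtype.ext (p.jR_apply ⟨z, hz⟩).symm
      refine ⟨hy, ?_⟩
      rw [e2, ← a_iR_apply, ← e1]
      exact h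
    · rintro ⟨hy, h⟩
      have hz : z ∈ p.W := (p.mem_W_iff' z).mpr hy
      have hx : i z ∈ p.U := hz
      have e1 : (⟨i z, hx⟩ : p.U) = p.iR ⟨z, hz⟩ := Subtype.ext (p.iR_apply ⟨z, hz⟩).symm
      have e2 : (⟨j z, hy⟩ : p.V) = p.jR ⟨z, hz⟩ := Subtype.ext (p.jR_apply ⟨z, hz⟩).symm
      refine ⟨hx, ?_⟩
      rw [e1, a_iR_apply, ← e2]
      exact h

/-- `l` is a basic sub-pair of `p`. -/
def IsBasic (l p : Pair i j) : Prop :=
  l.U ≤ p.U ∧ l.V ≤ p.V ∧ ∃ r : Γ(p.P, ⊤),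
    p.U.ι ⁻¹ᵁ l.U = (p.U : Scheme.{u}).basicOpen (p.a.appTop r) ∧
    p.V.ι ⁻¹ᵁ l.V = (p.V : Scheme.{u}).basicOpen (p.b.appTop r)

theorem isBasic_basic (p : Pair i j) (r : Γ(p.P, ⊤)) : IsBasic (basic p r) p :=
  ⟨Scheme.Opens.ι_image_le _ _, Scheme.Opens.ι_image_le _ _, r,
    Scheme.Hom.preimage_image_eq _ _, Scheme.Hom.preimage_image_eq _ _⟩

theorem IsBasic.le {l p : Pair i j} (h : IsBasic l p) : l ≤ p := by
  obtain ⟨h1, h2, r, hr1, hr2⟩ := h
  refine ⟨h1, h2, fun hU hV => ?_⟩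
  have hX : (X.homOfLE hU).opensRange =
      (p.U : Scheme.{u}).basicOpen (AffPush.γ p.iR p.jR r).1.1 := by
    rw [Scheme.opensRange_homOfLE, hr1, ← AffPush.inl_appTop]
    rfl
  have hY : (Y.homOfLE hV).opensRange =
      (p.V : Scheme.{u}).basicOpen (AffPush.γ p.iR p.jR r).1.2 := by
    rw [Scheme.opensRange_homOfLE, hr2, ← AffPush.inr_appTop]
    rfl
  have hZ : (Z.homOfLE (W_le l p hU)).opensRange =
      (p.W : Scheme.{u}).basicOpen (p.iR.appTop (AffPush.γ p.iR p.jR r).1.1) := by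
    rw [Scheme.opensRange_homOfLE, ← AffPush.inl_appTop]
    have e1 : p.W.ι ⁻¹ᵁ l.W = p.iR ⁻¹ᵁ (p.U.ι ⁻¹ᵁ l.U) := by
      change (p.W.ι ≫ i) ⁻¹ᵁ l.U = (p.iR ≫ p.U.ι) ⁻¹ᵁ l.U
      rw [p.iR_ι]
    rw [e1, hr1, Scheme.preimage_basicOpen]
    rfl
  exact AffPush.isOpenImmersion_map p.iR p.jR l.iR l.jR (X.homOfLE hU) (Y.homOfLE hV)
    (Z.homOfLE (W_le l p hU)) (trans_hi l p hU) (trans_hj l p hU hV) (AffPush.γ _ _ r) hX hY hZ

theorem IsBasic.of_le {l' q : Pair i j} (h : IsBasic l' q) (l : Pair i j) (h1 : l'.U ≤ l.U)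
    (h1' : l'.V ≤ l.V) (h2 : l.U ≤ q.U) (h2' : l.V ≤ q.V) : IsBasic l' l := by
  obtain ⟨-, -, r, hr1, hr2⟩ := h
  refine ⟨h1, h1', (trans l q h2 h2').appTop r, ?_, ?_⟩
  · have e1 : l.U.ι ⁻¹ᵁ l'.U = X.homOfLE h2 ⁻¹ᵁ (q.U.ι ⁻¹ᵁ l'.U) := by
      change _ = (X.homOfLE h2 ≫ q.U.ι) ⁻¹ᵁ l'.U
      rw [Scheme.homOfLE_ι]
    rw [e1, hr1, Scheme.preimage_basicOpen]
    congr 1
    change (X.homOfLE h2).appTop (q.a.appTop r) = _
    rw [← CommRingCat.comp_apply, ← CommRingCat.comp_apply, ← Scheme.Hom.comp_appTop,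
      ← Scheme.Hom.comp_appTop, a_trans]
  · have e1 : l.V.ι ⁻¹ᵁ l'.V = Y.homOfLE h2' ⁻¹ᵁ (q.V.ι ⁻¹ᵁ l'.V) := by
      change _ = (Y.homOfLE h2' ≫ q.V.ι) ⁻¹ᵁ l'.V
      rw [Scheme.homOfLE_ι]
    rw [e1, hr2, Scheme.preimage_basicOpen]
    congr 1
    change (Y.homOfLE h2').appTop (q.b.appTop r) = _
    rw [← CommRingCat.comp_apply, ← CommRingCat.comp_apply, ← Scheme.Hom.comp_appTop,
      ← Scheme.Hom.comp_appTop, b_trans]

theorem exists_basic_sub (p q : Pair i j) (w : p.P)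
    (hw : (∃ x : p.U, x.1 ∈ q.U ∧ p.a x = w) ∨ (∃ y : p.V, y.1 ∈ q.V ∧ p.b y = w)) :
    ∃ l : Pair i j, IsBasic l p ∧ l.U ≤ q.U ∧ l.V ≤ q.V ∧
      (∀ x : p.U, p.a x = w → x.1 ∈ l.U) ∧ (∀ y : p.V, p.b y = w → y.1 ∈ l.V) := by
  have hO : p.iR ⁻¹ᵁ (p.U.ι ⁻¹ᵁ q.U) = p.jR ⁻¹ᵁ (p.V.ι ⁻¹ᵁ q.V) := by
    change (p.iR ≫ p.U.ι) ⁻¹ᵁ q.U = (p.jR ≫ p.V.ι) ⁻¹ᵁ q.V
    rw [p.iR_ι, p.jR_ι]
    change p.W.ι ⁻¹ᵁ (i ⁻¹ᵁ q.U) = p.W.ι ⁻¹ᵁ (j ⁻¹ᵁ q.V)
    rw [q.h]
  obtain ⟨r, hwr, hra, hrb⟩ := PinchAff.exists_basic p.iR p.jR p.a p.b p.comm p.hsurj p.hPB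
    p.hINJ (p.U.ι ⁻¹ᵁ q.U) (p.V.ι ⁻¹ᵁ q.V) hO w (by
      rcases hw with ⟨x, hx, hxw⟩ | ⟨y, hy, hyw⟩
      · exact Or.inl ⟨x, hx, hxw⟩
      · exact Or.inr ⟨y, hy, hyw⟩)
  refine ⟨basic p r, isBasic_basic p r, ?_, ?_, ?_, ?_⟩
  · intro x hx
    obtain ⟨hx1, hx2⟩ := (mem_image_a p r x).mp hx
    exact hra (show (⟨x, hx1⟩ : p.U) ∈ p.a ⁻¹ᵁ p.P.basicOpen r from hx2)
  · intro y hy
    obtain ⟨hy1, hy2⟩ := (mem_image_b p r y).mp hy
    exact hrb (show (⟨y, hy1⟩ : p.V) ∈ p.b ⁻¹ᵁ p.P.basicOpen r from hy2)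
  · intro x hx
    exact (mem_image_a p r x.1).mpr ⟨x.2, by rw [hx]; exact hwr⟩
  · intro y hy
    exact (mem_image_b p r y.1).mpr ⟨y.2, by rw [hy]; exact hwr⟩

theorem exists_refine_X (p q : Pair i j) (x : X) (hp : x ∈ p.U) (hq : x ∈ q.U) :
    ∃ l : Pair i j, l ≤ p ∧ l ≤ q ∧ x ∈ l.U := by
  obtain ⟨l₁, hb₁, hU₁, hV₁, hx₁, -⟩ := exists_basic_sub p q (p.a ⟨x, hp⟩)
    (Or.inl ⟨⟨x, hp⟩, hq, rfl⟩)
  have hxl₁ : x ∈ l₁.U := hx₁ ⟨x, hp⟩ rfl
  obtain ⟨l₂, hb₂, hU₂, hV₂, hx₂, -⟩ := exists_basic_sub q l₁ (q.a ⟨x, hq⟩)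
    (Or.inl ⟨⟨x, hq⟩, hxl₁, rfl⟩)
  refine ⟨l₂, ?_, hb₂.le, hx₂ ⟨x, hq⟩ rfl⟩
  exact le_trans (hb₂.of_le l₁ hU₂ hV₂ hU₁ hV₁).le hb₁.le

theorem exists_refine_Y (p q : Pair i j) (y : Y) (hp : y ∈ p.V) (hq : y ∈ q.V) :
    ∃ l : Pair i j, l ≤ p ∧ l ≤ q ∧ y ∈ l.V := by
  obtain ⟨l₁, hb₁, hU₁, hV₁, -, hy₁⟩ := exists_basic_sub p q (p.b ⟨y, hp⟩)
    (Or.inr ⟨⟨y, hp⟩, hq, rfl⟩)
  have hyl₁ : y ∈ l₁.V := hy₁ ⟨y, hp⟩ rfl
  obtain ⟨l₂, hb₂, hU₂, hV₂, -, hy₂⟩ := exists_basic_sub q l₁ (q.b ⟨y, hq⟩)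
    (Or.inr ⟨⟨y, hq⟩, hyl₁, rfl⟩)
  refine ⟨l₂, ?_, hb₂.le, hy₂ ⟨y, hq⟩ rfl⟩
  exact le_trans (hb₂.of_le l₁ hU₂ hV₂ hU₁ hV₁).le hb₁.le

end basic

section range

variable [IsClosedImmersion i]

theorem trans_a_apply (l k : Pair i j) (hU : l.U ≤ k.U) (hV : l.V ≤ k.V) (x : l.U) :
    trans l k hU hV (l.a x) = k.a (X.homOfLE hU x) := by
  rw [← Scheme.Hom.comp_apply, ← Scheme.Hom.comp_apply, a_trans]

theorem trans_b_apply (l k : Pair i j) (hU : l.U ≤ k.U) (hV : l.V ≤ k.V) (y : l.V) :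
    trans l k hU hV (l.b y) = k.b (Y.homOfLE hV y) := by
  rw [← Scheme.Hom.comp_apply, ← Scheme.Hom.comp_apply, b_trans]

theorem mem_of_trans_eq_a (l k : Pair i j) (hU : l.U ≤ k.U) (hV : l.V ≤ k.V) (x : k.U) (w : l.P)
    (h : trans l k hU hV w = k.a x) : x.1 ∈ l.U := by
  rcases l.jointlySurj w with ⟨x', rfl⟩ | ⟨y', rfl⟩
  · rw [trans_a_apply] at h
    rcases PinchAff.a_eq_a k.iR k.jR k.a k.b k.comm k.hsurj k.hPB _ _ h with h' | ⟨z, z', hz, hz', hzz⟩
    · rw [← h', Scheme.homOfLE_apply]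
      exact x'.2
    · have h1 : i z.1 ∈ l.U := by
        rw [← k.iR_apply, hz, Scheme.homOfLE_apply]
        exact x'.2
      have h2 : j z.1 ∈ l.V := (l.mem_W_iff' z.1).mp h1
      have h3 : j z'.1 ∈ l.V := by
        rw [← k.jR_apply, ← hzz, k.jR_apply]
        exact h2
      have h4 : i z'.1 ∈ l.U := (l.mem_W_iff' z'.1).mpr h3
      rw [← hz', k.iR_apply]
      exact h4
  · rw [trans_b_apply] at h
    obtain ⟨z, hz1, hz2⟩ := PinchAff.exists_of_a_eq_b k.iR k.jR k.a k.b k.comm k.hsurj k.hPB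
      x (Y.homOfLE hV y') h.symm
    have h1 : j z.1 ∈ l.V := by
      rw [← k.jR_apply, hz2, Scheme.homOfLE_apply]
      exact y'.2
    have h2 : i z.1 ∈ l.U := (l.mem_W_iff' z.1).mpr h1
    rw [← hz1, k.iR_apply]
    exact h2

theorem mem_of_trans_eq_b (l k : Pair i j) (hU : l.U ≤ k.U) (hV : l.V ≤ k.V) (y : k.V) (w : l.P)
    (h : trans l k hU hV w = k.b y) : y.1 ∈ l.V := by
  rcases l.jointlySurj w with ⟨x', rfl⟩ | ⟨y', rfl⟩
  · rw [trans_a_apply] at h
    obtain ⟨z, hz1, hz2⟩ := PinchAff.exists_of_a_eq_b k.iR k.jR k.a k.b k.comm k.hsurj k.hPB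
      (X.homOfLE hU x') y h
    have h1 : i z.1 ∈ l.U := by
      rw [← k.iR_apply, hz1, Scheme.homOfLE_apply]
      exact x'.2
    have h2 : j z.1 ∈ l.V := (l.mem_W_iff' z.1).mp h1
    rw [← hz2, k.jR_apply]
    exact h2
  · rw [trans_b_apply] at h
    have := PinchAff.b_injective k.iR k.jR k.a k.b k.hsurj k.hPB h
    rw [← this, Scheme.homOfLE_apply]
    exact y'.2

end range

end Pair

section dcover

variable {S : Scheme.{u}} {J : Type u} [Preorder J] (O : J → S.Opens)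
  (hmono : ∀ {p q : J}, p ≤ q → O p ≤ O q) (hcov : IsOpenCover O)
  (href : ∀ (p q : J) (s : S), s ∈ O p → s ∈ O q → ∃ l, l ≤ p ∧ l ≤ q ∧ s ∈ O l)

/-- the open cover given by a family of opens. -/
noncomputable def dcover : S.OpenCover := S.openCoverOfIsOpenCover O hcov

instance : Preorder (dcover O hcov).I₀ := inferInstanceAs (Preorder J)

/-- a refinable monotone family of opens gives a locally directed cover. -/
@[reducible] noncomputable def dcoverLD : (dcover O hcov).LocallyDirected where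
  trans {p q} f := S.homOfLE (hmono (leOfHom f))
  trans_id p := S.homOfLE_rfl _
  trans_comp f g := (S.homOfLE_homOfLE _ _).symm
  w f := S.homOfLE_ι _
  directed {p q} x := by
    have hx1 : (pullback.fst ((dcover O hcov).f p) ((dcover O hcov).f q) ≫ (O p).ι) x ∈ O p :=
      ((pullback.fst ((dcover O hcov).f p) ((dcover O hcov).f q)) x).2
    have hx2 : (pullback.fst ((dcover O hcov).f p) ((dcover O hcov).f q) ≫ (O p).ι) x ∈ O q := by
      have : pullback.fst ((dcover O hcov).f p) ((dcover O hcov).f q) ≫ (O p).ι =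
        pullback.snd ((dcover O hcov).f p) ((dcover O hcov).f q) ≫ (O q).ι := pullback.condition
      rw [this]
      exact ((pullback.snd ((dcover O hcov).f p) ((dcover O hcov).f q)) x).2
    obtain ⟨l, hlp, hlq, hl⟩ := href p q _ hx1 hx2
    refine ⟨l, homOfLE hlp, homOfLE hlq, ⟨_, hl⟩, ?_⟩
    apply (pullback.fst ((dcover O hcov).f p) ((dcover O hcov).f q) ≫
      (dcover O hcov).f p).isOpenEmbedding.injective
    rw [← Scheme.Hom.comp_apply, pullback.lift_fst_assoc]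
    change (S.homOfLE _ ≫ (O p).ι) _ = _
    rw [Scheme.homOfLE_ι]
    rfl
  property_trans f := by
    change IsOpenImmersion (S.homOfLE _)
    infer_instance

end dcover

section functor

/-- the diagram of local pinchings. -/
noncomputable def F : Pair i j ⥤ Scheme.{u} where
  obj p := p.P
  map {p q} f := Pair.trans p q (leOfHom f).1 (leOfHom f).2.1
  map_id p := Pair.trans_refl p
  map_comp f g := (Pair.trans_trans _ _ _ _ _ _ _).symm

instance {p q : Pair i j} (f : p ⟶ q) : IsOpenImmersion ((F i j).map f) :=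
  (leOfHom f).2.2 _ _

variable [IsClosedImmersion i]

theorem F_map_a {p q : Pair i j} (f : p ⟶ q) (x : p.U) :
    (F i j).map f (p.a x) = q.a (X.homOfLE (leOfHom f).1 x) :=
  Pair.trans_a_apply (i := i) (j := j) _ _ _ _ x

theorem F_map_b {p q : Pair i j} (f : p ⟶ q) (y : p.V) :
    (F i j).map f (p.b y) = q.b (Y.homOfLE (leOfHom f).2.1 y) :=
  Pair.trans_b_apply (i := i) (j := j) _ _ _ _ y

omit [IsClosedImmersion i] in
theorem F_map_map {p q k : Pair i j} (f : p ⟶ q) (g : q ⟶ k) (h : p ⟶ k) (w : p.P) :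
    (F i j).map g ((F i j).map f w) = (F i j).map h w := by
  have : h = f ≫ g := Subsingleton.elim _ _
  rw [this, Functor.map_comp]
  rfl

instance : ((F i j) ⋙ Scheme.forget).IsLocallyDirected where
  cond {p q k} fi fj xi xj h := by
    have h' : (F i j).map fi xi = (F i j).map fj xj := h
    have key : ∀ (l : Pair i j) (flp : l ⟶ p) (flq : l ⟶ q) (w : l.P),
        (F i j).map flp w = xi → (F i j).map flq w = xj := by
      intro l flp flq w hw
      apply ((F i j).map fj).isOpenEmbedding.injective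
      rw [F_map_map i j flq fj (flp ≫ fi), ← F_map_map i j flp fi (flp ≫ fi), hw, h']
    rcases p.jointlySurj xi with ⟨x, rfl⟩ | ⟨y, rfl⟩
    · have hxq : x.1 ∈ q.U := by
        have := Pair.mem_of_trans_eq_a q k (leOfHom fj).1 (leOfHom fj).2.1
          (X.homOfLE (leOfHom fi).1 x) xj (by rw [← F_map_a]; exact h'.symm)
        rwa [Scheme.homOfLE_apply] at this
      obtain ⟨l, hlp, hlq, hxl⟩ := Pair.exists_refine_X p q x.1 x.2 hxq
      have e1 : (F i j).map (homOfLE hlp) (l.a ⟨x.1, hxl⟩) = p.a x := by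
        rw [F_map_a]
        congr 1
        exact Subtype.ext (Scheme.homOfLE_apply _ _)
      exact ⟨l, homOfLE hlp, homOfLE hlq, l.a ⟨x.1, hxl⟩, e1, key l (homOfLE hlp) (homOfLE hlq) _ e1⟩
    · have hyq : y.1 ∈ q.V := by
        have := Pair.mem_of_trans_eq_b q k (leOfHom fj).1 (leOfHom fj).2.1
          (Y.homOfLE (leOfHom fi).2.1 y) xj (by rw [← F_map_b]; exact h'.symm)
        rwa [Scheme.homOfLE_apply] at this
      obtain ⟨l, hlp, hlq, hyl⟩ := Pair.exists_refine_Y p q y.1 y.2 hyq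
      have e1 : (F i j).map (homOfLE hlp) (l.b ⟨y.1, hyl⟩) = p.b y := by
        rw [F_map_b]
        congr 1
        exact Subtype.ext (Scheme.homOfLE_apply _ _)
      exact ⟨l, homOfLE hlp, homOfLE hlq, l.b ⟨y.1, hyl⟩, e1, key l (homOfLE hlp) (homOfLE hlq) _ e1⟩

end functor

section glue

variable [IsClosedImmersion i] (hcov : ∀ y : Y, ∃ p : Pair i j, y ∈ p.V)

include hcov in
theorem exists_pair_X (x : X) : ∃ p : Pair i j, x ∈ p.U := by
  by_cases hx : x ∈ Set.range i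
  · obtain ⟨z, rfl⟩ := hx
    obtain ⟨p, hp⟩ := hcov (j z)
    exact ⟨p, (p.mem_W_iff z).mp ((p.mem_W_iff' z).mpr hp)⟩
  · have hopen : IsOpen (Set.range i)ᶜ := i.isClosedEmbedding.isClosed_range.isOpen_compl
    obtain ⟨_, ⟨U, hU, rfl⟩, hxU, hUsub⟩ :=
      X.isBasis_affineOpens.exists_subset_of_mem_open hx hopen
    refine ⟨⟨U, ⊥, hU, isAffineOpen_bot Y, ?_⟩, hxU⟩
    ext z
    constructor
    · intro hz
      exact absurd ⟨z, rfl⟩ (hUsub hz)
    · intro hz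
      exact absurd hz (by simp)

omit [IsClosedImmersion i] in
theorem Pair.U_mono {i : Z ⟶ X} {j : Z ⟶ Y} {p q : Pair i j} (h : p ≤ q) : p.U ≤ q.U := h.1

omit [IsClosedImmersion i] in
theorem Pair.V_mono {i : Z ⟶ X} {j : Z ⟶ Y} {p q : Pair i j} (h : p ≤ q) : p.V ≤ q.V := h.2.1

include hcov in
theorem isOpenCover_U : IsOpenCover (fun p : Pair i j => p.U) := by
  rw [IsOpenCover, eq_top_iff]
  intro x _
  obtain ⟨p, hp⟩ := exists_pair_X i j hcov x
  exact Opens.mem_iSup.mpr ⟨p, hp⟩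

omit [IsClosedImmersion i] in
include hcov in
theorem isOpenCover_V : IsOpenCover (fun p : Pair i j => p.V) := by
  rw [IsOpenCover, eq_top_iff]
  intro y _
  obtain ⟨p, hp⟩ := hcov y
  exact Opens.mem_iSup.mpr ⟨p, hp⟩

omit [IsClosedImmersion i] in
include hcov in
theorem isOpenCover_W : IsOpenCover (fun p : Pair i j => p.W) := by
  rw [IsOpenCover, eq_top_iff]
  intro z _
  obtain ⟨p, hp⟩ := hcov (j z)
  exact Opens.mem_iSup.mpr ⟨p, (p.mem_W_iff' z).mpr hp⟩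

/-- the glued scheme. -/
noncomputable abbrev glued : Scheme.{u} := colimit (F i j)

/-- the inclusion of a local pinching. -/
noncomputable def ι (p : Pair i j) : p.P ⟶ glued i j := colimit.ι (F i j) p

instance (p : Pair i j) : IsOpenImmersion (ι i j p) := by
  change IsOpenImmersion (colimit.ι (F i j) p)
  infer_instance

theorem ι_desc (s : Cocone (F i j)) (p : Pair i j) :
    ι i j p ≫ colimit.desc (F i j) s = s.ι.app p := colimit.ι_desc s p

theorem ι_w {p q : Pair i j} (h : p ≤ q) :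
    Pair.trans p q h.1 h.2.1 ≫ ι i j q = ι i j p := colimit.w (F i j) (homOfLE h)

/-- the cover of `X`. -/
noncomputable abbrev coverX : X.OpenCover :=
  dcover (fun p : Pair i j => p.U) (isOpenCover_U i j hcov)

noncomputable instance : (coverX i j hcov).LocallyDirected :=
  dcoverLD _ Pair.U_mono _ (fun p q s hp hq => Pair.exists_refine_X p q s hp hq)

theorem coverX_trans {p q : Pair i j} (f : p ⟶ q) :
    (coverX i j hcov).trans f = X.homOfLE (Pair.U_mono (leOfHom f)) := rfl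

/-- the cover of `Y`. -/
noncomputable abbrev coverY : Y.OpenCover :=
  dcover (fun p : Pair i j => p.V) (isOpenCover_V i j hcov)

noncomputable instance : (coverY i j hcov).LocallyDirected :=
  dcoverLD _ Pair.V_mono _ (fun p q s hp hq => Pair.exists_refine_Y p q s hp hq)

theorem coverY_trans {p q : Pair i j} (f : p ⟶ q) :
    (coverY i j hcov).trans f = Y.homOfLE (Pair.V_mono (leOfHom f)) := rfl

/-- the left leg of the glued square. -/
noncomputable def inlX : X ⟶ glued i j :=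
  (coverX i j hcov).glueMorphismsOfLocallyDirected
    (fun p => p.a ≫ ι i j p) (fun {p q} f => by
      rw [coverX_trans]
      change X.homOfLE (Pair.U_mono (leOfHom f)) ≫ Pair.a q ≫ ι i j q = Pair.a p ≫ ι i j p
      rw [← Category.assoc, ← Pair.a_trans p q (leOfHom f).1 (leOfHom f).2.1, Category.assoc,
        ι_w i j (leOfHom f)])

@[reassoc]
theorem ι_inlX (p : Pair i j) : p.U.ι ≫ inlX i j hcov = p.a ≫ ι i j p := by
  unfold inlX
  generalize_proofs h1 h2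
  exact Scheme.OpenCover.map_glueMorphismsOfLocallyDirected (coverX i j hcov)
    (fun p => p.a ≫ ι i j p) h2 p

/-- the right leg of the glued square. -/
noncomputable def inrY : Y ⟶ glued i j :=
  (coverY i j hcov).glueMorphismsOfLocallyDirected
    (fun p => p.b ≫ ι i j p) (fun {p q} f => by
      rw [coverY_trans]
      change Y.homOfLE (Pair.V_mono (leOfHom f)) ≫ Pair.b q ≫ ι i j q = Pair.b p ≫ ι i j p
      rw [← Category.assoc, ← Pair.b_trans p q (leOfHom f).1 (leOfHom f).2.1, Category.assoc,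
        ι_w i j (leOfHom f)])

@[reassoc]
theorem ι_inrY (p : Pair i j) : p.V.ι ≫ inrY i j hcov = p.b ≫ ι i j p := by
  unfold inrY
  generalize_proofs h1 h2
  exact Scheme.OpenCover.map_glueMorphismsOfLocallyDirected (coverY i j hcov)
    (fun p => p.b ≫ ι i j p) h2 p

theorem comm : i ≫ inlX i j hcov = j ≫ inrY i j hcov := by
  apply (Z.openCoverOfIsOpenCover _ (isOpenCover_W i j hcov)).hom_ext
  intro p
  change p.W.ι ≫ i ≫ inlX i j hcov = p.W.ι ≫ j ≫ inrY i j hcov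
  rw [← Category.assoc, ← p.iR_ι, Category.assoc, ι_inlX, ← Category.assoc, p.comm,
    Category.assoc, ← ι_inrY i j hcov, ← Category.assoc, p.jR_ι, Category.assoc]

include hcov in
theorem hom_ext_X {T : Scheme.{u}} (f g : X ⟶ T) (h : ∀ p : Pair i j, p.U.ι ≫ f = p.U.ι ≫ g) :
    f = g :=
  (X.openCoverOfIsOpenCover _ (isOpenCover_U i j hcov)).hom_ext _ _ h

omit [IsClosedImmersion i] in
include hcov in
theorem hom_ext_Y {T : Scheme.{u}} (f g : Y ⟶ T) (h : ∀ p : Pair i j, p.V.ι ≫ f = p.V.ι ≫ g) :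
    f = g :=
  (Y.openCoverOfIsOpenCover _ (isOpenCover_V i j hcov)).hom_ext _ _ h

theorem hom_ext_glued {T : Scheme.{u}} (c c' : glued i j ⟶ T)
    (h1 : inlX i j hcov ≫ c = inlX i j hcov ≫ c') (h2 : inrY i j hcov ≫ c = inrY i j hcov ≫ c') :
    c = c' := by
  apply colimit.hom_ext
  intro p
  change ι i j p ≫ c = ι i j p ≫ c'
  apply p.isPushout.hom_ext
  · rw [← ι_inlX_assoc i j hcov, ← ι_inlX_assoc i j hcov, h1]
  · rw [← ι_inrY_assoc i j hcov, ← ι_inrY_assoc i j hcov, h2]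

theorem exists_desc {T : Scheme.{u}} (f : X ⟶ T) (g : Y ⟶ T) (h : i ≫ f = j ≫ g) :
    ∃ c : glued i j ⟶ T, inlX i j hcov ≫ c = f ∧ inrY i j hcov ≫ c = g := by
  have hc : ∀ p : Pair i j, p.iR ≫ p.U.ι ≫ f = p.jR ≫ p.V.ι ≫ g := by
    intro p
    rw [← Category.assoc, p.iR_ι, Category.assoc, h, ← Category.assoc, ← p.jR_ι, Category.assoc]
  let c : ∀ p : Pair i j, p.P ⟶ T := fun p => p.isPushout.desc (p.U.ι ≫ f) (p.V.ι ≫ g) (hc p)
  have hca : ∀ p : Pair i j, p.a ≫ c p = p.U.ι ≫ f := fun p => p.isPushout.inl_desc _ _ _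
  have hcb : ∀ p : Pair i j, p.b ≫ c p = p.V.ι ≫ g := fun p => p.isPushout.inr_desc _ _ _
  have hnat : ∀ (p q : Pair i j) (e : p ⟶ q), (F i j).map e ≫ c q = c p := by
    intro p q e
    apply p.isPushout.hom_ext
    · change p.a ≫ Pair.trans p q _ _ ≫ c q = p.a ≫ c p
      rw [← Category.assoc, Pair.a_trans, Category.assoc, hca, hca, Scheme.homOfLE_ι_assoc]
    · change p.b ≫ Pair.trans p q _ _ ≫ c q = p.b ≫ c p
      rw [← Category.assoc, Pair.b_trans, Category.assoc, hcb, hcb, Scheme.homOfLE_ι_assoc]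
  have hnat' : ∀ (p q : Pair i j) (e : p ⟶ q),
      (F i j).map e ≫ c q = c p ≫ ((Functor.const (Pair i j)).obj T).map e :=
    fun p q e => (hnat p q e).trans (Category.comp_id _).symm
  let s : Cocone (F i j) := { pt := T, ι := { app := c, naturality := hnat' } }
  refine ⟨colimit.desc (F i j) s, ?_, ?_⟩
  · apply hom_ext_X i j hcov
    intro p
    rw [← Category.assoc, ι_inlX, Category.assoc, ι_desc]
    exact hca p
  · apply hom_ext_Y i j hcov
    intro p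
    rw [← Category.assoc, ι_inrY, Category.assoc, ι_desc]
    exact hcb p

/-- the glued square is a pushout. -/
theorem isPushout : IsPushout i j (inlX i j hcov) (inrY i j hcov) := by
  refine ⟨⟨comm i j hcov⟩, ⟨PushoutCocone.IsColimit.mk _
    (fun s => (exists_desc i j hcov s.inl s.inr s.condition).choose)
    (fun s => (exists_desc i j hcov s.inl s.inr s.condition).choose_spec.1)
    (fun s => (exists_desc i j hcov s.inl s.inr s.condition).choose_spec.2)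
    (fun s m h₁ h₂ => ?_)⟩⟩
  exact hom_ext_glued i j hcov _ _
    (h₁.trans (exists_desc i j hcov s.inl s.inr s.condition).choose_spec.1.symm)
    (h₂.trans (exists_desc i j hcov s.inl s.inr s.condition).choose_spec.2.symm)

end glue

section props

variable [IsClosedImmersion i] (hcov : ∀ y : Y, ∃ p : Pair i j, y ∈ p.V)

theorem inlX_apply (p : Pair i j) (x : p.U) : inlX i j hcov x.1 = ι i j p (p.a x) := by
  have := congrArg (fun f : (p.U : Scheme.{u}) ⟶ glued i j => f x) (ι_inlX i j hcov p)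
  exact this

theorem inrY_apply (p : Pair i j) (y : p.V) : inrY i j hcov y.1 = ι i j p (p.b y) := by
  have := congrArg (fun f : (p.V : Scheme.{u}) ⟶ glued i j => f y) (ι_inrY i j hcov p)
  exact this

omit hcov in
theorem ι_eq_ι_iff {p q : Pair i j} (w : p.P) (w' : q.P) :
    ι i j p w = ι i j q w' ↔ ∃ (k : Pair i j) (fi : k ⟶ p) (fj : k ⟶ q) (x : k.P),
      (F i j).map fi x = w ∧ (F i j).map fj x = w' :=
  Scheme.IsLocallyDirected.ι_eq_ι_iff (F i j)

theorem inlX_preimage (p : Pair i j) : inlX i j hcov ⁻¹ᵁ (ι i j p).opensRange = p.U := by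
  ext x
  constructor
  · rintro ⟨w, hw⟩
    obtain ⟨q, hq⟩ := exists_pair_X i j hcov x
    have h1 : ι i j p w = ι i j q (q.a ⟨x, hq⟩) := by
      rw [hw, ← inlX_apply i j hcov q ⟨x, hq⟩]
    obtain ⟨k, fi, fj, x', hx'1, hx'2⟩ := (ι_eq_ι_iff i j w _).mp h1
    have := Pair.mem_of_trans_eq_a k q (leOfHom fj).1 (leOfHom fj).2.1 ⟨x, hq⟩ x' hx'2
    exact (leOfHom fi).1 this
  · intro hx
    exact ⟨p.a ⟨x, hx⟩, (inlX_apply i j hcov p ⟨x, hx⟩).symm⟩

theorem inrY_preimage (p : Pair i j) : inrY i j hcov ⁻¹ᵁ (ι i j p).opensRange = p.V := by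
  ext y
  constructor
  · rintro ⟨w, hw⟩
    obtain ⟨q, hq⟩ := hcov y
    have h1 : ι i j p w = ι i j q (q.b ⟨y, hq⟩) := by
      rw [hw, ← inrY_apply i j hcov q ⟨y, hq⟩]
    obtain ⟨k, fi, fj, x', hx'1, hx'2⟩ := (ι_eq_ι_iff i j w _).mp h1
    have := Pair.mem_of_trans_eq_b k q (leOfHom fj).1 (leOfHom fj).2.1 ⟨y, hq⟩ x' hx'2
    exact (leOfHom fi).2.1 this
  · intro hy
    exact ⟨p.b ⟨y, hy⟩, (inrY_apply i j hcov p ⟨y, hy⟩).symm⟩

theorem jointlySurj : Pinch.JointlySurj (inlX i j hcov) (inrY i j hcov) := by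
  intro w
  obtain ⟨p, wp, hwp⟩ := Scheme.IsLocallyDirected.ι_jointly_surjective (F i j) w
  rcases p.jointlySurj wp with ⟨x, rfl⟩ | ⟨y, rfl⟩
  · left
    exact ⟨x.1, (inlX_apply i j hcov p x).trans hwp⟩
  · right
    exact ⟨y.1, (inrY_apply i j hcov p y).trans hwp⟩

theorem isPullback_inrY (p : Pair i j) : IsPullback p.V.ι p.b (inrY i j hcov) (ι i j p) :=
  (IsOpenImmersion.isPullback p.b p.V.ι (ι i j p) (inrY i j hcov) (ι_inrY i j hcov p) (by
    rw [inrY_preimage]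
    exact (Scheme.Opens.opensRange_ι _).symm)).flip

theorem isPullback_inlX (p : Pair i j) : IsPullback p.U.ι p.a (inlX i j hcov) (ι i j p) :=
  (IsOpenImmersion.isPullback p.a p.U.ι (ι i j p) (inlX i j hcov) (ι_inlX i j hcov p) (by
    rw [inlX_preimage]
    exact (Scheme.Opens.opensRange_ι _).symm)).flip

theorem of_local_inrY (P : MorphismProperty Scheme.{u}) [IsZariskiLocalAtTarget P]
    (h : ∀ p : Pair i j, P p.b) : P (inrY i j hcov) := by
  rw [IsZariskiLocalAtTarget.iff_of_openCover (P := P)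
    (Scheme.IsLocallyDirected.openCover (F i j))]
  intro p
  have hpb := isPullback_inrY i j hcov p
  have e : hpb.isoPullback.hom ≫ pullback.snd (inrY i j hcov) (ι i j p) = p.b :=
    hpb.isoPullback_hom_snd
  change P (pullback.snd (inrY i j hcov) (ι i j p))
  rw [← P.cancel_left_of_respectsIso hpb.isoPullback.hom, e]
  exact h p

theorem of_local_inlX (P : MorphismProperty Scheme.{u}) [IsZariskiLocalAtTarget P]
    (h : ∀ p : Pair i j, P p.a) : P (inlX i j hcov) := by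
  rw [IsZariskiLocalAtTarget.iff_of_openCover (P := P)
    (Scheme.IsLocallyDirected.openCover (F i j))]
  intro p
  have hpb := isPullback_inlX i j hcov p
  have e : hpb.isoPullback.hom ≫ pullback.snd (inlX i j hcov) (ι i j p) = p.a :=
    hpb.isoPullback_hom_snd
  change P (pullback.snd (inlX i j hcov) (ι i j p))
  rw [← P.cancel_left_of_respectsIso hpb.isoPullback.hom, e]
  exact h p

instance isClosedImmersion_inrY : IsClosedImmersion (inrY i j hcov) :=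
  of_local_inrY i j hcov @IsClosedImmersion (fun p => inferInstance)

/-- the glued square is cartesian. -/
theorem isPullback : IsPullback i j (inlX i j hcov) (inrY i j hcov) := by
  have hlift : ∀ s : PullbackCone (inlX i j hcov) (inrY i j hcov),
      ∃ h : s.pt ⟶ Z, h ≫ i = s.fst ∧ h ≫ j = s.snd := by
    intro s
    let TT : Pair i j → s.pt.Opens := fun p => s.fst ⁻¹ᵁ p.U
    have hTg : ∀ p : Pair i j, TT p ≤ s.snd ⁻¹ᵁ p.V := by
      intro p t ht
      have h1 : s.fst t ∈ inlX i j hcov ⁻¹ᵁ (ι i j p).opensRange := by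
        rw [inlX_preimage]; exact ht
      have h2 : s.snd t ∈ inrY i j hcov ⁻¹ᵁ (ι i j p).opensRange := by
        change inrY i j hcov (s.snd t) ∈ (ι i j p).opensRange
        rw [← Scheme.Hom.comp_apply, ← s.condition, Scheme.Hom.comp_apply]
        exact h1
      rw [inrY_preimage] at h2
      exact h2
    have hcovT : IsOpenCover TT := by
      rw [IsOpenCover, eq_top_iff]
      intro t _
      obtain ⟨p, hp⟩ := exists_pair_X i j hcov (s.fst t)
      exact Opens.mem_iSup.mpr ⟨p, hp⟩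
    let fp : ∀ p : Pair i j, ((TT p : s.pt.Opens) : Scheme.{u}) ⟶ p.U :=
      fun p => s.fst.resLE p.U (TT p) le_rfl
    let gp : ∀ p : Pair i j, ((TT p : s.pt.Opens) : Scheme.{u}) ⟶ p.V :=
      fun p => s.snd.resLE p.V (TT p) (hTg p)
    have hfg : ∀ p : Pair i j, fp p ≫ p.a = gp p ≫ p.b := by
      intro p
      rw [← cancel_mono (ι i j p), Category.assoc, Category.assoc, ← ι_inlX i j hcov,
        ← ι_inrY i j hcov, Scheme.Hom.resLE_comp_ι_assoc, Scheme.Hom.resLE_comp_ι_assoc,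
        s.condition]
    let hp : ∀ p : Pair i j, ((TT p : s.pt.Opens) : Scheme.{u}) ⟶ p.W :=
      fun p => p.isPullback.lift (fp p) (gp p) (hfg p)
    have hp1 : ∀ p : Pair i j, hp p ≫ p.iR = fp p := fun p => p.isPullback.lift_fst _ _ _
    have hp2 : ∀ p : Pair i j, hp p ≫ p.jR = gp p := fun p => p.isPullback.lift_snd _ _ _
    have hpi : ∀ p : Pair i j, (hp p ≫ p.W.ι) ≫ i = (TT p).ι ≫ s.fst := by
      intro p
      rw [Category.assoc, ← p.iR_ι, ← Category.assoc, hp1, Scheme.Hom.resLE_comp_ι]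
    have hpj : ∀ p : Pair i j, (hp p ≫ p.W.ι) ≫ j = (TT p).ι ≫ s.snd := by
      intro p
      rw [Category.assoc, ← p.jR_ι, ← Category.assoc, hp2, Scheme.Hom.resLE_comp_ι]
    let 𝒯 := s.pt.openCoverOfIsOpenCover TT hcovT
    have hpi' : ∀ p : Pair i j, hp p ≫ p.W.ι ≫ i = (TT p).ι ≫ s.fst := by
      intro p
      rw [← Category.assoc, hpi]
    have hcompat : ∀ p q : Pair i j, pullback.fst (TT p).ι (TT q).ι ≫ hp p ≫ p.W.ι =
        pullback.snd (TT p).ι (TT q).ι ≫ hp q ≫ q.W.ι := by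
      intro p q
      rw [← cancel_mono i]
      simp only [Category.assoc]
      rw [hpi', hpi']
      exact pullback.condition_assoc s.fst
    let h : s.pt ⟶ Z := 𝒯.glueMorphisms (fun p => hp p ≫ p.W.ι) hcompat
    have hh : ∀ p : Pair i j, (TT p).ι ≫ h = hp p ≫ p.W.ι := fun p =>
      Scheme.Cover.ι_glueMorphisms 𝒯 _ _ p
    refine ⟨h, ?_, ?_⟩
    · apply 𝒯.hom_ext
      intro p
      change (TT p).ι ≫ h ≫ i = (TT p).ι ≫ s.fst
      rw [← Category.assoc, hh, hpi]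
    · apply 𝒯.hom_ext
      intro p
      change (TT p).ι ≫ h ≫ j = (TT p).ι ≫ s.snd
      rw [← Category.assoc, hh, hpj]
  refine ⟨⟨comm i j hcov⟩, ⟨PullbackCone.IsLimit.mk _ (fun s => (hlift s).choose)
    (fun s => (hlift s).choose_spec.1) (fun s => (hlift s).choose_spec.2)
    (fun s m h₁ h₂ => ?_)⟩⟩
  rw [← cancel_mono i, h₁, (hlift s).choose_spec.1]

end props

end Groth.Agent.Lib.Helper6.PushGlue
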