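import Groth.Agent.Lib.Helper6.PushGlue

set_option autoImplicit false
universe u
open AlgebraicGeometry CategoryTheory Limits TopologicalSpace Opposite

namespace Groth.Agent.Lib.Helper6.PinchAlg

open Polynomial in
/-- the first projection of a fibre product ring is integral when the second map is. -/
theorem fib_fst_isIntegral {A B C : Type*} [CommRing A] [CommRing B] [CommRing C]
    (φ : A →+* C) (ψ : B →+* C) (hφ : Function.Surjective φ) (hψ : ψ.IsIntegral) :
    ((RingHom.fst A B).comp (fib φ ψ).subtype).IsIntegral := by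
  intro a
  let R := fib φ ψ
  let fst : R →+* A := (RingHom.fst A B).comp (fib φ ψ).subtype
  let snd : R →+* B := (RingHom.snd A B).comp (fib φ ψ).subtype
  have hcomm : ∀ r : R, φ (fst r) = ψ (snd r) := fun r => r.2
  have hsnd : Function.Surjective snd := by
    intro b
    obtain ⟨a', ha'⟩ := hφ (ψ b)
    exact ⟨⟨(a', b), ha'⟩, rfl⟩
  rcases subsingleton_or_nontrivial R with hR | hR
  · have h01 : (1 : A) = 0 := by
      have : (1 : R) = 0 := Subsingleton.elim _ _
      have := congrArg fst this
      rwa [map_one, map_zero] at this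
    refine ⟨X, monic_X, ?_⟩
    rw [eval₂_X]
    calc a = a * 1 := (mul_one a).symm
      _ = 0 := by rw [h01, mul_zero]
  rcases subsingleton_or_nontrivial B with hB | hB
  · have hC : ∀ c : C, c = 0 := by
      intro c
      have h10 : (1 : C) = 0 := by
        have : (1 : B) = 0 := Subsingleton.elim _ _
        have := congrArg ψ this
        rwa [map_one, map_zero] at this
      calc c = c * 1 := (mul_one c).symm
        _ = 0 := by rw [h10, mul_zero]
    let r : R := ⟨(a, 0), (hC _).trans (hC _).symm⟩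
    refine ⟨X - Polynomial.C r, monic_X_sub_C r, ?_⟩
    rw [eval₂_sub, eval₂_X, eval₂_C]
    exact sub_self a
  obtain ⟨p, hp, hpa⟩ := hψ (φ a)
  have hlift : p ∈ lifts snd := by
    rw [lifts_iff_coeff_lifts]
    intro n
    exact hsnd _
  obtain ⟨q, hq1, hq2, hq3⟩ := lifts_and_degree_eq_and_monic hlift hp
  let e : A := eval₂ fst a q
  have he : φ e = 0 := by
    change φ (eval₂ fst a q) = 0
    rw [hom_eval₂, ← hpa, ← hq1, eval₂_map]
    congr 1
    ext r
    exact hcomm r
  let r₁ : R := ⟨(e * a, 0), by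
    change φ (e * a) = ψ 0
    rw [map_mul, he, zero_mul, map_zero]⟩
  refine ⟨q * X - Polynomial.C r₁, ?_, ?_⟩
  · apply Monic.sub_of_left (hq3.mul monic_X)
    rw [degree_mul_X, degree_eq_natDegree hq3.ne_zero]
    refine lt_of_le_of_lt degree_C_le ?_
    exact_mod_cast Nat.succ_pos _
  · rw [eval₂_sub, eval₂_mul, eval₂_X, eval₂_C]
    change e * a - e * a = 0
    exact sub_self _

end Groth.Agent.Lib.Helper6.PinchAlg

namespace Groth.Agent.Lib.Helper6.PushGlue

open Scheme

variable {X Y Z : Scheme.{u}} {i : Z ⟶ X} {j : Z ⟶ Y}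

theorem isIso_homOfLE_of_eq {S : Scheme.{u}} {U V : S.Opens} (h : U = V) :
    IsIso (S.homOfLE (le_of_eq h)) := by
  subst h
  rw [show S.homOfLE (le_of_eq (rfl : U = U)) = 𝟙 _ from S.homOfLE_rfl U]
  infer_instance

theorem Pair.jR_eq (p : Pair i j) : p.jR = Z.homOfLE (le_of_eq p.h) ≫ j ∣_ p.V := rfl

theorem Pair.isIntegralHom_jR [IsIntegralHom j] (p : Pair i j) : IsIntegralHom p.jR := by
  rw [p.jR_eq]
  have := isIso_homOfLE_of_eq (S := Z) p.h
  exact (MorphismProperty.cancel_left_of_respectsIso @IsIntegralHom (Z.homOfLE (le_of_eq p.h))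
    (j ∣_ p.V)).mpr inferInstance

theorem Pair.isClosedImmersion_jR [IsClosedImmersion j] (p : Pair i j) :
    IsClosedImmersion p.jR := by
  rw [p.jR_eq]
  have := isIso_homOfLE_of_eq (S := Z) p.h
  have h2 : IsClosedImmersion (j ∣_ p.V) :=
    IsZariskiLocalAtTarget.restrict (P := @IsClosedImmersion) inferInstance p.V
  exact (MorphismProperty.cancel_left_of_respectsIso @IsClosedImmersion
    (Z.homOfLE (le_of_eq p.h)) (j ∣_ p.V)).mpr h2

theorem Pair.isIntegralHom_a [IsClosedImmersion i] [IsIntegralHom j] (p : Pair i j) :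
    IsIntegralHom p.a := by
  have hjR := p.isIntegralHom_jR
  have hint : p.jR.appTop.hom.IsIntegral :=
    IsIntegralHom.isIntegral_app p.jR ⊤ (isAffineOpen_top _)
  have h1 : IsIntegralHom (Spec.map (CommRingCat.ofHom (AffPush.fstHom p.iR p.jR))) :=
    IsIntegralHom.SpecMap_iff.mpr
      (PinchAlg.fib_fst_isIntegral p.iR.appTop.hom p.jR.appTop.hom p.hsurj hint)
  unfold Pair.a AffPush.inl
  infer_instance

theorem Pair.isClosedImmersion_a [IsClosedImmersion i] [IsClosedImmersion j] (p : Pair i j) :
    IsClosedImmersion p.a := by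
  have hjR := p.isClosedImmersion_jR
  have hsurj : Function.Surjective p.jR.appTop :=
    (IsClosedImmersion.isAffine_surjective_of_isAffine p.jR).2
  apply IsClosedImmersion.of_surjective_of_isAffine
  intro x
  obtain ⟨y, hy⟩ := hsurj (p.iR.appTop x)
  obtain ⟨c, -, hc⟩ := p.hPB y x hy
  exact ⟨c, hc⟩

section global

variable (i j) [IsClosedImmersion i] (hcov : ∀ y : Y, ∃ p : Pair i j, y ∈ p.V)

theorem isIntegralHom_inlX [IsIntegralHom j] : IsIntegralHom (inlX i j hcov) :=
  of_local_inlX i j hcov @IsIntegralHom (fun p => p.isIntegralHom_a)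

theorem isClosedImmersion_inlX [IsClosedImmersion j] : IsClosedImmersion (inlX i j hcov) :=
  of_local_inlX i j hcov @IsClosedImmersion (fun p => p.isClosedImmersion_a)

end global

end Groth.Agent.Lib.Helper6.PushGlue
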