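import Groth.Agent.Lib.Helper6.AffUniv
import Groth.Agent.S8255
import Groth.Prelude.Def_RelSpec
import Groth.Prelude.Def_MoreMor


set_option autoImplicit false
universe u
open AlgebraicGeometry CategoryTheory Limits TopologicalSpace Opposite

namespace Groth.Agent.Lib.Helper6.QAff

open RelSpec

theorem isQuasiAffineHom_of_openImmersion {X S : Scheme.{u}} (B : QCAlg S) (c : X ⟶ B.spec)
    [QuasiCompact c] [IsOpenImmersion c] : MoreMor.IsQuasiAffineHom (c ≫ B.π) := by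
  refine ⟨inferInstance, fun V hV => ?_⟩
  have hW : IsAffineOpen (B.π ⁻¹ᵁ V) := hV.preimage B.π
  have : IsAffine (B.π ⁻¹ᵁ V).toScheme := hW
  have hc : IsCompact ((c ≫ B.π) ⁻¹ᵁ V : Set X) := (c ≫ B.π).isCompact_preimage hV.isCompact
  have : CompactSpace (c ⁻¹ᵁ (B.π ⁻¹ᵁ V)).toScheme := isCompact_iff_compactSpace.mp hc
  change Scheme.IsQuasiAffine (c ⁻¹ᵁ (B.π ⁻¹ᵁ V)).toScheme
  exact Scheme.IsQuasiAffine.of_isImmersion (c ∣_ (B.π ⁻¹ᵁ V))

theorem exists_canonical {X S : Scheme.{u}} (f : X ⟶ S) [QuasiCompact f] [QuasiSeparated f]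
    (hf : MoreMor.IsQuasiAffineHom f) :
    ∃ (c : X ⟶ (QCAlg.directImage f).spec) (e : c ≫ (QCAlg.directImage f).π = f),
      (QCAlg.directImage f).gammaMap = AffAlg.algHom (QCAlg.directImage f).π f c e ∧
        QuasiCompact c ∧ IsOpenImmersion c := by
  set A := QCAlg.directImage f with hA
  have hiso : IsIso A.gammaMap := Groth.Agent.S8255.result A
  have hcomm : A.π.c ≫ A.gammaMap = f.c := A.π_c_gammaMap
  have e : AffUniv.lift A.π f A.gammaMap ≫ A.π = f := AffUniv.lift_comp A.π f A.gammaMap hcomm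
  refine ⟨AffUniv.lift A.π f A.gammaMap, e, (AffUniv.algHom_lift A.π f A.gammaMap e).symm, ?_, ?_⟩
  · have : QuasiCompact (AffUniv.lift A.π f A.gammaMap ≫ A.π) := by rw [e]; infer_instance
    exact QuasiCompact.of_comp _ A.π
  · set c := AffUniv.lift A.π f A.gammaMap with hc
    have hsup : ⨆ U : S.affineOpens, A.π ⁻¹ᵁ U.1 = ⊤ :=
      A.π.iSup_preimage_eq_top (iSup_affineOpens_eq_top S)
    refine IsZariskiLocalAtTarget.of_iSup_eq_top (P := @IsOpenImmersion)
      (fun U : S.affineOpens => A.π ⁻¹ᵁ U.1) hsup fun U => ?_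
    have key' : ∀ U' : S.AffineZariskiSite, IsOpenImmersion ((f ⁻¹ᵁ U'.toOpens).ι ≫ c) := by
      intro U'
      have h1 := AffUniv.ι_lift A.π f A.gammaMap U'
      rw [h1]
      unfold AffUniv.piece
      have hqa : Scheme.IsQuasiAffine (f ⁻¹ᵁ U'.toOpens).toScheme := hf.2 U'.toOpens U'.2
      have h2 : IsOpenImmersion (f ⁻¹ᵁ U'.toOpens).toSpecΓ := by
        unfold Scheme.Opens.toSpecΓ
        infer_instance
      have h3 : IsIso (A.gammaMap.app (op U'.toOpens)) := inferInstance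
      have h5 : IsOpenImmersion (Spec.map (A.gammaMap.app (op U'.toOpens))) := inferInstance
      have h6 : IsOpenImmersion (U'.2.preimage A.π).fromSpec := inferInstance
      exact MorphismProperty.comp_mem (W := @IsOpenImmersion) _ _ h2
        (MorphismProperty.comp_mem (W := @IsOpenImmersion) _ _ h5 h6)
    have key : ∀ V : X.Opens, V = f ⁻¹ᵁ U.1 → IsOpenImmersion (V.ι ≫ c) := by
      rintro V rfl
      exact key' ⟨U.1, U.2⟩
    have h4 : IsOpenImmersion ((c ∣_ (A.π ⁻¹ᵁ U.1)) ≫ (A.π ⁻¹ᵁ U.1).ι) := by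
      rw [morphismRestrict_ι]
      apply key
      rw [← Scheme.Hom.comp_preimage, e]
    exact IsOpenImmersion.of_comp (c ∣_ (A.π ⁻¹ᵁ U.1)) (A.π ⁻¹ᵁ U.1).ι

end Groth.Agent.Lib.Helper6.QAff
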