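import Groth.Prelude.Def_W4c6intromoduliQuartic
import Mathlib

set_option autoImplicit false

namespace Groth.Agent.Lib.Helper6.Quartic

open Polynomial W4c6intromoduli

universe u
variable {R : Type u} [CommRing R]

theorem coeff_aux (a0 a1 a2 a3 a4 : R) :
    (C a0 + C a1 * X + C a2 * X ^ 2 + C a3 * X ^ 3 + C a4 * X ^ 4).coeff 0 = a0 ∧
    (C a0 + C a1 * X + C a2 * X ^ 2 + C a3 * X ^ 3 + C a4 * X ^ 4).coeff 1 = a1 ∧
    (C a0 + C a1 * X + C a2 * X ^ 2 + C a3 * X ^ 3 + C a4 * X ^ 4).coeff 2 = a2 ∧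
    (C a0 + C a1 * X + C a2 * X ^ 2 + C a3 * X ^ 3 + C a4 * X ^ 4).coeff 3 = a3 ∧
    (C a0 + C a1 * X + C a2 * X ^ 2 + C a3 * X ^ 3 + C a4 * X ^ 4).coeff 4 = a4 := by
  refine ⟨?_, ?_, ?_, ?_, ?_⟩ <;> simp [coeff_X, coeff_X_pow, coeff_C]

theorem rootPoly_eq (la mu : Fin 4 → R) :
    rootPoly la mu =
      C (mu 0 * mu 1 * mu 2 * mu 3) +
      C (-(la 0 * mu 1 * mu 2 * mu 3 + mu 0 * la 1 * mu 2 * mu 3 + mu 0 * mu 1 * la 2 * mu 3 + mu 0 * mu 1 * mu 2 * la 3)) * X +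
      C (la 0 * la 1 * mu 2 * mu 3 + la 0 * mu 1 * la 2 * mu 3 + la 0 * mu 1 * mu 2 * la 3 + mu 0 * la 1 * la 2 * mu 3 + mu 0 * la 1 * mu 2 * la 3 + mu 0 * mu 1 * la 2 * la 3) * X ^ 2 +
      C (-(la 0 * la 1 * la 2 * mu 3 + la 0 * la 1 * mu 2 * la 3 + la 0 * mu 1 * la 2 * la 3 + mu 0 * la 1 * la 2 * la 3)) * X ^ 3 +
      C (la 0 * la 1 * la 2 * la 3) * X ^ 4 := by
  simp only [rootPoly, Fin.prod_univ_four, map_add, map_mul, map_neg]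
  ring

theorem coef0 (la mu : Fin 4 → R) : coef la mu 0 = mu 0 * mu 1 * mu 2 * mu 3 := by
  rw [coef, rootPoly_eq]; exact (coeff_aux _ _ _ _ _).1

theorem coef1 (la mu : Fin 4 → R) : coef la mu 1 = -(la 0 * mu 1 * mu 2 * mu 3 + mu 0 * la 1 * mu 2 * mu 3 + mu 0 * mu 1 * la 2 * mu 3 + mu 0 * mu 1 * mu 2 * la 3) := by
  rw [coef, rootPoly_eq]; exact (coeff_aux _ _ _ _ _).2.1

theorem coef2 (la mu : Fin 4 → R) : coef la mu 2 = la 0 * la 1 * mu 2 * mu 3 + la 0 * mu 1 * la 2 * mu 3 + la 0 * mu 1 * mu 2 * la 3 + mu 0 * la 1 * la 2 * mu 3 + mu 0 * la 1 * mu 2 * la 3 + mu 0 * mu 1 * la 2 * la 3 := by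
  rw [coef, rootPoly_eq]; exact (coeff_aux _ _ _ _ _).2.2.1

theorem coef3 (la mu : Fin 4 → R) : coef la mu 3 = -(la 0 * la 1 * la 2 * mu 3 + la 0 * la 1 * mu 2 * la 3 + la 0 * mu 1 * la 2 * la 3 + mu 0 * la 1 * la 2 * la 3) := by
  rw [coef, rootPoly_eq]; exact (coeff_aux _ _ _ _ _).2.2.2.1

theorem coef4 (la mu : Fin 4 → R) : coef la mu 4 = la 0 * la 1 * la 2 * la 3 := by
  rw [coef, rootPoly_eq]; exact (coeff_aux _ _ _ _ _).2.2.2.2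

theorem disc_eq (la mu : Fin 4 → R) : disc la mu =
    (la 1 * mu 0 - la 0 * mu 1) ^ 2 * (la 2 * mu 0 - la 0 * mu 2) ^ 2 * (la 3 * mu 0 - la 0 * mu 3) ^ 2 *
    (la 2 * mu 1 - la 1 * mu 2) ^ 2 * (la 3 * mu 1 - la 1 * mu 3) ^ 2 * (la 3 * mu 2 - la 2 * mu 3) ^ 2 := by
  simp [disc, Finset.prod_filter, Fintype.prod_prod_type, Fin.prod_univ_four]
  ring

theorem main (la mu : Fin 4 → R) :
    27 * W4c6intromoduli.disc la mu =
      4 * W4c6intromoduli.invI (W4c6intromoduli.coef la mu) ^ 3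
        - W4c6intromoduli.invJ (W4c6intromoduli.coef la mu) ^ 2 := by
  rw [disc_eq, invI, invJ, coef0, coef1, coef2, coef3, coef4]
  ring

end Groth.Agent.Lib.Helper6.Quartic
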