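import Mathlib

/-! Pushout squares of ringed spaces: sections over an open of the pushout are the fibre product
of the sections. -/

set_option autoImplicit false
universe u
open CategoryTheory Limits AlgebraicGeometry TopologicalSpace Opposite

namespace Groth.Agent.Lib.Helper6.RSPush


section Presheafed

variable {X Z Z' X' : PresheafedSpace.{u, u+1, u} CommRingCat.{u}} {ι : Z ⟶ X} {q : Z ⟶ Z'} {π : X ⟶ X'}
  {ι' : Z' ⟶ X'}

theorem existsUnique_section_aux (hpo : IsPushout ι q π ι') (U' : Opens X')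
    (x : X.presheaf.obj (op ((Opens.map π.base).obj U')))
    (y : Z'.presheaf.obj (op ((Opens.map ι'.base).obj U')))
    (hle : (Opens.map q.base).obj ((Opens.map ι'.base).obj U') ≤
      (Opens.map ι.base).obj ((Opens.map π.base).obj U'))
    (hxy : Z.presheaf.map (homOfLE hle).op (ι.c.app _ x) = q.c.app _ y) :
    ∃! z : X'.presheaf.obj (op U'), π.c.app _ z = x ∧ ι'.c.app _ z = y := by
  let F := span ι q
  let t : ColimitCocone F := ⟨_, hpo.isColimit⟩
  let e : colimit F ≅ X' := colimit.isoColimitCocone t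
  have he : ∀ j, colimit.ι F j ≫ e.hom = t.cocone.ι.app j := colimit.isoColimitCocone_ι_hom t
  let V : Opens (colimit F).carrier := (Opens.map e.hom.base).obj U'
  have : IsIso e.hom.c := PresheafedSpace.c_isIso_of_iso e.hom
  have : IsIso (e.hom.c.app (op U')) := inferInstance
  let θ : X'.presheaf.obj (op U') ≅ limit (PresheafedSpace.componentwiseDiagram F V) :=
    asIso (e.hom.c.app (op U')) ≪≫ PresheafedSpace.colimitPresheafObjIsoComponentwiseLimit F V
  have hθ : ∀ j, θ.hom ≫ limit.π (PresheafedSpace.componentwiseDiagram F V) (op j) =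
      (colimit.ι F j ≫ e.hom).c.app (op U') := by
    intro j
    simp only [θ, Iso.trans_hom, asIso_hom, Category.assoc,
      PresheafedSpace.colimitPresheafObjIsoComponentwiseLimit_hom_π]
    rfl
  have heL : colimit.ι F WalkingSpan.left ≫ e.hom = π := he _
  have heR : colimit.ι F WalkingSpan.right ≫ e.hom = ι' := he _
  have eqL : (Opens.map π.base).op.obj (op U') =
      op ((Opens.map (colimit.ι F WalkingSpan.left).base).obj V) := by rw [← heL]; rfl
  have eqR : (Opens.map ι'.base).op.obj (op U') =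
      op ((Opens.map (colimit.ι F WalkingSpan.right).base).obj V) := by rw [← heR]; rfl
  have hL : θ.hom ≫ limit.π (PresheafedSpace.componentwiseDiagram F V) (op WalkingSpan.left) =
      π.c.app (op U') ≫ X.presheaf.map (eqToHom eqL) := by
    rw [hθ, PresheafedSpace.congr_app heL]
    rfl
  have hR : θ.hom ≫ limit.π (PresheafedSpace.componentwiseDiagram F V) (op WalkingSpan.right) =
      ι'.c.app (op U') ≫ Z'.presheaf.map (eqToHom eqR) := by
    rw [hθ, PresheafedSpace.congr_app heR]
    rfl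
  let D := PresheafedSpace.componentwiseDiagram F V
  -- the compatible family
  let x' : D.obj (op WalkingSpan.left) := X.presheaf.map (eqToHom eqL) x
  let y' : D.obj (op WalkingSpan.right) := Z'.presheaf.map (eqToHom eqR) y
  let w' : D.obj (op WalkingSpan.zero) := D.map WalkingSpan.Hom.fst.op x'
  obtain ⟨mL, hmL⟩ : ∃ mL : op ((Opens.map ι.base).obj ((Opens.map π.base).obj U')) ⟶
      op ((Opens.map (colimit.ι F WalkingSpan.zero).base).obj V),
      X.presheaf.map (eqToHom eqL) ≫ D.map WalkingSpan.Hom.fst.op =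
        ι.c.app _ ≫ Z.presheaf.map mL := by
    have h1 : D.map WalkingSpan.Hom.fst.op = ι.c.app _ ≫ Z.presheaf.map (eqToHom (by
      rw [← colimit.w F WalkingSpan.Hom.fst]; rfl)) := rfl
    refine ⟨(Opens.map ι.base).op.map (eqToHom eqL) ≫ eqToHom (by
      rw [← colimit.w F WalkingSpan.Hom.fst]; rfl), ?_⟩
    rw [h1, Functor.map_comp]
    exact ι.c.naturality_assoc (eqToHom eqL) _
  obtain ⟨mR, hmR⟩ : ∃ mR : op ((Opens.map q.base).obj ((Opens.map ι'.base).obj U')) ⟶
      op ((Opens.map (colimit.ι F WalkingSpan.zero).base).obj V),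
      Z'.presheaf.map (eqToHom eqR) ≫ D.map WalkingSpan.Hom.snd.op =
        q.c.app _ ≫ Z.presheaf.map mR := by
    have h1 : D.map WalkingSpan.Hom.snd.op = q.c.app _ ≫ Z.presheaf.map (eqToHom (by
      rw [← colimit.w F WalkingSpan.Hom.snd]; rfl)) := rfl
    refine ⟨(Opens.map q.base).op.map (eqToHom eqR) ≫ eqToHom (by
      rw [← colimit.w F WalkingSpan.Hom.snd]; rfl), ?_⟩
    rw [h1, Functor.map_comp]
    exact q.c.naturality_assoc (eqToHom eqR) _
  have hcompat : D.map WalkingSpan.Hom.snd.op y' = w' := by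
    have e1 : D.map WalkingSpan.Hom.snd.op y' = Z.presheaf.map mR (q.c.app _ y) :=
      congr($hmR y)
    have e2 : w' = Z.presheaf.map mL (ι.c.app _ x) := congr($hmL x)
    rw [e1, e2, ← hxy, ← CommRingCat.comp_apply, ← Functor.map_comp]
    congr 3
  -- the section of `D ⋙ forget`
  have hl : IsLimit ((forget CommRingCat).mapCone (limit.cone D)) :=
    isLimitOfPreserves _ (limit.isLimit D)
  let sec : (D ⋙ forget CommRingCat).sections :=
    ⟨fun j => match j with
      | op none => w'
      | op (some WalkingPair.left) => x'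
      | op (some WalkingPair.right) => y', by
      rintro ⟨j⟩ ⟨j'⟩ f
      obtain ⟨g, rfl⟩ : ∃ g : j' ⟶ j, f = g.op := ⟨f.unop, rfl⟩
      rcases g with _ | k
      · change (D.map (𝟙 _)) _ = _
        rw [D.map_id]; rfl
      · rcases k with _ | _
        · rfl
        · exact hcompat⟩
  let z₀ : ((limit D : CommRingCat.{u}) : Type u) := (Types.isLimitEquivSections hl).symm sec
  have hz₀ : ∀ j, limit.π D j z₀ = sec.1 j := fun j =>
    Types.isLimitEquivSections_symm_apply hl sec j
  have hinj : Function.Injective (X.presheaf.map (eqToHom eqL)) := by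
    have : IsIso (X.presheaf.map (eqToHom eqL)) := inferInstance
    exact ((ConcreteCategory.isIso_iff_bijective _).mp this).1
  have hinjR : Function.Injective (Z'.presheaf.map (eqToHom eqR)) := by
    have : IsIso (Z'.presheaf.map (eqToHom eqR)) := inferInstance
    exact ((ConcreteCategory.isIso_iff_bijective _).mp this).1
  have keyL : ∀ z, limit.π D (op WalkingSpan.left) (θ.hom z) =
      X.presheaf.map (eqToHom eqL) (π.c.app _ z) := fun z => congr($hL z)
  have keyR : ∀ z, limit.π D (op WalkingSpan.right) (θ.hom z) =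
      Z'.presheaf.map (eqToHom eqR) (ι'.c.app _ z) := fun z => congr($hR z)
  refine ⟨θ.inv z₀, ⟨?_, ?_⟩, ?_⟩
  · apply hinj
    rw [← keyL]
    have : θ.hom (θ.inv z₀) = z₀ := by
      rw [← CommRingCat.comp_apply, Iso.inv_hom_id]; rfl
    rw [this]
    exact hz₀ _
  · apply hinjR
    rw [← keyR]
    have : θ.hom (θ.inv z₀) = z₀ := by
      rw [← CommRingCat.comp_apply, Iso.inv_hom_id]; rfl
    rw [this]
    exact hz₀ _
  · rintro z ⟨hz1, hz2⟩
    have hθinj : Function.Injective θ.hom :=
      ((ConcreteCategory.isIso_iff_bijective θ.hom).mp inferInstance).1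
    apply hθinj
    have : θ.hom (θ.inv z₀) = z₀ := by
      rw [← CommRingCat.comp_apply, Iso.inv_hom_id]; rfl
    rw [this]
    refine Concrete.isLimit_ext D (limit.isLimit D) _ _ ?_
    have hLz : limit.π D (op WalkingSpan.left) (θ.hom z) = limit.π D (op WalkingSpan.left) z₀ := by
      rw [keyL, hz1]; exact (hz₀ (op WalkingSpan.left)).symm
    rintro ⟨_ | _ | _⟩
    · have hw : limit.π D (op WalkingSpan.left) ≫ D.map WalkingSpan.Hom.fst.op =
          limit.π D (op WalkingSpan.zero) := limit.w D WalkingSpan.Hom.fst.op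
      change limit.π D (op WalkingSpan.zero) _ = limit.π D (op WalkingSpan.zero) _
      rw [← hw, CommRingCat.comp_apply, CommRingCat.comp_apply, hLz]
    · exact hLz
    · change limit.π D (op WalkingSpan.right) (θ.hom z) = limit.π D (op WalkingSpan.right) z₀
      rw [keyR, hz2]; exact (hz₀ (op WalkingSpan.right)).symm

end Presheafed


section Sch
variable {X Z Z' X' : Scheme.{u}} {ι : Z ⟶ X} {q : Z ⟶ Z'} {π : X ⟶ X'} {ι' : Z' ⟶ X'}

theorem appLE_congr' {P Q : Scheme.{u}} {f g : P ⟶ Q} (h : f = g) (U : Q.Opens) (V : P.Opens)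
    (e : V ≤ f ⁻¹ᵁ U) (e' : V ≤ g ⁻¹ᵁ U) : f.appLE U V e = g.appLE U V e' := by
  subst h; rfl

theorem w_of_isPushout
    (hpo : IsPushout ((Scheme.forgetToLocallyRingedSpace ⋙ LocallyRingedSpace.forgetToSheafedSpace).map ι)
      ((Scheme.forgetToLocallyRingedSpace ⋙ LocallyRingedSpace.forgetToSheafedSpace).map q)
      ((Scheme.forgetToLocallyRingedSpace ⋙ LocallyRingedSpace.forgetToSheafedSpace).map π)
      ((Scheme.forgetToLocallyRingedSpace ⋙ LocallyRingedSpace.forgetToSheafedSpace).map ι')) :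
    ι ≫ π = q ≫ ι' := by
  apply (Scheme.forgetToLocallyRingedSpace ⋙ LocallyRingedSpace.forgetToSheafedSpace).map_injective
  rw [Functor.map_comp, Functor.map_comp]
  exact hpo.w

theorem isPushout_base
    (hpo : IsPushout ((Scheme.forgetToLocallyRingedSpace ⋙ LocallyRingedSpace.forgetToSheafedSpace).map ι)
      ((Scheme.forgetToLocallyRingedSpace ⋙ LocallyRingedSpace.forgetToSheafedSpace).map q)
      ((Scheme.forgetToLocallyRingedSpace ⋙ LocallyRingedSpace.forgetToSheafedSpace).map π)
      ((Scheme.forgetToLocallyRingedSpace ⋙ LocallyRingedSpace.forgetToSheafedSpace).map ι')) :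
    IsPushout ι.base q.base π.base ι'.base :=
  hpo.map (SheafedSpace.forget _)

theorem preimage_le (hw : ι ≫ π = q ≫ ι') (U' : X'.Opens) :
    q ⁻¹ᵁ ι' ⁻¹ᵁ U' ≤ ι ⁻¹ᵁ π ⁻¹ᵁ U' := by
  rw [← Scheme.Hom.comp_preimage, ← Scheme.Hom.comp_preimage, hw]

theorem existsUnique_section
    (hpo : IsPushout ((Scheme.forgetToLocallyRingedSpace ⋙ LocallyRingedSpace.forgetToSheafedSpace).map ι)
      ((Scheme.forgetToLocallyRingedSpace ⋙ LocallyRingedSpace.forgetToSheafedSpace).map q)
      ((Scheme.forgetToLocallyRingedSpace ⋙ LocallyRingedSpace.forgetToSheafedSpace).map π)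
      ((Scheme.forgetToLocallyRingedSpace ⋙ LocallyRingedSpace.forgetToSheafedSpace).map ι'))
    (U' : X'.Opens) (x : Γ(X, π ⁻¹ᵁ U')) (y : Γ(Z', ι' ⁻¹ᵁ U'))
    (hxy : ι.appLE (π ⁻¹ᵁ U') (q ⁻¹ᵁ ι' ⁻¹ᵁ U') (preimage_le (w_of_isPushout hpo) U') x =
      q.app (ι' ⁻¹ᵁ U') y) :
    ∃! z : Γ(X', U'), π.app U' z = x ∧ ι'.app U' z = y := by
  have hpo' := hpo.map SheafedSpace.forgetToPresheafedSpace
  exact existsUnique_section_aux hpo' U' x y (preimage_le (w_of_isPushout hpo) U') hxy

end Sch

end Groth.Agent.Lib.Helper6.RSPush
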