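import Mathlib
import Groth.Agent.Lib.Helper6.RSPush
/-! Criteria for pushout squares of ringed spaces. -/

set_option autoImplicit false
set_option linter.style.haveILetI false
universe u
open CategoryTheory Limits AlgebraicGeometry TopologicalSpace Opposite

namespace Groth.Agent.Lib.Helper6.RSPush


/-- An elementary criterion for a commutative square of topological spaces to be a pushout. -/
theorem isPushout_top {Z X Z' X' : TopCat.{u}} (ι : Z ⟶ X) (q : Z ⟶ Z') (π : X ⟶ X') (ι' : Z' ⟶ X')
    (w : ι ≫ π = q ≫ ι')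
    (hsurj : ∀ x' : X', (∃ x, π x = x') ∨ (∃ z', ι' z' = x'))
    (h1 : ∀ z'₁ z'₂ : Z', ι' z'₁ = ι' z'₂ → z'₁ = z'₂)
    (h2 : ∀ (x : X) (z' : Z'), π x = ι' z' → ∃ z, ι z = x ∧ q z = z')
    (h3 : ∀ x₁ x₂ : X, π x₁ = π x₂ → x₁ = x₂ ∨ ∃ z₁ z₂, ι z₁ = x₁ ∧ ι z₂ = x₂ ∧ q z₁ = q z₂)
    (h4 : ∀ G : Set X', IsOpen (π ⁻¹' G) → IsOpen (ι' ⁻¹' G) → IsOpen G) :
    IsPushout ι q π ι' := by
  classical
  have hw : ∀ z, π (ι z) = ι' (q z) := fun z => congr($w z)
  have key : ∀ s : PushoutCocone ι q, ∃ f : X' ⟶ s.pt, π ≫ f = s.inl ∧ ι' ≫ f = s.inr := by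
    intro s
    have hs : ∀ z, s.inl (ι z) = s.inr (q z) := fun z => congr($(s.condition) z)
    let f : X' → s.pt := fun x' =>
      if h : ∃ x, π x = x' then s.inl h.choose else s.inr ((hsurj x').resolve_left h).choose
    have hf1 : ∀ x, f (π x) = s.inl x := by
      intro x
      have h : ∃ x₀, π x₀ = π x := ⟨x, rfl⟩
      simp only [f, dif_pos h]
      rcases h3 _ _ h.choose_spec with h' | ⟨z₁, z₂, e₁, e₂, e₃⟩
      · rw [h']
      · rw [← e₁, ← e₂, hs, hs, e₃]
    have hf2 : ∀ z', f (ι' z') = s.inr z' := by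
      intro z'
      by_cases h : ∃ x, π x = ι' z'
      · simp only [f, dif_pos h]
        obtain ⟨z, e₁, e₂⟩ := h2 _ _ h.choose_spec
        rw [← e₁, hs, e₂]
      · simp only [f, dif_neg h]
        rw [h1 _ _ ((hsurj (ι' z')).resolve_left h).choose_spec]
    have hcont : Continuous f := by
      rw [continuous_def]
      intro O hO
      apply h4
      · have : π ⁻¹' (f ⁻¹' O) = s.inl ⁻¹' O := by
          ext x; simp only [Set.mem_preimage, hf1]
        rw [this]; exact hO.preimage s.inl.hom.continuous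
      · have : ι' ⁻¹' (f ⁻¹' O) = s.inr ⁻¹' O := by
          ext x; simp only [Set.mem_preimage, hf2]
        rw [this]; exact hO.preimage s.inr.hom.continuous
    refine ⟨TopCat.ofHom ⟨f, hcont⟩, ?_, ?_⟩
    · ext x; exact hf1 x
    · ext x; exact hf2 x
  refine ⟨⟨w⟩, ⟨PushoutCocone.IsColimit.mk _ (fun s => (key s).choose)
    (fun s => (key s).choose_spec.1) (fun s => (key s).choose_spec.2) (fun s m hm₁ hm₂ => ?_)⟩⟩
  ext x'
  rcases hsurj x' with ⟨x, rfl⟩ | ⟨z', rfl⟩
  · have e1 := congr($hm₁ x)
    have e2 := congr($((key s).choose_spec.1) x)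
    exact e1.trans e2.symm
  · have e1 := congr($hm₂ z')
    have e2 := congr($((key s).choose_spec.2) z')
    exact e1.trans e2.symm



section Presheafed

variable {X Z Z' X' : PresheafedSpace.{u, u+1, u} CommRingCat.{u}} {ι : Z ⟶ X} {q : Z ⟶ Z'} {π : X ⟶ X'}
  {ι' : Z' ⟶ X'}

theorem compat_of_w (w : ι ≫ π = q ≫ ι') (U' : Opens X') (z : X'.presheaf.obj (op U'))
    (hle : (Opens.map q.base).obj ((Opens.map ι'.base).obj U') ≤
      (Opens.map ι.base).obj ((Opens.map π.base).obj U')) :
    Z.presheaf.map (homOfLE hle).op (ι.c.app _ (π.c.app _ z)) = q.c.app _ (ι'.c.app _ z) := by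
  have h := PresheafedSpace.congr_app w (op U')
  have he : op ((Opens.map (q ≫ ι').base).obj U') = op ((Opens.map (ι ≫ π).base).obj U') :=
    congrArg (fun f : Z ⟶ X' => op ((Opens.map f.base).obj U')) w.symm
  have h1 : ι.c.app _ (π.c.app _ z) =
      Z.presheaf.map (eqToHom he) (q.c.app _ (ι'.c.app _ z)) := congr($h z)
  refine (congrArg (Z.presheaf.map (homOfLE hle).op) h1).trans ?_
  have : (eqToHom he) ≫ (homOfLE hle).op = 𝟙 _ := Subsingleton.elim _ _
  have h2 : Z.presheaf.map (eqToHom he) ≫ Z.presheaf.map (homOfLE hle).op = 𝟙 _ := by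
    rw [← Functor.map_comp]
    erw [this, Z.presheaf.map_id]
  exact congr($h2 _)

theorem inj_of_isPushout (hpo : IsPushout ι q π ι') (U' : Opens X')
    (z₁ z₂ : X'.presheaf.obj (op U')) (h1 : π.c.app _ z₁ = π.c.app _ z₂)
    (h2 : ι'.c.app _ z₁ = ι'.c.app _ z₂) : z₁ = z₂ := by
  have hle : (Opens.map q.base).obj ((Opens.map ι'.base).obj U') ≤
      (Opens.map ι.base).obj ((Opens.map π.base).obj U') := by
    rw [← Opens.map_comp_obj, ← Opens.map_comp_obj, ← PresheafedSpace.comp_base,
      ← PresheafedSpace.comp_base, hpo.w]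
  obtain ⟨z, -, hu⟩ := existsUnique_section_aux hpo U' _ _ hle (compat_of_w hpo.w U' z₂ hle)
  rw [hu z₁ ⟨h1, h2⟩, hu z₂ ⟨rfl, rfl⟩]

end Presheafed

section LemmaB

variable {X Z Z' X' : SheafedSpace.{u+1, u, u} CommRingCat.{u}} {ι : Z ⟶ X} {q : Z ⟶ Z'}
  {π : X ⟶ X'} {ι' : Z' ⟶ X'}

theorem isPushout_of_sections (w : ι ≫ π = q ≫ ι')
    (hT : IsPushout ι.hom.base q.hom.base π.hom.base ι'.hom.base)
    (hinj : ∀ (U' : Opens X') (z₁ z₂ : X'.presheaf.obj (op U')),
      π.hom.c.app _ z₁ = π.hom.c.app _ z₂ → ι'.hom.c.app _ z₁ = ι'.hom.c.app _ z₂ → z₁ = z₂)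
    (hex : ∀ (U' : Opens X') (x : X.presheaf.obj (op ((Opens.map π.hom.base).obj U')))
      (y : Z'.presheaf.obj (op ((Opens.map ι'.hom.base).obj U')))
      (hle : (Opens.map q.hom.base).obj ((Opens.map ι'.hom.base).obj U') ≤
        (Opens.map ι.hom.base).obj ((Opens.map π.hom.base).obj U')),
      Z.presheaf.map (homOfLE hle).op (ι.hom.c.app _ x) = q.hom.c.app _ y →
      ∃ z : X'.presheaf.obj (op U'), π.hom.c.app _ z = x ∧ ι'.hom.c.app _ z = y) :
    IsPushout ι q π ι' := by
  have hP := IsPushout.of_hasPushout ι q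
  let d : pushout ι q ⟶ X' := pushout.desc π ι' w
  have hd1 : pushout.inl ι q ≫ d = π := pushout.inl_desc _ _ _
  have hd2 : pushout.inr ι q ≫ d = ι' := pushout.inr_desc _ _ _
  suffices IsIso d from
    IsPushout.of_iso hP (Iso.refl _) (Iso.refl _) (Iso.refl _) (asIso d) (by simp) (by simp)
      (by simpa using hd1) (by simpa using hd2)
  have hPp := hP.map SheafedSpace.forgetToPresheafedSpace
  have hPt := hP.map (SheafedSpace.forget CommRingCat.{u})
  -- the base map is an isomorphism
  have hT' : IsPushout ((SheafedSpace.forget CommRingCat.{u}).map ι)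
      ((SheafedSpace.forget CommRingCat.{u}).map q) ((SheafedSpace.forget CommRingCat.{u}).map π)
      ((SheafedSpace.forget CommRingCat.{u}).map ι') := hT
  have hbase : IsIso ((SheafedSpace.forget CommRingCat.{u}).map d) := by
    have : (SheafedSpace.forget CommRingCat.{u}).map d = (hPt.isoIsPushout _ _ hT').hom := by
      apply hPt.hom_ext
      · rw [IsPushout.inl_isoIsPushout_hom, ← Functor.map_comp, hd1]
      · rw [IsPushout.inr_isoIsPushout_hom, ← Functor.map_comp, hd2]
    rw [this]; infer_instance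
  have hbase' : IsIso d.hom.base := hbase
  have hd1' : (pushout.inl ι q).hom ≫ d.hom = π.hom := congrArg (fun f => f.hom) hd1
  have hd2' : (pushout.inr ι q).hom ≫ d.hom = ι'.hom := congrArg (fun f => f.hom) hd2
  have hc : IsIso d.hom.c := by
    apply (config := {allowSynthFailures := true}) NatIso.isIso_of_isIso_app
    intro U
    induction U using Opposite.rec with | _ U' => ?_
    have eX : op ((Opens.map ((pushout.inl ι q).hom ≫ d.hom).base).obj U') =
        op ((Opens.map π.hom.base).obj U') :=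
      congrArg (fun f : X.toPresheafedSpace ⟶ X'.toPresheafedSpace =>
        op ((Opens.map f.base).obj U')) hd1'
    have eZ' : op ((Opens.map ((pushout.inr ι q).hom ≫ d.hom).base).obj U') =
        op ((Opens.map ι'.hom.base).obj U') :=
      congrArg (fun f : Z'.toPresheafedSpace ⟶ X'.toPresheafedSpace =>
        op ((Opens.map f.base).obj U')) hd2'
    have keyπ : π.hom.c.app (op U') = d.hom.c.app (op U') ≫
        (pushout.inl ι q).hom.c.app _ ≫ X.presheaf.map (eqToHom eX) := by
      rw [PresheafedSpace.congr_app hd1'.symm (op U')]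
      rfl
    have keyι' : ι'.hom.c.app (op U') = d.hom.c.app (op U') ≫
        (pushout.inr ι q).hom.c.app _ ≫ Z'.presheaf.map (eqToHom eZ') := by
      rw [PresheafedSpace.congr_app hd2'.symm (op U')]
      rfl
    have hXinj : Function.Injective (X.presheaf.map (eqToHom eX)) :=
      ((ConcreteCategory.isIso_iff_bijective _).mp inferInstance).1
    have hZ'inj : Function.Injective (Z'.presheaf.map (eqToHom eZ')) :=
      ((ConcreteCategory.isIso_iff_bijective _).mp inferInstance).1
    rw [ConcreteCategory.isIso_iff_bijective]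
    constructor
    · intro z₁ z₂ h
      apply hinj U'
      · have e1 := congr($keyπ z₁)
        have e2 := congr($keyπ z₂)
        rw [e1, e2]
        simp only [CommRingCat.comp_apply]
        rw [h]
      · have e1 := congr($keyι' z₁)
        have e2 := congr($keyι' z₂)
        rw [e1, e2]
        simp only [CommRingCat.comp_apply]
        rw [h]
    · intro v
      let V : Opens (pushout ι q).carrier := (Opens.map d.hom.base).obj U'
      have hleP : (Opens.map q.hom.base).obj ((Opens.map (pushout.inr ι q).hom.base).obj V) ≤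
          (Opens.map ι.hom.base).obj ((Opens.map (pushout.inl ι q).hom.base).obj V) := by
        rw [← Opens.map_comp_obj, ← Opens.map_comp_obj, ← PresheafedSpace.comp_base,
          ← PresheafedSpace.comp_base]
        exact le_of_eq (congrArg (fun f : Z.toPresheafedSpace ⟶ _ =>
          (Opens.map f.base).obj V) hPp.w.symm)
      have hle : (Opens.map q.hom.base).obj ((Opens.map ι'.hom.base).obj U') ≤
          (Opens.map ι.hom.base).obj ((Opens.map π.hom.base).obj U') := by
        rw [← Opens.map_comp_obj, ← Opens.map_comp_obj, ← PresheafedSpace.comp_base,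
          ← PresheafedSpace.comp_base]
        exact le_of_eq (congrArg (fun f : Z.toPresheafedSpace ⟶ _ =>
          (Opens.map f.base).obj U') (congrArg (fun f => f.hom) w).symm)
      have hcompat : Z.presheaf.map (homOfLE hleP).op
          (ι.hom.c.app _ ((pushout.inl ι q).hom.c.app (op V) v)) =
          q.hom.c.app _ ((pushout.inr ι q).hom.c.app (op V) v) := compat_of_w hPp.w V v hleP
      obtain ⟨z, hz1, hz2⟩ := hex U' (X.presheaf.map (eqToHom eX) ((pushout.inl ι q).hom.c.app _ v))
        (Z'.presheaf.map (eqToHom eZ') ((pushout.inr ι q).hom.c.app _ v)) hle (by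
          have n1 := congr($(ι.hom.c.naturality (eqToHom eX)) ((pushout.inl ι q).hom.c.app _ v))
          have n2 := congr($(q.hom.c.naturality (eqToHom eZ')) ((pushout.inr ι q).hom.c.app _ v))
          simp only [CommRingCat.comp_apply] at n1 n2
          refine (congrArg (Z.presheaf.map (homOfLE hle).op) n1).trans (Eq.trans ?_ n2.symm)
          refine Eq.trans ?_ (congrArg _ hcompat)
          change (Z.presheaf.map _ ≫ Z.presheaf.map _) _ = (Z.presheaf.map _ ≫ Z.presheaf.map _) _
          rw [← Functor.map_comp, ← Functor.map_comp]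
          congr 3)
      refine ⟨z, ?_⟩
      apply inj_of_isPushout hPp V
      · apply hXinj
        have e1 := congr($keyπ z)
        rw [hz1] at e1
        exact e1.symm
      · apply hZ'inj
        have e1 := congr($keyι' z)
        rw [hz2] at e1
        exact e1.symm
  have : IsIso (SheafedSpace.forgetToPresheafedSpace.map d) :=
    PresheafedSpace.isIso_of_components d.hom
  exact isIso_of_reflects_iso d SheafedSpace.forgetToPresheafedSpace

end LemmaB

end Groth.Agent.Lib.Helper6.RSPush
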