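import Mathlib
import Groth.Agent.Lib.Helper6.RSCrit
import Groth.Agent.Lib.Helper6.PinchPts
/-! Local affine pinching data implies pushout of ringed spaces. -/

set_option autoImplicit false
set_option linter.style.haveILetI false
universe u
open CategoryTheory Limits AlgebraicGeometry TopologicalSpace Opposite
open Groth.Agent.Lib.Helper6

namespace Groth.Agent.Lib.Helper6.RSPush


section Sch
variable {X Z Z' X' : Scheme.{u}} (ι : Z ⟶ X) (q : Z ⟶ Z') (π : X ⟶ X') (ι' : Z' ⟶ X')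

/-- joint injectivity of sections over `W`. -/
def InjAt (W : X'.Opens) : Prop :=
  ∀ z : Γ(X', W), π.app W z = 0 → ι'.app W z = 0 → z = 0

/-- existence of glued sections over `W`. -/
def ExAt (hw : ι ≫ π = q ≫ ι') (W : X'.Opens) : Prop :=
  ∀ (x : Γ(X, π ⁻¹ᵁ W)) (y : Γ(Z', ι' ⁻¹ᵁ W)),
    ι.appLE (π ⁻¹ᵁ W) (q ⁻¹ᵁ ι' ⁻¹ᵁ W) (preimage_le hw W) x = q.app (ι' ⁻¹ᵁ W) y →
    ∃ z : Γ(X', W), π.app W z = x ∧ ι'.app W z = y

variable {ι q π ι'}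

theorem InjAt.eq {W : X'.Opens} (h : InjAt π ι' W) (z₁ z₂ : Γ(X', W))
    (h1 : π.app W z₁ = π.app W z₂) (h2 : ι'.app W z₁ = ι'.app W z₂) : z₁ = z₂ := by
  rw [← sub_eq_zero]
  apply h
  · rw [map_sub, h1, sub_self]
  · rw [map_sub, h2, sub_self]

theorem injAt_of_basis (𝓑 : Set X'.Opens) (h𝓑 : Opens.IsBasis 𝓑)
    (h : ∀ W ∈ 𝓑, InjAt π ι' W) (U' : X'.Opens) : InjAt π ι' U' := by
  intro s hsa hsb
  refine X'.IsSheaf.section_ext fun x hx ↦ ?_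
  obtain ⟨V, hV, hxV, hVO⟩ := Opens.isBasis_iff_nbhd.mp h𝓑 hx
  refine ⟨V, hVO, hxV, ?_⟩
  rw [map_zero]
  apply h V hV
  · rw [← ConcreteCategory.comp_apply, π.naturality]
    simp [hsa]
  · rw [← ConcreteCategory.comp_apply, ι'.naturality]
    simp [hsb]

theorem exAt_of_basis (hw : ι ≫ π = q ≫ ι') (𝓑 : Set X'.Opens) (h𝓑 : Opens.IsBasis 𝓑)
    (hI : ∀ U', InjAt π ι' U') (hE : ∀ W ∈ 𝓑, ExAt ι q π ι' hw W) (U' : X'.Opens) :
    ExAt ι q π ι' hw U' := by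
  intro x y hxy
  let I := {W : X'.Opens // W ∈ 𝓑 ∧ W ≤ U'}
  let Uf : I → X'.Opens := fun W => W.1
  have hcov : U' ≤ iSup Uf := by
    intro p hp
    obtain ⟨V, hV, hpV, hVO⟩ := Opens.isBasis_iff_nbhd.mp h𝓑 hp
    exact Opens.mem_iSup.mpr ⟨⟨V, hV, hVO⟩, hpV⟩
  have hloc : ∀ W : I, ∃ z : Γ(X', W.1),
      π.app W.1 z = X.presheaf.map (homOfLE (π.preimage_mono W.2.2)).op x ∧
      ι'.app W.1 z = Z'.presheaf.map (homOfLE (ι'.preimage_mono W.2.2)).op y := by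
    intro W
    apply hE W.1 W.2.1
    have e1 : ι.appLE (π ⁻¹ᵁ W.1) (q ⁻¹ᵁ ι' ⁻¹ᵁ W.1) (preimage_le hw W.1)
        (X.presheaf.map (homOfLE (π.preimage_mono W.2.2)).op x) =
        Z.presheaf.map (homOfLE (q.preimage_mono (ι'.preimage_mono W.2.2))).op
          (ι.appLE (π ⁻¹ᵁ U') (q ⁻¹ᵁ ι' ⁻¹ᵁ U') (preimage_le hw U') x) := by
      rw [← CommRingCat.comp_apply, ← CommRingCat.comp_apply, Scheme.Hom.map_appLE,
        Scheme.Hom.appLE_map]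
    have e2 : q.app (ι' ⁻¹ᵁ W.1) (Z'.presheaf.map (homOfLE (ι'.preimage_mono W.2.2)).op y) =
        Z.presheaf.map (homOfLE (q.preimage_mono (ι'.preimage_mono W.2.2))).op
          (q.app (ι' ⁻¹ᵁ U') y) := by
      rw [← CommRingCat.comp_apply, ← CommRingCat.comp_apply, q.naturality]
      rfl
    rw [e1, e2, hxy]
  choose sf hsf1 hsf2 using hloc
  have hcompat : TopCat.Presheaf.IsCompatible X'.presheaf Uf sf := by
    intro W₁ W₂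
    apply (hI (Uf W₁ ⊓ Uf W₂)).eq
    · rw [← CommRingCat.comp_apply, ← CommRingCat.comp_apply, π.naturality, π.naturality,
        CommRingCat.comp_apply, CommRingCat.comp_apply, hsf1, hsf1,
        ← CommRingCat.comp_apply, ← CommRingCat.comp_apply, ← Functor.map_comp,
        ← Functor.map_comp]
      rfl
    · rw [← CommRingCat.comp_apply, ← CommRingCat.comp_apply, ι'.naturality, ι'.naturality,
        CommRingCat.comp_apply, CommRingCat.comp_apply, hsf2, hsf2,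
        ← CommRingCat.comp_apply, ← CommRingCat.comp_apply, ← Functor.map_comp,
        ← Functor.map_comp]
      rfl
  obtain ⟨z, hz, -⟩ := X'.sheaf.existsUnique_gluing' Uf U' (fun W => homOfLE W.2.2) hcov sf hcompat
  refine ⟨z, ?_, ?_⟩
  · apply X.sheaf.eq_of_locally_eq' (fun W : I => π ⁻¹ᵁ W.1) (π ⁻¹ᵁ U')
      (fun W => homOfLE (π.preimage_mono W.2.2))
    · intro p hp
      have := hcov hp
      obtain ⟨W, hW⟩ := Opens.mem_iSup.mp this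
      exact Opens.mem_iSup.mpr ⟨W, hW⟩
    · intro W
      have h1 : X.presheaf.map (homOfLE (π.preimage_mono W.2.2)).op (π.app U' z) =
          π.app W.1 (X'.presheaf.map (homOfLE W.2.2).op z) := by
        rw [← CommRingCat.comp_apply, ← CommRingCat.comp_apply, π.naturality]
        rfl
      exact h1.trans ((congrArg _ (hz W)).trans (hsf1 W))
  · apply Z'.sheaf.eq_of_locally_eq' (fun W : I => ι' ⁻¹ᵁ W.1) (ι' ⁻¹ᵁ U')
      (fun W => homOfLE (ι'.preimage_mono W.2.2))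
    · intro p hp
      have := hcov hp
      obtain ⟨W, hW⟩ := Opens.mem_iSup.mp this
      exact Opens.mem_iSup.mpr ⟨W, hW⟩
    · intro W
      have h1 : Z'.presheaf.map (homOfLE (ι'.preimage_mono W.2.2)).op (ι'.app U' z) =
          ι'.app W.1 (X'.presheaf.map (homOfLE W.2.2).op z) := by
        rw [← CommRingCat.comp_apply, ← CommRingCat.comp_apply, ι'.naturality]
        rfl
      exact h1.trans ((congrArg _ (hz W)).trans (hsf2 W))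

end Sch


theorem isAwayHom_map {P : Scheme.{u}} {U V : P.Opens} (hU : IsAffineOpen U) (f : Γ(P, U))
    (i : V ⟶ U) (e : V = P.basicOpen f) : PinchAlg.IsAwayHom (P.presheaf.map i.op).hom f := by
  let _ : Algebra Γ(P, U) Γ(P, V) := (P.presheaf.map i.op).hom.toAlgebra
  have : IsLocalization.Away f Γ(P, V) := hU.isLocalization_of_eq_basicOpen f i e
  exact PinchAlg.IsAwayHom.of_isLocalization f

section Sch
variable {X Z Z' X' : Scheme.{u}} {ι : Z ⟶ X} {q : Z ⟶ Z'} {π : X ⟶ X'} {ι' : Z' ⟶ X'}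

/-- affine pinching data over an open `W` of `X'`. -/
structure PinchAt (hw : ι ≫ π = q ≫ ι') (W : X'.Opens) : Prop where
  affW : IsAffineOpen W
  affX : IsAffineOpen (π ⁻¹ᵁ W)
  affZ' : IsAffineOpen (ι' ⁻¹ᵁ W)
  affZ : IsAffineOpen (q ⁻¹ᵁ ι' ⁻¹ᵁ W)
  surj : Function.Surjective (ι.appLE (π ⁻¹ᵁ W) (q ⁻¹ᵁ ι' ⁻¹ᵁ W) (preimage_le hw W))
  ex : ExAt ι q π ι' hw W
  inj : InjAt π ι' W

variable {hw : ι ≫ π = q ≫ ι'} {W : X'.Opens}

theorem comm_app (hw : ι ≫ π = q ≫ ι') (W : X'.Opens) (c : Γ(X', W)) :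
    q.app (ι' ⁻¹ᵁ W) (ι'.app W c) =
      ι.appLE (π ⁻¹ᵁ W) (q ⁻¹ᵁ ι' ⁻¹ᵁ W) (preimage_le hw W) (π.app W c) := by
  have h : π.app W ≫ ι.appLE (π ⁻¹ᵁ W) (q ⁻¹ᵁ ι' ⁻¹ᵁ W) (preimage_le hw W) =
      ι'.app W ≫ q.app (ι' ⁻¹ᵁ W) := by
    rw [← Scheme.Hom.appLE_eq_app (f := π), Scheme.Hom.appLE_comp_appLE,
      ← Scheme.Hom.comp_app]
    rw [← Scheme.Hom.appLE_eq_app]
    exact Pinch.appLE_congr' hw _ _ _ _
  exact congr($h c).symm

theorem PinchAt.exAt_basicOpen (h : PinchAt hw W) (f : Γ(X', W)) :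
    ExAt ι q π ι' hw (X'.basicOpen f) := by
  intro s t hst
  have hD : X'.basicOpen f ≤ W := X'.basicOpen_le f
  have eX : π ⁻¹ᵁ X'.basicOpen f = X.basicOpen (π.app W f) := Scheme.preimage_basicOpen π f
  have eZ' : ι' ⁻¹ᵁ X'.basicOpen f = Z'.basicOpen (ι'.app W f) := Scheme.preimage_basicOpen ι' f
  have eZ : q ⁻¹ᵁ ι' ⁻¹ᵁ X'.basicOpen f = Z.basicOpen (q.app (ι' ⁻¹ᵁ W) (ι'.app W f)) := by
    rw [eZ', Scheme.preimage_basicOpen]
  obtain ⟨r', h1, h2⟩ := PinchAlg.pb_away (C := Γ(X', W)) (B := Γ(Z', ι' ⁻¹ᵁ W))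
    (A' := Γ(X, π ⁻¹ᵁ W)) (A := Γ(Z, q ⁻¹ᵁ ι' ⁻¹ᵁ W))
    (ι'.app W).hom (π.app W).hom (q.app (ι' ⁻¹ᵁ W)).hom
    (ι.appLE (π ⁻¹ᵁ W) (q ⁻¹ᵁ ι' ⁻¹ᵁ W) (preimage_le hw W)).hom
    (comm_app hw W) (fun b a' hba => by
      obtain ⟨c, hc1, hc2⟩ := h.ex a' b hba.symm
      exact ⟨c, hc2, hc1⟩)
    (X'.presheaf.map (homOfLE hD).op).hom
    (Z'.presheaf.map (homOfLE (ι'.preimage_mono hD)).op).hom
    (X.presheaf.map (homOfLE (π.preimage_mono hD)).op).hom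
    (Z.presheaf.map (homOfLE (q.preimage_mono (ι'.preimage_mono hD))).op).hom f
    (isAwayHom_map h.affW f _ rfl)
    (isAwayHom_map h.affZ' (ι'.app W f) _ eZ')
    (isAwayHom_map h.affX (π.app W f) _ eX)
    (isAwayHom_map h.affZ (q.app (ι' ⁻¹ᵁ W) (ι'.app W f)) _ eZ)
    (ι'.app (X'.basicOpen f)).hom (π.app (X'.basicOpen f)).hom
    (q.app (ι' ⁻¹ᵁ X'.basicOpen f)).hom
    (ι.appLE (π ⁻¹ᵁ X'.basicOpen f) (q ⁻¹ᵁ ι' ⁻¹ᵁ X'.basicOpen f)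
      (preimage_le hw (X'.basicOpen f))).hom
    (fun c => by
      change (X'.presheaf.map _ ≫ ι'.app _) c = (ι'.app _ ≫ Z'.presheaf.map _) c
      rw [ι'.naturality]; rfl)
    (fun c => by
      change (X'.presheaf.map _ ≫ π.app _) c = (π.app _ ≫ X.presheaf.map _) c
      rw [π.naturality]; rfl)
    (fun b => by
      change (Z'.presheaf.map _ ≫ q.app _) b = (q.app _ ≫ Z.presheaf.map _) b
      rw [q.naturality]; rfl)
    (fun a' => by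
      change (X.presheaf.map _ ≫ ι.appLE _ _ _) a' = (ι.appLE _ _ _ ≫ Z.presheaf.map _) a'
      rw [Scheme.Hom.map_appLE, Scheme.Hom.appLE_map])
    t s hst.symm
  exact ⟨r', h2, h1⟩

theorem PinchAt.injAt_basicOpen (h : PinchAt hw W) (f : Γ(X', W)) :
    InjAt π ι' (X'.basicOpen f) := by
  intro s h1 h2
  have hD : X'.basicOpen f ≤ W := X'.basicOpen_le f
  have eX : π ⁻¹ᵁ X'.basicOpen f = X.basicOpen (π.app W f) := Scheme.preimage_basicOpen π f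
  have eZ' : ι' ⁻¹ᵁ X'.basicOpen f = Z'.basicOpen (ι'.app W f) := Scheme.preimage_basicOpen ι' f
  exact PinchAlg.inj_away (C := Γ(X', W)) (B := Γ(Z', ι' ⁻¹ᵁ W)) (A' := Γ(X, π ⁻¹ᵁ W))
    (ι'.app W).hom (π.app W).hom (fun c hc1 hc2 => h.inj c hc2 hc1)
    (X'.presheaf.map (homOfLE hD).op).hom
    (Z'.presheaf.map (homOfLE (ι'.preimage_mono hD)).op).hom
    (X.presheaf.map (homOfLE (π.preimage_mono hD)).op).hom f
    (isAwayHom_map h.affW f _ rfl)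
    (isAwayHom_map h.affZ' (ι'.app W f) _ eZ')
    (isAwayHom_map h.affX (π.app W f) _ eX)
    (ι'.app (X'.basicOpen f)).hom (π.app (X'.basicOpen f)).hom
    (fun c => by
      change (X'.presheaf.map _ ≫ ι'.app _) c = (ι'.app _ ≫ Z'.presheaf.map _) c
      rw [ι'.naturality]; rfl)
    (fun c => by
      change (X'.presheaf.map _ ≫ π.app _) c = (π.app _ ≫ X.presheaf.map _) c
      rw [π.naturality]; rfl)
    s h2 h1

end Sch


theorem resLE_appTop_apply {X Y : Scheme.{u}} (f : X ⟶ Y) (U : Y.Opens) (V : X.Opens)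
    (e : V ≤ f ⁻¹ᵁ U) (c : Γ(U.toScheme, ⊤)) :
    (f.resLE U V e).appTop c = V.topIso.inv (f.appLE U V e (U.topIso.hom c)) := by
  rw [Scheme.Hom.appTop, Scheme.Hom.resLE_app_top]
  rfl

theorem topIso_hom_inv {X : Scheme.{u}} (U : X.Opens) (s : Γ(X, U)) :
    U.topIso.hom (U.topIso.inv s) = s := by
  rw [← CommRingCat.comp_apply, Iso.inv_hom_id]; rfl

theorem topIso_inv_hom {X : Scheme.{u}} (U : X.Opens) (s : Γ(U.toScheme, ⊤)) :
    U.topIso.inv (U.topIso.hom s) = s := by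
  rw [← CommRingCat.comp_apply, Iso.hom_inv_id]; rfl

theorem topIso_inv_injective {X : Scheme.{u}} (U : X.Opens) :
    Function.Injective U.topIso.inv := fun a b hab => by
  rw [← topIso_hom_inv U a, ← topIso_hom_inv U b, hab]

section Sch
variable {X Z Z' X' : Scheme.{u}} {ι : Z ⟶ X} {q : Z ⟶ Z'} {π : X ⟶ X'} {ι' : Z' ⟶ X'}

variable (hw : ι ≫ π = q ≫ ι') (W : X'.Opens)

/-- restricted legs -/
noncomputable def aW : (π ⁻¹ᵁ W).toScheme ⟶ W.toScheme := π.resLE W (π ⁻¹ᵁ W) le_rfl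
noncomputable def bW : (ι' ⁻¹ᵁ W).toScheme ⟶ W.toScheme := ι'.resLE W (ι' ⁻¹ᵁ W) le_rfl
noncomputable def iW : (q ⁻¹ᵁ ι' ⁻¹ᵁ W).toScheme ⟶ (π ⁻¹ᵁ W).toScheme :=
  ι.resLE (π ⁻¹ᵁ W) (q ⁻¹ᵁ ι' ⁻¹ᵁ W) (preimage_le hw W)
noncomputable def jW : (q ⁻¹ᵁ ι' ⁻¹ᵁ W).toScheme ⟶ (ι' ⁻¹ᵁ W).toScheme :=
  q.resLE (ι' ⁻¹ᵁ W) (q ⁻¹ᵁ ι' ⁻¹ᵁ W) le_rfl

theorem commW : iW hw W ≫ aW (π := π) W = jW (q := q) (ι' := ι') W ≫ bW W := by
  rw [← cancel_mono W.ι]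
  simp only [iW, aW, jW, bW, Category.assoc, Scheme.Hom.resLE_comp_ι,
    Scheme.Hom.resLE_comp_ι_assoc, hw]

variable {hw W}

section data
variable (h : PinchAt hw W)
include h

theorem hsurjW : Function.Surjective (iW hw W).appTop := by
  intro t
  obtain ⟨x₀, hx₀⟩ := h.surj ((q ⁻¹ᵁ ι' ⁻¹ᵁ W).topIso.hom t)
  refine ⟨(π ⁻¹ᵁ W).topIso.inv x₀, ?_⟩
  rw [iW, resLE_appTop_apply, topIso_hom_inv, hx₀, topIso_inv_hom]

theorem hPBW (y : Γ((ι' ⁻¹ᵁ W).toScheme, ⊤)) (x : Γ((π ⁻¹ᵁ W).toScheme, ⊤))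
    (hyx : (jW (q := q) (ι' := ι') W).appTop y = (iW hw W).appTop x) :
    ∃ c : Γ(W.toScheme, ⊤), (bW (ι' := ι') W).appTop c = y ∧ (aW (π := π) W).appTop c = x := by
  rw [jW, iW, resLE_appTop_apply, resLE_appTop_apply] at hyx
  have h1 := topIso_inv_injective _ hyx
  rw [Scheme.Hom.appLE_eq_app] at h1
  obtain ⟨z₀, hz1, hz2⟩ := h.ex _ _ h1.symm
  refine ⟨W.topIso.inv z₀, ?_, ?_⟩
  · rw [bW, resLE_appTop_apply, topIso_hom_inv, Scheme.Hom.appLE_eq_app, hz2, topIso_inv_hom]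
  · rw [aW, resLE_appTop_apply, topIso_hom_inv, Scheme.Hom.appLE_eq_app, hz1, topIso_inv_hom]

theorem hINJW (c : Γ(W.toScheme, ⊤)) (h1 : (bW (ι' := ι') W).appTop c = 0)
    (h2 : (aW (π := π) W).appTop c = 0) : c = 0 := by
  rw [bW, resLE_appTop_apply, Scheme.Hom.appLE_eq_app] at h1
  rw [aW, resLE_appTop_apply, Scheme.Hom.appLE_eq_app] at h2
  have e1 : ι'.app W (W.topIso.hom c) = 0 := by
    apply topIso_inv_injective; rw [h1, map_zero]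
  have e2 : π.app W (W.topIso.hom c) = 0 := by
    apply topIso_inv_injective; rw [h2, map_zero]
  have := h.inj _ e2 e1
  rw [← topIso_inv_hom W c, this, map_zero]

end data

end Sch


section Sch
variable {X Z Z' X' : Scheme.{u}} {ι : Z ⟶ X} {q : Z ⟶ Z'} {π : X ⟶ X'} {ι' : Z' ⟶ X'}
  {hw : ι ≫ π = q ≫ ι'} {W : X'.Opens}

section data
variable (h : PinchAt hw W)
include h

theorem PinchAt.jointlySurj (x' : X') (hx' : x' ∈ W) :
    (∃ x : X, π x = x') ∨ (∃ z' : Z', ι' z' = x') := by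
  haveI : IsAffine W.toScheme := h.affW
  haveI : IsAffine (π ⁻¹ᵁ W).toScheme := h.affX
  haveI : IsAffine (ι' ⁻¹ᵁ W).toScheme := h.affZ'
  haveI : IsAffine (q ⁻¹ᵁ ι' ⁻¹ᵁ W).toScheme := h.affZ
  rcases PinchAff.jointlySurj (iW hw W) (jW W) (aW W) (bW W) (commW hw W) (hsurjW h) (hPBW h)
    (hINJW h) ⟨x', hx'⟩ with ⟨x, hx⟩ | ⟨y, hy⟩
  · left
    refine ⟨x.1, ?_⟩
    have := congrArg Subtype.val hx
    rwa [aW, Scheme.Hom.coe_resLE_apply] at this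
  · right
    refine ⟨y.1, ?_⟩
    have := congrArg Subtype.val hy
    rwa [bW, Scheme.Hom.coe_resLE_apply] at this

theorem PinchAt.inj_ι' (z'₁ z'₂ : Z') (h1 : ι' z'₁ ∈ W) (h2 : ι' z'₁ = ι' z'₂) : z'₁ = z'₂ := by
  haveI : IsAffine W.toScheme := h.affW
  haveI : IsAffine (π ⁻¹ᵁ W).toScheme := h.affX
  haveI : IsAffine (ι' ⁻¹ᵁ W).toScheme := h.affZ'
  haveI : IsAffine (q ⁻¹ᵁ ι' ⁻¹ᵁ W).toScheme := h.affZ
  have hinj := PinchAff.b_injective (iW hw W) (jW W) (aW W) (bW W) (hsurjW h) (hPBW h)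
  have h1' : z'₁ ∈ ι' ⁻¹ᵁ W := h1
  have h2' : z'₂ ∈ ι' ⁻¹ᵁ W := by change ι' z'₂ ∈ W; rw [← h2]; exact h1
  have : (⟨z'₁, h1'⟩ : (ι' ⁻¹ᵁ W).toScheme) = ⟨z'₂, h2'⟩ := by
    apply hinj
    apply Subtype.ext
    rw [bW, Scheme.Hom.coe_resLE_apply, Scheme.Hom.coe_resLE_apply]
    exact h2
  exact congrArg Subtype.val this

theorem PinchAt.exists_of_eq (x : X) (z' : Z') (h1 : π x ∈ W) (h2 : π x = ι' z') :
    ∃ z : Z, ι z = x ∧ q z = z' := by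
  haveI : IsAffine W.toScheme := h.affW
  haveI : IsAffine (π ⁻¹ᵁ W).toScheme := h.affX
  haveI : IsAffine (ι' ⁻¹ᵁ W).toScheme := h.affZ'
  haveI : IsAffine (q ⁻¹ᵁ ι' ⁻¹ᵁ W).toScheme := h.affZ
  have h1' : x ∈ π ⁻¹ᵁ W := h1
  have h2' : z' ∈ ι' ⁻¹ᵁ W := by change ι' z' ∈ W; rw [← h2]; exact h1
  obtain ⟨z, hz1, hz2⟩ := PinchAff.exists_of_a_eq_b (iW hw W) (jW W) (aW W) (bW W) (commW hw W)
    (hsurjW h) (hPBW h) ⟨x, h1'⟩ ⟨z', h2'⟩ (by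
      apply Subtype.ext
      rw [aW, bW, Scheme.Hom.coe_resLE_apply, Scheme.Hom.coe_resLE_apply]
      exact h2)
  refine ⟨z.1, ?_, ?_⟩
  · have := congrArg Subtype.val hz1
    rwa [iW, Scheme.Hom.coe_resLE_apply] at this
  · have := congrArg Subtype.val hz2
    rwa [jW, Scheme.Hom.coe_resLE_apply] at this

theorem PinchAt.eq_or_of_eq (x₁ x₂ : X) (h1 : π x₁ ∈ W) (h2 : π x₁ = π x₂) :
    x₁ = x₂ ∨ ∃ z₁ z₂ : Z, ι z₁ = x₁ ∧ ι z₂ = x₂ ∧ q z₁ = q z₂ := by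
  haveI : IsAffine W.toScheme := h.affW
  haveI : IsAffine (π ⁻¹ᵁ W).toScheme := h.affX
  haveI : IsAffine (ι' ⁻¹ᵁ W).toScheme := h.affZ'
  haveI : IsAffine (q ⁻¹ᵁ ι' ⁻¹ᵁ W).toScheme := h.affZ
  have h1' : x₁ ∈ π ⁻¹ᵁ W := h1
  have h2' : x₂ ∈ π ⁻¹ᵁ W := by change π x₂ ∈ W; rw [← h2]; exact h1
  rcases PinchAff.a_eq_a (iW hw W) (jW W) (aW W) (bW W) (commW hw W)
    (hsurjW h) (hPBW h) ⟨x₁, h1'⟩ ⟨x₂, h2'⟩ (by
      apply Subtype.ext
      rw [aW, Scheme.Hom.coe_resLE_apply, Scheme.Hom.coe_resLE_apply]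
      exact h2) with heq | ⟨z₁, z₂, e1, e2, e3⟩
  · left; exact congrArg Subtype.val heq
  · right
    refine ⟨z₁.1, z₂.1, ?_, ?_, ?_⟩
    · have := congrArg Subtype.val e1
      rwa [iW, Scheme.Hom.coe_resLE_apply] at this
    · have := congrArg Subtype.val e2
      rwa [iW, Scheme.Hom.coe_resLE_apply] at this
    · have := congrArg Subtype.val e3
      rwa [jW, Scheme.Hom.coe_resLE_apply, Scheme.Hom.coe_resLE_apply] at this

end data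
end Sch


section Sch
variable {X Z Z' X' : Scheme.{u}} {ι : Z ⟶ X} {q : Z ⟶ Z'} {π : X ⟶ X'} {ι' : Z' ⟶ X'}
  {hw : ι ≫ π = q ≫ ι'} {W : X'.Opens}

theorem PinchAt.exists_nhd (h : PinchAt hw W) (G : Set X') (hG1 : IsOpen (π ⁻¹' G))
    (hG2 : IsOpen (ι' ⁻¹' G)) (x' : X') (hx'G : x' ∈ G) (hx'W : x' ∈ W) :
    ∃ N : X'.Opens, x' ∈ N ∧ (N : Set X') ⊆ G := by
  haveI : IsAffine W.toScheme := h.affW
  haveI : IsAffine (π ⁻¹ᵁ W).toScheme := h.affX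
  haveI : IsAffine (ι' ⁻¹ᵁ W).toScheme := h.affZ'
  haveI : IsAffine (q ⁻¹ᵁ ι' ⁻¹ᵁ W).toScheme := h.affZ
  let OX : (π ⁻¹ᵁ W).toScheme.Opens := (π ⁻¹ᵁ W).ι ⁻¹ᵁ ⟨π ⁻¹' G, hG1⟩
  let OY : (ι' ⁻¹ᵁ W).toScheme.Opens := (ι' ⁻¹ᵁ W).ι ⁻¹ᵁ ⟨ι' ⁻¹' G, hG2⟩
  have hpt : ∀ z : Z, π (ι z) = ι' (q z) := fun z => by
    rw [← Scheme.Hom.comp_apply, ← Scheme.Hom.comp_apply, hw]
  have hOX : ∀ x : (π ⁻¹ᵁ W).toScheme, x ∈ OX ↔ π x.1 ∈ G := fun x => Iff.rfl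
  have hOY : ∀ y : (ι' ⁻¹ᵁ W).toScheme, y ∈ OY ↔ ι' y.1 ∈ G := fun y => Iff.rfl
  have hO : iW hw W ⁻¹ᵁ OX = jW W ⁻¹ᵁ OY := by
    ext z
    change iW hw W z ∈ OX ↔ jW W z ∈ OY
    rw [hOX, hOY, iW, jW, Scheme.Hom.coe_resLE_apply, Scheme.Hom.coe_resLE_apply, hpt]
  have hJS := PinchAff.jointlySurj (iW hw W) (jW W) (aW W) (bW W) (commW hw W) (hsurjW h)
    (hPBW h) (hINJW h)
  have haW : ∀ x : (π ⁻¹ᵁ W).toScheme, (aW (π := π) W x).1 = π x.1 := fun x => by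
    rw [aW, Scheme.Hom.coe_resLE_apply]
  have hbW : ∀ y : (ι' ⁻¹ᵁ W).toScheme, (bW (ι' := ι') W y).1 = ι' y.1 := fun y => by
    rw [bW, Scheme.Hom.coe_resLE_apply]
  obtain ⟨r, hwr, hr1, hr2⟩ := PinchAff.exists_basic (iW hw W) (jW W) (aW W) (bW W) (commW hw W)
    (hsurjW h) (hPBW h) (hINJW h) OX OY hO ⟨x', hx'W⟩ (by
      rcases hJS ⟨x', hx'W⟩ with ⟨x, hx⟩ | ⟨y, hy⟩
      · left
        refine ⟨x, ?_, hx⟩
        rw [hOX, ← haW, hx]; exact hx'G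
      · right
        refine ⟨y, ?_, hy⟩
        rw [hOY, ← hbW, hy]; exact hx'G)
  refine ⟨W.ι ''ᵁ (W.toScheme.basicOpen r), ⟨⟨x', hx'W⟩, hwr, rfl⟩, ?_⟩
  rintro n ⟨w', hw', rfl⟩
  rcases hJS w' with ⟨x, hx⟩ | ⟨y, hy⟩
  · have hx1 : x ∈ aW (π := π) W ⁻¹ᵁ W.toScheme.basicOpen r := by
      change aW (π := π) W x ∈ W.toScheme.basicOpen r
      rw [hx]; exact hw'
    have := (hOX x).mp (hr1 hx1)
    rw [← haW, hx] at this
    exact this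
  · have hy1 : y ∈ bW (ι' := ι') W ⁻¹ᵁ W.toScheme.basicOpen r := by
      change bW (ι' := ι') W y ∈ W.toScheme.basicOpen r
      rw [hy]; exact hw'
    have := (hOY y).mp (hr2 hy1)
    rw [← hbW, hy] at this
    exact this

end Sch


section Sch
variable {X Z Z' X' : Scheme.{u}} {ι : Z ⟶ X} {q : Z ⟶ Z'} {π : X ⟶ X'} {ι' : Z' ⟶ X'}

/-- **Criterion**: a commutative square of schemes which locally on the target carries affine
pinching data is a pushout square of ringed spaces. -/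
theorem isPushout_of_pinchAt (hw : ι ≫ π = q ≫ ι')
    (hcov : ∀ x' : X', ∃ W : X'.Opens, x' ∈ W ∧ PinchAt hw W) :
    IsPushout ((Scheme.forgetToLocallyRingedSpace ⋙ LocallyRingedSpace.forgetToSheafedSpace).map ι)
      ((Scheme.forgetToLocallyRingedSpace ⋙ LocallyRingedSpace.forgetToSheafedSpace).map q)
      ((Scheme.forgetToLocallyRingedSpace ⋙ LocallyRingedSpace.forgetToSheafedSpace).map π)
      ((Scheme.forgetToLocallyRingedSpace ⋙ LocallyRingedSpace.forgetToSheafedSpace).map ι') := by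
  let 𝓑 : Set X'.Opens :=
    {D | ∃ (W : X'.Opens) (_ : PinchAt hw W) (f : Γ(X', W)), D = X'.basicOpen f}
  have h𝓑 : Opens.IsBasis 𝓑 := by
    rw [Opens.isBasis_iff_nbhd]
    intro O x' hx'
    obtain ⟨W, hx'W, hW⟩ := hcov x'
    obtain ⟨f, hf1, hf2⟩ := hW.affW.exists_basicOpen_le ⟨x', hx'⟩ hx'W
    exact ⟨X'.basicOpen f, ⟨W, hW, f, rfl⟩, hf2, hf1⟩
  have hI : ∀ U', InjAt π ι' U' := injAt_of_basis 𝓑 h𝓑 (by
    rintro _ ⟨W, hW, f, rfl⟩; exact hW.injAt_basicOpen f)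
  have hE : ∀ U', ExAt ι q π ι' hw U' := exAt_of_basis hw 𝓑 h𝓑 hI (by
    rintro _ ⟨W, hW, f, rfl⟩; exact hW.exAt_basicOpen f)
  have hpt : ∀ z : Z, π (ι z) = ι' (q z) := fun z => by
    rw [← Scheme.Hom.comp_apply, ← Scheme.Hom.comp_apply, hw]
  apply isPushout_of_sections
  · rw [← Functor.map_comp, ← Functor.map_comp, hw]
  · apply isPushout_top ι.base q.base π.base ι'.base
    · exact congrArg (fun f : Z ⟶ X' => f.base) hw
    · intro x'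
      obtain ⟨W, hx'W, hW⟩ := hcov x'
      exact hW.jointlySurj x' hx'W
    · intro z'₁ z'₂ h
      obtain ⟨W, hx'W, hW⟩ := hcov (ι' z'₁)
      exact hW.inj_ι' z'₁ z'₂ hx'W h
    · intro x z' h
      obtain ⟨W, hx'W, hW⟩ := hcov (π x)
      exact hW.exists_of_eq x z' hx'W h
    · intro x₁ x₂ h
      obtain ⟨W, hx'W, hW⟩ := hcov (π x₁)
      exact hW.eq_or_of_eq x₁ x₂ hx'W h
    · intro G hG1 hG2
      rw [isOpen_iff_forall_mem_open]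
      intro x' hx'G
      obtain ⟨W, hx'W, hW⟩ := hcov x'
      obtain ⟨N, hN1, hN2⟩ := hW.exists_nhd G hG1 hG2 x' hx'G hx'W
      exact ⟨N, hN2, N.isOpen, hN1⟩
  · intro U' z₁ z₂ h1 h2
    exact (hI U').eq z₁ z₂ h1 h2
  · intro U' x y hle hxy
    exact hE U' x y hxy

end Sch

end Groth.Agent.Lib.Helper6.RSPush
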