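import Mathlib
import Groth.Agent.Lib.Helper6.RSPinch
import Groth.Agent.Lib.Helper6.FibSq
/-! Base change of pinching squares of ringed spaces. -/

set_option autoImplicit false
set_option linter.style.haveILetI false
universe u
open CategoryTheory Limits AlgebraicGeometry TopologicalSpace Opposite
open Groth.Agent.Lib.Helper6 TensorProduct

namespace Groth.Agent.Lib.Helper6.RSPush



/-- base change of a fibre square of flat algebras along `R ⟶ R₁`, in `CommRingCat` form. -/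
theorem fibre_baseChange {R R₁ B' B A' A P' P Q' Q : CommRingCat.{u}}
    (ρ : R ⟶ R₁) (β' : R ⟶ B') (p : B' ⟶ B) (a : B' ⟶ A') (s : B ⟶ A) (t : A' ⟶ A)
    (hcomm : p ≫ s = a ≫ t)
    (hfib : ∀ (b : B) (a' : A'), s b = t a' → ∃! b' : B', p b' = b ∧ a b' = a')
    (hs : Function.Surjective s)
    (hA : (β' ≫ p ≫ s).hom.Flat)
    {lB' : B' ⟶ P'} {rB' : R₁ ⟶ P'} (hP' : IsPushout β' ρ lB' rB')
    {lB : B ⟶ P} {rB : R₁ ⟶ P} (hP : IsPushout (β' ≫ p) ρ lB rB)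
    {lA' : A' ⟶ Q'} {rA' : R₁ ⟶ Q'} (hQ' : IsPushout (β' ≫ a) ρ lA' rA')
    {lA : A ⟶ Q} {rA : R₁ ⟶ Q} (hQ : IsPushout (β' ≫ p ≫ s) ρ lA rA)
    (p₁ : P' ⟶ P) (a₁ : P' ⟶ Q') (s₁ : P ⟶ Q) (t₁ : Q' ⟶ Q)
    (hp₁ : lB' ≫ p₁ = p ≫ lB) (hp₁' : rB' ≫ p₁ = rB)
    (ha₁ : lB' ≫ a₁ = a ≫ lA') (ha₁' : rB' ≫ a₁ = rA')
    (hs₁ : lB ≫ s₁ = s ≫ lA) (hs₁' : rB ≫ s₁ = rA)
    (ht₁ : lA' ≫ t₁ = t ≫ lA) (ht₁' : rA' ≫ t₁ = rA) :
    Function.Surjective s₁ ∧ (∀ (x : P) (y : Q'), s₁ x = t₁ y → ∃ z : P', p₁ z = x ∧ a₁ z = y) ∧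
      (∀ z : P', p₁ z = 0 → a₁ z = 0 → z = 0) := by
  letI : Algebra R R₁ := ρ.hom.toAlgebra
  letI : Algebra R B' := β'.hom.toAlgebra
  letI : Algebra R B := (β' ≫ p).hom.toAlgebra
  letI : Algebra R A' := (β' ≫ a).hom.toAlgebra
  letI : Algebra R A := (β' ≫ p ≫ s).hom.toAlgebra
  have hcomm' : ∀ b', s (p b') = t (a b') := fun b' => congr($hcomm b')
  let pA : B' →ₐ[R] B := { p.hom with commutes' := fun r => rfl }
  let aA : B' →ₐ[R] A' := { a.hom with commutes' := fun r => rfl }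
  let sA : B →ₐ[R] A := { s.hom with commutes' := fun r => rfl }
  let tA : A' →ₐ[R] A := { t.hom with commutes' := fun r => (hcomm' (β' r)).symm }
  haveI : Module.Flat R A := hA
  -- tensor product pushouts
  have tpB' := (CommRingCat.isPushout_tensorProduct R R₁ B')
  have tpB := (CommRingCat.isPushout_tensorProduct R R₁ B)
  have tpA' := (CommRingCat.isPushout_tensorProduct R R₁ A')
  have tpA := (CommRingCat.isPushout_tensorProduct R R₁ A)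
  let eB' : P' ≅ CommRingCat.of (R₁ ⊗[R] B') := hP'.flip.isoIsPushout _ _ tpB'
  let eB : P ≅ CommRingCat.of (R₁ ⊗[R] B) := hP.flip.isoIsPushout _ _ tpB
  let eA' : Q' ≅ CommRingCat.of (R₁ ⊗[R] A') := hQ'.flip.isoIsPushout _ _ tpA'
  let eA : Q ≅ CommRingCat.of (R₁ ⊗[R] A) := hQ.flip.isoIsPushout _ _ tpA
  -- the tensored maps
  let pT : R₁ ⊗[R] B' →+* R₁ ⊗[R] B := (Algebra.TensorProduct.map (AlgHom.id R R₁) pA).toRingHom
  let aT : R₁ ⊗[R] B' →+* R₁ ⊗[R] A' := (Algebra.TensorProduct.map (AlgHom.id R R₁) aA).toRingHom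
  let sT : R₁ ⊗[R] B →+* R₁ ⊗[R] A := (Algebra.TensorProduct.map (AlgHom.id R R₁) sA).toRingHom
  let tT : R₁ ⊗[R] A' →+* R₁ ⊗[R] A := (Algebra.TensorProduct.map (AlgHom.id R R₁) tA).toRingHom
  have hpe : p₁ ≫ eB.hom = eB'.hom ≫ CommRingCat.ofHom pT := by
    apply hP'.flip.hom_ext
    · rw [← Category.assoc, hp₁', IsPushout.inl_isoIsPushout_hom, ← Category.assoc,
        IsPushout.inl_isoIsPushout_hom]
      ext r
      simp [pT]
    · rw [← Category.assoc, hp₁, Category.assoc, IsPushout.inr_isoIsPushout_hom, ← Category.assoc,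
        IsPushout.inr_isoIsPushout_hom]
      ext r
      simp [pT, pA]
  have hae : a₁ ≫ eA'.hom = eB'.hom ≫ CommRingCat.ofHom aT := by
    apply hP'.flip.hom_ext
    · rw [← Category.assoc, ha₁', IsPushout.inl_isoIsPushout_hom, ← Category.assoc,
        IsPushout.inl_isoIsPushout_hom]
      ext r
      simp [aT]
    · rw [← Category.assoc, ha₁, Category.assoc, IsPushout.inr_isoIsPushout_hom, ← Category.assoc,
        IsPushout.inr_isoIsPushout_hom]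
      ext r
      simp [aT, aA]
  have hse : s₁ ≫ eA.hom = eB.hom ≫ CommRingCat.ofHom sT := by
    apply hP.flip.hom_ext
    · rw [← Category.assoc, hs₁', IsPushout.inl_isoIsPushout_hom, ← Category.assoc,
        IsPushout.inl_isoIsPushout_hom]
      ext r
      simp [sT]
    · rw [← Category.assoc, hs₁, Category.assoc, IsPushout.inr_isoIsPushout_hom, ← Category.assoc,
        IsPushout.inr_isoIsPushout_hom]
      ext r
      simp [sT, sA]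
  have hte : t₁ ≫ eA.hom = eA'.hom ≫ CommRingCat.ofHom tT := by
    apply hQ'.flip.hom_ext
    · rw [← Category.assoc, ht₁', IsPushout.inl_isoIsPushout_hom, ← Category.assoc,
        IsPushout.inl_isoIsPushout_hom]
      ext r
      simp [tT]
    · rw [← Category.assoc, ht₁, Category.assoc, IsPushout.inr_isoIsPushout_hom, ← Category.assoc,
        IsPushout.inr_isoIsPushout_hom]
      ext r
      simp [tT, tA]
  -- elementwise forms
  have hpe' : ∀ z, eB.hom (p₁ z) = pA.toLinearMap.lTensor R₁ (eB'.hom z) := fun z => congr($hpe z)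
  have hae' : ∀ z, eA'.hom (a₁ z) = aA.toLinearMap.lTensor R₁ (eB'.hom z) := fun z => congr($hae z)
  have hse' : ∀ x, eA.hom (s₁ x) = sA.toLinearMap.lTensor R₁ (eB.hom x) := fun x => congr($hse x)
  have hte' : ∀ y, eA.hom (t₁ y) = tA.toLinearMap.lTensor R₁ (eA'.hom y) := fun y => congr($hte y)
  have inj_of_iso : ∀ {M N : CommRingCat.{u}} (e : M ≅ N), Function.Injective e.hom := by
    intro M N e x y hxy
    have := congrArg e.inv hxy
    simpa using this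
  have hfib' : ∀ (a' : A') (b : B), tA.toLinearMap a' = sA.toLinearMap b →
      ∃! b' : B', aA.toLinearMap b' = a' ∧ pA.toLinearMap b' = b := by
    intro a' b h
    obtain ⟨z, ⟨hz1, hz2⟩, hu⟩ := hfib b a' h.symm
    exact ⟨z, ⟨hz2, hz1⟩, fun z' hz' => hu z' ⟨hz'.2, hz'.1⟩⟩
  have key := FibSq.sq_baseChange aA.toLinearMap pA.toLinearMap tA.toLinearMap sA.toLinearMap
    hfib' (fun b' => (hcomm' b').symm) hs R₁
  refine ⟨?_, ?_, ?_⟩
  · intro y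
    obtain ⟨xt, hxt⟩ := LinearMap.lTensor_surjective R₁ (g := sA.toLinearMap) hs (eA.hom y)
    refine ⟨eB.inv xt, inj_of_iso eA ?_⟩
    rw [hse']
    have : eB.hom (eB.inv xt) = xt := by
      rw [← CommRingCat.comp_apply, Iso.inv_hom_id]; rfl
    rw [this, hxt]
  · intro x y hxy
    obtain ⟨zt, ⟨hz1, hz2⟩, -⟩ := key (eA'.hom y) (eB.hom x) (by rw [← hte', ← hse', hxy])
    have hz : eB'.hom (eB'.inv zt) = zt := by
      rw [← CommRingCat.comp_apply, Iso.inv_hom_id]; rfl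
    refine ⟨eB'.inv zt, inj_of_iso eB ?_, inj_of_iso eA' ?_⟩
    · rw [hpe', hz, hz2]
    · rw [hae', hz, hz1]
  · intro z h1 h2
    obtain ⟨zt, -, hu⟩ := key 0 0 (by rw [map_zero, map_zero])
    apply inj_of_iso eB'
    rw [map_zero, hu (eB'.hom z) ⟨by rw [← hae', h2, map_zero], by rw [← hpe', h1, map_zero]⟩,
      hu 0 ⟨map_zero _, map_zero _⟩]



section BC
variable {S T A B : Scheme.{u}} (g : T ⟶ S) (fA : A ⟶ S) (fB : B ⟶ S) (k : A ⟶ B)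
  (hk : k ≫ fB = fA)

/-- base change of an `S`-morphism along `g`. -/
noncomputable def bc : pullback fA g ⟶ pullback fB g :=
  pullback.lift (pullback.fst fA g ≫ k) (pullback.snd fA g)
    (by rw [Category.assoc, hk, pullback.condition])

@[reassoc]
theorem bc_fst : bc g fA fB k hk ≫ pullback.fst fB g = pullback.fst fA g ≫ k :=
  pullback.lift_fst _ _ _

@[reassoc]
theorem bc_snd : bc g fA fB k hk ≫ pullback.snd fB g = pullback.snd fA g :=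
  pullback.lift_snd _ _ _

theorem bc_eq : ((Over.pullback g).map (Over.homMk k hk : Over.mk fA ⟶ Over.mk fB)).left =
    bc g fA fB k hk := rfl

/-- the standard opens of a fibre product. -/
noncomputable def W0 (U : B.Opens) (T₁ : T.Opens) : (pullback fB g).Opens :=
  pullback.fst fB g ⁻¹ᵁ U ⊓ pullback.snd fB g ⁻¹ᵁ T₁

theorem bc_preimage_W0 (U : B.Opens) (T₁ : T.Opens) :
    bc g fA fB k hk ⁻¹ᵁ W0 g fB U T₁ = W0 g fA (k ⁻¹ᵁ U) T₁ := by
  simp only [W0, Scheme.Hom.preimage_inf, ← Scheme.Hom.comp_preimage, bc_fst, bc_snd]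

variable {g fB}

theorem W0_le_fst (U : B.Opens) (T₁ : T.Opens) :
    W0 g fB U T₁ ≤ pullback.fst fB g ⁻¹ᵁ U := inf_le_left

theorem W0_le_snd (U : B.Opens) (T₁ : T.Opens) :
    W0 g fB U T₁ ≤ pullback.snd fB g ⁻¹ᵁ T₁ := inf_le_right

theorem isPushout_sections {V : S.Opens} {U : B.Opens} {T₁ : T.Opens} (hV : IsAffineOpen V)
    (hU : IsAffineOpen U) (hT₁ : IsAffineOpen T₁) (hUV : U ≤ fB ⁻¹ᵁ V) (hTV : T₁ ≤ g ⁻¹ᵁ V) :
    IsPushout (fB.appLE V U hUV) (g.appLE V T₁ hTV)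
      ((pullback.fst fB g).appLE U (W0 g fB U T₁) (W0_le_fst U T₁))
      ((pullback.snd fB g).appLE T₁ (W0 g fB U T₁) (W0_le_snd U T₁)) := by
  have H := IsPullback.of_hasPullback fB g
  have := isIso_pushoutSection_of_isAffineOpen H hTV hUV (UY := W0 g fB U T₁) rfl hV hT₁ hU
  exact (isIso_pushoutSection_iff H hTV hUV rfl).mp this

theorem isAffineOpen_W0 {V : S.Opens} {U : B.Opens} {T₁ : T.Opens} (hV : IsAffineOpen V)
    (hU : IsAffineOpen U) (hT₁ : IsAffineOpen T₁) (hUV : U ≤ fB ⁻¹ᵁ V) (hTV : T₁ ≤ g ⁻¹ᵁ V) :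
    IsAffineOpen (W0 g fB U T₁) := by
  have H := IsPullback.of_hasPullback fB g
  have : IsAffine V.toScheme := hV
  have : IsAffine T₁.toScheme := hT₁
  have : IsAffine U.toScheme := hU
  exact .of_isIso (Scheme.Hom.isPullback_resLE H hTV hUV (UY := W0 g fB U T₁) rfl).isoPullback.hom

end BC

section BC2
variable {S T A B : Scheme.{u}} {g : T ⟶ S} {fA : A ⟶ S} {fB : B ⟶ S}

theorem isPushout_sections' {V : S.Opens} {U : B.Opens} {T₁ : T.Opens} (hV : IsAffineOpen V)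
    (hU : IsAffineOpen U) (hT₁ : IsAffineOpen T₁) (hUV : U ≤ fB ⁻¹ᵁ V) (hTV : T₁ ≤ g ⁻¹ᵁ V)
    {W : (pullback fB g).Opens} (hW : W = W0 g fB U T₁) :
    IsPushout (fB.appLE V U hUV) (g.appLE V T₁ hTV)
      ((pullback.fst fB g).appLE U W (hW ▸ W0_le_fst U T₁))
      ((pullback.snd fB g).appLE T₁ W (hW ▸ W0_le_snd U T₁)) := by
  subst hW
  exact isPushout_sections hV hU hT₁ hUV hTV

theorem appLE_congr'' {P Q : Scheme.{u}} {f g : P ⟶ Q} (h : f = g) (U : Q.Opens) (V : P.Opens)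
    (e : V ≤ f ⁻¹ᵁ U) (e' : V ≤ g ⁻¹ᵁ U) : f.appLE U V e = g.appLE U V e' := by
  subst h; rfl

variable (k : A ⟶ B) (hk : k ≫ fB = fA)

theorem fst_appLE_bc {U : B.Opens} {W : (pullback fB g).Opens} (hWU : W ≤ pullback.fst fB g ⁻¹ᵁ U)
    {UA : A.Opens} (hUA : UA ≤ k ⁻¹ᵁ U) {WA : (pullback fA g).Opens}
    (e : WA ≤ bc g fA fB k hk ⁻¹ᵁ W) (hWA : WA ≤ pullback.fst fA g ⁻¹ᵁ UA) :
    (pullback.fst fB g).appLE U W hWU ≫ (bc g fA fB k hk).appLE W WA e =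
      k.appLE U UA hUA ≫ (pullback.fst fA g).appLE UA WA hWA := by
  rw [Scheme.Hom.appLE_comp_appLE, Scheme.Hom.appLE_comp_appLE]
  exact appLE_congr'' (bc_fst g fA fB k hk) _ _ _ _

theorem snd_appLE_bc {T₁ : T.Opens} {W : (pullback fB g).Opens}
    (hWT : W ≤ pullback.snd fB g ⁻¹ᵁ T₁) {WA : (pullback fA g).Opens}
    (e : WA ≤ bc g fA fB k hk ⁻¹ᵁ W) (hWA : WA ≤ pullback.snd fA g ⁻¹ᵁ T₁) :
    (pullback.snd fB g).appLE T₁ W hWT ≫ (bc g fA fB k hk).appLE W WA e =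
      (pullback.snd fA g).appLE T₁ WA hWA := by
  rw [Scheme.Hom.appLE_comp_appLE]
  exact appLE_congr'' (bc_snd g fA fB k hk) _ _ _ _

end BC2


section Main
variable {S X Z Z' X' : Scheme.{u}}
  (fX : X ⟶ S) (fZ' : Z' ⟶ S) (fX' : X' ⟶ S) (ι : Z ⟶ X) (q : Z ⟶ Z') (π : X ⟶ X') (ι' : Z' ⟶ X')
  (hq : q ≫ fZ' = ι ≫ fX) (hπ : π ≫ fX' = fX) (hι' : ι' ≫ fX' = fZ')
  {T : Scheme.{u}} (g : T ⟶ S)

theorem comm_app_hom (hw : ι ≫ π = q ≫ ι') (W : X'.Opens) :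
    π.app W ≫ ι.appLE (π ⁻¹ᵁ W) (q ⁻¹ᵁ ι' ⁻¹ᵁ W) (preimage_le hw W) =
      ι'.app W ≫ q.app (ι' ⁻¹ᵁ W) := by
  ext c
  exact (comm_app hw W c).symm

include hq hπ hι' in
theorem bc_comm (hw : ι ≫ π = q ≫ ι') :
    bc g (ι ≫ fX) fX ι rfl ≫ bc g fX fX' π hπ = bc g (ι ≫ fX) fZ' q hq ≫ bc g fZ' fX' ι' hι' := by
  apply pullback.hom_ext
  · simp only [Category.assoc, bc_fst, bc_fst_assoc, hw]
  · simp only [Category.assoc, bc_snd, bc_snd_assoc]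


variable [IsClosedImmersion ι] [IsClosedImmersion ι'] [IsAffineHom q] [IsAffineHom π]

theorem pinchAt_W0
    (hpo : IsPushout ((Scheme.forgetToLocallyRingedSpace ⋙ LocallyRingedSpace.forgetToSheafedSpace).map ι)
      ((Scheme.forgetToLocallyRingedSpace ⋙ LocallyRingedSpace.forgetToSheafedSpace).map q)
      ((Scheme.forgetToLocallyRingedSpace ⋙ LocallyRingedSpace.forgetToSheafedSpace).map π)
      ((Scheme.forgetToLocallyRingedSpace ⋙ LocallyRingedSpace.forgetToSheafedSpace).map ι'))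
    [Flat (ι ≫ fX)]
    {V : S.Opens} {U' : X'.Opens} {T₁ : T.Opens} (hV : IsAffineOpen V) (hU' : IsAffineOpen U')
    (hT₁ : IsAffineOpen T₁) (hU'V : U' ≤ fX' ⁻¹ᵁ V) (hTV : T₁ ≤ g ⁻¹ᵁ V) :
    PinchAt (bc_comm fX fZ' fX' ι q π ι' hq hπ hι' g (w_of_isPushout hpo)) (W0 g fX' U' T₁) := by
  have hw : ι ≫ π = q ≫ ι' := w_of_isPushout hpo
  have hw₁ := bc_comm fX fZ' fX' ι q π ι' hq hπ hι' g hw
  -- affineness downstairs
  have hUX : IsAffineOpen (π ⁻¹ᵁ U') := hU'.preimage π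
  have hUZ' : IsAffineOpen (ι' ⁻¹ᵁ U') := hU'.preimage ι'
  have hUZ : IsAffineOpen (q ⁻¹ᵁ ι' ⁻¹ᵁ U') := hUZ'.preimage q
  have hle := preimage_le hw U'
  have eX : π ⁻¹ᵁ U' ≤ fX ⁻¹ᵁ V := by
    rw [← hπ, Scheme.Hom.comp_preimage]
    exact fun x hx => hU'V hx
  have eZ' : ι' ⁻¹ᵁ U' ≤ fZ' ⁻¹ᵁ V := by
    rw [← hι', Scheme.Hom.comp_preimage]
    exact fun x hx => hU'V hx
  have eZ : q ⁻¹ᵁ ι' ⁻¹ᵁ U' ≤ (ι ≫ fX) ⁻¹ᵁ V := by
    rw [← hq, Scheme.Hom.comp_preimage]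
    exact fun x hx => eZ' hx
  -- the opens upstairs
  have hWX : bc g fX fX' π hπ ⁻¹ᵁ W0 g fX' U' T₁ = W0 g fX (π ⁻¹ᵁ U') T₁ :=
    bc_preimage_W0 g fX fX' π hπ U' T₁
  have hWZ' : bc g fZ' fX' ι' hι' ⁻¹ᵁ W0 g fX' U' T₁ = W0 g fZ' (ι' ⁻¹ᵁ U') T₁ :=
    bc_preimage_W0 g fZ' fX' ι' hι' U' T₁
  have hWZ : bc g (ι ≫ fX) fZ' q hq ⁻¹ᵁ bc g fZ' fX' ι' hι' ⁻¹ᵁ W0 g fX' U' T₁ =
      W0 g (ι ≫ fX) (q ⁻¹ᵁ ι' ⁻¹ᵁ U') T₁ := by
    rw [hWZ', bc_preimage_W0]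
  -- the four pushouts of sections
  have hP' := isPushout_sections (g := g) (fB := fX') hV hU' hT₁ hU'V hTV
  have hP := isPushout_sections' (g := g) (fB := fX) hV hUX hT₁ eX hTV hWX
  have hQ' := isPushout_sections' (g := g) (fB := fZ') hV hUZ' hT₁ eZ' hTV hWZ'
  have hQ := isPushout_sections' (g := g) (fB := ι ≫ fX) hV hUZ hT₁ eZ hTV hWZ
  have e1 : fX.appLE V (π ⁻¹ᵁ U') eX = fX'.appLE V U' hU'V ≫ π.app U' := by
    rw [← Scheme.Hom.appLE_eq_app (f := π), Scheme.Hom.appLE_comp_appLE]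
    exact appLE_congr'' hπ.symm _ _ _ _
  have e2 : fZ'.appLE V (ι' ⁻¹ᵁ U') eZ' = fX'.appLE V U' hU'V ≫ ι'.app U' := by
    rw [← Scheme.Hom.appLE_eq_app (f := ι'), Scheme.Hom.appLE_comp_appLE]
    exact appLE_congr'' hι'.symm _ _ _ _
  have e3 : (ι ≫ fX).appLE V (q ⁻¹ᵁ ι' ⁻¹ᵁ U') eZ = fX'.appLE V U' hU'V ≫ π.app U' ≫
      ι.appLE (π ⁻¹ᵁ U') (q ⁻¹ᵁ ι' ⁻¹ᵁ U') hle := by
    rw [← Category.assoc, ← e1, Scheme.Hom.appLE_comp_appLE]
  rw [e1] at hP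
  rw [e2] at hQ'
  rw [e3] at hQ
  have hflat : (fX'.appLE V U' hU'V ≫ π.app U' ≫
      ι.appLE (π ⁻¹ᵁ U') (q ⁻¹ᵁ ι' ⁻¹ᵁ U') hle).hom.Flat := by
    rw [← e3]
    exact HasRingHomProperty.appLE (P := @Flat) (ι ≫ fX) inferInstance ⟨V, hV⟩ ⟨_, hUZ⟩ eZ
  have hs : Function.Surjective (ι.appLE (π ⁻¹ᵁ U') (q ⁻¹ᵁ ι' ⁻¹ᵁ U') hle) := by
    have heq : q ⁻¹ᵁ ι' ⁻¹ᵁ U' = ι ⁻¹ᵁ π ⁻¹ᵁ U' := by
      rw [← Scheme.Hom.comp_preimage, ← Scheme.Hom.comp_preimage, hw]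
    have key : ∀ (W' : Z.Opens) (h : W' = ι ⁻¹ᵁ π ⁻¹ᵁ U') (hle' : W' ≤ ι ⁻¹ᵁ π ⁻¹ᵁ U'),
        Function.Surjective (ι.appLE (π ⁻¹ᵁ U') W' hle').hom := by
      intro W' h hle'
      subst h
      rw [Scheme.Hom.appLE_eq_app]
      exact ι.app_surjective _ hUX
    exact key _ heq hle
  obtain ⟨hs₁, hex₁, hinj₁⟩ := fibre_baseChange (g.appLE V T₁ hTV) (fX'.appLE V U' hU'V)
    (π.app U') (ι'.app U')
    (ι.appLE (π ⁻¹ᵁ U') (q ⁻¹ᵁ ι' ⁻¹ᵁ U') hle) (q.app (ι' ⁻¹ᵁ U'))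
    (comm_app_hom ι q π ι' hw U')
    (fun b a' h => existsUnique_section hpo U' b a' h) hs hflat hP' hP hQ' hQ
    ((bc g fX fX' π hπ).app (W0 g fX' U' T₁))
    ((bc g fZ' fX' ι' hι').app (W0 g fX' U' T₁))
    ((bc g (ι ≫ fX) fX ι rfl).appLE _ _ (preimage_le hw₁ (W0 g fX' U' T₁)))
    ((bc g (ι ≫ fX) fZ' q hq).app _)
    (by
      rw [← Scheme.Hom.appLE_eq_app (f := bc g fX fX' π hπ), ← Scheme.Hom.appLE_eq_app (f := π)]
      exact fst_appLE_bc π hπ _ _ _ _)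
    (by
      rw [← Scheme.Hom.appLE_eq_app (f := bc g fX fX' π hπ)]
      exact snd_appLE_bc π hπ _ _ _)
    (by
      rw [← Scheme.Hom.appLE_eq_app (f := bc g fZ' fX' ι' hι'),
        ← Scheme.Hom.appLE_eq_app (f := ι')]
      exact fst_appLE_bc ι' hι' _ _ _ _)
    (by
      rw [← Scheme.Hom.appLE_eq_app (f := bc g fZ' fX' ι' hι')]
      exact snd_appLE_bc ι' hι' _ _ _)
    (fst_appLE_bc ι rfl _ _ _ _)
    (snd_appLE_bc ι rfl _ _ _)
    (by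
      rw [← Scheme.Hom.appLE_eq_app (f := bc g (ι ≫ fX) fZ' q hq),
        ← Scheme.Hom.appLE_eq_app (f := q)]
      exact fst_appLE_bc q hq _ _ _ _)
    (by
      rw [← Scheme.Hom.appLE_eq_app (f := bc g (ι ≫ fX) fZ' q hq)]
      exact snd_appLE_bc q hq _ _ _)
  exact
    { affW := isAffineOpen_W0 hV hU' hT₁ hU'V hTV
      affX := hWX ▸ isAffineOpen_W0 hV hUX hT₁ eX hTV
      affZ' := hWZ' ▸ isAffineOpen_W0 hV hUZ' hT₁ eZ' hTV
      affZ := hWZ ▸ isAffineOpen_W0 hV hUZ hT₁ eZ hTV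
      surj := hs₁
      ex := fun x y hxy => hex₁ x y hxy
      inj := hinj₁ }


/-- base change of a pinching square of ringed spaces with `Z` flat over `S` is again a pushout
square of ringed spaces. -/
theorem isPushout_baseChange
    (hpo : IsPushout ((Scheme.forgetToLocallyRingedSpace ⋙ LocallyRingedSpace.forgetToSheafedSpace).map ι)
      ((Scheme.forgetToLocallyRingedSpace ⋙ LocallyRingedSpace.forgetToSheafedSpace).map q)
      ((Scheme.forgetToLocallyRingedSpace ⋙ LocallyRingedSpace.forgetToSheafedSpace).map π)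
      ((Scheme.forgetToLocallyRingedSpace ⋙ LocallyRingedSpace.forgetToSheafedSpace).map ι'))
    [Flat (ι ≫ fX)] :
    IsPushout
      ((Scheme.forgetToLocallyRingedSpace ⋙ LocallyRingedSpace.forgetToSheafedSpace).map
        (bc g (ι ≫ fX) fX ι rfl))
      ((Scheme.forgetToLocallyRingedSpace ⋙ LocallyRingedSpace.forgetToSheafedSpace).map
        (bc g (ι ≫ fX) fZ' q hq))
      ((Scheme.forgetToLocallyRingedSpace ⋙ LocallyRingedSpace.forgetToSheafedSpace).map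
        (bc g fX fX' π hπ))
      ((Scheme.forgetToLocallyRingedSpace ⋙ LocallyRingedSpace.forgetToSheafedSpace).map
        (bc g fZ' fX' ι' hι')) := by
  apply isPushout_of_pinchAt (bc_comm fX fZ' fX' ι q π ι' hq hπ hι' g (w_of_isPushout hpo))
  intro x'₁
  obtain ⟨V, hV, hsV, -⟩ := exists_isAffineOpen_mem_and_subset
    (x := fX' (pullback.fst fX' g x'₁)) (U := ⊤) trivial
  obtain ⟨U', hU', hxU', hU'V⟩ := exists_isAffineOpen_mem_and_subset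
    (x := pullback.fst fX' g x'₁) (U := fX' ⁻¹ᵁ V) hsV
  have hcond : g (pullback.snd fX' g x'₁) = fX' (pullback.fst fX' g x'₁) := by
    rw [← Scheme.Hom.comp_apply, ← Scheme.Hom.comp_apply, pullback.condition]
  obtain ⟨T₁, hT₁, htT₁, hTV⟩ := exists_isAffineOpen_mem_and_subset
    (x := pullback.snd fX' g x'₁) (U := g ⁻¹ᵁ V) (by
      change g (pullback.snd fX' g x'₁) ∈ V
      rw [hcond]; exact hsV)
  exact ⟨W0 g fX' U' T₁, ⟨hxU', htT₁⟩,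
    pinchAt_W0 fX fZ' fX' ι q π ι' hq hπ hι' g hpo hV hU' hT₁ hU'V hTV⟩

end Main

end Groth.Agent.Lib.Helper6.RSPush
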