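import Mathlib
import Groth.Agent.Lib.Helper6.RSBaseChange

/-! Global sections of base changes of pinching squares. -/

set_option autoImplicit false
set_option linter.style.haveILetI false
universe u
open CategoryTheory Limits AlgebraicGeometry TopologicalSpace Opposite
open Groth.Agent.Lib.Helper6

namespace Groth.Agent.Lib.Helper6.RSPush


theorem isPullback_bc {S T A B : Scheme.{u}} (g : T ⟶ S) (fA : A ⟶ S) (fB : B ⟶ S) (k : A ⟶ B)
    (hk : k ≫ fB = fA) :
    IsPullback (bc g fA fB k hk) (pullback.fst fA g) (pullback.fst fB g) k := by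
  have t : IsPullback (pullback.snd fB g) (pullback.fst fB g) g fB :=
    (IsPullback.of_hasPullback fB g).flip
  have s : IsPullback (bc g fA fB k hk ≫ pullback.snd fB g) (pullback.fst fA g) g (k ≫ fB) := by
    rw [bc_snd, hk]
    exact (IsPullback.of_hasPullback fA g).flip
  exact IsPullback.of_right s (bc_fst g fA fB k hk) t

/-- sections of a flat surjective morphism are injective. -/
theorem app_injective_of_flat_of_surjective {X Y : Scheme.{u}} (f : X ⟶ Y) [Flat f] [Surjective f]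
    (U : Y.Opens) : Function.Injective (f.app U) := by
  rw [injective_iff_map_eq_zero]
  intro s hs
  apply TopCat.Presheaf.section_ext Y.sheaf U
  intro y hy
  obtain ⟨x, rfl⟩ := f.surjective y
  have hinj : Function.Injective (f.stalkMap x) := by
    algebraize [(f.stalkMap x).hom]
    have : Module.FaithfullyFlat (Y.presheaf.stalk (f x)) (X.presheaf.stalk x) :=
      @Module.FaithfullyFlat.of_flat_of_isLocalHom _ _ _ _ _ _ _
        (Flat.stalkMap f x) (f.toLRSHom.prop x)
    exact ‹RingHom.FaithfullyFlat _›.injective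
  apply hinj
  change f.stalkMap x (Y.presheaf.germ U (f x) hy s) = f.stalkMap x (Y.presheaf.germ U (f x) hy 0)
  rw [Scheme.Hom.germ_stalkMap_apply, Scheme.Hom.germ_stalkMap_apply, hs, map_zero, map_zero,
    map_zero]


section Main
variable {S X Z Z' X' : Scheme.{u}}
  (fX : X ⟶ S) (fZ' : Z' ⟶ S) (fX' : X' ⟶ S) (ι : Z ⟶ X) (q : Z ⟶ Z') (π : X ⟶ X') (ι' : Z' ⟶ X')
  (hq : q ≫ fZ' = ι ≫ fX) (hπ : π ≫ fX' = fX) (hι' : ι' ≫ fX' = fZ')
  {T : Scheme.{u}} (g : T ⟶ S)
  [IsClosedImmersion ι] [IsClosedImmersion ι'] [IsAffineHom q] [IsAffineHom π]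

include hq hπ hι' in
theorem isIso_app_snd
    (hpo : IsPushout ((Scheme.forgetToLocallyRingedSpace ⋙ LocallyRingedSpace.forgetToSheafedSpace).map ι)
      ((Scheme.forgetToLocallyRingedSpace ⋙ LocallyRingedSpace.forgetToSheafedSpace).map q)
      ((Scheme.forgetToLocallyRingedSpace ⋙ LocallyRingedSpace.forgetToSheafedSpace).map π)
      ((Scheme.forgetToLocallyRingedSpace ⋙ LocallyRingedSpace.forgetToSheafedSpace).map ι'))
    [Flat (ι ≫ fX)] [Flat q] [Surjective q] (U : T.Opens)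
    (hXU : IsIso ((pullback.snd fX g).app U)) : IsIso ((pullback.snd fX' g).app U) := by
  have hpo₁ := isPushout_baseChange fX fZ' fX' ι q π ι' hq hπ hι' g hpo
  have hw₁ := bc_comm fX fZ' fX' ι q π ι' hq hπ hι' g (w_of_isPushout hpo)
  -- `q₁` is flat and surjective
  have hpb := isPullback_bc g (ι ≫ fX) fZ' q hq
  haveI : Flat (bc g (ι ≫ fX) fZ' q hq) := MorphismProperty.of_isPullback hpb.flip inferInstance
  haveI : Surjective (bc g (ι ≫ fX) fZ' q hq) :=
    MorphismProperty.of_isPullback hpb.flip inferInstance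
  set π₁ := bc g fX fX' π hπ with hπ₁
  set ι'₁ := bc g fZ' fX' ι' hι' with hι'₁
  set q₁ := bc g (ι ≫ fX) fZ' q hq with hq₁
  set ι₁ := bc g (ι ≫ fX) fX ι rfl with hι₁
  let U'₁ : (pullback fX' g).Opens := pullback.snd fX' g ⁻¹ᵁ U
  have hsnd : π₁ ≫ pullback.snd fX' g = pullback.snd fX g := bc_snd g fX fX' π hπ
  have hle : π₁ ⁻¹ᵁ U'₁ ≤ pullback.snd fX g ⁻¹ᵁ U := by
    rw [← Scheme.Hom.comp_preimage, hsnd]
  have heq : π₁ ⁻¹ᵁ U'₁ = pullback.snd fX g ⁻¹ᵁ U := by
    rw [← Scheme.Hom.comp_preimage, hsnd]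
  have hψ : (pullback.snd fX g).appLE U (π₁ ⁻¹ᵁ U'₁) hle =
      (pullback.snd fX' g).app U ≫ π₁.app U'₁ := by
    rw [← Scheme.Hom.appLE_eq_app (f := pullback.snd fX' g),
      ← Scheme.Hom.appLE_eq_app (f := π₁), Scheme.Hom.appLE_comp_appLE]
    exact appLE_congr'' hsnd.symm _ _ _ _
  have hψbij : Function.Bijective ((pullback.snd fX g).appLE U (π₁ ⁻¹ᵁ U'₁) hle) := by
    have key : ∀ (O : (pullback fX g).Opens) (h : O = pullback.snd fX g ⁻¹ᵁ U)
        (e : O ≤ pullback.snd fX g ⁻¹ᵁ U),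
        Function.Bijective ((pullback.snd fX g).appLE U O e) := by
      intro O h e
      subst h
      rw [Scheme.Hom.appLE_eq_app]
      exact (ConcreteCategory.isIso_iff_bijective _).mp hXU
    exact key _ heq hle
  rw [ConcreteCategory.isIso_iff_bijective]
  constructor
  · intro t₁ t₂ h
    apply hψbij.1
    rw [hψ, CommRingCat.comp_apply, CommRingCat.comp_apply, h]
  · intro z
    obtain ⟨t, ht⟩ := hψbij.2 (π₁.app U'₁ z)
    refine ⟨t, ?_⟩
    rw [hψ, CommRingCat.comp_apply] at ht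
    obtain ⟨z₀, -, hu⟩ := existsUnique_section hpo₁ U'₁ (π₁.app U'₁ z) (ι'₁.app U'₁ z)
      (comm_app hw₁ U'₁ z).symm
    rw [hu ((pullback.snd fX' g).app U t) ⟨ht, ?_⟩, hu z ⟨rfl, rfl⟩]
    apply app_injective_of_flat_of_surjective q₁
    rw [comm_app hw₁ U'₁, comm_app hw₁ U'₁, ht]

end Main


end Groth.Agent.Lib.Helper6.RSPush
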