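import Groth.Agent.Lib.Helper6.RelSpec0
import Mathlib

set_option autoImplicit false
universe u
open AlgebraicGeometry CategoryTheory Limits TopologicalSpace Opposite

namespace Groth.Agent.Lib.Helper6.RelSpec

open Scheme AffineZariskiSite

variable {S : Scheme.{u}}
    (B : Sheaf (Opens.grothendieckTopology S) CommRingCat.{u}) (φ : S.sheaf ⟶ B)
    (hB : Coh.IsQCoh (MB B φ))

theorem toOpens_le {U V : S.AffineZariskiSite} (h : V ≤ U) : V.toOpens ≤ U.toOpens :=
  toOpens_mono h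

/-- the gluing data. -/
noncomputable def D : (directedCover S).RelativeGluingData :=
  relativeGluingData (coequifibered B φ hB)

noncomputable instance : ((D B φ hB).functor ⋙ Scheme.forget).IsLocallyDirected :=
  Cover.RelativeGluingData.instIsLocallyDirectedI₀CompFunctorForgetOfIsThin ..

/-- the relative spectrum. -/
noncomputable def X : Scheme.{u} := (D B φ hB).glued

/-- the structure morphism. -/
noncomputable def p : X B φ hB ⟶ S := (D B φ hB).toBase

/-- the charts. -/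
noncomputable def ι (U : S.AffineZariskiSite) : Spec (B.obj.obj (op U.toOpens)) ⟶ X B φ hB :=
  (D B φ hB).cover.f U

instance (U : S.AffineZariskiSite) : IsOpenImmersion (ι B φ hB U) :=
  (D B φ hB).cover.map_prop U

theorem ι_p (U : S.AffineZariskiSite) :
    ι B φ hB U ≫ p B φ hB = Spec.map (φ.hom.app (op U.toOpens)) ≫ U.2.fromSpec :=
  colimit.ι_desc _ _

theorem p_preimage (U : S.AffineZariskiSite) :
    p B φ hB ⁻¹ᵁ U.toOpens = (ι B φ hB U).opensRange := by
  simpa using! (D B φ hB).toBase_preimage_eq_opensRange_ι U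

theorem ι_comp {U V : S.AffineZariskiSite} (h : V ≤ U) :
    Spec.map (B.obj.map (homOfLE (toOpens_le h)).op) ≫ ι B φ hB U = ι B φ hB V :=
  colimit.w (D B φ hB).functor (homOfLE h)

instance : IsAffineHom (p B φ hB) := by
  apply isAffineHom_of_forall_exists_isAffineOpen
  intro x
  obtain ⟨U, hU, hxU, -⟩ := Opens.isBasis_iff_nbhd.mp S.isBasis_affineOpens (Opens.mem_top x)
  refine ⟨U, hxU, hU, ?_⟩
  rw [p_preimage B φ hB ⟨U, hU⟩]
  have : IsOpenImmersion (ι B φ hB ⟨U, hU⟩) := (D B φ hB).cover.map_prop _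
  exact isAffineOpen_opensRange _

/-- the pushforward of the structure sheaf of the relative spectrum. -/
noncomputable abbrev P : Sheaf (Opens.grothendieckTopology S) CommRingCat.{u} :=
  (TopCat.Sheaf.pushforward CommRingCat.{u} (p B φ hB).base).obj (X B φ hB).sheaf

theorem preimage_eq_top (U : S.AffineZariskiSite) :
    ι B φ hB U ⁻¹ᵁ (p B φ hB ⁻¹ᵁ U.toOpens) = ⊤ := by
  rw [p_preimage]
  ext x
  simp

theorem top_le (U : S.AffineZariskiSite) : (⊤ : (Spec (B.obj.obj (op U.toOpens))).Opens) ≤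
    ι B φ hB U ⁻¹ᵁ (p B φ hB ⁻¹ᵁ U.toOpens) := (preimage_eq_top B φ hB U).ge

/-- the comparison on affine opens. -/
noncomputable def β₀app (U : S.AffineZariskiSite) : Γ(X B φ hB, p B φ hB ⁻¹ᵁ U.toOpens) ⟶ B.obj.obj (op U.toOpens) :=
  (ι B φ hB U).appLE (p B φ hB ⁻¹ᵁ U.toOpens) ⊤ (top_le B φ hB U) ≫ (Scheme.ΓSpecIso _).hom

instance (U : S.AffineZariskiSite) : IsIso (β₀app B φ hB U) := by
  unfold β₀app
  have : IsIso ((ι B φ hB U).appLE (p B φ hB ⁻¹ᵁ U.toOpens) ⊤ (top_le B φ hB U)) := by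
    rw [Scheme.Hom.appLE]
    have h1 : IsIso ((ι B φ hB U).app (p B φ hB ⁻¹ᵁ U.toOpens)) :=
      Scheme.Hom.isIso_app _ _ (by rw [p_preimage])
    have h2 : IsIso (homOfLE (top_le B φ hB U)) :=
      ⟨⟨homOfLE (preimage_eq_top B φ hB U).le, rfl, rfl⟩⟩
    infer_instance
  infer_instance

theorem appLE_aux {U V : S.AffineZariskiSite} (h : V ≤ U) (W : (X B φ hB).Opens)
    (g : Spec (B.obj.obj (op V.toOpens)) ⟶ X B φ hB)
    (hg : Spec.map (B.obj.map (homOfLE (toOpens_le h)).op) ≫ ι B φ hB U = g)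
    (hU : ⊤ ≤ ι B φ hB U ⁻¹ᵁ W) (hV : ⊤ ≤ g ⁻¹ᵁ W) :
    g.appLE W ⊤ hV = (ι B φ hB U).appLE W ⊤ hU ≫
      (Spec.map (B.obj.map (homOfLE (toOpens_le h)).op)).appTop := by
  subst hg
  rw [← Scheme.Hom.appLE_comp_appLE (Spec.map (B.obj.map (homOfLE (toOpens_le h)).op))
    (ι B φ hB U) W ⊤ ⊤ hU le_top]
  congr 1

theorem β₀_naturality {U V : S.AffineZariskiSite} (h : V ≤ U) :
    (X B φ hB).presheaf.map (homOfLE ((p B φ hB).preimage_mono (toOpens_le h))).op ≫
      β₀app B φ hB V = β₀app B φ hB U ≫ B.obj.map (homOfLE (toOpens_le h)).op := by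
  unfold β₀app
  rw [Category.assoc, ← Scheme.ΓSpecIso_naturality, Scheme.Hom.map_appLE_assoc]
  rw [appLE_aux B φ hB h _ _ (ι_comp B φ hB h) (top_le B φ hB U), Category.assoc]

/-- the comparison on affine opens as a natural transformation. -/
noncomputable def β₀ : (toOpensFunctor S).op ⋙ (P B φ hB).obj ⟶ (toOpensFunctor S).op ⋙ B.obj where
  app U := β₀app B φ hB U.unop
  naturality _ _ f := β₀_naturality B φ hB (leOfHom f.unop)

/-- the comparison morphism of sheaves. -/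
noncomputable def β : P B φ hB ⟶ B :=
  ⟨Functor.IsCoverDense.restrictHomEquivHom (G := toOpensFunctor S) (β₀ B φ hB)⟩

theorem whisker_β :
    Functor.whiskerLeft (toOpensFunctor S).op (β B φ hB).hom = β₀ B φ hB :=
  (Functor.IsCoverDense.restrictHomEquivHom (G := toOpensFunctor S)).left_inv (β₀ B φ hB)

instance isIso_β : IsIso (β B φ hB) := by
  apply Functor.IsCoverDense.iso_of_restrict_iso (G := toOpensFunctor S)
  rw [whisker_β]
  have : ∀ U, IsIso ((β₀ B φ hB).app U) := fun U => by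
    change IsIso (β₀app B φ hB U.unop)
    infer_instance
  exact NatIso.isIso_of_isIso_app _

theorem fromSpec_appLE_top {U : S.Opens} (hU : IsAffineOpen U) :
    hU.fromSpec.appLE U ⊤ hU.fromSpec_preimage_self.ge = (Scheme.ΓSpecIso Γ(S, U)).inv := by
  rw [Scheme.Hom.appLE, IsAffineOpen.fromSpec_app_self, Category.assoc, ← Functor.map_comp]
  have e2 : ∀ (m : (op (⊤ : (Spec Γ(S, U)).Opens)) ⟶ op ⊤),
      (Spec Γ(S, U)).presheaf.map m = 𝟙 _ := by
    intro m
    rw [Subsingleton.elim m (𝟙 _), CategoryTheory.Functor.map_id]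
  rw [e2, Category.comp_id]

theorem appLE_fromSpec_aux {U : S.Opens} (hU : IsAffineOpen U) {R : CommRingCat.{u}}
    (ψ : Γ(S, U) ⟶ R) (g : Spec R ⟶ S) (hg : Spec.map ψ ≫ hU.fromSpec = g)
    (h : ⊤ ≤ g ⁻¹ᵁ U) :
    g.appLE U ⊤ h ≫ (Scheme.ΓSpecIso R).hom = ψ := by
  subst hg
  rw [← Scheme.Hom.appLE_comp_appLE (Spec.map ψ) hU.fromSpec U ⊤ ⊤
    hU.fromSpec_preimage_self.ge le_top, fromSpec_appLE_top, Category.assoc]
  have e1 : (Spec.map ψ).appLE ⊤ ⊤ le_top = (Spec.map ψ).appTop :=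
    (Scheme.Hom.app_eq_appLE _).symm
  rw [e1, Scheme.ΓSpecIso_naturality, Iso.inv_hom_id_assoc]

theorem φ_app (U : S.AffineZariskiSite) :
    (p B φ hB).app U.toOpens ≫ β₀app B φ hB U = φ.hom.app (op U.toOpens) := by
  unfold β₀app
  rw [← Category.assoc]
  have e1 : (p B φ hB).app U.toOpens ≫
      (ι B φ hB U).appLE (p B φ hB ⁻¹ᵁ U.toOpens) ⊤ (top_le B φ hB U) =
      (ι B φ hB U ≫ p B φ hB).appLE U.toOpens ⊤ (top_le B φ hB U) := by
    rw [Scheme.Hom.app_eq_appLE, Scheme.Hom.appLE_comp_appLE]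
  rw [e1]
  exact appLE_fromSpec_aux U.2 _ _ (ι_p B φ hB U).symm _

/-- the structure morphism of the pushforward, as a morphism of sheaves. -/
noncomputable def pc : S.sheaf ⟶ P B φ hB := ⟨(p B φ hB).c⟩

theorem pc_β : pc B φ hB ≫ β B φ hB = φ := by
  apply Sheaf.hom_ext
  apply (Functor.IsCoverDense.restrictHomEquivHom (G := toOpensFunctor S)
    (ℱ' := B)).symm.injective
  apply NatTrans.ext
  funext U
  have h1 := congrArg (fun t => t.app U) (whisker_β B φ hB)
  change (p B φ hB).app U.unop.toOpens ≫ (β B φ hB).hom.app (op U.unop.toOpens) =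
    φ.hom.app (op U.unop.toOpens)
  have h2 : (β B φ hB).hom.app (op U.unop.toOpens) = β₀app B φ hB U.unop := h1
  rw [h2]
  exact φ_app B φ hB U.unop

include hB in
theorem main : ∃ (X : Scheme.{u}) (f : X ⟶ S) (_ : IsAffineHom f)
      (e : B ≅ (TopCat.Sheaf.pushforward CommRingCat.{u} f.base).obj X.sheaf),
      (φ ≫ e.hom).hom = f.c := by
  have hiso : IsIso (β B φ hB) := isIso_β B φ hB
  refine ⟨X B φ hB, p B φ hB, inferInstance, (asIso (β B φ hB)).symm, ?_⟩
  have h0 : pc B φ hB ≫ (asIso (β B φ hB)).hom = φ := pc_β B φ hB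
  have h : φ ≫ (asIso (β B φ hB)).inv = pc B φ hB :=
    (Iso.comp_inv_eq (asIso (β B φ hB))).mpr h0.symm
  exact Sheaf.hom_ext_iff.mp h

end Groth.Agent.Lib.Helper6.RelSpec
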