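import Groth.Prelude.Def_Coh
import Groth.Agent.Lib.Lead.QCohAff
import Mathlib

set_option autoImplicit false
universe u
open AlgebraicGeometry CategoryTheory Limits TopologicalSpace Opposite

namespace Groth.Agent.Lib.Helper6.RelSpec

open Scheme AffineZariskiSite

variable {S : Scheme.{u}}
    (B : Sheaf (Opens.grothendieckTopology S) CommRingCat.{u}) (φ : S.sheaf ⟶ B)

/-- the `O_S`-module underlying the algebra `B`. -/
noncomputable abbrev MB : S.Modules := ((SheafOfModules.restrictScalars
      ((sheafCompose (Opens.grothendieckTopology S) (forget₂ CommRingCat.{u} RingCat.{u})).map φ)).obj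
      (SheafOfModules.unit ((sheafCompose (Opens.grothendieckTopology S) (forget₂ CommRingCat.{u} RingCat.{u})).obj B)))

/-- restriction of `B` to the affine opens. -/
noncomputable def F : S.AffineZariskiSiteᵒᵖ ⥤ CommRingCat.{u} := (toOpensFunctor S).op ⋙ B.obj

/-- the structure map on affine opens. -/
noncomputable def α : (toOpensFunctor S).op ⋙ S.presheaf ⟶ F B :=
  Functor.whiskerLeft (toOpensFunctor S).op φ.hom

theorem coequifibered (hB : Coh.IsQCoh (MB B φ)) : (α B φ).Coequifibered := by
  rw [coequifibered_iff_forall_isLocalizationAway]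
  intro U f
  have hB' : (MB B φ).IsQuasicoherent := hB
  letI := ((F B).map (homOfLE (U.basicOpen_le f)).op).hom.toAlgebra
  have hle : S.basicOpen f ≤ U.1 := S.basicOpen_le f
  -- naturality of `φ`
  have hnat : ∀ r : Γ(S, U.1), B.obj.map (homOfLE hle).op (φ.hom.app (op U.1) r) =
      φ.hom.app (op (S.basicOpen f)) (S.presheaf.map (homOfLE hle).op r) := by
    intro r
    exact (ConcreteCategory.congr_hom (φ.hom.naturality (homOfLE hle).op) r).symm
  have hunit : IsUnit (φ.hom.app (op (S.basicOpen f)) (S.presheaf.map (homOfLE hle).op f)) :=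
    (S.toRingedSpace.isUnit_res_basicOpen f).map _
  refine IsLocalization.Away.mk _ ?_ ?_ ?_
  · rw [RingHom.algebraMap_toAlgebra]
    change IsUnit (B.obj.map (homOfLE hle).op (φ.hom.app (op U.1) f))
    rw [hnat]
    exact hunit
  · intro (t : B.obj.obj (op (S.basicOpen f)))
    obtain ⟨n, s', hs'⟩ := Groth.Agent.Lib.Lead.QCohAff.exists_res_eq_pow_smul (MB B φ) U.2 f
      (show Γ(MB B φ, S.basicOpen f) from t)
    refine ⟨n, s', ?_⟩
    rw [RingHom.algebraMap_toAlgebra]
    change t * (B.obj.map (homOfLE hle).op (φ.hom.app (op U.1) f)) ^ n =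
      B.obj.map (homOfLE hle).op s'
    rw [hnat, mul_comm]
    have hs'' : B.obj.map (homOfLE hle).op s' =
        φ.hom.app (op (S.basicOpen f)) ((S.presheaf.map (homOfLE hle).op f) ^ n) * t := hs'
    rw [hs'']
    congr 1
    exact (map_pow (φ.hom.app (op (S.basicOpen f))).hom _ n).symm
  · intro (a : B.obj.obj (op U.1)) (b : B.obj.obj (op U.1)) hab
    rw [RingHom.algebraMap_toAlgebra] at hab
    have hab' : B.obj.map (homOfLE hle).op a = B.obj.map (homOfLE hle).op b := hab
    obtain ⟨n, hn⟩ := Groth.Agent.Lib.Lead.QCohAff.exists_pow_smul_eq_zero (MB B φ) U.2 f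
      (show Γ(MB B φ, U.1) from (a - b)) (by
        change (B.obj.map (homOfLE hle).op).hom (a - b) = 0
        rw [map_sub]
        exact sub_eq_zero.mpr hab')
    refine ⟨n, ?_⟩
    have hn' : φ.hom.app (op U.1) (f ^ n) * (a - b) = 0 := hn
    change (φ.hom.app (op U.1) f) ^ n * a = (φ.hom.app (op U.1) f) ^ n * b
    have hn'' : (φ.hom.app (op U.1) f) ^ n * (a - b) = 0 := by
      rw [← hn']
      congr 1
      exact (map_pow (φ.hom.app (op U.1)).hom _ n).symm
    linear_combination hn''

end Groth.Agent.Lib.Helper6.RelSpec
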