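import Mathlib.AlgebraicGeometry.Sites.SmallAffineZariski
import Mathlib.AlgebraicGeometry.RelativeGluing
import Mathlib.AlgebraicGeometry.Morphisms.Affine

set_option autoImplicit false
universe u
open AlgebraicGeometry CategoryTheory Limits TopologicalSpace Opposite

namespace Groth.Agent.Lib.Helper6.RelSpecF

open Scheme AffineZariskiSite

variable {S : Scheme.{u}} (F : S.AffineZariskiSiteᵒᵖ ⥤ CommRingCat.{u})
    (α : (toOpensFunctor S).op ⋙ S.presheaf ⟶ F) (H : α.Coequifibered)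

/-- the gluing data. -/
noncomputable def D : (directedCover S).RelativeGluingData :=
  relativeGluingData H

noncomputable instance : ((D F α H).functor ⋙ Scheme.forget).IsLocallyDirected :=
  Cover.RelativeGluingData.instIsLocallyDirectedI₀CompFunctorForgetOfIsThin ..

/-- the relative spectrum. -/
noncomputable def X : Scheme.{u} := (D F α H).glued

/-- the structure morphism. -/
noncomputable def p : X F α H ⟶ S := (D F α H).toBase

/-- the charts. -/
noncomputable def ι (U : S.AffineZariskiSite) : Spec (F.obj (op U)) ⟶ X F α H :=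
  (D F α H).cover.f U

instance (U : S.AffineZariskiSite) : IsOpenImmersion (ι F α H U) :=
  (D F α H).cover.map_prop U

theorem ι_p (U : S.AffineZariskiSite) :
    ι F α H U ≫ p F α H = Spec.map (α.app (op U)) ≫ U.2.fromSpec :=
  colimit.ι_desc _ _

theorem p_preimage (U : S.AffineZariskiSite) :
    p F α H ⁻¹ᵁ U.toOpens = (ι F α H U).opensRange := by
  simpa using! (D F α H).toBase_preimage_eq_opensRange_ι U

theorem ι_comp {U V : S.AffineZariskiSite} (h : V ≤ U) :
    Spec.map (F.map (homOfLE h).op) ≫ ι F α H U = ι F α H V :=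
  colimit.w (D F α H).functor (homOfLE h)

instance : IsAffineHom (p F α H) := by
  apply isAffineHom_of_forall_exists_isAffineOpen
  intro x
  obtain ⟨U, hU, hxU, -⟩ := Opens.isBasis_iff_nbhd.mp S.isBasis_affineOpens (Opens.mem_top x)
  refine ⟨U, hxU, hU, ?_⟩
  rw [p_preimage F α H ⟨U, hU⟩]
  have : IsOpenImmersion (ι F α H ⟨U, hU⟩) := (D F α H).cover.map_prop _
  exact isAffineOpen_opensRange _

theorem preimage_eq_top (U : S.AffineZariskiSite) :
    ι F α H U ⁻¹ᵁ (p F α H ⁻¹ᵁ U.toOpens) = ⊤ := by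
  rw [p_preimage]
  ext x
  simp

theorem top_le (U : S.AffineZariskiSite) : (⊤ : (Spec (F.obj (op U))).Opens) ≤
    ι F α H U ⁻¹ᵁ (p F α H ⁻¹ᵁ U.toOpens) := (preimage_eq_top F α H U).ge

/-- the comparison on affine opens. -/
noncomputable def β₀app (U : S.AffineZariskiSite) :
    Γ(X F α H, p F α H ⁻¹ᵁ U.toOpens) ⟶ F.obj (op U) :=
  (ι F α H U).appLE (p F α H ⁻¹ᵁ U.toOpens) ⊤ (top_le F α H U) ≫ (Scheme.ΓSpecIso _).hom

instance (U : S.AffineZariskiSite) : IsIso (β₀app F α H U) := by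
  unfold β₀app
  have : IsIso ((ι F α H U).appLE (p F α H ⁻¹ᵁ U.toOpens) ⊤ (top_le F α H U)) := by
    rw [Scheme.Hom.appLE]
    have h1 : IsIso ((ι F α H U).app (p F α H ⁻¹ᵁ U.toOpens)) :=
      Scheme.Hom.isIso_app _ _ (by rw [p_preimage])
    have h2 : IsIso (homOfLE (top_le F α H U)) :=
      ⟨⟨homOfLE (preimage_eq_top F α H U).le, rfl, rfl⟩⟩
    infer_instance
  infer_instance

theorem appLE_aux {U V : S.AffineZariskiSite} (h : V ≤ U) (W : (X F α H).Opens)
    (g : Spec (F.obj (op V)) ⟶ X F α H)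
    (hg : Spec.map (F.map (homOfLE h).op) ≫ ι F α H U = g)
    (hU : ⊤ ≤ ι F α H U ⁻¹ᵁ W) (hV : ⊤ ≤ g ⁻¹ᵁ W) :
    g.appLE W ⊤ hV = (ι F α H U).appLE W ⊤ hU ≫
      (Spec.map (F.map (homOfLE h).op)).appTop := by
  subst hg
  rw [← Scheme.Hom.appLE_comp_appLE (Spec.map (F.map (homOfLE h).op))
    (ι F α H U) W ⊤ ⊤ hU le_top]
  congr 1

theorem toOpens_le {U V : S.AffineZariskiSite} (h : V ≤ U) : V.toOpens ≤ U.toOpens :=
  toOpens_mono h

theorem β₀_naturality {U V : S.AffineZariskiSite} (h : V ≤ U) :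
    (X F α H).presheaf.map (homOfLE ((p F α H).preimage_mono (toOpens_le h))).op ≫
      β₀app F α H V = β₀app F α H U ≫ F.map (homOfLE h).op := by
  unfold β₀app
  rw [Category.assoc, ← Scheme.ΓSpecIso_naturality, Scheme.Hom.map_appLE_assoc]
  rw [appLE_aux F α H h _ _ (ι_comp F α H h) (top_le F α H U), Category.assoc]

/-- the pushforward of the structure sheaf of the relative spectrum. -/
noncomputable abbrev P : Sheaf (Opens.grothendieckTopology S) CommRingCat.{u} :=
  (TopCat.Sheaf.pushforward CommRingCat.{u} (p F α H).base).obj (X F α H).sheaf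

/-- the comparison on affine opens as a natural transformation. -/
noncomputable def β₀ : (toOpensFunctor S).op ⋙ (P F α H).obj ⟶ F where
  app U := β₀app F α H U.unop
  naturality _ _ f := β₀_naturality F α H (leOfHom f.unop)

instance : IsIso (β₀ F α H) := by
  have : ∀ U, IsIso ((β₀ F α H).app U) := fun U => by
    change IsIso (β₀app F α H U.unop)
    infer_instance
  exact NatIso.isIso_of_isIso_app _

omit F α H in
theorem fromSpec_appLE_top {U : S.Opens} (hU : IsAffineOpen U) :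
    hU.fromSpec.appLE U ⊤ hU.fromSpec_preimage_self.ge = (Scheme.ΓSpecIso Γ(S, U)).inv := by
  rw [Scheme.Hom.appLE, IsAffineOpen.fromSpec_app_self, Category.assoc, ← Functor.map_comp]
  have e2 : ∀ (m : (op (⊤ : (Spec Γ(S, U)).Opens)) ⟶ op ⊤),
      (Spec Γ(S, U)).presheaf.map m = 𝟙 _ := by
    intro m
    rw [Subsingleton.elim m (𝟙 _), CategoryTheory.Functor.map_id]
  rw [e2, Category.comp_id]

omit F α H in
theorem appLE_fromSpec_aux {U : S.Opens} (hU : IsAffineOpen U) {R : CommRingCat.{u}}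
    (ψ : Γ(S, U) ⟶ R) (g : Spec R ⟶ S) (hg : Spec.map ψ ≫ hU.fromSpec = g)
    (h : ⊤ ≤ g ⁻¹ᵁ U) :
    g.appLE U ⊤ h ≫ (Scheme.ΓSpecIso R).hom = ψ := by
  subst hg
  rw [← Scheme.Hom.appLE_comp_appLE (Spec.map ψ) hU.fromSpec U ⊤ ⊤
    hU.fromSpec_preimage_self.ge le_top, fromSpec_appLE_top, Category.assoc]
  have e1 : (Spec.map ψ).appLE ⊤ ⊤ le_top = (Spec.map ψ).appTop :=
    (Scheme.Hom.app_eq_appLE _).symm
  rw [e1, Scheme.ΓSpecIso_naturality, Iso.inv_hom_id_assoc]

theorem α_app (U : S.AffineZariskiSite) :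
    (p F α H).app U.toOpens ≫ β₀app F α H U = α.app (op U) := by
  unfold β₀app
  rw [← Category.assoc]
  have e1 : (p F α H).app U.toOpens ≫
      (ι F α H U).appLE (p F α H ⁻¹ᵁ U.toOpens) ⊤ (top_le F α H U) =
      (ι F α H U ≫ p F α H).appLE U.toOpens ⊤ (top_le F α H U) := by
    rw [Scheme.Hom.app_eq_appLE, Scheme.Hom.appLE_comp_appLE]
  rw [e1]
  exact appLE_fromSpec_aux U.2 _ _ (ι_p F α H U).symm _

end Groth.Agent.Lib.Helper6.RelSpecF
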