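import Groth.Agent.Lib.Helper6.ArtinFlat
import Mathlib

set_option autoImplicit false
universe u

namespace Groth.Agent.Lib.Helper6.SemilocalFlat

open TensorProduct

section loc

variable {R M : Type u} [CommRing R] [IsLocalRing R] [AddCommGroup M] [Module R M]

/-- `R` local with nilpotent maximal ideal, `i : F → M` a surjection from a free module lifting a
basis of `k ⊗ M`. For every `R`-algebra `S` with `S ⊗ M` flat over `S`, `S ⊗ i` is injective. -/
theorem baseChange_injective_of_flat (hR : IsNilpotent (IsLocalRing.maximalIdeal R))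
    {ι : Type u} (v : ι → M)
    (w : Module.Basis ι (IsLocalRing.ResidueField R) (IsLocalRing.ResidueField R ⊗[R] M))
    (hv : ∀ j, (1 : IsLocalRing.ResidueField R) ⊗ₜ[R] v j = w j)
    (hsurj : Function.Surjective (Finsupp.linearCombination R v))
    (S : Type u) [CommRing S] [Algebra R S] [Module.Flat S (S ⊗[R] M)] :
    Function.Injective ((Finsupp.linearCombination R v).baseChange S) := by
  classical
  set i := Finsupp.linearCombination R v with hi
  have hk := ArtinFlat.lTensor_residue_injective v w hv
  set I : Ideal S := (IsLocalRing.maximalIdeal R).map (algebraMap R S) with hI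
  have hQ : Function.Injective (i.lTensor (S ⧸ I)) := by
    have htors : Module.IsTorsionBySet R (S ⧸ I) (IsLocalRing.maximalIdeal R) := by
      intro x a
      obtain ⟨y, rfl⟩ := Ideal.Quotient.mk_surjective x
      rw [← algebraMap_smul S (a : R), ← Ideal.Quotient.mk_eq_mk, ← Submodule.Quotient.mk_smul]
      refine (Submodule.Quotient.mk_eq_zero _).mpr ?_
      rw [smul_eq_mul]
      exact Ideal.mul_mem_right _ _ (Ideal.mem_map_of_mem _ a.2)
    let _ := htors.module
    exact LocalFlat.lTensor_injective_of_field i (IsLocalRing.maximalIdeal R) hk (S ⧸ I)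
  have hQS : Function.Injective ((i.baseChange S).lTensor (S ⧸ I)) := by
    intro x y hxy
    have := congrArg (AlgebraTensorModule.cancelBaseChange R S S (S ⧸ I) M) hxy
    rw [ArtinFlat.cancel_natural_right, ArtinFlat.cancel_natural_right] at this
    exact (AlgebraTensorModule.cancelBaseChange R S S (S ⧸ I) _).injective (hQ this)
  have hsurjS : Function.Surjective (i.baseChange S) := LinearMap.lTensor_surjective _ hsurj
  have hInil : IsNilpotent I := by
    obtain ⟨n, hn⟩ := hR
    exact ⟨n, by rw [hI, ← Ideal.map_pow, hn, Ideal.zero_eq_bot, Ideal.map_bot,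
      Ideal.zero_eq_bot]⟩
  exact ArtinFlat.injective_of_flat_of_nilpotent I hInil (i.baseChange S) hsurjS hQS

/-- `R` local with nilpotent maximal ideal, `(S k)` a jointly injective family of `R`-algebras with
every `S k ⊗ M` flat over `S k`: then `M` is free. -/
theorem free_of_flat_baseChange_family (hR : IsNilpotent (IsLocalRing.maximalIdeal R))
    {κ : Type*} (S : κ → Type u) [∀ k, CommRing (S k)] [∀ k, Algebra R (S k)]
    (hinj : ∀ r : R, (∀ k, algebraMap R (S k) r = 0) → r = 0)
    [∀ k, Module.Flat (S k) (S k ⊗[R] M)] : Module.Free R M := by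
  classical
  let w := Module.Free.chooseBasis (IsLocalRing.ResidueField R)
    (IsLocalRing.ResidueField R ⊗[R] M)
  have ⟨v, eq⟩ := (TensorProduct.mk_surjective R M (IsLocalRing.ResidueField R)
    Ideal.Quotient.mk_surjective).comp_left w
  have hv : ∀ j, (1 : IsLocalRing.ResidueField R) ⊗ₜ[R] v j = w j := fun j => congrFun eq j
  set i := Finsupp.linearCombination R v with hi
  have hsurj : Function.Surjective i := by
    rw [← LinearMap.range_eq_top, Finsupp.range_linearCombination]
    apply NilpNakayama.eq_top_of_sup_smul_top_of_isNilpotent _ hR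
    have hker : LinearMap.ker (TensorProduct.mk R (IsLocalRing.ResidueField R) M 1) =
        IsLocalRing.maximalIdeal R • (⊤ : Submodule R M) :=
      LinearMap.ker_tensorProductMk M
    rw [← hker, ← Submodule.comap_map_eq, Submodule.map_span,
      ← Submodule.restrictScalars_span R (IsLocalRing.ResidueField R)
        Ideal.Quotient.mk_surjective,
      ← Set.range_comp]
    have : (⇑(TensorProduct.mk R (IsLocalRing.ResidueField R) M 1) ∘ v) = ⇑w := eq
    rw [this, w.span_eq]
    simp
  have hSinj : ∀ k, Function.Injective (i.baseChange (S k)) := fun k =>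
    baseChange_injective_of_flat hR v w hv hsurj (S k)
  have hinj_i : Function.Injective i := by
    rw [injective_iff_map_eq_zero]
    intro x hx
    have h0 : ∀ k, (1 : S k) ⊗ₜ[R] x = 0 := by
      intro k
      apply hSinj k
      rw [map_zero, LinearMap.baseChange_tmul, hx, TensorProduct.tmul_zero]
    ext j
    rw [Finsupp.zero_apply]
    apply hinj
    intro k
    have := congrArg ((Finsupp.lapply j : (_ →₀ R) →ₗ[R] R).lTensor (S k)) (h0 k)
    rw [map_zero, LinearMap.lTensor_tmul, Finsupp.lapply_apply] at this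
    have h2 := congrArg (TensorProduct.rid R (S k)) this
    rw [map_zero, TensorProduct.rid_tmul, Algebra.smul_def, mul_one] at h2
    exact h2
  exact Module.Free.of_equiv (LinearEquiv.ofBijective i ⟨hinj_i, hsurj⟩)

end loc

/-- semilocal with nilpotent radical: for a maximal ideal `P` there is `e ∉ P` killing `P ^ n`. -/
theorem exists_kill {A : Type u} [CommRing A] [Finite (MaximalSpectrum A)]
    {n : ℕ} (hn : Ring.jacobson A ^ n = 0) (P : Ideal A) [hP : P.IsMaximal] :
    ∃ e : A, e ∉ P ∧ ∀ x ∈ P ^ n, e * x = 0 := by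
  classical
  have := Fintype.ofFinite (MaximalSpectrum A)
  have hch : ∀ 𝔪 : MaximalSpectrum A, ∃ q : A, q ∈ 𝔪.asIdeal ∧ (𝔪.asIdeal ≠ P → q ∉ P) := by
    intro 𝔪
    by_cases h : 𝔪.asIdeal = P
    · exact ⟨0, zero_mem _, fun h' => (h' h).elim⟩
    · have : ¬ 𝔪.asIdeal ≤ P := fun hle => h (𝔪.isMaximal.eq_of_le hP.ne_top hle)
      obtain ⟨q, hq, hqP⟩ := SetLike.not_le_iff_exists.mp this
      exact ⟨q, hq, fun _ => hqP⟩
  choose q hq hqP using hch
  set s : Finset (MaximalSpectrum A) := Finset.univ.filter (fun 𝔪 => 𝔪.asIdeal ≠ P) with hs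
  set Q : A := ∏ 𝔪 ∈ s, q 𝔪 with hQ
  have hQP : Q ∉ P := by
    rw [hQ, hP.isPrime.prod_mem_iff]
    rintro ⟨𝔪, hm, hmem⟩
    exact hqP 𝔪 (by simpa [hs] using hm) hmem
  have hQm : ∀ 𝔪 : MaximalSpectrum A, 𝔪.asIdeal ≠ P → Q ∈ 𝔪.asIdeal := by
    intro 𝔪 hne
    have hmem : 𝔪 ∈ s := by simp [hs, hne]
    exact Ideal.mem_of_dvd _ (Finset.dvd_prod_of_mem q hmem) (hq 𝔪)
  have hle : Ideal.span {Q} * P ≤ Ring.jacobson A := by
    rw [Ring.jacobson_eq_sInf_isMaximal]
    refine le_sInf ?_
    intro 𝔪 hm
    by_cases h : 𝔪 = P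
    · rw [h]; exact Ideal.mul_le_right
    · refine Ideal.mul_le_left.trans ?_
      rw [Ideal.span_singleton_le_iff_mem]
      exact hQm ⟨𝔪, hm⟩ h
  refine ⟨Q ^ n, fun h => hQP (hP.isPrime.mem_of_pow_mem n h), ?_⟩
  intro x hx
  have : Q ^ n * x ∈ (Ideal.span {Q} * P) ^ n := by
    rw [mul_pow, Ideal.span_singleton_pow]
    exact Ideal.mul_mem_mul (Ideal.mem_span_singleton_self _) hx
  have h2 := Ideal.pow_right_mono hle n this
  rw [hn] at h2
  simpa using h2

/-- semilocal ring with nilpotent radical, jointly injective family of algebras `B i` with all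
`B i ⊗ M` flat: then `M` is flat. -/
theorem flat_of_flat_baseChange_family {A : Type u} [CommRing A] [Finite (MaximalSpectrum A)]
    (hnil : IsNilpotent (Ring.jacobson A)) {ι : Type*} (B : ι → Type u) [∀ i, CommRing (B i)]
    [∀ i, Algebra A (B i)] (hB : ∀ a : A, (∀ i, algebraMap A (B i) a = 0) → a = 0)
    (M : Type u) [AddCommGroup M] [Module A M] (h : ∀ i, Module.Flat (B i) (B i ⊗[A] M)) :
    Module.Flat A M := by
  obtain ⟨n, hn⟩ := hnil
  apply Module.flat_of_localized_maximal
  intro P hP
  obtain ⟨e, heP, hek⟩ := exists_kill hn P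
  have hnilP : IsNilpotent (IsLocalRing.maximalIdeal (Localization.AtPrime P)) := by
    refine ⟨n, ?_⟩
    rw [← Localization.AtPrime.map_eq_maximalIdeal, ← Ideal.map_pow, Ideal.zero_eq_bot,
      eq_bot_iff, Ideal.map_le_iff_le_comap]
    intro x hx
    rw [Ideal.mem_comap, Ideal.mem_bot, IsLocalization.map_eq_zero_iff P.primeCompl]
    exact ⟨⟨e, heP⟩, hek x hx⟩
  have hinjP : ∀ r : Localization.AtPrime P,
      (∀ i, algebraMap (Localization.AtPrime P)
        (Localization (Algebra.algebraMapSubmonoid (B i) P.primeCompl)) r = 0) → r = 0 := by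
    intro r hr
    obtain ⟨a, s, rfl⟩ := IsLocalization.exists_mk'_eq P.primeCompl r
    rw [IsLocalization.mk'_eq_zero_iff]
    refine ⟨⟨e, heP⟩, ?_⟩
    apply hB
    intro i
    have h1 := hr i
    rw [IsLocalization.algebraMap_mk' (B i) (Localization.AtPrime P)
      (Localization (Algebra.algebraMapSubmonoid (B i) P.primeCompl)),
      IsLocalization.mk'_eq_zero_iff] at h1
    obtain ⟨⟨c, t, ht, rfl⟩, hc⟩ := h1
    obtain ⟨y, m, hm, hy⟩ := Ideal.IsMaximal.exists_inv_pow P ht n
    have he : e = e * y * t := by
      calc e = e * (y * t + m) := by rw [hy, mul_one]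
        _ = e * y * t + e * m := by ring
        _ = e * y * t := by rw [hek m hm, add_zero]
    change algebraMap A (B i) (e * a) = 0
    rw [he, show e * y * t * a = (e * y) * (t * a) by ring, map_mul, map_mul _ t a]
    simp only at hc
    rw [hc, mul_zero]
  have hflat : ∀ i, Module.Flat (Localization (Algebra.algebraMapSubmonoid (B i) P.primeCompl))
      ((Localization (Algebra.algebraMapSubmonoid (B i) P.primeCompl)) ⊗[Localization.AtPrime P]
        (LocalizedModule P.primeCompl M)) := by
    intro i
    have := h i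
    let e1 : LocalizedModule P.primeCompl M ≃ₗ[Localization.AtPrime P]
        (Localization.AtPrime P) ⊗[A] M := LocalizedModule.equivTensorProduct P.primeCompl M
    let e2 := AlgebraTensorModule.congr
      (LinearEquiv.refl (Localization (Algebra.algebraMapSubmonoid (B i) P.primeCompl))
        (Localization (Algebra.algebraMapSubmonoid (B i) P.primeCompl))) e1
    let e3 := AlgebraTensorModule.cancelBaseChange A (Localization.AtPrime P)
      (Localization (Algebra.algebraMapSubmonoid (B i) P.primeCompl))
      (Localization (Algebra.algebraMapSubmonoid (B i) P.primeCompl)) M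
    let e4 := AlgebraTensorModule.cancelBaseChange A (B i)
      (Localization (Algebra.algebraMapSubmonoid (B i) P.primeCompl))
      (Localization (Algebra.algebraMapSubmonoid (B i) P.primeCompl)) M
    exact Module.Flat.of_linearEquiv (e2 ≪≫ₗ e3 ≪≫ₗ e4.symm)
  have hfree : Module.Free (Localization.AtPrime P) (LocalizedModule P.primeCompl M) :=
    free_of_flat_baseChange_family hnilP
      (fun i => Localization (Algebra.algebraMapSubmonoid (B i) P.primeCompl)) hinjP
  have : Module.Flat (Localization.AtPrime P) (LocalizedModule P.primeCompl M) := inferInstance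
  exact (Module.flat_iff_of_isLocalization (Localization.AtPrime P) P.primeCompl
    (LocalizedModule P.primeCompl M)).mp this

end Groth.Agent.Lib.Helper6.SemilocalFlat
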