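import Mathlib

set_option autoImplicit false
universe u v

namespace Groth.Agent.Lib.Helper6.SigmaLin

variable {k : Type u} [Field k] {σ : k →+* k} {V : Type v} [AddCommGroup V] [Module k V]
  (T : V →ₛₗ[σ] V)

def W (n : ℕ) : Submodule k V := Submodule.span k (Set.range ((⇑T)^[n]))

theorem W_succ_le (n : ℕ) : W T (n + 1) ≤ W T n := by
  apply Submodule.span_mono
  rintro _ ⟨u, rfl⟩
  exact ⟨T u, by rw [Function.iterate_succ_apply]⟩

theorem W_antitone : Antitone (W T) := antitone_nat_of_succ_le (W_succ_le T)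

theorem map_mem_W {n : ℕ} {v : V} (hv : v ∈ W T n) : T v ∈ W T (n + 1) := by
  induction hv using Submodule.span_induction with
  | mem x hx =>
    obtain ⟨u, rfl⟩ := hx
    apply Submodule.subset_span
    exact ⟨u, by rw [Function.iterate_succ_apply']⟩
  | zero => simp
  | add x y _ _ hx hy => rw [map_add]; exact add_mem hx hy
  | smul c x _ hx => rw [map_smulₛₗ]; exact Submodule.smul_mem _ _ hx

theorem W_succ_le_span_image (n : ℕ) :
    W T (n + 1) ≤ Submodule.span k (T '' (W T n : Set V)) := by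
  apply Submodule.span_mono
  rintro _ ⟨u, rfl⟩
  exact ⟨(⇑T)^[n] u, Submodule.subset_span ⟨u, rfl⟩, by rw [Function.iterate_succ_apply']⟩

theorem eq_zero_of_map_eq_zero [FiniteDimensional k V] (U : Submodule k V)
    (hU : ∀ u ∈ U, T u ∈ U) (hspan : U ≤ Submodule.span k (T '' (U : Set V)))
    {u : V} (hu : u ∈ U) (hTu : T u = 0) : u = 0 := by
  classical
  let b := Module.finBasis k U
  let e : Fin (Module.finrank k U) → V := fun i => T (b i : V)
  have hrepr : ∀ w (hw : w ∈ U), w = ∑ i, b.repr ⟨w, hw⟩ i • (b i : V) := by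
    intro w hw
    have h := congrArg Subtype.val (b.sum_repr ⟨w, hw⟩)
    rw [Submodule.coe_sum] at h
    simp only [Submodule.coe_smul] at h
    exact h.symm
  have hTrepr : ∀ w (hw : w ∈ U), T w = ∑ i, σ (b.repr ⟨w, hw⟩ i) • e i := by
    intro w hw
    conv_lhs => rw [hrepr w hw]
    rw [map_sum]
    refine Finset.sum_congr rfl fun i _ => ?_
    rw [map_smulₛₗ]
  have hTmem : ∀ w ∈ U, T w ∈ Submodule.span k (Set.range e) := by
    intro w hw
    rw [hTrepr w hw]
    exact Submodule.sum_mem _ fun i _ => Submodule.smul_mem _ _ (Submodule.subset_span ⟨i, rfl⟩)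
  have hspan_eq : Submodule.span k (Set.range e) = U := by
    apply le_antisymm
    · rw [Submodule.span_le]
      rintro _ ⟨i, rfl⟩
      exact hU _ (b i).2
    · refine hspan.trans ?_
      rw [Submodule.span_le]
      rintro _ ⟨w', hw', rfl⟩
      exact hTmem w' hw'
  have hli : LinearIndependent k e := by
    rw [linearIndependent_iff_card_eq_finrank_span, Set.finrank, hspan_eq]
    simp
  have h0 := hTrepr u hu
  rw [hTu] at h0
  have hc := Fintype.linearIndependent_iff.1 hli _ h0.symm
  have hc' : ∀ i, b.repr ⟨u, hu⟩ i = 0 := fun i =>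
    (map_eq_zero_iff σ σ.injective).1 (hc i)
  rw [hrepr u hu]
  simp [hc']

theorem stab [FiniteDimensional k V] : ∃ N, ∀ m, N ≤ m → W T N = W T m := by
  have := IsArtinian.monotone_stabilizes (R := k) (M := V)
    ⟨fun n => OrderDual.toDual (W T n), fun a b hab => W_antitone T hab⟩
  obtain ⟨N, hN⟩ := this
  exact ⟨N, fun m hm => congrArg OrderDual.ofDual (hN m hm)⟩

theorem eq_zero_of_iterate [FiniteDimensional k V] (U : Submodule k V)
    (hU : ∀ u ∈ U, T u ∈ U) (hspan : U ≤ Submodule.span k (T '' (U : Set V))) :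
    ∀ (n : ℕ) {u : V}, u ∈ U → (⇑T)^[n] u = 0 → u = 0 := by
  intro n
  induction n with
  | zero => intro u _ h; simpa using h
  | succ n ih =>
    intro u hu h
    rw [Function.iterate_succ_apply] at h
    exact eq_zero_of_map_eq_zero T U hU hspan hu (ih (hU u hu) h)

theorem stable_spec [FiniteDimensional k V] {N : ℕ} (hN : ∀ m, N ≤ m → W T N = W T m) :
    (∀ u ∈ W T N, T u ∈ W T N) ∧ W T N ≤ Submodule.span k (T '' (W T N : Set V)) := by
  constructor
  · intro u hu
    rw [hN (N + 1) (Nat.le_succ N)]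
    exact map_mem_W T hu
  · conv_lhs => rw [hN (N + 1) (Nat.le_succ N)]
    exact W_succ_le_span_image T N

theorem main1 [FiniteDimensional k V] (v : V)
    (hnil : ∃ n : ℕ, (⇑T)^[n] v = 0)
    (hss : ∀ n : ℕ, v ∈ Submodule.span k (Set.range ((⇑T)^[n]))) : v = 0 := by
  obtain ⟨N, hN⟩ := stab T
  obtain ⟨n, hn⟩ := hnil
  obtain ⟨h1, h2⟩ := stable_spec T hN
  exact eq_zero_of_iterate T (W T N) h1 h2 n (hss N) hn

end Groth.Agent.Lib.Helper6.SigmaLin
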