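import Mathlib

set_option autoImplicit false
universe u

namespace Groth.Agent.Lib.Helper6.ThickMono

/-- ring lemma: a retraction whose kernel lies in a nilpotent ideal extended from the base is
injective. -/
theorem injective_of_retraction {C B : Type u} [CommRing C] [CommRing B] (σ : C →+* B) (ρ : B →+* C)
    (hσρ : σ.comp ρ = RingHom.id B) (NB : Ideal B) (hNB : IsNilpotent NB)
    (hK : RingHom.ker σ ≤ NB.map ρ) : Function.Injective σ := by
  set K := RingHom.ker σ with hKdef
  set NC := NB.map ρ with hNC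
  have hσρ' : ∀ b, σ (ρ b) = b := fun b => RingHom.congr_fun hσρ b
  have hmemK : ∀ a : C, a - ρ (σ a) ∈ K := by
    intro a
    rw [hKdef, RingHom.mem_ker, map_sub, hσρ', sub_self]
  have key : ∀ c ∈ NC, c - ρ (σ c) ∈ K * NC ∧ ρ (σ c) ∈ NC := by
    intro c hc
    rw [hNC, Ideal.map] at hc
    induction hc using Submodule.span_induction with
    | mem x hx =>
      obtain ⟨n, hn, rfl⟩ := hx
      rw [hσρ', sub_self]
      exact ⟨Ideal.zero_mem _, Ideal.mem_map_of_mem ρ hn⟩
    | zero => simp
    | add x y _ _ hx hy =>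
      refine ⟨?_, ?_⟩
      · have : x + y - ρ (σ (x + y)) = (x - ρ (σ x)) + (y - ρ (σ y)) := by
          rw [map_add, map_add]; ring
        rw [this]
        exact Ideal.add_mem _ hx.1 hy.1
      · rw [map_add, map_add]
        exact Ideal.add_mem _ hx.2 hy.2
    | smul a x _ hx =>
      refine ⟨?_, ?_⟩
      · have : a • x - ρ (σ (a • x)) = a * (x - ρ (σ x)) + (a - ρ (σ a)) * ρ (σ x) := by
          rw [smul_eq_mul, map_mul, map_mul]; ring
        rw [this]
        exact Ideal.add_mem _ (Ideal.mul_mem_left _ _ hx.1) (Ideal.mul_mem_mul (hmemK a) hx.2)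
      · rw [smul_eq_mul, map_mul, map_mul]
        exact Ideal.mul_mem_left _ _ hx.2
  have hKle : K ≤ K * NC := by
    intro c hc
    have h1 := (key c (hK hc)).1
    have h2 : σ c = 0 := hc
    rwa [h2, map_zero, sub_zero] at h1
  have hpow : ∀ n : ℕ, K ≤ K * NC ^ n := by
    intro n
    induction n with
    | zero => simp
    | succ n ih =>
      calc K ≤ K * NC := hKle
        _ ≤ (K * NC ^ n) * NC := Ideal.mul_mono_left ih
        _ = K * NC ^ (n + 1) := by rw [mul_assoc, pow_succ]
  obtain ⟨m, hm⟩ := hNB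
  have hNCm : NC ^ m = ⊥ := by
    rw [hNC, ← Ideal.map_pow, hm, Ideal.zero_eq_bot, Ideal.map_bot]
  have hKbot : K = ⊥ := by
    rw [eq_bot_iff]
    calc K ≤ K * NC ^ m := hpow m
      _ = ⊥ := by rw [hNCm, Ideal.mul_bot]
  exact (RingHom.injective_iff_ker_eq_bot σ).mpr hKbot

end Groth.Agent.Lib.Helper6.ThickMono
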