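import Groth.Agent.Lib.Helper6.ThickSep
import Groth.Agent.Lib.Helper6.ThickAffine
import Groth.Agent.Lib.Helper6.ThickIsAffine
import Groth.Agent.Lib.Helper6.ThickMono


set_option autoImplicit false
universe u

namespace Groth.Agent.Lib.Helper6.ThickMono

open AlgebraicGeometry CategoryTheory Limits MorphismProperty

variable {X X' S S' : Scheme.{u}} {iX : X ⟶ X'} {iS : S ⟶ S'} {f : X ⟶ S} {f' : X' ⟶ S'}

theorem appLE_of_eq_id {Y : Scheme.{u}} {g : Y ⟶ Y} (h : g = 𝟙 Y) (U : Y.Opens)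
    (e : U ≤ g ⁻¹ᵁ U) : g.appLE U U e = 𝟙 _ := by
  subst h
  change (𝟙 Y : Y ⟶ Y).app U ≫ Y.presheaf.map (𝟙 _) = 𝟙 _
  rw [Y.presheaf.map_id, Category.comp_id]
  exact Scheme.Hom.id_app U

theorem isIso_appLE_of_isIso {Y Z : Scheme.{u}} (g : Y ⟶ Z) [IsIso g] (V : Z.Opens)
    (U : Y.Opens) (h : U = g ⁻¹ᵁ V) : IsIso (g.appLE V U h.le) := by
  subst h
  rw [Scheme.Hom.appLE_eq_app]
  infer_instance

theorem isIso_diagonal_of_thickening (hS : MoreMor.IsFiniteOrderThickening iS)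
    (hc : IsPullback iX f f' iS) [Mono f] : IsIso (pullback.diagonal f') := by
  have hX : MoreMor.IsThickening iX := Thick.baseChange hS.1 hc.flip
  have hXci : IsClosedImmersion iX := hX.1
  have hSci : IsClosedImmersion iS := hS.1.1
  set iP := pullback.map f f f' f' iX iX iS hc.w.symm hc.w.symm with hiP
  have hP : MoreMor.IsThickening iP := Thick.baseChange hX (Thick.isPullback_map_fst hc).flip
  have hPci : IsClosedImmersion iP := hP.1
  have hpbΔ : IsPullback iX (pullback.diagonal f) (pullback.diagonal f') iP :=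
    Thick.isPullback_diagonal hc
  have hpbpr : IsPullback iP (pullback.fst f f) (pullback.fst f' f') iX :=
    Thick.isPullback_map_fst hc
  have hΔiso : IsIso (pullback.diagonal f) := inferInstance
  have hΔpr : pullback.diagonal f' ≫ pullback.fst f' f' = 𝟙 X' := pullback.diagonal_fst f'
  -- surjectivity of the diagonal on points
  have hsurj : Function.Surjective (pullback.diagonal f') := by
    intro w
    obtain ⟨p, rfl⟩ := hP.2.surj w
    obtain ⟨x, rfl⟩ := (inferInstance : Surjective (pullback.diagonal f)).surj p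
    refine ⟨iX x, ?_⟩
    rw [← Scheme.Hom.comp_apply, ← Scheme.Hom.comp_apply, hpbΔ.w]
  have hΔpr' : ∀ x, pullback.fst f' f' (pullback.diagonal f' x) = x := by
    intro x
    rw [← Scheme.Hom.comp_apply, hΔpr]
    rfl
  have hprΔ : ∀ w, pullback.diagonal f' (pullback.fst f' f' w) = w := by
    intro w
    obtain ⟨x, rfl⟩ := hsurj w
    rw [hΔpr']
  -- the affine cover
  let ι := {W : (pullback f' f').affineOpens //
    ∃ V' : S'.affineOpens, W.1 ≤ (pullback.fst f' f' ≫ f') ⁻¹ᵁ V'.1}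
  have hsup : ⨆ i : ι, ((i.1 : (pullback f' f').affineOpens) : (pullback f' f').Opens) = ⊤ := by
    rw [eq_top_iff]
    intro w _
    obtain ⟨V', hV', hwV', -⟩ := TopologicalSpace.Opens.isBasis_iff_nbhd.mp S'.isBasis_affineOpens
      (TopologicalSpace.Opens.mem_top ((pullback.fst f' f' ≫ f') w))
    obtain ⟨W, hW, hwW, eW⟩ := TopologicalSpace.Opens.isBasis_iff_nbhd.mp
      (pullback f' f').isBasis_affineOpens
      (show w ∈ (pullback.fst f' f' ≫ f') ⁻¹ᵁ V' from hwV')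
    exact TopologicalSpace.Opens.mem_iSup.mpr ⟨⟨⟨W, hW⟩, ⟨⟨V', hV'⟩, eW⟩⟩, hwW⟩
  rw [← MorphismProperty.isomorphisms.iff,
    HasAffineProperty.iff_of_iSup_eq_top (P := MorphismProperty.isomorphisms Scheme.{u})
      (fun i : ι => i.1) hsup]
  rintro ⟨⟨W, hW⟩, ⟨⟨V', hV'⟩, eW⟩⟩
  dsimp only at eW ⊢
  set Δ' := pullback.diagonal f' with hΔ'
  set pr := pullback.fst f' f' with hpr
  set U' : X'.Opens := Δ' ⁻¹ᵁ W with hU'def
  -- U' is affine
  have hU' : IsAffineOpen U' := by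
    apply ThickIsAffine.isAffineOpen_of_thickening iX hX.2.surj U'
    have h1 : iX ⁻¹ᵁ U' = (pullback.diagonal f) ⁻¹ᵁ (iP ⁻¹ᵁ W) := by
      rw [hU'def, ← Scheme.Hom.comp_preimage, ← Scheme.Hom.comp_preimage, hpbΔ.w]
    rw [h1]
    exact (hW.preimage iP).preimage (pullback.diagonal f)
  have e : W ≤ pr ⁻¹ᵁ U' := by
    intro w hw
    change Δ' (pr w) ∈ W
    rw [hprΔ]
    exact hw
  have eU : U' ≤ f' ⁻¹ᵁ V' := by
    intro x hx
    have h1 : (pr ≫ f') (Δ' x) ∈ V' := eW hx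
    rw [Scheme.Hom.comp_apply, hΔpr'] at h1
    exact h1
  obtain ⟨hsP, hkP⟩ := ThickAffine.ring_data hpbpr hU' hW e
  obtain ⟨hsX, hkX⟩ := ThickAffine.ring_data hc hV' hU' eU
  have hnil : IsNilpotent (RingHom.ker (iX.app U').hom) := by
    obtain ⟨n, hn⟩ := ThickAffine.isNilpotent_ker_app iS hS.2 hV'
    refine ⟨n, ?_⟩
    rw [hkX, ← Ideal.map_pow, hn, Ideal.zero_eq_bot, Ideal.map_bot]
    rfl
  have hσρ : (Δ'.app W).hom.comp (pr.appLE U' W e).hom = RingHom.id _ := by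
    rw [← CommRingCat.hom_comp, Scheme.Hom.app_eq_appLE, Scheme.Hom.appLE_comp_appLE,
      appLE_of_eq_id hΔpr]
    rfl
  have h1 : iX ⁻¹ᵁ U' = (pullback.diagonal f) ⁻¹ᵁ (iP ⁻¹ᵁ W) := by
    rw [hU'def, ← Scheme.Hom.comp_preimage, ← Scheme.Hom.comp_preimage, hpbΔ.w]
  have hsq : Δ'.app W ≫ iX.app U' =
      iP.app W ≫ (pullback.diagonal f).appLE (iP ⁻¹ᵁ W) (iX ⁻¹ᵁ U') h1.le := by
    rw [Scheme.Hom.app_eq_appLE, Scheme.Hom.app_eq_appLE, Scheme.Hom.app_eq_appLE,
      Scheme.Hom.appLE_comp_appLE, Scheme.Hom.appLE_comp_appLE]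
    simp only [hpbΔ.w]
  have hiso := isIso_appLE_of_isIso (pullback.diagonal f) (iP ⁻¹ᵁ W) (iX ⁻¹ᵁ U') h1
  have hK : RingHom.ker (Δ'.app W).hom ≤
      (RingHom.ker (iX.app U').hom).map (pr.appLE U' W e).hom := by
    rw [← hkP]
    intro c hc
    rw [RingHom.mem_ker] at hc ⊢
    have h2 : ((pullback.diagonal f).appLE (iP ⁻¹ᵁ W) (iX ⁻¹ᵁ U') h1.le).hom
        ((iP.app W).hom c) = 0 := by
      have := congrArg (fun φ => φ.hom c) hsq
      simp only [CommRingCat.hom_comp, RingHom.comp_apply] at this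
      rw [← this, hc, map_zero]
    have hinj := (ConcreteCategory.bijective_of_isIso
      ((pullback.diagonal f).appLE (iP ⁻¹ᵁ W) (iX ⁻¹ᵁ U') h1.le)).1
    apply hinj
    rw [map_zero]
    exact h2
  have hinj : Function.Injective (Δ'.app W).hom :=
    injective_of_retraction _ _ hσρ _ hnil hK
  have hsurjσ : Function.Surjective (Δ'.app W).hom := by
    intro b
    exact ⟨(pr.appLE U' W e).hom b, RingHom.congr_fun hσρ b⟩
  have hisoσ : IsIso (Δ'.app W) :=
    (ConcreteCategory.isIso_iff_bijective _).mpr ⟨hinj, hsurjσ⟩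
  refine ⟨hU', ?_⟩
  rw [morphismRestrict_appTop]
  have h2 : IsIso (Δ'.app (W.ι ''ᵁ ⊤)) := by
    rw [Scheme.Hom.app_eq Δ' (Scheme.Opens.ι_image_top W)]
    infer_instance
  have h3 : IsIso (X'.presheaf.map
      (eqToHom (image_morphismRestrict_preimage Δ' W ⊤)).op) := inferInstance
  exact @IsIso.comp_isIso _ _ _ _ _ _ _ h2 h3

end Groth.Agent.Lib.Helper6.ThickMono
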