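import Mathlib
import Groth.Prelude.Def_SGA3x
import Groth.Agent.Lib.Helper75.MTGa2
import Groth.Agent.Lib.Helper6.CentPts
import Groth.Agent.Lib.Helper6.DiagAvg

/-! helper6: twisted conjugation system `g ↦ u₂(h) g u₁(h)⁻¹` of a diagonalizable group (S5257). -/
set_option autoImplicit false
set_option linter.unusedSectionVars false
set_option linter.style.haveILetI false
universe u
open CategoryTheory CategoryTheory.Limits MonoidalCategory CartesianMonoidalCategory MonObj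
  AlgebraicGeometry Opposite

noncomputable section

namespace Groth.Agent.Lib.Helper6.TrCj

open Groth.Agent.Lib.Helper5 Groth.Agent.Lib.Helper75.MTGa Groth.Agent.Lib.Helper6.CentPts
  Groth.Agent.Lib.Helper6.DiagAvg

attribute [local instance] coordAlg

variable {U : Scheme.{u}} {V : U.Opens} (hV : IsAffineOpen V) {M : Type} [AddCommGroup M]
variable (G : Over U) [GrpObj G] [IsAffineHom G.hom] (u₁ u₂ : Red.DS U M ⟶ G) [IsMonHom u₁] [IsMonHom u₂]

/-- the conjugated point. -/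
def cjPt {B : Type u} [CommRing B] [Algebra Γ(U, V) B] (χ : Multiplicative M →* B)
    (ψ : Γ(G.left, G.hom ⁻¹ᵁ V) →ₐ[Γ(U, V)] B) : ov hV B ⟶ G :=
  (pt hV χ ≫ u₂) * ptO hV G ψ * (pt hV χ ≫ u₁)⁻¹

/-- conjugation on algebra maps. -/
def cj {B : Type u} [CommRing B] [Algebra Γ(U, V) B] (χ : Multiplicative M →* B)
    (ψ : Γ(G.left, G.hom ⁻¹ᵁ V) →ₐ[Γ(U, V)] B) : Γ(G.left, G.hom ⁻¹ᵁ V) →ₐ[Γ(U, V)] B :=
  Classical.choose (ptO_surj hV G (cjPt hV G u₁ u₂ χ ψ))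

theorem ptO_cj {B : Type u} [CommRing B] [Algebra Γ(U, V) B] (χ : Multiplicative M →* B)
    (ψ : Γ(G.left, G.hom ⁻¹ᵁ V) →ₐ[Γ(U, V)] B) :
    ptO hV G (cj hV G u₁ u₂ χ ψ) = cjPt hV G u₁ u₂ χ ψ :=
  Classical.choose_spec (ptO_surj hV G (cjPt hV G u₁ u₂ χ ψ))

theorem cj_nat {B B' : Type u} [CommRing B] [CommRing B'] [Algebra Γ(U, V) B] [Algebra Γ(U, V) B']
    (θ : B →ₐ[Γ(U, V)] B') (χ : Multiplicative M →* B)
    (ψ : Γ(G.left, G.hom ⁻¹ᵁ V) →ₐ[Γ(U, V)] B) :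
    θ.comp (cj hV G u₁ u₂ χ ψ) = cj hV G u₁ u₂ ((θ : B →* B').comp χ) (θ.comp ψ) := by
  apply ptO_inj hV G
  rw [← ptO_nat, ptO_cj, ptO_cj]
  unfold cjPt
  rw [MonObj.comp_mul, MonObj.comp_mul, GrpObj.comp_inv, ← Category.assoc, ← Category.assoc,
    ovMap_pt, ptO_nat]

theorem cj_mul {B : Type u} [CommRing B] [Algebra Γ(U, V) B] (χ χ' : Multiplicative M →* B)
    (ψ : Γ(G.left, G.hom ⁻¹ᵁ V) →ₐ[Γ(U, V)] B) :
    cj hV G u₁ u₂ (χ * χ') ψ = cj hV G u₁ u₂ χ (cj hV G u₁ u₂ χ' ψ) := by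
  apply ptO_inj hV G
  rw [ptO_cj, ptO_cj]
  unfold cjPt
  rw [ptO_cj]
  unfold cjPt
  rw [pt_mul, MonObj.mul_comp, MonObj.mul_comp]
  group

/-- the conjugation system. -/
def sys : CjSystem Γ(U, V) Γ(G.left, G.hom ⁻¹ᵁ V) (Multiplicative M) where
  cj := fun _ _ _ χ ψ => cj hV G u₁ u₂ χ ψ
  nat := fun _ _ _ _ _ _ θ χ ψ => cj_nat hV G u₁ u₂ θ χ ψ
  mul := fun _ _ _ χ χ' ψ => cj_mul hV G u₁ u₂ χ χ' ψ

/-- the centralizing condition. -/
def Cent {X : Over U} (g : X ⟶ G) : Prop :=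
  ∀ (X' : Over U) (x : X' ⟶ X) (a : X' ⟶ Red.DS U M), (x ≫ g) * (a ≫ u₁) = (a ≫ u₂) * (x ≫ g)

theorem cent_of_cj {B : Type u} [CommRing B] [Algebra Γ(U, V) B]
    (ψ : Γ(G.left, G.hom ⁻¹ᵁ V) →ₐ[Γ(U, V)] B)
    (h : Cent G u₁ u₂ (ptO hV G ψ)) :
    cj hV G u₁ u₂ (MonoidAlgebra.of B (Multiplicative M))
      ((MonoidAlgebra.singleOneAlgHom : B →ₐ[Γ(U, V)] MonoidAlgebra B (Multiplicative M)).comp ψ) =
      (MonoidAlgebra.singleOneAlgHom : B →ₐ[Γ(U, V)] MonoidAlgebra B (Multiplicative M)).comp ψ := by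
  apply ptO_inj hV G
  rw [ptO_cj]
  unfold cjPt
  have h1 := h (ov hV (MonoidAlgebra B (Multiplicative M)))
    (ovMap hV MonoidAlgebra.singleOneAlgHom) (pt hV (MonoidAlgebra.of B (Multiplicative M)))
  rw [ptO_nat] at h1
  rw [← h1]
  group

theorem cj_of_cent {B : Type u} [CommRing B] [Algebra Γ(U, V) B]
    (ψ : Γ(G.left, G.hom ⁻¹ᵁ V) →ₐ[Γ(U, V)] B)
    (h : cj hV G u₁ u₂ (MonoidAlgebra.of B (Multiplicative M))
      ((MonoidAlgebra.singleOneAlgHom : B →ₐ[Γ(U, V)] MonoidAlgebra B (Multiplicative M)).comp ψ) =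
      (MonoidAlgebra.singleOneAlgHom : B →ₐ[Γ(U, V)] MonoidAlgebra B (Multiplicative M)).comp ψ) :
    Cent G u₁ u₂ (ptO hV G ψ) := by
  intro X' x a
  set BM := MonoidAlgebra B (Multiplicative M) with hBM
  set ι₀ : B →ₐ[Γ(U, V)] BM := MonoidAlgebra.singleOneAlgHom with hι₀
  set a' : ov hV BM ⟶ G := pt hV (MonoidAlgebra.of B (Multiplicative M)) ≫ u₁ with ha'
  set a'' : ov hV BM ⟶ G := pt hV (MonoidAlgebra.of B (Multiplicative M)) ≫ u₂ with ha''
  set g' : ov hV BM ⟶ G := ptO hV G (ι₀.comp ψ) with hg'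
  have hcomm : g' * a' = a'' * g' := by
    have h1 := congrArg (ptO hV G) h
    rw [ptO_cj] at h1
    unfold cjPt at h1
    rw [← ha', ← ha'', ← hg'] at h1
    calc g' * a' = (a'' * g' * a'⁻¹) * a' := by rw [h1]
      _ = a'' * g' := by group
  -- the factorisation through the universal point
  let ρ₀ : CommRingCat.of B ⟶ Γ(X'.left, ⊤) :=
    (Scheme.ΓSpecIso (CommRingCat.of B)).inv ≫ x.left.appTop
  let χ : Multiplicative M →* Γ(X'.left, ⊤) := DSPts.charOfPt a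
  let θ : BM →+* Γ(X'.left, ⊤) :=
    MonoidAlgebra.liftNCRingHom ρ₀.hom χ (fun _ _ => Commute.all _ _)
  have hθι : θ.comp ι₀.toRingHom = ρ₀.hom := by
    ext b
    change (MonoidAlgebra.liftNCRingHom ρ₀.hom χ (fun _ _ => Commute.all _ _))
      (MonoidAlgebra.single 1 b) = ρ₀.hom b
    rw [MonoidAlgebra.liftNCRingHom_single, map_one, _root_.mul_one]
  have hθof : ∀ m : Multiplicative M, θ (MonoidAlgebra.of B (Multiplicative M) m) = χ m := by
    intro m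
    simp [θ, MonoidAlgebra.liftNCRingHom, MonoidAlgebra.of_apply]
  let h₀l : X'.left ⟶ Spec (CommRingCat.of BM) :=
    ΓSpec.adjunction.homEquiv X'.left (op (CommRingCat.of BM)) (CommRingCat.ofHom θ).op
  have hh₀app : h₀l.appTop = (Scheme.ΓSpecIso (CommRingCat.of BM)).hom ≫ CommRingCat.ofHom θ :=
    ΓSpec_adjunction_homEquiv_eq _
  have hh₀l : h₀l ≫ Spec.map (CommRingCat.ofHom ι₀.toRingHom) = x.left := by
    apply ext_of_isAffine
    rw [Scheme.Hom.comp_appTop, hh₀app, ← Category.assoc, Scheme.ΓSpecIso_naturality,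
      Category.assoc, ← CommRingCat.ofHom_comp, hθι]
    exact Iso.hom_inv_id_assoc _ _
  have halg : (CommRingCat.ofHom (algebraMap Γ(U, V) BM)) =
      CommRingCat.ofHom (algebraMap Γ(U, V) B) ≫ CommRingCat.ofHom ι₀.toRingHom := by
    rw [← CommRingCat.ofHom_comp]
    rfl
  let h₀ : X' ⟶ ov hV BM := Over.homMk h₀l (by
    simp only [Over.mk_hom]
    rw [halg, Spec.map_comp, ← Category.assoc, ← Category.assoc, hh₀l, Category.assoc]
    exact Over.w x)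
  have hfac1 : h₀ ≫ ovMap hV ι₀ = x := by
    apply Over.OverMorphism.ext
    rw [Over.comp_left, ovMap_left]
    exact hh₀l
  have hfac2 : h₀ ≫ pt hV (MonoidAlgebra.of B (Multiplicative M)) = a := by
    apply DSPts.charOfPt_injective
    refine MonoidHom.ext fun m => ?_
    rw [DSPts.charOfPt_comp]
    change h₀l.appTop (DSPts.charOfPt (pt hV (MonoidAlgebra.of B (Multiplicative M))) m) = χ m
    rw [charOfPt_pt, hh₀app, CommRingCat.comp_apply]
    rw [Iso.inv_hom_id_apply]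
    exact hθof m
  have e1 : x ≫ ptO hV G ψ = h₀ ≫ g' := by
    rw [hg', ← ptO_nat, ← Category.assoc, hfac1]
  have e2 : a ≫ u₁ = h₀ ≫ a' := by
    rw [ha', ← Category.assoc, hfac2]
  have e3 : a ≫ u₂ = h₀ ≫ a'' := by
    rw [ha'', ← Category.assoc, hfac2]
  rw [e1, e2, e3, ← MonObj.comp_mul, ← MonObj.comp_mul, hcomm]

end Groth.Agent.Lib.Helper6.TrCj
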