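import Mathlib
import Groth.Prelude.Def_SGA3x
import Groth.Agent.Lib.Helper6.TrCj

/-! helper6: local smoothness of the transporter of two homs from a diagonalizable group (S5257). -/
set_option autoImplicit false
set_option linter.unusedSectionVars false
set_option linter.style.haveILetI false
universe u
open CategoryTheory CategoryTheory.Limits MonoidalCategory CartesianMonoidalCategory MonObj
  AlgebraicGeometry Opposite

noncomputable section

namespace Groth.Agent.Lib.Helper6.TrLocal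

open Groth.Agent.Lib.Helper5 Groth.Agent.Lib.Helper75.MTGa Groth.Agent.Lib.Helper6.CentPts
  Groth.Agent.Lib.Helper6.DiagAvg Groth.Agent.Lib.Helper6.TrCj

attribute [local instance] coordAlg

theorem isAffineHom_of_closed {U : Scheme.{u}} (G : Over U) [IsAffineHom G.hom]
    (Z : Over U) (z : Z ⟶ G) [IsClosedImmersion z.left] : IsAffineHom Z.hom := by
  rw [← Over.w z]
  infer_instance

theorem smooth_app {U : Scheme.{u}} {V : U.Opens} (hV : IsAffineOpen V) {M : Type}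
    [AddCommGroup M] (G : Over U) [GrpObj G] [IsAffineHom G.hom] [Smooth G.hom]
    (u₁ u₂ : Red.DS U M ⟶ G) [IsMonHom u₁] [IsMonHom u₂]
    (Z : Over U) (z : Z ⟶ G) [IsClosedImmersion z.left] [LocallyOfFinitePresentation Z.hom]
    (hZ : ∀ (X : Over U) (g : X ⟶ G), (∃ x : X ⟶ Z, x ≫ z = g) ↔ Cent G u₁ u₂ g) :
    RingHom.Smooth (Z.hom.app V).hom := by
  haveI : IsAffineHom Z.hom := isAffineHom_of_closed G Z z
  -- smoothness of the coordinate ring of `G`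
  have hGs : RingHom.Smooth (G.hom.app V).hom := by
    have := HasRingHomProperty.appLE (P := @Smooth) G.hom inferInstance ⟨V, hV⟩
      ⟨G.hom ⁻¹ᵁ V, hV.preimage G.hom⟩ le_rfl
    rwa [Scheme.Hom.appLE_eq_app] at this
  have hGs' : Algebra.Smooth Γ(U, V) Γ(G.left, G.hom ⁻¹ᵁ V) := hGs
  haveI : Algebra.FormallySmooth Γ(U, V) Γ(G.left, G.hom ⁻¹ᵁ V) := hGs'.formallySmooth
  have hZfp : RingHom.FinitePresentation (Z.hom.app V).hom := by
    have := HasRingHomProperty.appLE (P := @LocallyOfFinitePresentation) Z.hom inferInstance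
      ⟨V, hV⟩ ⟨Z.hom ⁻¹ᵁ V, hV.preimage Z.hom⟩ le_rfl
    rwa [Scheme.Hom.appLE_eq_app] at this
  have hZfp' : Algebra.FinitePresentation Γ(U, V) Γ(Z.left, Z.hom ⁻¹ᵁ V) := hZfp
  -- the restriction map
  obtain ⟨πz, hπz⟩ := ptO_surj hV G (ptO hV Z (AlgHom.id Γ(U, V) Γ(Z.left, Z.hom ⁻¹ᵁ V)) ≫ z)
  have hπ : ∀ (B : Type u) [CommRing B] [Algebra Γ(U, V) B]
      (φ : Γ(Z.left, Z.hom ⁻¹ᵁ V) →ₐ[Γ(U, V)] B), ptO hV Z φ ≫ z = ptO hV G (φ.comp πz) := by
    intro B _ _ φ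
    rw [← ptO_nat, hπz, ← Category.assoc, ptO_nat]
    rfl
  have hmono : ∀ {X : Over U} (a b : X ⟶ Z), a ≫ z = b ≫ z → a = b := by
    intro X a b hab
    apply Over.OverMorphism.ext
    have := congrArg (fun m => m.left) hab
    simp only [Over.comp_left] at this
    exact (cancel_mono z.left).mp this
  have hFS : Algebra.FormallySmooth Γ(U, V) Γ(Z.left, Z.hom ⁻¹ᵁ V) := by
    apply Algebra.FormallySmooth.of_comp_surjective
    intro B _ _ I hI φbar
    have hI' : I * I = ⊥ := by rw [← pow_two]; exact hI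
    have hInil : IsNilpotent I := ⟨2, hI⟩
    let ψ₀ : Γ(G.left, G.hom ⁻¹ᵁ V) →ₐ[Γ(U, V)] B ⧸ I := φbar.comp πz
    let ψ : Γ(G.left, G.hom ⁻¹ᵁ V) →ₐ[Γ(U, V)] B := Algebra.FormallySmooth.lift I hInil ψ₀
    have hψ : (Ideal.Quotient.mkₐ Γ(U, V) I).comp ψ = ψ₀ :=
      Algebra.FormallySmooth.comp_lift I hInil ψ₀
    have hcent0 : Cent G u₁ u₂ (ptO hV G ((Ideal.Quotient.mkₐ Γ(U, V) I).comp ψ)) := by
      rw [hψ]
      exact (hZ _ _).mp ⟨ptO hV Z φbar, hπ _ φbar⟩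
    have hcj0 := cent_of_cj hV G u₁ u₂ _ hcent0
    obtain ⟨ψ', hψ'1, hψ'2⟩ := (sys hV G u₁ u₂).exists_lift B I hI' ψ hcj0
    have hcent' : Cent G u₁ u₂ (ptO hV G ψ') := cj_of_cent hV G u₁ u₂ ψ' hψ'2
    obtain ⟨x, hx⟩ := (hZ _ _).mpr hcent'
    obtain ⟨φ, hφ⟩ := ptO_surj hV Z x
    refine ⟨φ, ?_⟩
    apply ptO_inj hV Z
    apply hmono
    rw [hπ, hπ]
    have e1 : φ.comp πz = ψ' := by
      apply ptO_inj hV G
      rw [← hπ, hφ, hx]
    have e2 : ((Ideal.Quotient.mkₐ Γ(U, V) I).comp φ).comp πz =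
        (Ideal.Quotient.mkₐ Γ(U, V) I).comp (φ.comp πz) := rfl
    rw [e2, e1, hψ'1, hψ]
  exact show Algebra.Smooth Γ(U, V) Γ(Z.left, Z.hom ⁻¹ᵁ V) from ⟨hFS, hZfp'⟩

end Groth.Agent.Lib.Helper6.TrLocal
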