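import Mathlib
import Groth.Prelude.Def_SGA3x
import Groth.Agent.Lib.Helper6.TrLocal
import Groth.Agent.Lib.Helper18.AdjMul
import Groth.Agent.Lib.Helper18.FpqcOver
import Groth.Agent.Lib.Helper78.FpqcDescent

/-! helper6: smoothness of the transporter of two homs from a group of multiplicative type (S5257), global part. -/
set_option autoImplicit false
set_option linter.unusedSectionVars false
set_option linter.style.haveILetI false
universe u
open CategoryTheory CategoryTheory.Limits MonoidalCategory CartesianMonoidalCategory MonObj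
  AlgebraicGeometry Opposite

noncomputable section

namespace Groth.Agent.Lib.Helper6.TrGlobal

open Groth.Agent.Lib.Helper6.CentPts Groth.Agent.Lib.Helper6.TrCj Groth.Agent.Lib.Helper6.TrLocal

theorem smooth_over {U : Scheme.{u}} {M : Type} [AddCommGroup M] (G : Over U) [GrpObj G]
    [IsAffineHom G.hom] [Smooth G.hom] (u₁ u₂ : Red.DS U M ⟶ G) [IsMonHom u₁] [IsMonHom u₂]
    (Z : Over U) (z : Z ⟶ G) [IsClosedImmersion z.left] [LocallyOfFinitePresentation Z.hom]
    (hZ : ∀ (X : Over U) (g : X ⟶ G), (∃ x : X ⟶ Z, x ≫ z = g) ↔ Cent G u₁ u₂ g) : Smooth Z.hom := by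
  rw [HasRingHomProperty.iff_appLE (P := @Smooth)]
  intro V W e
  have h1 : RingHom.Smooth (Z.hom.app V.1).hom := smooth_app V.2 G u₁ u₂ Z z hZ
  haveI : IsAffineHom Z.hom := isAffineHom_of_closed G Z z
  have h2 : RingHom.Smooth (Z.left.presheaf.map (homOfLE e).op).hom := by
    have := HasRingHomProperty.appLE (P := @Smooth) (𝟙 Z.left) inferInstance
      ⟨Z.hom ⁻¹ᵁ V.1, V.2.preimage Z.hom⟩ W (by simpa using e)
    simp only [Scheme.Hom.appLE, Scheme.Hom.id_app] at this
    exact this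
  have e3 : (Z.hom.appLE V.1 W.1 e).hom =
      (Z.left.presheaf.map (homOfLE e).op).hom.comp (Z.hom.app V.1).hom := rfl
  rw [e3]
  exact RingHom.Smooth.stableUnderComposition _ _ h1 h2


set_option backward.isDefEq.respectTransparency false in
open Groth.Agent.Lib.Helper18.AdjMul in
theorem smooth_bc {S U : Scheme.{u}} (φ : U ⟶ S) {M : Type} [AddCommGroup M]
    (H G : Over S) [GrpObj H] [GrpObj G] [IsAffineHom G.hom] [Smooth G.hom]
    (uS₁ uS₂ : H ⟶ G) [IsMonHom uS₁] [IsMonHom uS₂]
    (e : Grp.mk (Red.bc φ H) ≅ Grp.mk (Red.DS U M))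
    (Z : Over S) (j : Z ⟶ G) [IsClosedImmersion j.left] [LocallyOfFinitePresentation Z.hom]
    (hZ : ∀ (X : Over S) (g : X ⟶ G), (∃ z : X ⟶ Z, z ≫ j = g) ↔
        ∀ (X' : Over S) (x : X' ⟶ X) (h : X' ⟶ H), (x ≫ g) * (h ≫ uS₁) = (h ≫ uS₂) * (x ≫ g)) :
    Smooth (pullback.snd Z.hom φ) := by
  let adj := Over.mapPullbackAdj φ
  let GU : Over U := Red.bc φ G
  let ZU : Over U := Red.bc φ Z
  let zU : ZU ⟶ GU := (Over.pullback φ).map j
  let ei : Red.DS U M ⟶ Red.bc φ H := e.inv.hom.hom
  let eh : Red.bc φ H ⟶ Red.DS U M := e.hom.hom.hom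
  have heh : eh ≫ ei = 𝟙 _ := by
    have := congrArg (fun m => m.hom.hom) e.hom_inv_id
    exact this
  let uU₁ : Red.DS U M ⟶ GU := ei ≫ (Over.pullback φ).map uS₁
  let uU₂ : Red.DS U M ⟶ GU := ei ≫ (Over.pullback φ).map uS₂
  haveI : IsAffineHom GU.hom := by
    change IsAffineHom (pullback.snd G.hom φ)
    exact MorphismProperty.pullback_snd (P := @IsAffineHom) _ _ (inferInstance : IsAffineHom G.hom)
  haveI : Smooth GU.hom := by
    change Smooth (pullback.snd G.hom φ); infer_instance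
  haveI : LocallyOfFinitePresentation ZU.hom := by
    change LocallyOfFinitePresentation (pullback.snd Z.hom φ); infer_instance
  haveI : IsClosedImmersion zU.left :=
    Groth.Agent.Lib.Helper18.FpqcOver.prop_pullback_map @IsClosedImmersion φ j inferInstance
  haveI : IsMonHom uU₁ := by dsimp only [uU₁, ei]; infer_instance
  haveI : IsMonHom uU₂ := by dsimp only [uU₂, ei]; infer_instance
  change Smooth ZU.hom
  -- flat/sharp
  have hmul : ∀ (X : Over U) (a b : X ⟶ GU),
      (adj.homEquiv X G).symm (a * b) = (adj.homEquiv X G).symm a * (adj.homEquiv X G).symm b :=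
    fun X a b => homEquiv_symm_mul adj G X a b
  apply smooth_over GU uU₁ uU₂ ZU zU
  intro X g
  constructor
  · rintro ⟨x, hx⟩ X' x' a
    apply (adj.homEquiv X' G).symm.injective
    rw [hmul, hmul, Adjunction.homEquiv_naturality_left_symm]
    have e1 : (adj.homEquiv X' G).symm (a ≫ uU₁) = (adj.homEquiv X' H).symm (a ≫ ei) ≫ uS₁ := by
      dsimp only [uU₁]
      rw [← Category.assoc, Adjunction.homEquiv_naturality_right_symm]
    have e2 : (adj.homEquiv X' G).symm (a ≫ uU₂) = (adj.homEquiv X' H).symm (a ≫ ei) ≫ uS₂ := by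
      dsimp only [uU₂]
      rw [← Category.assoc, Adjunction.homEquiv_naturality_right_symm]
    rw [e1, e2]
    refine (hZ _ ((adj.homEquiv X G).symm g)).mp ⟨(adj.homEquiv X Z).symm x, ?_⟩ _ _ _
    rw [← Adjunction.homEquiv_naturality_right_symm]
    exact congrArg _ hx
  · intro hc
    have hS : ∃ z : (Over.map φ).obj X ⟶ Z, z ≫ j = (adj.homEquiv X G).symm g := by
      rw [hZ]
      intro X'' x'' h
      -- X'' as an object over U
      let X' : Over U := Over.mk (x''.left ≫ X.hom)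
      let κ : (Over.map φ).obj X' ≅ X'' := Over.isoMk (Iso.refl _) (by
        have := Over.w x''
        simp only [Over.map_obj_hom, Over.mk_hom, Iso.refl_hom, Category.id_comp, X'] at this ⊢
        rw [← this, Category.assoc])
      let x' : X' ⟶ X := Over.homMk x''.left rfl
      have hx' : (Over.map φ).map x' = κ.hom ≫ x'' := by
        apply Over.OverMorphism.ext
        simp [x', κ]
      let a : X' ⟶ Red.DS U M := adj.homEquiv X' H (κ.hom ≫ h) ≫ eh
      have hc' := hc X' x' a
      have hc'' := congrArg (adj.homEquiv X' G).symm hc'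
      rw [hmul, hmul, Adjunction.homEquiv_naturality_left_symm] at hc''
      have e1 : (adj.homEquiv X' G).symm (a ≫ uU₁) = (κ.hom ≫ h) ≫ uS₁ := by
        dsimp only [uU₁, a]
        rw [Category.assoc, ← Category.assoc eh, heh, Category.id_comp,
          Adjunction.homEquiv_naturality_right_symm, Equiv.symm_apply_apply]
      have e2 : (adj.homEquiv X' G).symm (a ≫ uU₂) = (κ.hom ≫ h) ≫ uS₂ := by
        dsimp only [uU₂, a]
        rw [Category.assoc, ← Category.assoc eh, heh, Category.id_comp,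
          Adjunction.homEquiv_naturality_right_symm, Equiv.symm_apply_apply]
      rw [e1, e2, hx'] at hc''
      rw [← cancel_epi κ.hom, MonObj.comp_mul, MonObj.comp_mul]
      simpa only [Category.assoc] using hc''
    obtain ⟨z, hz⟩ := hS
    refine ⟨adj.homEquiv X Z z, ?_⟩
    rw [← Adjunction.homEquiv_naturality_right, hz, Equiv.apply_symm_apply]


set_option backward.isDefEq.respectTransparency false in
open Groth.Agent.Lib.Helper78.FpqcCov in
theorem smooth_of_multType {S : Scheme.{u}} (H G : Over S) [GrpObj H] [GrpObj G]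
    [IsAffineHom G.hom] [Smooth G.hom] (uS₁ uS₂ : H ⟶ G) [IsMonHom uS₁] [IsMonHom uS₂]
    (hH : ∃ (S' : Scheme.{u}) (f : S' ⟶ S), Flat f ∧ Surjective f ∧
      (∀ V : S.Opens, IsAffineOpen V →
        ∃ W : S'.Opens, IsCompact (W : Set S') ∧ f.base '' (W : Set S') = (V : Set S)) ∧
      ∀ s' : S', ∃ U : S'.Opens, s' ∈ U ∧ ∃ (M : Type) (_ : AddCommGroup M),
        Nonempty (Grp.mk (Red.bc (U.ι ≫ f) H) ≅ Grp.mk (Red.DS (U : Scheme.{u}) M)))
    (Z : Over S) (j : Z ⟶ G) [IsClosedImmersion j.left] [LocallyOfFinitePresentation Z.hom]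
    (hZ : ∀ (X : Over S) (g : X ⟶ G), (∃ z : X ⟶ Z, z ≫ j = g) ↔
        ∀ (X' : Over S) (x : X' ⟶ X) (h : X' ⟶ H), (x ≫ g) * (h ≫ uS₁) = (h ≫ uS₂) * (x ≫ g)) :
    Smooth Z.hom := by
  obtain ⟨S', f, hfl, hsurj, hqc, hloc⟩ := hH
  have hf1 : IsFpqc1 f := isFpqc1_of_data f hsurj hfl hqc
  refine hf1.descends @Smooth inferInstance Z.hom ?_
  choose U hsU M inst heG using hloc
  have hU : iSup U = ⊤ := by
    rw [eq_top_iff]
    intro x _
    exact TopologicalSpace.Opens.mem_iSup.mpr ⟨x, hsU x⟩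
  rw [IsZariskiLocalAtTarget.iff_of_iSup_eq_top (P := @Smooth) U hU]
  intro s'
  obtain ⟨eG⟩ := heG s'
  have key := smooth_bc ((U s').ι ≫ f) H G uS₁ uS₂ eG Z j hZ
  let h' := pullback.snd Z.hom f
  have sq1 : IsPullback (h' ⁻¹ᵁ U s').ι (h' ∣_ U s') h' (U s').ι :=
    (isPullback_morphismRestrict h' (U s')).flip
  have sq2 : IsPullback (pullback.fst Z.hom f) h' Z.hom f := IsPullback.of_hasPullback _ _
  have sq12 := sq1.paste_horiz sq2
  have e1 : h' ∣_ U s' = sq12.isoPullback.hom ≫ pullback.snd Z.hom ((U s').ι ≫ f) :=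
    (sq12.isoPullback_hom_snd).symm
  change Smooth (h' ∣_ U s')
  rw [e1]
  infer_instance

end Groth.Agent.Lib.Helper6.TrGlobal
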