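import Mathlib
import Groth.Prelude.Def_SGA3x
import Groth.Agent.Lib.Helper6.MT8
import Groth.Agent.Lib.Helper6.TrGlobal

/-! helper6: the transporter of two homomorphisms from a group of multiplicative type (S5257). -/
set_option autoImplicit false
set_option linter.unusedSectionVars false
set_option linter.style.haveILetI false
universe u
open CategoryTheory CategoryTheory.Limits MonoidalCategory CartesianMonoidalCategory MonObj
  AlgebraicGeometry Opposite

namespace Groth.Agent.Lib.Helper6.TrFinal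

open Groth.Agent.Lib.Helper6.MultTypeClosed Groth.Agent.Lib.Helper6.EssFreeLocal

variable {S : Scheme.{u}} {H G : Over S} [GrpObj G]

/-- transporter of two morphisms `i₁ i₂ : H ⟶ G`, with finite presentation. -/
theorem transporter_of_hasRep_fp {P : Prop} (hrep : HasRep H G P) (hP : P) [IsSeparated G.hom]
    [LocallyOfFinitePresentation G.hom] (i₁ i₂ : H ⟶ G) :
    ∃ (C : Over S) (c : C ⟶ G), IsClosedImmersion c.left ∧ LocallyOfFinitePresentation C.hom ∧
      ∀ (X : Over S) (g : X ⟶ G), (∃ z : X ⟶ C, z ≫ c = g) ↔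
        ∀ (X' : Over S) (x : X' ⟶ X) (a : X' ⟶ H), (x ≫ g) * (a ≫ i₁) = (a ≫ i₂) * (x ≫ g) := by
  let m₁ : H ⊗ G ⟶ G := snd H G * (fst H G ≫ i₁)
  let m₂ : H ⊗ G ⟶ G := (fst H G ≫ i₂) * snd H G
  have hdiag : LocallyOfFinitePresentation (Limits.pullback.diagonal G.hom) := by
    apply Groth.Agent.Lib.Helper79.lfp_of_comp (g := Limits.pullback.fst G.hom G.hom)
    · rw [Limits.pullback.diagonal_fst]
      infer_instance
    · infer_instance
  have hjfp : LocallyOfFinitePresentation (eqMap G m₁ m₂) := by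
    unfold eqMap
    infer_instance
  obtain ⟨T, t, htci, ht, htfp⟩ := hrep (eqMap G m₁ m₂)
  haveI := htfp hP hjfp
  refine ⟨Over.mk (t ≫ G.hom), Over.homMk t rfl, htci, ?_, ?_⟩
  · change LocallyOfFinitePresentation (t ≫ G.hom)
    infer_instance
  intro X g
  have key : ∀ (X' : Over S) (x : X' ⟶ X) (a : X' ⟶ H),
      Fac (eqMap G m₁ m₂) (lift a (x ≫ g)).left ↔
      (x ≫ g) * (a ≫ i₁) = (a ≫ i₂) * (x ≫ g) := by
    intro X' x a
    rw [fac_eqMap_iff]
    have e1 : lift a (x ≫ g) ≫ m₁ = (x ≫ g) * (a ≫ i₁) := by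
      rw [MonObj.comp_mul, lift_snd, lift_fst_assoc]
    have e2 : lift a (x ≫ g) ≫ m₂ = (a ≫ i₂) * (x ≫ g) := by
      rw [MonObj.comp_mul, lift_snd, lift_fst_assoc]
    rw [← e1, ← e2]
    constructor
    · intro h
      exact Over.OverMorphism.ext h
    · intro h
      exact congrArg (fun m => m.left) h
  constructor
  · rintro ⟨z, hz⟩ X' x a
    rw [← key]
    have h1 : Fac t g.left := ⟨z.left, congrArg (fun m => m.left) hz⟩
    exact (points_iff H G _ X g).mp ((ht _ g.left).mp h1) X' x a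
  · intro hyp
    have h1 := (ht _ g.left).mpr
      ((points_iff H G _ X g).mpr (fun X' x a => (key X' x a).mpr (hyp X' x a)))
    obtain ⟨l, hl⟩ := h1
    refine ⟨Over.homMk l ?_, Over.OverMorphism.ext hl⟩
    change l ≫ t ≫ G.hom = X.hom
    rw [← Category.assoc, hl, Over.w g]

end Groth.Agent.Lib.Helper6.TrFinal
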