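import Mathlib
import Groth.Prelude.Def_CohB1
import Groth.Prelude.Def_Flat
import Groth.Agent.Lib.Helper5.WidePB

set_option autoImplicit false
universe u
open CategoryTheory CategoryTheory.Limits AlgebraicGeometry

/-!
# The base map of a finite wide pullback of proper morphisms is proper

More generally, for any morphism property `P` of schemes which contains isomorphisms and is stable
under composition and base change, the base map of a wide pullback over `Fin n` of morphisms
satisfying `P` satisfies `P`.
-/

namespace Groth.Agent.Lib.Helper6.WidePBWP1

open Groth.Agent.Lib.Helper5.WidePB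

/-- Mathlib's chosen wide pullback is a wide pullback in the sense of `IsWidePB`. -/
theorem isWidePB_chosen {C : Type*} [Category C] {J : Type*} {B : C} {objs : J → C}
    (arrows : ∀ k, objs k ⟶ B) [HasWidePullback B objs arrows] :
    IsWidePB arrows (WidePullback.base arrows) (WidePullback.π arrows) where
  w k := WidePullback.π_arrow arrows k
  lift z zk hz := ⟨WidePullback.lift z zk hz, WidePullback.lift_base _ _ _ _,
    fun k => WidePullback.lift_π _ _ _ _ k⟩
  hom_ext _ _ h1 h2 := WidePullback.hom_ext _ _ _ h2 h1

/-- The base of a wide pullback over the empty family is an isomorphism. -/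
theorem isIso_base_of_isEmpty {C : Type*} [Category C] {J : Type*} [IsEmpty J] {B : C}
    {objs : J → C} (arrows : ∀ k, objs k ⟶ B) [HasWidePullback B objs arrows] :
    IsIso (WidePullback.base arrows) := by
  refine ⟨WidePullback.lift (𝟙 B) (fun k => isEmptyElim k) (fun k => isEmptyElim k), ?_, ?_⟩
  · apply WidePullback.hom_ext
    · intro k
      exact isEmptyElim k
    · rw [Category.assoc, WidePullback.lift_base, Category.comp_id, Category.id_comp]
  · rw [WidePullback.lift_base]

/-- General form: a property of morphisms of schemes containing isomorphisms, stable under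
composition and base change, passes to the base map of finite wide pullbacks. -/
theorem prop_wideBase (P : MorphismProperty Scheme.{u}) [P.IsMultiplicative]
    [P.IsStableUnderBaseChange] [P.RespectsIso] :
    ∀ {n : ℕ} {B : Scheme.{u}} (objs : Fin n → Scheme.{u}) (arrows : ∀ k, objs k ⟶ B),
      (∀ k, P (arrows k)) → P (WidePullback.base arrows) := by
  intro n
  induction n with
  | zero =>
    intro B objs arrows _
    have : IsIso (WidePullback.base arrows) := isIso_base_of_isEmpty arrows
    exact P.of_isIso _
  | succ n ih =>
    intro B objs arrows h
    have ih' := ih (fun k : Fin n => objs k.castSucc) (fun k : Fin n => arrows k.castSucc)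
      (fun k => h k.castSucc)
    have hW := isWidePB_succ arrows
      (WidePullback.base (fun k : Fin n => arrows k.castSucc))
      (WidePullback.π (fun k : Fin n => arrows k.castSucc))
      (isWidePB_chosen (fun k : Fin n => arrows k.castSucc))
      (pullback.snd (arrows (Fin.last n)) (WidePullback.base (fun k : Fin n => arrows k.castSucc)))
      (pullback.fst (arrows (Fin.last n)) (WidePullback.base (fun k : Fin n => arrows k.castSucc)))
      (IsPullback.of_hasPullback _ _)
    obtain ⟨e, he, -⟩ := hW.exists_iso
    rw [← he]
    have h1 : P (pullback.snd (arrows (Fin.last n))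
        (WidePullback.base (fun k : Fin n => arrows k.castSucc))) :=
      P.pullback_snd _ _ (h (Fin.last n))
    exact P.comp_mem _ _ (P.of_isIso e.hom) (P.comp_mem _ _ h1 ih')

theorem isProper_wideBase {n : ℕ} {B : Scheme.{u}} (objs : Fin n → Scheme.{u})
    (arrows : ∀ k, objs k ⟶ B) [∀ k, IsProper (arrows k)] :
    IsProper (WidePullback.base arrows) :=
  prop_wideBase @IsProper objs arrows (fun _ => inferInstance)

end Groth.Agent.Lib.Helper6.WidePBWP1
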